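import Mathlib
import Groth.Prelude.Def_GrLC
import Groth.Agent.Lib.Helper73.DimField
import Groth.Agent.Lib.Helper87.GrHtA

/-!
# Graded rings defined over a field: `ht R_+ = dim R` (helper97)
-/

set_option autoImplicit false
set_option linter.unusedSectionVars false
set_option linter.unusedVariables false
set_option linter.style.haveILetI false
universe u

namespace Groth.Agent.Lib.Helper97.AInvB

open DirectSum

variable {R : Type u} [CommRing R] (𝒜 : ℤ → AddSubgroup R) [GradedRing 𝒜]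

/-- the irrelevant generating set -/
def posSet : Set R := ⋃ n ∈ Set.Ioi (0 : ℤ), (𝒜 n : Set R)

variable {𝒜}

theorem mem_posSet {n : ℤ} (hn : 0 < n) {x : R} (hx : x ∈ 𝒜 n) : x ∈ posSet 𝒜 := by
  unfold posSet
  simp only [Set.mem_iUnion, Set.mem_Ioi, SetLike.mem_coe, exists_prop]
  exact ⟨n, hn, hx⟩

theorem exists_of_mem_posSet {x : R} (hx : x ∈ posSet 𝒜) : ∃ n : ℤ, 0 < n ∧ x ∈ 𝒜 n := by
  unfold posSet at hx
  simp only [Set.mem_iUnion, Set.mem_Ioi, SetLike.mem_coe, exists_prop] at hx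
  exact hx

section basic

variable (hneg : ∀ n : ℤ, n < 0 → 𝒜 n = ⊥)

include hneg

theorem eq_zero_of_neg {n : ℤ} (hn : n < 0) {x : R} (hx : x ∈ 𝒜 n) : x = 0 := by
  rw [hneg n hn] at hx
  exact (AddSubgroup.mem_bot).1 hx

/-- `x - x_0 ∈ R_+` -/
theorem sub_decompose_zero_mem (x : R) :
    x - (decompose 𝒜 x 0 : R) ∈ Ideal.span (posSet 𝒜) := by
  induction x using DirectSum.Decomposition.inductionOn 𝒜 with
  | zero => simp
  | @homogeneous i y =>
    obtain ⟨y, hy⟩ := y
    change y - (decompose 𝒜 y 0 : R) ∈ _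
    rcases lt_trichotomy i 0 with hi | hi | hi
    · rw [eq_zero_of_neg hneg hi hy]
      simp
    · subst hi
      rw [DirectSum.decompose_of_mem_same 𝒜 hy, sub_self]
      exact zero_mem _
    · rw [DirectSum.decompose_of_mem_ne 𝒜 hy (ne_of_gt hi), sub_zero]
      exact Ideal.subset_span (mem_posSet hi hy)
  | add y y' hy hy' =>
    have : y + y' - (decompose 𝒜 (y + y') 0 : R) =
        (y - (decompose 𝒜 y 0 : R)) + (y' - (decompose 𝒜 y' 0 : R)) := by
      rw [DirectSum.decompose_add, DirectSum.add_apply, AddSubgroup.coe_add]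
      ring
    rw [this]
    exact add_mem hy hy'

variable (h0 : IsField (GrLC.deg0 𝒜))

include h0

theorem exists_inv_of_mem_zero {y : R} (hy : y ∈ 𝒜 0) (hne : y ≠ 0) :
    ∃ u : R, u ∈ 𝒜 0 ∧ y * u = 1 := by
  have hne' : (⟨y, hy⟩ : GrLC.deg0 𝒜) ≠ 0 := fun h => hne (congrArg Subtype.val h)
  obtain ⟨u, hu⟩ := h0.mul_inv_cancel hne'
  exact ⟨u.1, u.2, congrArg Subtype.val hu⟩

/-- a proper homogeneous ideal has no degree-zero part -/
theorem decompose_zero_eq_zero {J : Ideal R} (hJ : J.IsHomogeneous 𝒜) (hne : J ≠ ⊤) {x : R}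
    (hx : x ∈ J) : (decompose 𝒜 x 0 : R) = 0 := by
  by_contra h
  obtain ⟨u, -, hu⟩ := exists_inv_of_mem_zero hneg h0 (SetLike.coe_mem (decompose 𝒜 x 0)) h
  apply hne
  rw [Ideal.eq_top_iff_one, ← hu]
  exact J.mul_mem_right _ (hJ 0 hx)

/-- a proper homogeneous ideal is contained in `R_+` -/
theorem le_span_posSet {J : Ideal R} (hJ : J.IsHomogeneous 𝒜) (hne : J ≠ ⊤) :
    J ≤ Ideal.span (posSet 𝒜) := by
  intro x hx
  have h1 := sub_decompose_zero_mem hneg x
  rwa [decompose_zero_eq_zero hneg h0 hJ hne hx, sub_zero] at h1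

theorem span_posSet_isHomogeneous : (Ideal.span (posSet 𝒜)).IsHomogeneous 𝒜 := by
  apply Ideal.homogeneous_span
  intro x hx
  obtain ⟨n, -, hn⟩ := exists_of_mem_posSet hx
  exact ⟨n, hn⟩

/-- `R_+` is a maximal ideal as soon as it is proper -/
theorem isMaximal_span_posSet (hne : Ideal.span (posSet 𝒜) ≠ ⊤) :
    (Ideal.span (posSet 𝒜)).IsMaximal := by
  rw [Ideal.isMaximal_iff]
  refine ⟨fun h => hne ((Ideal.eq_top_iff_one _).2 h), ?_⟩
  intro J x hle hx hxJ
  have h1 := sub_decompose_zero_mem hneg x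
  have h2 : (decompose 𝒜 x 0 : R) ∈ J := by
    have := J.sub_mem hxJ (hle h1)
    rwa [sub_sub_cancel] at this
  have h3 : (decompose 𝒜 x 0 : R) ≠ 0 := by
    intro h
    rw [h, sub_zero] at h1
    exact hx h1
  obtain ⟨u, -, hu⟩ := exists_inv_of_mem_zero hneg h0 (SetLike.coe_mem (decompose 𝒜 x 0)) h3
  rw [← hu]
  exact J.mul_mem_right _ h2

end basic

section fg

variable (hneg : ∀ n : ℤ, n < 0 → 𝒜 n = ⊥) [IsNoetherianRing R]

include hneg

/-- a Noetherian non-negatively graded ring is of finite type over `R_0` -/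
theorem finiteType : Algebra.FiniteType (GrLC.deg0 𝒜) R := by
  classical
  have hfg : (Ideal.span (posSet 𝒜)).FG := IsNoetherian.noetherian _
  obtain ⟨s, hs, hspan⟩ := (Submodule.fg_span_iff_fg_span_finset_subset (posSet 𝒜)).1 hfg
  refine ⟨⟨s, ?_⟩⟩
  set A : Subalgebra (GrLC.deg0 𝒜) R := Algebra.adjoin (GrLC.deg0 𝒜) (s : Set R) with hA
  have key : ∀ n : ℕ, ∀ y : R, y ∈ 𝒜 (n : ℤ) → y ∈ A := by
    intro n
    induction n using Nat.strong_induction_on with
    | _ n ih =>
      intro y hy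
      rcases Nat.eq_zero_or_pos n with hn | hn
      · subst hn
        have : y = algebraMap (GrLC.deg0 𝒜) R ⟨y, hy⟩ := rfl
        rw [this]
        exact Subalgebra.algebraMap_mem _ _
      · have hym : y ∈ Submodule.span R (s : Set R) := by
          rw [← hspan]
          exact Ideal.subset_span (mem_posSet (by exact_mod_cast hn) hy)
        obtain ⟨c, -, hc⟩ := Submodule.mem_span_finset.1 hym
        have hy' : y = ∑ x ∈ s, ((decompose 𝒜 (c x * x) (n : ℤ) : 𝒜 (n : ℤ)) : R) := by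
          conv_lhs => rw [← DirectSum.decompose_of_mem_same 𝒜 hy, ← hc]
          rw [DirectSum.decompose_sum, DFinsupp.finset_sum_apply, AddSubmonoidClass.coe_finset_sum]
          rfl
        rw [hy']
        refine Subalgebra.sum_mem _ (fun x hx => ?_)
        obtain ⟨d, hd, hxd⟩ := exists_of_mem_posSet (hs hx)
        have hnd : ((n : ℤ) - d) + d = n := by ring
        have hmul := DirectSum.coe_decompose_mul_add_of_right_mem 𝒜 (a := c x) (i := (n : ℤ) - d)
          hxd
        rw [hnd] at hmul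
        rw [hmul]
        refine Subalgebra.mul_mem _ ?_ (Algebra.subset_adjoin hx)
        by_cases hlt : (n : ℤ) - d < 0
        · rw [eq_zero_of_neg hneg hlt (SetLike.coe_mem (decompose 𝒜 (c x) ((n : ℤ) - d)))]
          exact zero_mem _
        · obtain ⟨k, hk⟩ := Int.eq_ofNat_of_zero_le (not_lt.1 hlt)
          have hkn : k < n := by omega
          refine ih k hkn _ ?_
          rw [← hk]
          exact SetLike.coe_mem _
  rw [eq_top_iff]
  intro y _
  rw [← DirectSum.sum_support_decompose 𝒜 y]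
  refine Subalgebra.sum_mem _ (fun i _ => ?_)
  by_cases hlt : i < 0
  · rw [eq_zero_of_neg hneg hlt (SetLike.coe_mem (decompose 𝒜 y i))]
    exact zero_mem _
  · obtain ⟨k, hk⟩ := Int.eq_ofNat_of_zero_le (not_lt.1 hlt)
    refine key k _ ?_
    rw [← hk]
    exact SetLike.coe_mem _

end fg

section height

variable (hneg : ∀ n : ℤ, n < 0 → 𝒜 n = ⊥) (h0 : IsField (GrLC.deg0 𝒜)) [IsNoetherianRing R]

include hneg h0

/-- minimal primes are homogeneous -/
theorem isHomogeneous_of_minimal {P : Ideal R} (hP : P ∈ minimalPrimes R) :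
    P.IsHomogeneous 𝒜 := by
  have hPp : P.IsPrime := hP.1.1
  have h1 : (P.homogeneousCore 𝒜).toIdeal.IsPrime := Ideal.IsPrime.homogeneousCore hPp
  have h2 : (P.homogeneousCore 𝒜).toIdeal ≤ P := Ideal.toIdeal_homogeneousCore_le 𝒜 P
  have h3 : P ≤ (P.homogeneousCore 𝒜).toIdeal := hP.2 ⟨h1, bot_le⟩ h2
  have h4 : P = (P.homogeneousCore 𝒜).toIdeal := le_antisymm h3 h2
  rw [h4]
  exact (P.homogeneousCore 𝒜).isHomogeneous

/-- the height of the irrelevant ideal is the dimension of the ring -/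
theorem height_eq (hne : Ideal.span (posSet 𝒜) ≠ ⊤) (n : ℕ) (hn : ringKrullDim R = n) :
    (Ideal.span (posSet 𝒜)).height = n := by
  set m : Ideal R := Ideal.span (posSet 𝒜) with hm
  haveI hmax : m.IsMaximal := isMaximal_span_posSet hneg h0 hne
  haveI hmp : m.IsPrime := hmax.isPrime
  -- upper bound
  have hle : (m.height : WithBot ℕ∞) ≤ n := by
    rw [← hn]
    exact Ideal.height_le_ringKrullDim_of_ne_top hne
  -- a chain of length n
  have hn' : (n : WithBot ℕ∞) ≤ ringKrullDim R := hn.ge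
  rw [ringKrullDim, Order.le_krullDim_iff] at hn'
  obtain ⟨l, hl⟩ := hn'
  obtain ⟨P, hPmin, hPle⟩ := Ideal.exists_minimalPrimes_le (I := ⊥) (J := l.head.asIdeal) bot_le
  haveI hPp : P.IsPrime := hPmin.1.1
  have hPhom : P.IsHomogeneous 𝒜 := isHomogeneous_of_minimal hneg h0 hPmin
  have hPm : P ≤ m := le_span_posSet hneg h0 hPhom hPp.ne_top
  have hdimP : (n : WithBot ℕ∞) ≤ ringKrullDim (R ⧸ P) := by
    rw [ringKrullDim_quotient, Order.le_krullDim_iff]
    refine ⟨{ length := l.length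
              toFun := fun i => ⟨l i, ?_⟩
              step := fun i => l.step i }, hl⟩
    rw [PrimeSpectrum.mem_zeroLocus, SetLike.coe_subset_coe]
    exact hPle.trans (LTSeries.head_le l i)
  -- the field
  letI : Field (GrLC.deg0 𝒜) := h0.toField
  haveI ft : Algebra.FiniteType (GrLC.deg0 𝒜) R := finiteType hneg
  haveI : Algebra.FiniteType (GrLC.deg0 𝒜) (R ⧸ P) :=
    Algebra.FiniteType.of_surjective (Ideal.Quotient.mkₐ (GrLC.deg0 𝒜) P)
      (Ideal.Quotient.mkₐ_surjective _ P)
  obtain ⟨N, -, hdim, hht, -⟩ :=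
    Groth.Agent.Lib.Helper73.DimFormula.exists_trdeg_eq_ringKrullDim (GrLC.deg0 𝒜) (R ⧸ P)
  have hmax' : (m.map (Ideal.Quotient.mk P)).IsMaximal := by
    rcases Ideal.map_eq_top_or_isMaximal_of_surjective (Ideal.Quotient.mk P)
      Ideal.Quotient.mk_surjective hmax with h | h
    · exfalso
      have h1 : (m.map (Ideal.Quotient.mk P)).comap (Ideal.Quotient.mk P) = m := by
        rw [Ideal.comap_map_of_surjective' _ Ideal.Quotient.mk_surjective, Ideal.mk_ker]
        exact sup_eq_left.2 hPm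
      rw [h, Ideal.comap_top] at h1
      exact hmax.ne_top h1.symm
    · exact h
  have hhtm : (m.map (Ideal.Quotient.mk P)).height = N := hht _
  have hnN : n ≤ N := by
    rw [hdim] at hdimP
    exact_mod_cast hdimP
  have h5 := Groth.Agent.Lib.Helper87.GrHtA.height_add_height_quotient_le P m hPm
  rw [hhtm] at h5
  have h6 : (n : ℕ∞) ≤ m.height := by
    calc (n : ℕ∞) ≤ N := by exact_mod_cast hnN
      _ ≤ P.height + N := le_add_self
      _ ≤ m.height := h5
  have h7 : m.height ≤ n := by exact_mod_cast hle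
  exact le_antisymm h7 h6

end height

end Groth.Agent.Lib.Helper97.AInvB
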