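import Mathlib
import Groth.Prelude.Def_GrLC
import Groth.Agent.Lib.Helper87.GrHtC
import Groth.Agent.Lib.Helper87.GrQuot
import Groth.Agent.Lib.Helper97.AInvB

/-!
# `ht p ≤ ht p* + 1` for `ℤ`-graded Noetherian rings, and `dim R = ht m` for positively graded
*local rings (helper97)
-/

set_option autoImplicit false
set_option linter.unusedSectionVars false
set_option linter.unusedVariables false
set_option linter.style.haveILetI false
universe u

namespace Groth.Agent.Lib.Helper97.GrHtOne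

open DirectSum

section dom

variable {D : Type u} [CommRing D] (𝒟 : ℤ → AddSubgroup D) [GradedRing 𝒟]

/-- all the nonzero homogeneous components of `f` have degree in `[lo, hi]` -/
def InWin (f : D) (lo hi : ℤ) : Prop := ∀ i, (decompose 𝒟 f i : D) ≠ 0 → lo ≤ i ∧ i ≤ hi

variable {𝒟}

theorem InWin.mono {f : D} {lo hi lo' hi' : ℤ} (h : InWin 𝒟 f lo hi) (h1 : lo' ≤ lo)
    (h2 : hi ≤ hi') : InWin 𝒟 f lo' hi' :=
  fun i hi0 => ⟨h1.trans (h i hi0).1, (h i hi0).2.trans h2⟩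

theorem InWin.sub {f g : D} {lo hi : ℤ} (hf : InWin 𝒟 f lo hi) (hg : InWin 𝒟 g lo hi) :
    InWin 𝒟 (f - g) lo hi := by
  intro i hi0
  by_cases h1 : (decompose 𝒟 f i : D) = 0
  · by_cases h2 : (decompose 𝒟 g i : D) = 0
    · exfalso
      apply hi0
      rw [decompose_sub, DirectSum.sub_apply, AddSubgroup.coe_sub, h1, h2, sub_zero]
    · exact hg i h2
  · exact hf i h1

theorem decompose_mul_left {s : D} {e : ℤ} (hs : s ∈ 𝒟 e) (g : D) (i : ℤ) :
    (decompose 𝒟 (s * g) i : D) = s * (decompose 𝒟 g (i - e) : D) := by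
  have h := DirectSum.coe_decompose_mul_add_of_left_mem 𝒟 (b := g) (j := i - e) hs
  rwa [add_sub_cancel] at h

theorem InWin.mul_left {s : D} {e : ℤ} (hs : s ∈ 𝒟 e) {g : D} {lo hi : ℤ}
    (h : InWin 𝒟 g lo hi) : InWin 𝒟 (s * g) (lo + e) (hi + e) := by
  intro i hi0
  rw [decompose_mul_left hs] at hi0
  have h1 : (decompose 𝒟 g (i - e) : D) ≠ 0 := fun h0 => hi0 (by rw [h0, mul_zero])
  obtain ⟨h2, h3⟩ := h _ h1
  constructor <;> omega

theorem InWin.shrink_top {f : D} {lo hi : ℤ} (h : InWin 𝒟 f lo hi)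
    (h0 : (decompose 𝒟 f hi : D) = 0) : InWin 𝒟 f lo (hi - 1) := by
  intro i hi0
  obtain ⟨h1, h2⟩ := h i hi0
  refine ⟨h1, ?_⟩
  rcases h2.lt_or_eq with h3 | h3
  · omega
  · subst h3
    exact absurd h0 hi0

theorem exists_win (f : D) : ∃ (lo : ℤ) (w : ℕ), InWin 𝒟 f lo (lo + w) := by
  classical
  obtain ⟨hi, hhi⟩ := Finset.exists_le ((decompose 𝒟 f).support)
  obtain ⟨nlo, hnlo⟩ := Finset.exists_le (((decompose 𝒟 f).support).image (fun i => -i))
  refine ⟨-nlo, (hi + nlo).toNat, ?_⟩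
  intro i hi0
  have hmem : i ∈ (decompose 𝒟 f).support := by
    rw [DFinsupp.mem_support_toFun]
    intro h0
    apply hi0
    rw [h0]
    rfl
  have h1 := hhi i hmem
  have h2 := hnlo (-i) (Finset.mem_image_of_mem _ hmem)
  constructor <;> omega

theorem mem_of_inWin_same {f : D} {lo : ℤ} (h : InWin 𝒟 f lo lo) : f ∈ 𝒟 lo := by
  classical
  have h1 : f = (decompose 𝒟 f lo : D) := by
    conv_lhs => rw [← DirectSum.sum_support_decompose 𝒟 f]
    apply Finset.sum_eq_single lo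
    · intro b _ hb
      by_contra h0
      obtain ⟨h2, h3⟩ := h b h0
      omega
    · intro hlo
      rw [DFinsupp.notMem_support_iff] at hlo
      rw [hlo]
      rfl
  rw [h1]
  exact SetLike.coe_mem _

theorem step_win {f : D} {a : ℤ} {w : ℕ} (hf : InWin 𝒟 f a (a + w)) (g : D) (lo : ℤ) (n : ℕ)
    (hg : InWin 𝒟 g lo (lo + w + n)) :
    InWin 𝒟 ((decompose 𝒟 f (a + w) : D) * g - (decompose 𝒟 g (lo + w + n) : D) * f)
      (lo + (a + w)) (lo + (a + w) + w + n - 1) := by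
  have hfbm : (decompose 𝒟 f (a + w) : D) ∈ 𝒟 (a + w) := SetLike.coe_mem _
  have hgcm : (decompose 𝒟 g (lo + w + n) : D) ∈ 𝒟 (lo + w + n) := SetLike.coe_mem _
  have h1 : InWin 𝒟 ((decompose 𝒟 f (a + w) : D) * g) (lo + (a + w)) (lo + w + n + (a + w)) :=
    hg.mul_left hfbm
  have h2 : InWin 𝒟 ((decompose 𝒟 g (lo + w + n) : D) * f) (a + (lo + w + n))
      (a + w + (lo + w + n)) := hf.mul_left hgcm
  have h3 : InWin 𝒟 ((decompose 𝒟 f (a + w) : D) * g - (decompose 𝒟 g (lo + w + n) : D) * f)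
      (lo + (a + w)) (lo + w + n + (a + w)) :=
    h1.sub (h2.mono (by omega) (by omega))
  have h4 : (decompose 𝒟 ((decompose 𝒟 f (a + w) : D) * g -
      (decompose 𝒟 g (lo + w + n) : D) * f) (lo + w + n + (a + w)) : D) = 0 := by
    rw [decompose_sub, DirectSum.sub_apply, AddSubgroup.coe_sub, decompose_mul_left hfbm,
      decompose_mul_left hgcm]
    have e1 : lo + (w : ℤ) + n + (a + w) - (a + w) = lo + w + n := by ring
    have e2 : lo + (w : ℤ) + n + (a + w) - (lo + w + n) = a + w := by ring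
    rw [e1, e2]
    ring
  have h5 := h3.shrink_top h4
  exact h5.mono le_rfl (by omega)

theorem pseudo_div {f : D} {a : ℤ} {w : ℕ} (hf : InWin 𝒟 f a (a + w)) :
    ∀ (n : ℕ) (g : D) (lo : ℤ), InWin 𝒟 g lo (lo + w + n) →
      ∃ (k : ℕ) (q r : D) (lo' : ℤ),
        (decompose 𝒟 f (a + w) : D) ^ k * g = q * f + r ∧ InWin 𝒟 r lo' (lo' + w - 1) := by
  intro n
  induction n with
  | zero =>
    intro g lo hg
    refine ⟨1, (decompose 𝒟 g (lo + w + (0 : ℕ)) : D), _, lo + (a + w), ?_,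
      (step_win hf g lo 0 hg).mono le_rfl (by omega)⟩
    rw [pow_one]
    ring
  | succ n ih =>
    intro g lo hg
    have hstep := step_win hf g lo (n + 1) hg
    obtain ⟨k, q, r, lo', heq, hr⟩ := ih _ (lo + (a + w))
      (hstep.mono le_rfl (by push_cast; omega))
    refine ⟨k + 1, q + (decompose 𝒟 f (a + w) : D) ^ k *
      (decompose 𝒟 g (lo + w + ((n + 1 : ℕ) : ℤ)) : D), r, lo', ?_, hr⟩
    have h1 : (decompose 𝒟 f (a + w) : D) ^ (k + 1) * g =
        (decompose 𝒟 f (a + w) : D) ^ k * ((decompose 𝒟 f (a + w) : D) * g -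
          (decompose 𝒟 g (lo + w + ((n + 1 : ℕ) : ℤ)) : D) * f) +
        (decompose 𝒟 f (a + w) : D) ^ k *
          (decompose 𝒟 g (lo + w + ((n + 1 : ℕ) : ℤ)) : D) * f := by ring
    rw [h1, heq]
    ring

variable [IsDomain D]

theorem exists_gen (I : Ideal D) (hI : ∀ x ∈ I, ∀ i, x ∈ 𝒟 i → x = 0) (hne : I ≠ ⊥) :
    ∃ f ∈ I, f ≠ 0 ∧ ∀ g ∈ I, ∃ s : D, s ≠ 0 ∧ (∃ e, s ∈ 𝒟 e) ∧ ∃ q, s * g = q * f := by
  classical
  have hW : ∃ w : ℕ, ∃ f ∈ I, f ≠ 0 ∧ ∃ lo : ℤ, InWin 𝒟 f lo (lo + w) := by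
    obtain ⟨f, hfI, hf0⟩ := Submodule.exists_mem_ne_zero_of_ne_bot hne
    obtain ⟨lo, w, hw⟩ := exists_win (𝒟 := 𝒟) f
    exact ⟨w, f, hfI, hf0, lo, hw⟩
  obtain ⟨f, hfI, hf0, lo, hfw⟩ := Nat.find_spec hW
  have hmin : ∀ w, w < Nat.find hW → ¬ ∃ f ∈ I, f ≠ 0 ∧ ∃ lo : ℤ, InWin 𝒟 f lo (lo + w) :=
    fun w hw => Nat.find_min hW hw
  generalize Nat.find hW = w0 at hfw hmin
  have hw1 : 1 ≤ w0 := by
    by_contra hlt
    have h0 : w0 = 0 := by omega
    rw [h0] at hfw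
    have hfm : f ∈ 𝒟 lo := mem_of_inWin_same (hfw.mono le_rfl (by simp))
    exact hf0 (hI f hfI lo hfm)
  have hfb : (decompose 𝒟 f (lo + w0) : D) ≠ 0 := by
    intro h0
    have h1 := hfw.shrink_top h0
    apply hmin (w0 - 1) (by omega)
    exact ⟨f, hfI, hf0, lo, h1.mono le_rfl (by omega)⟩
  refine ⟨f, hfI, hf0, fun g hgI => ?_⟩
  obtain ⟨lg, wg, hgw⟩ := exists_win (𝒟 := 𝒟) g
  obtain ⟨k, q, r, lo', heq, hr⟩ := pseudo_div hfw wg g lg (hgw.mono le_rfl (by omega))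
  have hrI : r ∈ I := by
    have h1 : r = (decompose 𝒟 f (lo + w0) : D) ^ k * g - q * f := by rw [heq]; ring
    rw [h1]
    exact I.sub_mem (I.mul_mem_left _ hgI) (I.mul_mem_left _ hfI)
  have hr0 : r = 0 := by
    by_contra hr0
    apply hmin (w0 - 1) (by omega)
    exact ⟨r, hrI, hr0, lo', hr.mono le_rfl (by omega)⟩
  refine ⟨(decompose 𝒟 f (lo + w0) : D) ^ k, pow_ne_zero _ hfb, ⟨k • (lo + w0), ?_⟩, q, ?_⟩
  · exact SetLike.pow_mem_graded k (SetLike.coe_mem _)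
  · rw [heq, hr0, add_zero]

theorem le_of_le_of_ne_bot (P Q : Ideal D) [hPp : P.IsPrime] [hQp : Q.IsPrime]
    (hP : ∀ x ∈ P, ∀ i, x ∈ 𝒟 i → x = 0) (hQP : Q ≤ P) (hQ : Q ≠ ⊥) : P ≤ Q := by
  have hPne : P ≠ ⊥ := fun h => hQ (le_bot_iff.1 (h ▸ hQP))
  have hQh : ∀ x ∈ Q, ∀ i, x ∈ 𝒟 i → x = 0 := fun x hx => hP x (hQP hx)
  obtain ⟨f, hfP, hf0, hf⟩ := exists_gen P hP hPne
  obtain ⟨g0, hgQ, hg0, hg⟩ := exists_gen Q hQh hQ
  have hfQ : f ∈ Q := by
    by_contra hfQ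
    obtain ⟨s1, hs1, ⟨e1, hs1e⟩, q1, h1⟩ := hf g0 (hQP hgQ)
    have hq1 : q1 ∈ Q := by
      have h2 : q1 * f ∈ Q := h1 ▸ Q.mul_mem_left s1 hgQ
      exact (hQp.mem_or_mem h2).resolve_right hfQ
    obtain ⟨s2, hs2, ⟨e2, hs2e⟩, q2, h2⟩ := hg q1 hq1
    have h3 : g0 * (s2 * s1 - q2 * f) = 0 := by
      calc g0 * (s2 * s1 - q2 * f) = s2 * (s1 * g0) - (q2 * g0) * f := by ring
        _ = s2 * (q1 * f) - (s2 * q1) * f := by rw [h1, ← h2]
        _ = 0 := by ring
    have h4 : s2 * s1 - q2 * f = 0 := (mul_eq_zero.1 h3).resolve_left hg0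
    have h5 : s2 * s1 ∈ P := by
      rw [sub_eq_zero.1 h4]
      exact P.mul_mem_left _ hfP
    have h6 : s2 * s1 = 0 := hP _ h5 (e2 + e1) (SetLike.GradedMul.mul_mem hs2e hs1e)
    exact (mul_ne_zero hs2 hs1) h6
  intro g hgP
  obtain ⟨s, hs, ⟨e, hse⟩, q, h⟩ := hf g hgP
  have h1 : s * g ∈ Q := h ▸ Q.mul_mem_left q hfQ
  rcases hQp.mem_or_mem h1 with h2 | h2
  · exact absurd (hQh s h2 e hse) hs
  · exact h2

theorem height_le_one (P : Ideal D) [P.IsPrime] (hP : ∀ x ∈ P, ∀ i, x ∈ 𝒟 i → x = 0) :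
    P.height ≤ 1 := by
  have h : P.height ≤ ((1 : ℕ) : ℕ∞) := by
    rw [Ideal.height_le_iff]
    intro Q hQ hQP
    have hQb : Q = ⊥ := by
      by_contra hne
      exact not_le_of_gt hQP (le_of_le_of_ne_bot P Q hP hQP.le hne)
    rw [hQb, Ideal.height_bot]
    exact_mod_cast Nat.zero_lt_one
  simpa using h

end dom

section core

variable {R : Type u} [CommRing R] [IsNoetherianRing R] (𝒜 : ℤ → AddSubgroup R) [GradedRing 𝒜]

theorem height_le_core_add_one (p : Ideal R) [hp : p.IsPrime] :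
    p.height ≤ (p.homogeneousCore 𝒜).toIdeal.height + 1 := by
  have hcp : (p.homogeneousCore 𝒜).toIdeal.IsPrime := Helper87.GrHtC.core_isPrime p
  rw [Helper87.GrHtC.height_eq (𝒜 := 𝒜) p]
  refine add_le_add_right ?_ _
  letI : GradedRing (Helper87.GrQuot.qpiece 𝒜 (p.homogeneousCore 𝒜).toIdeal) :=
    Helper87.GrQuot.quotGradedRing 𝒜 (p.homogeneousCore 𝒜).toIdeal
      (p.homogeneousCore 𝒜).isHomogeneous
  haveI : IsDomain (R ⧸ (p.homogeneousCore 𝒜).toIdeal) :=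
    Ideal.Quotient.isDomain (p.homogeneousCore 𝒜).toIdeal
  have hker : RingHom.ker (Ideal.Quotient.mk (p.homogeneousCore 𝒜).toIdeal) ≤ p := by
    rw [Ideal.mk_ker]
    exact Ideal.toIdeal_homogeneousCore_le 𝒜 p
  haveI : (p.map (Ideal.Quotient.mk (p.homogeneousCore 𝒜).toIdeal)).IsPrime :=
    Ideal.map_isPrime_of_surjective Ideal.Quotient.mk_surjective hker
  apply height_le_one (𝒟 := Helper87.GrQuot.qpiece 𝒜 (p.homogeneousCore 𝒜).toIdeal)
  rintro x hx i ⟨y, hy, rfl⟩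
  change Ideal.Quotient.mk (p.homogeneousCore 𝒜).toIdeal y ∈ _ at hx
  change Ideal.Quotient.mk (p.homogeneousCore 𝒜).toIdeal y = 0
  have hyp : y ∈ p := by
    obtain ⟨z, hz, hzy⟩ := (Ideal.mem_map_iff_of_surjective _ Ideal.Quotient.mk_surjective).1 hx
    have h1 : z - y ∈ (p.homogeneousCore 𝒜).toIdeal := Ideal.Quotient.eq.1 hzy
    have h2 := Ideal.toIdeal_homogeneousCore_le 𝒜 p h1
    have h3 := p.sub_mem hz h2
    rwa [sub_sub_cancel] at h3
  have h4 : y ∈ (p.homogeneousCore 𝒜).toIdeal :=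
    Ideal.mem_homogeneousCore_of_homogeneous_of_mem ⟨i, hy⟩ hyp
  exact Ideal.Quotient.eq_zero_iff_mem.2 h4

end core

section starlocal

variable {R : Type u} [CommRing R] [IsNoetherianRing R] {𝒜 : ℤ → AddSubgroup R} [GradedRing 𝒜]

theorem le_of_ne_top (m : HomogeneousIdeal 𝒜) (hm : GrLC.IsStarLocal 𝒜 m)
    (J : HomogeneousIdeal 𝒜) (hJ : J ≠ ⊤) : J ≤ m := by
  have hwf : WellFounded ((· > ·) : HomogeneousIdeal 𝒜 → HomogeneousIdeal 𝒜 → Prop) := by
    have h1 : WellFounded ((· > ·) : Ideal R → Ideal R → Prop) := wellFounded_gt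
    refine Subrelation.wf ?_ (InvImage.wf HomogeneousIdeal.toIdeal h1)
    intro a b hab
    exact hab
  haveI := isCoatomic_of_orderTop_gt_wellFounded hwf
  rcases eq_top_or_exists_le_coatom J with h | ⟨a, ha, hJa⟩
  · exact absurd h hJ
  · rw [← hm.2 a ha]
    exact hJa

variable (hpos : ∀ n : ℤ, n < 0 → 𝒜 n = ⊥)

include hpos

theorem decompose_zero_of_mem_span_posSet {b : R} (hb : b ∈ Ideal.span (AInvB.posSet 𝒜)) :
    (decompose 𝒜 b 0 : R) = 0 := by
  have key : ∀ r : R, (decompose 𝒜 (r * b) 0 : R) = 0 := by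
    induction hb using Submodule.span_induction with
    | mem y hy =>
      intro r
      obtain ⟨n, hn, hyn⟩ := AInvB.exists_of_mem_posSet hy
      have h1 := DirectSum.coe_decompose_mul_add_of_right_mem 𝒜 (a := r) (i := -n) hyn
      rw [neg_add_cancel] at h1
      rw [h1]
      have h2 : (decompose 𝒜 r (-n) : R) = 0 :=
        AInvB.eq_zero_of_neg hpos (by omega) (SetLike.coe_mem _)
      rw [h2, zero_mul]
    | zero =>
      intro r
      simp
    | add x y _ _ hx hy =>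
      intro r
      rw [mul_add, decompose_add, DirectSum.add_apply, AddSubgroup.coe_add, hx r, hy r, add_zero]
    | smul c x _ hx =>
      intro r
      rw [smul_eq_mul, ← mul_assoc]
      exact hx (r * c)
  simpa using key 1

omit hpos in
theorem span_posSet_hom : (Ideal.span (AInvB.posSet 𝒜)).IsHomogeneous 𝒜 := by
  apply Ideal.homogeneous_span
  intro x hx
  obtain ⟨n, -, hn⟩ := AInvB.exists_of_mem_posSet hx
  exact ⟨n, hn⟩

theorem span_posSet_le (m : HomogeneousIdeal 𝒜) (hm : GrLC.IsStarLocal 𝒜 m) :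
    Ideal.span (AInvB.posSet 𝒜) ≤ m.toIdeal := by
  have hnt : Nontrivial R := by
    by_contra hnt
    rw [not_nontrivial_iff_subsingleton] at hnt
    apply hm.1.1
    apply HomogeneousIdeal.toIdeal_injective
    rw [HomogeneousIdeal.toIdeal_top, Ideal.eq_top_iff_one, Subsingleton.elim (1 : R) 0]
    exact zero_mem _
  obtain ⟨J, hJdef⟩ : ∃ J : HomogeneousIdeal 𝒜, J.toIdeal = Ideal.span (AInvB.posSet 𝒜) :=
    ⟨⟨_, span_posSet_hom⟩, rfl⟩
  have hJ : J ≠ ⊤ := by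
    intro h
    rw [h, HomogeneousIdeal.toIdeal_top] at hJdef
    have h1 : (1 : R) ∈ Ideal.span (AInvB.posSet 𝒜) := by
      rw [← hJdef]
      trivial
    have h2 := decompose_zero_of_mem_span_posSet hpos h1
    rw [DirectSum.decompose_of_mem_same 𝒜 SetLike.GradedOne.one_mem] at h2
    exact one_ne_zero h2
  intro x hx
  rw [← hJdef] at hx
  exact (le_of_ne_top m hm J hJ) hx

theorem isMaximal (m : HomogeneousIdeal 𝒜) (hm : GrLC.IsStarLocal 𝒜 m) :
    m.toIdeal.IsMaximal := by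
  have hmne : m.toIdeal ≠ ⊤ := by
    intro h
    apply hm.1.1
    apply HomogeneousIdeal.toIdeal_injective
    rw [h, HomogeneousIdeal.toIdeal_top]
  obtain ⟨M, hM, hmM⟩ := Ideal.exists_le_maximal m.toIdeal hmne
  have hMm : M ≤ m.toIdeal := by
    intro x hx
    have h1 := AInvB.sub_decompose_zero_mem hpos x
    have h2 : x - (decompose 𝒜 x 0 : R) ∈ m.toIdeal := span_posSet_le hpos m hm h1
    have h3 : (decompose 𝒜 x 0 : R) ∈ M := by
      have h := M.sub_mem hx (hmM h2)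
      rwa [sub_sub_cancel] at h
    have hK : (Ideal.span {(decompose 𝒜 x 0 : R)}).IsHomogeneous 𝒜 := by
      apply Ideal.homogeneous_span
      intro y hy
      rw [Set.mem_singleton_iff.1 hy]
      exact ⟨0, SetLike.coe_mem _⟩
    obtain ⟨K, hKdef⟩ : ∃ K : HomogeneousIdeal 𝒜,
        K.toIdeal = Ideal.span {(decompose 𝒜 x 0 : R)} := ⟨⟨_, hK⟩, rfl⟩
    have hJ : m ⊔ K ≠ ⊤ := by
      intro h
      have h4 : (m ⊔ K).toIdeal ≤ M := by
        rw [HomogeneousIdeal.toIdeal_sup, hKdef]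
        exact sup_le hmM ((Ideal.span_singleton_le_iff_mem _).2 h3)
      rw [h, HomogeneousIdeal.toIdeal_top] at h4
      exact hM.ne_top (top_le_iff.1 h4)
    have h5 := le_of_ne_top m hm _ hJ
    have h6 : (decompose 𝒜 x 0 : R) ∈ m.toIdeal := by
      apply h5
      change _ ∈ (m ⊔ K).toIdeal
      rw [HomogeneousIdeal.toIdeal_sup, hKdef]
      exact Ideal.mem_sup_right (Ideal.subset_span rfl)
    have h7 := m.toIdeal.add_mem h6 h2
    rwa [add_sub_cancel] at h7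
  have h8 : m.toIdeal = M := le_antisymm hmM hMm
  rw [h8]
  exact hM

theorem height_le_height (m : HomogeneousIdeal 𝒜) (hm : GrLC.IsStarLocal 𝒜 m) (p : Ideal R)
    [hp : p.IsPrime] : p.height ≤ m.toIdeal.height := by
  have hmax := isMaximal hpos m hm
  have hcp : (p.homogeneousCore 𝒜).toIdeal.IsPrime := Helper87.GrHtC.core_isPrime p
  have hcne : p.homogeneousCore 𝒜 ≠ ⊤ := by
    intro h
    apply hp.ne_top
    have h1 := Ideal.toIdeal_homogeneousCore_le 𝒜 p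
    rw [h, HomogeneousIdeal.toIdeal_top] at h1
    exact top_le_iff.1 h1
  have hcm : (p.homogeneousCore 𝒜).toIdeal ≤ m.toIdeal := le_of_ne_top m hm _ hcne
  by_cases hph : (p.homogeneousCore 𝒜).toIdeal = p
  · rw [← hph]
    exact Ideal.height_mono hcm
  · have hlt : (p.homogeneousCore 𝒜).toIdeal < m.toIdeal := by
      refine lt_of_le_of_ne hcm (fun heq => hph ?_)
      have h1 : m.toIdeal ≤ p := heq ▸ Ideal.toIdeal_homogeneousCore_le 𝒜 p
      have h2 : m.toIdeal = p := hmax.eq_of_le hp.ne_top h1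
      rw [heq, h2]
    have h3 : (p.homogeneousCore 𝒜).toIdeal.height + 1 ≤ m.toIdeal.height :=
      Order.add_one_le_of_lt (Ideal.height_strict_mono_of_isPrime hlt)
    exact (height_le_core_add_one 𝒜 p).trans h3

theorem ringKrullDim_le_height (m : HomogeneousIdeal 𝒜) (hm : GrLC.IsStarLocal 𝒜 m) :
    ringKrullDim R ≤ m.toIdeal.height := by
  rw [ringKrullDim_le_iff_height_le]
  intro p hp
  exact_mod_cast height_le_height hpos m hm p

theorem height_eq (m : HomogeneousIdeal 𝒜) (hm : GrLC.IsStarLocal 𝒜 m) (n : ℕ)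
    (hn : ringKrullDim R = n) : m.toIdeal.height = n := by
  have hmne : m.toIdeal ≠ ⊤ := (isMaximal hpos m hm).ne_top
  have h1 := Ideal.height_le_ringKrullDim_of_ne_top hmne
  have h2 := ringKrullDim_le_height hpos m hm
  rw [hn] at h1 h2
  have h3 : m.toIdeal.height ≤ (n : ℕ∞) := by exact_mod_cast h1
  have h4 : (n : ℕ∞) ≤ m.toIdeal.height := by exact_mod_cast h2
  exact le_antisymm h3 h4

end starlocal

end Groth.Agent.Lib.Helper97.GrHtOne
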