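import Mathlib
import Groth.Prelude.Def_GrLC
import Groth.Agent.Lib.Helper77.GLC11
import Groth.Agent.Lib.Helper66.GradedQuot
import Groth.Agent.Lib.Helper66.GradedSub

/-!
# The a-invariant under quotients by homogeneous regular sequences (helper97)

`step`: for `x` homogeneous of degree `e ≥ 0`, `N`-regular, in `a`, with `H^c_a(N) = 0`:
`end H^c_a(N/xN) = end H^{c+1}_a(N) + e`.

`main`: the iterated version for a homogeneous `N`-regular sequence.
-/

set_option autoImplicit false
set_option linter.unusedSectionVars false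
set_option linter.unusedVariables false
universe u

namespace Groth.Agent.Lib.Helper97.AInvA

open GrLC DirectSum Pointwise Groth.Agent.Lib.Helper77.GLC

section order

theorem eq_bot_of_forall_le_coe' {a : WithBot (WithTop ℤ)}
    (h : ∀ d : ℤ, a ≤ ((d : WithTop ℤ) : WithBot (WithTop ℤ))) : a = ⊥ := by
  induction a using WithBot.recBotCoe with
  | bot => rfl
  | coe a =>
    induction a using WithTop.recTopCoe with
    | top =>
      have := h 0
      rw [WithBot.coe_le_coe] at this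
      simp at this
    | coe n =>
      have := h (n - 1)
      norm_cast at this
      omega

theorem le_of_forall_coe' {a b : WithBot (WithTop ℤ)}
    (h : ∀ d : ℤ, b ≤ ((d : WithTop ℤ) : WithBot (WithTop ℤ)) →
      a ≤ ((d : WithTop ℤ) : WithBot (WithTop ℤ))) : a ≤ b := by
  induction b using WithBot.recBotCoe with
  | bot =>
    have : a = ⊥ := eq_bot_of_forall_le_coe' (fun d => h d bot_le)
    rw [this]
  | coe b =>
    induction b using WithTop.recTopCoe with
    | top =>
      have : ((⊤ : WithTop ℤ) : WithBot (WithTop ℤ)) = ⊤ := rfl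
      rw [this]
      exact le_top
    | coe n => exact h n le_rfl

theorem eq_of_forall_le_coe_iff' {a b : WithBot (WithTop ℤ)}
    (h : ∀ d : ℤ, a ≤ ((d : WithTop ℤ) : WithBot (WithTop ℤ)) ↔
      b ≤ ((d : WithTop ℤ) : WithBot (WithTop ℤ))) : a = b :=
  le_antisymm (le_of_forall_coe' fun d hd => (h d).2 hd) (le_of_forall_coe' fun d hd => (h d).1 hd)

end order

variable {R : Type u} [CommRing R] [IsNoetherianRing R] {𝒜 : ℤ → AddSubgroup R} [GradedRing 𝒜]

section step

variable {N : Type u} [AddCommGroup N] [Module R N] {𝒩 : ℤ → AddSubgroup N} [Decomposition 𝒩]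
  [SetLike.GradedSMul 𝒜 𝒩]
variable {Q : Type u} [AddCommGroup Q] [Module R Q] {𝒬 : ℤ → AddSubgroup Q} [Decomposition 𝒬]
  [SetLike.GradedSMul 𝒜 𝒬]

theorem Hgr_eq_bot_of_subsingleton [Subsingleton N] (E : StarInjRes 𝒜 𝒩) (a : HomogeneousIdeal 𝒜)
    (i : ℕ) (g : ℤ) : E.Hgr a i g = ⊥ :=
  (Hgr_eq_bot_iff E a i g).2 (HV_of_subsingleton E a i g)

theorem step (a : HomogeneousIdeal 𝒜) (EN : StarInjRes 𝒜 𝒩) (EQ : StarInjRes 𝒜 𝒬) {e : ℤ}
    (he : 0 ≤ e ∨ Subsingleton N) {x : R} (hx : x ∈ 𝒜 e) (hxa : x ∈ a.toIdeal)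
    (hreg : Function.Injective (fun n : N => x • n)) (π : N →ₗ[R] Q) (hπ : IsGrHom 𝒩 𝒬 π)
    (hπs : Function.Surjective π)
    (hker : LinearMap.ker π = LinearMap.range (x • (LinearMap.id : N →ₗ[R] N)))
    (c : ℕ) (hA : ∀ g, HV EN a.toIdeal c g) :
    endDeg (EQ.Hgr a c) =
      endDeg (EN.Hgr a (c + 1)) + ((e : WithTop ℤ) : WithBot (WithTop ℤ)) := by
  apply eq_of_forall_le_coe_iff'
  intro d
  rw [add_le_iff', endDeg_le_iff, endDeg_le_iff]
  rcases he with he | hsub
  · constructor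
    · intro h g hg
      rw [Hgr_eq_bot_iff]
      refine HV_succ_of_quot EN EQ hx hreg π hπ hπs hker hxa c {g | d < g} ?_ ?_ g ?_
      · intro g hg
        simp only [Set.mem_setOf_eq] at hg ⊢
        omega
      · intro g hg
        rw [← Hgr_eq_bot_iff]
        exact h g hg
      · simp only [Set.mem_setOf_eq]
        omega
    · intro h g hg
      rw [Hgr_eq_bot_iff]
      refine HV_quot EN EQ hx hreg π hπ hπs hker (hA g) ?_
      rw [← Hgr_eq_bot_iff]
      exact h _ (by omega)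
  · have : Subsingleton Q := hπs.subsingleton
    constructor
    · intro _ g _
      exact Hgr_eq_bot_of_subsingleton EN a _ g
    · intro _ g _
      exact Hgr_eq_bot_of_subsingleton EQ a _ g

end step

section main

variable (hneg : ∀ n : ℤ, n < 0 → 𝒜 n = ⊥) (a : HomogeneousIdeal 𝒜)

include hneg

theorem main : ∀ (t : ℕ) (N : Type u) [AddCommGroup N] [Module R N] (𝒩 : ℤ → AddSubgroup N)
    [Decomposition 𝒩] [SetLike.GradedSMul 𝒜 𝒩]
    (Q : Type u) [AddCommGroup Q] [Module R Q] (𝒬 : ℤ → AddSubgroup Q) [Decomposition 𝒬]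
    [SetLike.GradedSMul 𝒜 𝒬] (EN : StarInjRes 𝒜 𝒩) (EQ : StarInjRes 𝒜 𝒬)
    (f : Fin t → R) (deg : Fin t → ℤ) (hdeg : ∀ i, f i ∈ 𝒜 (deg i)) (hfa : ∀ i, f i ∈ a.toIdeal)
    (hreg : RingTheory.Sequence.IsWeaklyRegular N (List.ofFn f))
    (π : N →ₗ[R] Q) (hπ : IsGrHom 𝒩 𝒬 π) (hπs : Function.Surjective π)
    (hker : LinearMap.ker π = Ideal.span (Set.range f) • (⊤ : Submodule R N))
    (c : ℕ) (hA : ∀ i, i < c + t → ∀ g, HV EN a.toIdeal i g),
    (∀ i, i < c → ∀ g, HV EQ a.toIdeal i g) ∧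
      endDeg (EQ.Hgr a c) = endDeg (EN.Hgr a (c + t)) +
        (((∑ i, deg i : ℤ) : WithTop ℤ) : WithBot (WithTop ℤ)) := by
  intro t
  induction t with
  | zero =>
    intro N _ _ 𝒩 _ _ Q _ _ 𝒬 _ _ EN EQ f deg hdeg hfa hreg π hπ hπs hker c hA
    have hk : LinearMap.ker π = ⊥ := by
      rw [hker]
      have : Set.range f = ∅ := Set.range_eq_empty f
      rw [this, Ideal.span_empty, Submodule.bot_smul]
    have hinj : Function.Injective π := LinearMap.ker_eq_bot.1 hk
    let eqv : N ≃ₗ[R] Q := LinearEquiv.ofBijective π ⟨hinj, hπs⟩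
    have he1 : IsGrHom 𝒩 𝒬 eqv.toLinearMap := hπ
    have he2 : IsGrHom 𝒬 𝒩 eqv.symm.toLinearMap :=
      Groth.Agent.Lib.Helper66.GradedSub.symm_grHom 𝒩 𝒬 eqv he1
    have hiff : ∀ i g, HV EN a.toIdeal i g ↔ HV EQ a.toIdeal i g := fun i g =>
      HV_iff_of_equiv EN EQ eqv he1 he2
    refine ⟨fun i hi g => (hiff i g).1 (hA i (by omega) g), ?_⟩
    have h0 : ((((∑ i, deg i : ℤ)) : WithTop ℤ) : WithBot (WithTop ℤ)) = 0 := by
      rw [Finset.univ_eq_empty, Finset.sum_empty]
      rfl
    rw [h0, add_zero]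
    apply eq_of_forall_le_coe_iff'
    intro d
    rw [endDeg_le_iff, endDeg_le_iff]
    constructor
    · intro h g hg
      rw [Hgr_eq_bot_iff, Nat.add_zero, hiff, ← Hgr_eq_bot_iff]
      exact h g hg
    · intro h g hg
      have := h g hg
      rw [Hgr_eq_bot_iff, Nat.add_zero, hiff, ← Hgr_eq_bot_iff] at this
      exact this
  | succ t ih =>
    intro N _ _ 𝒩 _ _ Q _ _ 𝒬 _ _ EN EQ f deg hdeg hfa hreg π hπ hπs hker c hA
    set x : R := f 0 with hxdef
    set e : ℤ := deg 0 with hedef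
    have hx : x ∈ 𝒜 e := hdeg 0
    have hxa : x ∈ a.toIdeal := hfa 0
    rw [List.ofFn_succ, RingTheory.Sequence.isWeaklyRegular_cons_iff] at hreg
    obtain ⟨hreg0, hreg'⟩ := hreg
    have hregx : Function.Injective (fun n : N => x • n) := hreg0
    -- nonnegativity or triviality
    have he : 0 ≤ e ∨ Subsingleton N := by
      by_cases h : 0 ≤ e
      · exact Or.inl h
      · right
        have hx0 : x = 0 := by
          have := hneg e (by omega)
          rw [this] at hx
          exact (AddSubgroup.mem_bot).1 hx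
        refine ⟨fun n n' => hregx ?_⟩
        change x • n = x • n'
        rw [hx0, zero_smul, zero_smul]
    -- the intermediate quotient
    set P : Submodule R N := x • (⊤ : Submodule R N) with hPdef
    have hPrange : P = LinearMap.range (x • (LinearMap.id : N →ₗ[R] N)) := smul_top_eq_range x
    have hP : P.IsHomogeneous 𝒩 := by
      rw [hPrange]
      exact range_smul_isHomogeneous (𝒜 := 𝒜) hx
    letI := Groth.Agent.Lib.Helper66.GradedQuot.quotDecomposition 𝒩 P hP
    letI := Groth.Agent.Lib.Helper66.GradedQuot.quotGradedSMul 𝒜 𝒩 P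
    obtain ⟨E₁⟩ := exists_res (𝒜 := 𝒜) (N ⧸ P) (Groth.Agent.Lib.Helper66.GradedQuot.qpiece 𝒩 P)
    have hπ₁ : IsGrHom 𝒩 (Groth.Agent.Lib.Helper66.GradedQuot.qpiece 𝒩 P) P.mkQ :=
      Groth.Agent.Lib.Helper66.GradedQuot.mkQ_grHom 𝒩 P
    have hπ₁s : Function.Surjective P.mkQ := P.mkQ_surjective
    have hker₁ : LinearMap.ker P.mkQ = LinearMap.range (x • (LinearMap.id : N →ₗ[R] N)) := by
      rw [Submodule.ker_mkQ, hPrange]
    -- the induced map
    have hPle : P ≤ LinearMap.ker π := by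
      rw [hker, hPdef]
      intro y hy
      obtain ⟨z, -, rfl⟩ := (Submodule.mem_smul_pointwise_iff_exists _ _ _).1 hy
      exact Submodule.smul_mem_smul (Ideal.subset_span ⟨0, rfl⟩) Submodule.mem_top
    set π' : (N ⧸ P) →ₗ[R] Q := P.liftQ π hPle with hπ'def
    have hπ' : IsGrHom (Groth.Agent.Lib.Helper66.GradedQuot.qpiece 𝒩 P) 𝒬 π' := by
      rintro g _ ⟨y, hy, rfl⟩
      change π' (P.mkQ y) ∈ 𝒬 g
      rw [hπ'def, Submodule.mkQ_apply, Submodule.liftQ_apply]
      exact hπ g y hy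
    have hπ's : Function.Surjective π' := by
      intro q
      obtain ⟨y, rfl⟩ := hπs q
      exact ⟨P.mkQ y, by rw [hπ'def, Submodule.mkQ_apply, Submodule.liftQ_apply]⟩
    have hker' : LinearMap.ker π' =
        Ideal.span (Set.range (fun i : Fin t => f i.succ)) • (⊤ : Submodule R (N ⧸ P)) := by
      rw [hπ'def, Submodule.ker_liftQ, hker, Submodule.map_smul'', Submodule.map_top,
        Submodule.range_mkQ]
      have hrange : Set.range f = insert x (Set.range (fun i : Fin t => f i.succ)) := by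
        ext y
        constructor
        · rintro ⟨i, rfl⟩
          refine Fin.cases ?_ (fun j => ?_) i
          · exact Set.mem_insert _ _
          · exact Set.mem_insert_of_mem _ ⟨j, rfl⟩
        · rintro (rfl | ⟨j, rfl⟩)
          · exact ⟨0, rfl⟩
          · exact ⟨j.succ, rfl⟩
      rw [hrange, Ideal.span_insert, Submodule.sup_smul]
      have hbot : Ideal.span {x} • (⊤ : Submodule R (N ⧸ P)) = ⊥ := by
        rw [eq_bot_iff, Submodule.smul_le]
        intro r hr y _
        obtain ⟨s, rfl⟩ := Ideal.mem_span_singleton'.1 hr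
        obtain ⟨y, rfl⟩ := P.mkQ_surjective y
        rw [Submodule.mem_bot, ← map_smul, Submodule.mkQ_apply, Submodule.Quotient.mk_eq_zero,
          mul_smul, smul_comm]
        exact Submodule.smul_mem_pointwise_smul _ _ _ Submodule.mem_top
      rw [hbot, bot_sup_eq]
    -- vanishing for the intermediate quotient
    have hA₁ : ∀ i, i < c + t → ∀ g, HV E₁ a.toIdeal i g := by
      intro i hi g
      exact HV_quot EN E₁ hx hregx P.mkQ hπ₁ hπ₁s hker₁ (hA i (by omega) g)
        (hA (i + 1) (by omega) _)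
    obtain ⟨hB, hC⟩ := ih (N ⧸ P) (Groth.Agent.Lib.Helper66.GradedQuot.qpiece 𝒩 P) Q 𝒬 E₁ EQ
      (fun i : Fin t => f i.succ) (fun i : Fin t => deg i.succ) (fun i => hdeg i.succ)
      (fun i => hfa i.succ) hreg' π' hπ' hπ's hker' c hA₁
    refine ⟨hB, ?_⟩
    have hstep := step a EN E₁ he hx hxa hregx P.mkQ hπ₁ hπ₁s hker₁ (c + t)
      (fun g => hA (c + t) (by omega) g)
    rw [hC, hstep, Fin.sum_univ_succ, add_assoc]
    congr 1
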