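import Mathlib
import Groth.Prelude.Def_GrLC
import Groth.Agent.Lib.Helper97.AInvA
import Groth.Agent.Lib.Helper97.AInvB
import Groth.Agent.S13224
import Groth.Agent.S0318
import Groth.Agent.S14424

/-!
# `a(R/(f_1..f_t)) = a(R) + Σ deg f_i` for Cohen–Macaulay graded rings over a field (helper97)
-/

set_option autoImplicit false
set_option linter.unusedSectionVars false
set_option linter.unusedVariables false
universe u

namespace Groth.Agent.Lib.Helper97.AInvC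

open GrLC DirectSum Groth.Agent.Lib.Helper77.GLC

/-- vanishing of the graded local cohomology of a CM graded ring below the dimension -/
theorem HV_of_lt (R : Type u) [CommRing R] [LocCoh.IsCohenMacaulayRing R] (𝒜 : ℤ → AddSubgroup R)
    [GradedRing 𝒜] (hpos : ∀ n : ℤ, n < 0 → 𝒜 n = ⊥) (h0 : IsField (GrLC.deg0 𝒜))
    (m : HomogeneousIdeal 𝒜) (hmne : m.toIdeal ≠ ⊤)
    (hmsp : m.toIdeal = Ideal.span (⋃ n ∈ Set.Ioi (0 : ℤ), (𝒜 n : Set R))) (n : ℕ)
    (hn : ringKrullDim R = n) (I : GrLC.StarInjRes 𝒜 𝒜) :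
    ∀ i, i < n → ∀ g, HV I m.toIdeal i g := by
  have hmsp' : m.toIdeal = Ideal.span (AInvB.posSet 𝒜) := hmsp
  have hht : m.toIdeal.height = n := by
    rw [hmsp']
    exact AInvB.height_eq hpos h0 (hmsp' ▸ hmne) n hn
  have hdepth : LocCoh.idealDepth m.toIdeal R = n := by
    rw [(Groth.Agent.S14424.result R).1 inferInstance m.toIdeal hmne, hht]
  have hsmul : m.toIdeal • (⊤ : Submodule R R) ≠ ⊤ := by
    rw [smul_eq_mul, Ideal.mul_top]
    exact hmne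
  have hvan := ((Groth.Agent.S0318.result R m.toIdeal R hsmul n).1 hdepth).1
  intro i hi g
  rw [← Hcomp_eq_bot_iff]
  obtain ⟨e⟩ := Groth.Agent.S13224.result R 𝒜 m R 𝒜 I i
  have h1 : Subsingleton (LocCoh.H m.toIdeal i R) := hvan i hi
  have h2 : Subsingleton (I.H m i) := e.toEquiv.subsingleton
  rw [eq_bot_iff]
  intro x _
  rw [Submodule.mem_bot]
  exact Subsingleton.elim _ _

theorem main (R : Type u) [CommRing R] [LocCoh.IsCohenMacaulayRing R] (𝒜 : ℤ → AddSubgroup R) [GradedRing 𝒜] (hpos : ∀ n : ℤ, n < 0 → 𝒜 n = ⊥) (h0 : IsField (GrLC.deg0 𝒜)) (m : HomogeneousIdeal 𝒜) (hm : GrLC.IsStarLocal 𝒜 m) (hmsp : m.toIdeal = Ideal.span (⋃ n ∈ Set.Ioi (0 : ℤ), (𝒜 n : Set R))) (n : ℕ) (hn : ringKrullDim R = n) (I : GrLC.StarInjRes 𝒜 𝒜) (t : ℕ) (htn : t ≤ n) (f : Fin t → R) (deg : Fin t → ℤ) (hfdeg : ∀ i, f i ∈ 𝒜 (deg i)) (hfm : ∀ i, f i ∈ m.toIdeal) (hreg : RingTheory.Sequence.IsRegular R (List.ofFn f)) (N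 : Type u) [AddCommGroup N] [Module R N] (𝒩 : ℤ → AddSubgroup N) [DirectSum.Decomposition 𝒩] [SetLike.GradedSMul 𝒜 𝒩] (π : R →ₗ[R] N) (hπ : GrLC.IsGrHom 𝒜 𝒩 π) (hπs : Function.Surjective π) (hπk : LinearMap.ker π = Ideal.span (Set.range f)) (F : GrLC.StarInjRes 𝒜 𝒩) : GrLC.endDeg (F.Hgr m (n - t)) = GrLC.endDeg (I.Hgr m n) + ((((Finset.univ : Finset (Fin t)).sum deg : ℤ) : WithTop ℤ) : WithBot (WithTop ℤ)) := by
  have hmne : m.toIdeal ≠ ⊤ := by
    intro h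
    apply hm.1.1
    apply HomogeneousIdeal.toIdeal_injective
    rw [h, HomogeneousIdeal.toIdeal_top]
  have hA := HV_of_lt R 𝒜 hpos h0 m hmne hmsp n hn I
  have hker : LinearMap.ker π = Ideal.span (Set.range f) • (⊤ : Submodule R R) := by
    rw [hπk, smul_eq_mul, Ideal.mul_top]
  have hmain := AInvA.main hpos m t R 𝒜 N 𝒩 I F f deg hfdeg hfm hreg.toIsWeaklyRegular π hπ hπs
    hker (n - t) (by rw [Nat.sub_add_cancel htn]; exact hA)
  rw [hmain.2, Nat.sub_add_cancel htn]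

end Groth.Agent.Lib.Helper97.AInvC
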