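import Mathlib.AlgebraicGeometry.QuasiAffine
import Mathlib.AlgebraicGeometry.Morphisms.QuasiSeparated
import Mathlib.AlgebraicGeometry.Morphisms.Affine

/-!
# Quasi-affine open subschemes: criteria in terms of the ambient scheme (helper97)
-/

set_option autoImplicit false

universe u

open CategoryTheory AlgebraicGeometry TopologicalSpace

namespace Groth.Agent.Lib.Helper97.QAff

variable {X : Scheme.{u}}

/-- Quasi-affineness is invariant under isomorphism. -/
theorem isQuasiAffine_of_iso {X Y : Scheme.{u}} (e : X ≅ Y) [Y.IsQuasiAffine] : X.IsQuasiAffine := by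
  have : CompactSpace X := e.hom.homeomorph.symm.compactSpace
  exact Scheme.IsQuasiAffine.of_isImmersion e.hom

/-- Quasi-affineness of an open subscheme only depends on the open set. -/
theorem isQuasiAffine_of_eq {U V : X.Opens} (h : U = V) [hV : (V : Scheme.{u}).IsQuasiAffine] :
    (U : Scheme.{u}).IsQuasiAffine := by
  subst h; exact hV

/-- In a quasi-affine open `U` of `X`, every point has an affine neighbourhood of the form
`X.basicOpen s` with `s` a section over `U`, inside any given open neighbourhood. -/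
theorem exists_affine_basicOpen (U : X.Opens) [(U : Scheme.{u}).IsQuasiAffine] {x : X} (hx : x ∈ U)
    (N : X.Opens) (hxN : x ∈ N) :
    ∃ s : Γ(X, U), IsAffineOpen (X.basicOpen s) ∧ x ∈ X.basicOpen s ∧ X.basicOpen s ≤ N := by
  obtain ⟨_, ⟨_, ⟨r, hr, rfl⟩, rfl⟩, hxr, hrN⟩ :=
    (Scheme.IsQuasiAffine.isBasis_basicOpen U.toScheme).exists_subset_of_mem_open
      (show (⟨x, hx⟩ : U) ∈ ((U.ι ⁻¹ᵁ N : U.toScheme.Opens) : Set U) from hxN) (U.ι ⁻¹ᵁ N).2
  have h1 : U.ι ''ᵁ U.toScheme.basicOpen r = X.basicOpen (U.topIso.hom r) := by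
    have h := Scheme.Opens.ι_image_basicOpen_topIso_inv (U := U) (U.topIso.hom r)
    rw [← h]
    congr 2
    exact (Iso.hom_inv_id_apply U.topIso r).symm
  refine ⟨U.topIso.hom r, ?_, ?_, ?_⟩
  · rw [← h1]
    exact (U.ι.isAffineOpen_iff_of_isOpenImmersion).mpr hr
  · rw [← h1]
    exact ⟨⟨x, hx⟩, hxr, rfl⟩
  · rw [← h1]
    rintro _ ⟨y, hy, rfl⟩
    exact hrN hy

/-- A compact open `U` of `X` covered by affine opens of the form `X.basicOpen s`, `s ∈ Γ(X, U)`,
is quasi-affine. -/
theorem isQuasiAffine_of_forall_exists_affine (U : X.Opens) (hU : IsCompact (U : Set X))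
    (H : ∀ x ∈ U, ∃ s : Γ(X, U), IsAffineOpen (X.basicOpen s) ∧ x ∈ X.basicOpen s) :
    (U : Scheme.{u}).IsQuasiAffine := by
  have : CompactSpace U := isCompact_iff_compactSpace.mp hU
  refine Scheme.IsQuasiAffine.of_forall_exists_mem_basicOpen U.toScheme ?_
  rintro ⟨x, hx⟩
  obtain ⟨s, hs, hxs⟩ := H x hx
  have h1 := Scheme.Opens.ι_image_basicOpen_topIso_inv (U := U) s
  refine ⟨U.topIso.inv s, ?_, ?_⟩
  · rw [← U.ι.isAffineOpen_iff_of_isOpenImmersion, h1]
    exact hs
  · have : x ∈ U.ι ''ᵁ U.toScheme.basicOpen (U.topIso.inv s) := by rw [h1]; exact hxs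
    obtain ⟨y, hy, hyx⟩ := this
    have : y = ⟨x, hx⟩ := Subtype.ext hyx
    rw [← this]
    exact hy

theorem isQuasiSeparated_coe (V : X.Opens) [QuasiSeparatedSpace V.toScheme] :
    IsQuasiSeparated (V : Set X) := by
  have := (V.ι.isOpenEmbedding.isQuasiSeparated_iff (s := Set.univ)).mp isQuasiSeparated_univ
  rwa [Set.image_univ, Scheme.Opens.range_ι] at this

/-- Key lemma: a compact open `U` of `X` covered by quasi-affine opens of the form `X.basicOpen r`,
`r ∈ Γ(X, U)`, is quasi-affine. -/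
theorem isQuasiAffine_of_forall_exists_quasiAffine (U : X.Opens) (hU : IsCompact (U : Set X))
    (H : ∀ x ∈ U, ∃ r : Γ(X, U), (X.basicOpen r : Scheme.{u}).IsQuasiAffine ∧ x ∈ X.basicOpen r) :
    (U : Scheme.{u}).IsQuasiAffine := by
  -- `U` is quasi-separated
  have hqsU : QuasiSeparatedSpace U.toScheme := by
    choose r hr hxr using H
    have himg : ∀ x : U, U.ι ''ᵁ U.toScheme.basicOpen (U.topIso.inv (r x x.2)) = X.basicOpen (r x x.2) :=
      fun x => Scheme.Opens.ι_image_basicOpen_topIso_inv (U := U) (r x x.2)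
    refine QuasiSeparatedSpace.of_isOpenCover
      (U := fun x : U => U.toScheme.basicOpen (U.topIso.inv (r x x.2))) ?_
      (fun _ => isRetrocompact_basicOpen _) ?_
    · rw [TopologicalSpace.IsOpenCover, eq_top_iff]
      intro x _
      rw [Opens.mem_iSup]
      refine ⟨x, ?_⟩
      have : x.1 ∈ U.ι ''ᵁ U.toScheme.basicOpen (U.topIso.inv (r x.1 x.2)) := by
        rw [himg]; exact hxr x.1 x.2
      obtain ⟨y, hy, hyx⟩ := this
      have hyx' : y = x := Subtype.ext hyx
      rw [hyx'] at hy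
      exact hy
    · intro x
      rw [U.ι.isOpenEmbedding.isQuasiSeparated_iff]
      have h2 : (U.ι '' (U.toScheme.basicOpen (U.topIso.inv (r x x.2)) : Set U)) =
          (X.basicOpen (r x x.2) : Set X) := congrArg (fun W : X.Opens => (W : Set X)) (himg x)
      rw [h2]
      have := hr x x.2
      exact isQuasiSeparated_coe _
  have hqs : IsQuasiSeparated (U : Set X) := isQuasiSeparated_coe U
  refine isQuasiAffine_of_forall_exists_affine U hU ?_
  intro x hx
  obtain ⟨r, hr, hxr⟩ := H x hx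
  obtain ⟨s, hs, hxs, -⟩ := exists_affine_basicOpen (X.basicOpen r) hxr ⊤ trivial
  obtain ⟨n, y, hy⟩ := exists_eq_pow_mul_of_isCompact_of_isQuasiSeparated X U hU hqs r s
  have hunit : IsUnit (X.presheaf.map (homOfLE (X.basicOpen_le r)).op r) :=
    RingedSpace.isUnit_res_basicOpen _ r
  have hkey : X.basicOpen (y * r) = X.basicOpen s := by
    dsimp only [TopCat.Presheaf.restrictOpenCommRingCat_apply] at hy
    have e1 : X.basicOpen (X.presheaf.map (homOfLE (X.basicOpen_le r)).op y) =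
        X.basicOpen r ⊓ X.basicOpen y := Scheme.basicOpen_res X _ _
    rw [Scheme.basicOpen_mul, inf_comm, ← e1, hy, Scheme.basicOpen_mul,
      Scheme.basicOpen_of_isUnit _ (hunit.pow n)]
    exact inf_eq_right.mpr (X.basicOpen_le s)
  refine ⟨y * r, ?_, ?_⟩
  · rw [hkey]; exact hs
  · rw [hkey]; exact hxs

open Limits in
/-- Base change: if `f ⁻¹ᵁ V` is quasi-affine, `V` and `D` are affine opens with `g(D) ⊆ V`, then the
preimage of `D` in `X ×_Y Y'` is quasi-affine. -/
theorem isQuasiAffine_preimage_snd {X Y Y' : Scheme.{u}} (f : X ⟶ Y) (g : Y' ⟶ Y) (V : Y.Opens)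
    (D : Y'.Opens) (hV : IsAffineOpen V) (hD : IsAffineOpen D) (hDV : D ≤ g ⁻¹ᵁ V)
    [hq : (f ⁻¹ᵁ V : Scheme.{u}).IsQuasiAffine] :
    ((pullback.snd f g) ⁻¹ᵁ D : Scheme.{u}).IsQuasiAffine := by
  have s1 : IsPullback ((pullback.snd f g) ⁻¹ᵁ D).ι (pullback.snd f g ∣_ D) (pullback.snd f g) D.ι :=
    (isPullback_morphismRestrict (pullback.snd f g) D).flip
  have s2 : IsPullback (pullback.fst f g) (pullback.snd f g) f g := IsPullback.of_hasPullback f g
  have s3 := s1.paste_horiz s2
  have e : D.ι ≫ g = g.resLE V D hDV ≫ V.ι := (Scheme.Hom.resLE_comp_ι g hDV).symm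
  rw [e] at s3
  have t : IsPullback (f ⁻¹ᵁ V).ι (f ∣_ V) f V.ι := (isPullback_morphismRestrict f V).flip
  have key := IsPullback.of_right' s3 t
  have : IsAffine D.toScheme := hD
  have : IsAffine V.toScheme := hV
  have haff : IsAffineHom (g.resLE V D hDV) := inferInstance
  have h2 : IsAffineHom (t.lift (((pullback.snd f g) ⁻¹ᵁ D).ι ≫ pullback.fst f g)
      ((pullback.snd f g ∣_ D) ≫ g.resLE V D hDV) (by rw [s3.w, Category.assoc])) :=
    MorphismProperty.of_isPullback (P := @IsAffineHom) key.flip haff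
  exact @Scheme.IsQuasiAffine.of_isAffineHom _ _ _ h2 hq

end Groth.Agent.Lib.Helper97.QAff
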