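import Mathlib

/-!
# Integral closure in the total fraction ring decomposes along finitely many "components"
(helper97; general lemma used for `CAlg2.normRed`, S9810/S9811/S9235/S9236)

`R` a commutative ring, `π i : R →+* D i` a finite jointly injective family of surjections onto
domains, with "separating elements" `t i` (`π j (t i) = 0` for `j ≠ i`, `π i (t i) ≠ 0`).
Then the integral closure of `R` in its total fraction ring `K` is the product of the integral
closures of the `D i` in their fraction fields.
-/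

set_option autoImplicit false
set_option linter.unusedSectionVars false
set_option linter.style.haveILetI false

namespace Groth.Agent.Lib.Helper97.NormProd

open Polynomial

universe u

variable {ι : Type u} [Finite ι] {R : Type u} [CommRing R] (K : Type u) [CommRing K] [Algebra R K]
  [IsFractionRing R K]
  {D : ι → Type u} [∀ i, CommRing (D i)] [∀ i, IsDomain (D i)]
  (L : ι → Type u) [∀ i, Field (L i)] [∀ i, Algebra (D i) (L i)] [∀ i, IsFractionRing (D i) (L i)]
  (π : ∀ i, R →+* D i)

/-- The hypotheses on the family `π`. -/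
structure Sep (π : ∀ i, R →+* D i) : Prop where
  surj : ∀ i, Function.Surjective (π i)
  inj : ∀ x : R, (∀ i, π i x = 0) → x = 0
  exists_t : ∃ t : ι → R, (∀ i j, j ≠ i → π j (t i) = 0) ∧ ∀ i, π i (t i) ≠ 0

variable {π}

lemma Sep.mem_nonZeroDivisors_of_forall_ne (h : Sep π) {s : R} (hs : ∀ i, π i s ≠ 0) :
    s ∈ nonZeroDivisors R := by
  rw [mem_nonZeroDivisors_iff_right]
  intro a ha
  apply h.inj
  intro i
  have := congrArg (π i) ha
  rw [map_mul, map_zero] at this
  exact (mul_eq_zero.mp this).resolve_right (hs i)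

lemma Sep.map_ne_zero (h : Sep π) {s : R} (hs : s ∈ nonZeroDivisors R) (i : ι) : π i s ≠ 0 := by
  obtain ⟨t, ht0, ht1⟩ := h.exists_t
  intro h0
  apply ht1 i
  have hst : s * t i = 0 := by
    apply h.inj
    intro j
    rw [map_mul]
    by_cases hj : j = i
    · subst hj; rw [h0, zero_mul]
    · rw [ht0 i j hj, mul_zero]
  have : t i = 0 := by
    have := (mem_nonZeroDivisors_iff_right.mp hs) (t i) (by rw [mul_comm]; exact hst)
    exact this
  rw [this, map_zero]

lemma Sep.le_comap (h : Sep π) (i : ι) :
    nonZeroDivisors R ≤ (nonZeroDivisors (D i)).comap (π i) := by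
  intro s hs
  rw [Submonoid.mem_comap]
  exact mem_nonZeroDivisors_of_ne_zero (h.map_ne_zero hs i)

/-- The induced map on fraction rings. -/
noncomputable def Sep.Ψ (h : Sep π) (i : ι) : K →+* L i :=
  IsLocalization.map (L i) (π i) (h.le_comap i)

lemma Sep.Ψ_algebraMap (h : Sep π) (i : ι) (r : R) :
    h.Ψ K L i (algebraMap R K r) = algebraMap (D i) (L i) (π i r) :=
  IsLocalization.map_eq _ _

lemma Sep.Ψ_mk' (h : Sep π) (i : ι) (a : R) (s : nonZeroDivisors R) :
    h.Ψ K L i (IsLocalization.mk' K a s) =
      algebraMap (D i) (L i) (π i a) / algebraMap (D i) (L i) (π i s) := by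
  rw [Sep.Ψ, IsLocalization.map_mk', IsFractionRing.mk'_eq_div]

lemma Sep.Ψ_injective (h : Sep π) {x : K} (hx : ∀ i, h.Ψ K L i x = 0) : x = 0 := by
  obtain ⟨a, s, rfl⟩ := IsLocalization.exists_mk'_eq (nonZeroDivisors R) x
  have ha : a = 0 := by
    apply h.inj
    intro i
    have h1 := hx i
    rw [h.Ψ_mk' K L, div_eq_zero_iff] at h1
    rcases h1 with h1 | h1
    · exact (IsFractionRing.injective (D i) (L i)) (by rw [h1, map_zero])
    · exfalso
      have h2 : π i (s : R) = 0 :=
        (IsFractionRing.injective (D i) (L i)) (by rw [h1, map_zero])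
      exact h.map_ne_zero s.2 i h2
  rw [ha, IsLocalization.mk'_zero]

lemma Sep.Ψ_aeval (h : Sep π) (i : ι) (F : R[X]) (x : K) :
    h.Ψ K L i (aeval x F) = aeval (h.Ψ K L i x) (F.map (π i)) := by
  rw [aeval_def, aeval_def, hom_eval₂, eval₂_map]
  congr 1
  ext r
  simp [h.Ψ_algebraMap K L]

lemma Sep.isIntegral_Ψ (h : Sep π) (i : ι) {x : K} (hx : IsIntegral R x) :
    IsIntegral (D i) (h.Ψ K L i x) := by
  obtain ⟨F, hF, hFx⟩ := hx
  refine ⟨F.map (π i), hF.map _, ?_⟩
  rw [← aeval_def, ← h.Ψ_aeval K L, aeval_def, hFx, map_zero]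

/-- The comparison map to the product of integral closures. -/
noncomputable def Sep.Φ (h : Sep π) :
    integralClosure R K →+* ∀ i, integralClosure (D i) (L i) :=
  RingHom.pi fun i =>
    ((h.Ψ K L i).comp (integralClosure R K).val.toRingHom).codRestrict
      (integralClosure (D i) (L i)).toSubring (fun x => h.isIntegral_Ψ K L i x.2)

lemma Sep.Φ_apply_coe (h : Sep π) (x : integralClosure R K) (i : ι) :
    ((h.Φ K L x i : integralClosure (D i) (L i)) : L i) = h.Ψ K L i (x : K) := rfl

lemma Sep.Φ_injective (h : Sep π) : Function.Injective (h.Φ K L) := by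
  rw [injective_iff_map_eq_zero]
  intro x hx
  apply Subtype.ext
  apply h.Ψ_injective K L
  intro i
  have := congrArg (fun y => ((y i : integralClosure (D i) (L i)) : L i)) hx
  simpa [Sep.Φ_apply_coe] using this

lemma Sep.Φ_surjective (h : Sep π) : Function.Surjective (h.Φ K L) := by
  classical
  haveI : Fintype ι := Fintype.ofFinite ι
  obtain ⟨t, ht0, ht1⟩ := h.exists_t
  intro y
  -- write each component as a fraction
  have hfrac : ∀ i, ∃ a s : R, π i s ≠ 0 ∧
      algebraMap (D i) (L i) (π i a) / algebraMap (D i) (L i) (π i s) = (y i : L i) := by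
    intro i
    obtain ⟨a', s', hs', hz⟩ := IsFractionRing.div_surjective (D i) ((y i : L i))
    obtain ⟨a, rfl⟩ := h.surj i a'
    obtain ⟨s, rfl⟩ := h.surj i s'
    exact ⟨a, s, nonZeroDivisors.ne_zero hs', hz⟩
  choose a s hs hy using hfrac
  set u : R := ∑ j, t j with hu
  have hπu : ∀ i, π i u = π i (t i) := by
    intro i
    rw [hu, map_sum, Finset.sum_eq_single i]
    · intro j _ hj; exact ht0 j i hj.symm
    · intro hi; exact absurd (Finset.mem_univ i) hi
  -- denominators avoiding all components
  set s' : ι → R := fun i => s i * t i + (u - t i) with hs'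
  have hs'i : ∀ i, π i (s' i) = π i (s i) * π i (t i) := by
    intro i
    simp only [hs', map_add, map_mul, map_sub, hπu, sub_self, add_zero]
  have hs'k : ∀ i k, k ≠ i → π k (s' i) = π k (t k) := by
    intro i k hk
    simp only [hs', map_add, map_mul, map_sub, hπu, ht0 i k hk, mul_zero, zero_add, sub_zero]
  have hs'nzd : ∀ i, s' i ∈ nonZeroDivisors R := by
    intro i
    apply h.mem_nonZeroDivisors_of_forall_ne
    intro k
    by_cases hk : k = i
    · subst hk; rw [hs'i]; exact mul_ne_zero (hs k) (ht1 k)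
    · rw [hs'k i k hk]; exact ht1 k
  set x : ι → K := fun i => IsLocalization.mk' K (a i * t i) ⟨s' i, hs'nzd i⟩ with hx
  have hxi : ∀ i, h.Ψ K L i (x i) = (y i : L i) := by
    intro i
    rw [hx, h.Ψ_mk' K L]
    simp only [map_mul, hs'i]
    rw [← hy i]
    have h1 : algebraMap (D i) (L i) (π i (t i)) ≠ 0 := by
      intro h0
      exact ht1 i ((IsFractionRing.injective (D i) (L i)) (by rw [h0, map_zero]))
    rw [mul_div_mul_right _ _ h1]
  have hxk : ∀ i k, k ≠ i → h.Ψ K L k (x i) = 0 := by
    intro i k hk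
    rw [hx, h.Ψ_mk' K L]
    simp only [map_mul, ht0 i k hk, mul_zero, map_zero, zero_div]
  set X : K := ∑ i, x i with hX
  have hXi : ∀ i, h.Ψ K L i X = (y i : L i) := by
    intro i
    rw [hX, map_sum, Finset.sum_eq_single i, hxi]
    · intro j _ hj; exact hxk j i hj.symm
    · intro hi; exact absurd (Finset.mem_univ i) hi
  -- integrality of `X`
  have hmonic : ∀ i, ∃ F : R[X], F.Monic ∧ aeval (y i : L i) (F.map (π i)) = 0 := by
    intro i
    obtain ⟨f, hf, hfy⟩ := (y i).2
    have hlift : f ∈ Polynomial.lifts (π i) := by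
      rw [Polynomial.mem_lifts]
      exact Polynomial.map_surjective _ (h.surj i) f
    obtain ⟨F, hFf, -, hFm⟩ := Polynomial.lifts_and_natDegree_eq_and_monic hlift hf
    exact ⟨F, hFm, by rw [hFf, aeval_def]; exact hfy⟩
  choose F hFm hFy using hmonic
  have hXint : IsIntegral R X := by
    refine ⟨∏ k, F k, monic_prod_of_monic _ _ (fun k _ => hFm k), ?_⟩
    rw [← aeval_def]
    apply h.Ψ_injective K L
    intro i
    rw [h.Ψ_aeval K L, hXi, Polynomial.map_prod, map_prod]
    exact Finset.prod_eq_zero (Finset.mem_univ i) (hFy i)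
  refine ⟨⟨X, hXint⟩, ?_⟩
  funext i
  apply Subtype.ext
  rw [Sep.Φ_apply_coe]
  exact hXi i

/-- The integral closure in the total fraction ring is the product of the integral closures of
the components. -/
noncomputable def Sep.equiv (h : Sep π) :
    integralClosure R K ≃+* ∀ i, integralClosure (D i) (L i) :=
  RingEquiv.ofBijective (h.Φ K L) ⟨h.Φ_injective K L, h.Φ_surjective K L⟩

lemma Sep.equiv_apply_coe (h : Sep π) (x : integralClosure R K) (i : ι) :
    ((h.equiv K L x i : integralClosure (D i) (L i)) : L i) = h.Ψ K L i (x : K) := rfl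

lemma Sep.equiv_algebraMap (h : Sep π) (r : R) (i : ι) :
    h.equiv K L (algebraMap R (integralClosure R K) r) i =
      algebraMap (D i) (integralClosure (D i) (L i)) (π i r) := by
  apply Subtype.ext
  rw [Sep.equiv_apply_coe]
  exact h.Ψ_algebraMap K L i r

end Groth.Agent.Lib.Helper97.NormProd
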