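import Mathlib
import Groth.Agent.Lib.Helper97.NormProd

/-!
# Normal rings with finitely many minimal primes (Stacks 030C)  (helper97; S2139, S2707)

* `mem_range_of_isIntegral_of_normal`: if all localizations of `R` at maximal ideals are integrally
  closed domains, then `R` is "integrally closed" in any ring of fractions `K`.
* `isNormal_of_isIntegrallyClosedIn`: a reduced ring with finitely many minimal primes which is
  integrally closed in its total ring of fractions is a normal ring.
-/

set_option autoImplicit false
set_option linter.unusedSectionVars false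
set_option linter.style.haveILetI false

namespace Groth.Agent.Lib.Helper97.NormalProd

open Polynomial

universe u

section Forward

variable {R : Type*} [CommRing R] {K : Type*} [CommRing K] [Algebra R K]

/-- If every localization of `R` at a maximal ideal is an integrally closed domain, then an
integral element `x` of an overring `K ⊇ R` that can be written as a fraction `b / s` with `s` a
unit of `K` lies in `R`. -/
theorem mem_range_of_isIntegral_of_normal
    (hinj : Function.Injective (algebraMap R K))
    (hn : ∀ (m : Ideal R) [m.IsMaximal],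
      IsDomain (Localization.AtPrime m) ∧ IsIntegrallyClosed (Localization.AtPrime m))
    (x : K) (hx : IsIntegral R x) (s b : R) (hs : IsUnit (algebraMap R K s))
    (hsx : algebraMap R K s * x = algebraMap R K b) :
    x ∈ (algebraMap R K).range := by
  classical
  -- the ideal of denominators
  let I : Ideal R :=
    { carrier := {r | algebraMap R K r * x ∈ (algebraMap R K).range}
      add_mem' := by
        intro a c ha hc
        simp only [Set.mem_setOf_eq] at ha hc ⊢
        rw [map_add, add_mul]
        exact add_mem ha hc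
      zero_mem' := by
        simp only [Set.mem_setOf_eq, map_zero, zero_mul]
        exact zero_mem _
      smul_mem' := by
        intro c a ha
        simp only [Set.mem_setOf_eq, smul_eq_mul] at ha ⊢
        rw [map_mul, mul_assoc]
        exact mul_mem ⟨c, rfl⟩ ha }
  have hI : ∀ r, r ∈ I ↔ algebraMap R K r * x ∈ (algebraMap R K).range := fun r => Iff.rfl
  suffices h1 : (1 : R) ∈ I by
    have := (hI 1).mp h1
    rwa [map_one, one_mul] at this
  rw [← Ideal.eq_top_iff_one]
  by_contra hne
  obtain ⟨m, hm, hIm⟩ := Ideal.exists_le_maximal I hne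
  obtain ⟨hdom, hic⟩ := hn m
  -- `s` is a nonzerodivisor of `R`
  have hsnzd : ∀ u : R, u * s = 0 → u = 0 := by
    intro u hu
    apply hinj
    have := congrArg (algebraMap R K) hu
    rw [map_mul, map_zero] at this
    rw [map_zero]
    exact (hs.mul_left_eq_zero).mp this
  obtain ⟨p, hpm, hp0⟩ := hx
  -- the relation in `R`
  have hrel : eval b (p.scaleRoots s) = 0 := by
    apply hinj
    rw [map_zero, ← eval₂_at_apply, ← hsx, scaleRoots_eval₂_mul, hp0, mul_zero]
  let Rm := Localization.AtPrime m
  let F := FractionRing Rm
  let f : R →+* F := (algebraMap Rm F).comp (algebraMap R Rm)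
  have hfs : f s ≠ 0 := by
    intro h0
    have h1 : algebraMap R Rm s = 0 := by
      apply IsFractionRing.injective Rm F
      rw [map_zero]; exact h0
    rw [IsLocalization.map_eq_zero_iff m.primeCompl] at h1
    obtain ⟨u, hu⟩ := h1
    have := hsnzd u.1 hu
    exact u.2 (this ▸ m.zero_mem)
  have hroot : eval₂ f (f b / f s) p = 0 := by
    have h2 : eval₂ f (f s * (f b / f s)) (p.scaleRoots s) = f s ^ p.natDegree * eval₂ f (f b / f s) p :=
      scaleRoots_eval₂_mul f _ s
    rw [mul_div_cancel₀ _ hfs, eval₂_at_apply, hrel, map_zero] at h2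
    exact ((mul_eq_zero.mp h2.symm).resolve_left (pow_ne_zero _ hfs))
  have hint : IsIntegral Rm (f b / f s) := by
    refine ⟨p.map (algebraMap R Rm), hpm.map _, ?_⟩
    rw [eval₂_map]
    exact hroot
  obtain ⟨y, hy⟩ := IsIntegrallyClosed.isIntegral_iff.mp hint
  obtain ⟨⟨c, t⟩, hct⟩ := IsLocalization.surj m.primeCompl y
  simp only at hct
  -- in `Rm`: `b * t = s * c`
  have h3 : algebraMap R Rm (t * b) = algebraMap R Rm (s * c) := by
    apply IsFractionRing.injective Rm F
    have hfb : algebraMap Rm F (algebraMap R Rm b) = algebraMap Rm F (algebraMap R Rm s) *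
        algebraMap Rm F y := by
      rw [hy]
      change f b = f s * (f b / f s)
      rw [mul_div_cancel₀ _ hfs]
    rw [map_mul, map_mul, map_mul, map_mul, hfb, ← hct, map_mul]
    ring
  obtain ⟨u, hu⟩ := (IsLocalization.eq_iff_exists m.primeCompl Rm).mp h3
  have hmem : (u : R) * t ∈ I := by
    rw [hI]
    refine ⟨u * c, ?_⟩
    apply hs.mul_left_cancel
    calc algebraMap R K s * algebraMap R K (u * c) = algebraMap R K (u * (s * c)) := by
          rw [← map_mul]; congr 1; ring
      _ = algebraMap R K (u * (t * b)) := by rw [hu]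
      _ = algebraMap R K (u * t) * (algebraMap R K s * x) := by
          rw [hsx, ← map_mul]; congr 1; ring
      _ = _ := by ring
  exact (m.primeCompl.mul_mem u.2 t.2) (hIm hmem)

end Forward

section LocSurj

variable {R N : Type*} [CommRing R] [CommRing N] (f : R →+* N) (Q : Ideal N) [Q.IsPrime]

/-- If `f : R → N` is surjective and every element of the kernel is killed by something outside
`f⁻¹ Q`, then `R` localized at `f⁻¹ Q` is `N` localized at `Q`. -/
theorem nonempty_ringEquiv_localization_comap (hf : Function.Surjective f)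
    (hker : ∀ x, f x = 0 → ∃ s, f s ∉ Q ∧ s * x = 0) :
    Nonempty (Localization.AtPrime (Q.comap f) ≃+* Localization.AtPrime Q) := by
  let S := Localization.AtPrime Q
  letI : Algebra R S := ((algebraMap N S).comp f).toAlgebra
  have halg : ∀ r, algebraMap R S r = algebraMap N S (f r) := fun r => rfl
  haveI : IsLocalization (Q.comap f).primeCompl S := by
    rw [isLocalization_iff]
    refine ⟨?_, ?_, ?_⟩
    · rintro ⟨y, hy⟩
      rw [halg]
      exact IsLocalization.map_units S (⟨f y, hy⟩ : Q.primeCompl)
    · intro z
      obtain ⟨⟨n, q⟩, hnq⟩ := IsLocalization.surj Q.primeCompl z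
      obtain ⟨a, ha⟩ := hf n
      obtain ⟨b, hb⟩ := hf q.1
      have hbQ : b ∈ (Q.comap f).primeCompl := by
        show f b ∉ Q
        rw [hb]; exact q.2
      refine ⟨⟨a, ⟨b, hbQ⟩⟩, ?_⟩
      simp only [halg, ha, hb]; exact hnq
    · intro x y hxy
      rw [halg, halg] at hxy
      obtain ⟨q, hq⟩ := (IsLocalization.eq_iff_exists Q.primeCompl S).mp hxy
      obtain ⟨c, hc⟩ := hf q.1
      have h0 : f (c * (x - y)) = 0 := by rw [map_mul, map_sub, hc, mul_sub, hq, sub_self]
      obtain ⟨s, hs, hs0⟩ := hker _ h0
      have hsc : s * c ∈ (Q.comap f).primeCompl := by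
        show f (s * c) ∉ Q
        rw [map_mul, hc]
        exact Q.primeCompl.mul_mem hs q.2
      refine ⟨⟨s * c, hsc⟩, ?_⟩
      simp only
      linear_combination hs0
  exact ⟨(IsLocalization.algEquiv (Q.comap f).primeCompl
    (Localization.AtPrime (Q.comap f)) S).toRingEquiv⟩

end LocSurj

section Pi

variable {ι : Type*} [Finite ι] {R : Type*} [CommRing R] {B : ι → Type*} [∀ i, CommRing (B i)]
  [∀ i, IsDomain (B i)] [∀ i, IsIntegrallyClosed (B i)]

/-- A finite product of integrally closed domains is a normal ring. -/
theorem normal_of_equiv_pi (e : R ≃+* ∀ i, B i) (P : Ideal R) [hP : P.IsPrime] :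
    IsDomain (Localization.AtPrime P) ∧ IsIntegrallyClosed (Localization.AtPrime P) := by
  classical
  let P' : PrimeSpectrum (∀ i, B i) := ⟨P.comap e.symm.toRingHom, Ideal.comap_isPrime _ _⟩
  obtain ⟨⟨i, Q⟩, hQ⟩ := (PrimeSpectrum.sigmaToPi_bijective B).surjective P'
  have hQ' : Q.asIdeal.comap (Pi.evalRingHom B i) = P.comap e.symm.toRingHom :=
    congrArg PrimeSpectrum.asIdeal hQ
  let f : R →+* B i := (Pi.evalRingHom B i).comp e.toRingHom
  have hf : Function.Surjective f := by
    intro b
    refine ⟨e.symm (Pi.single i b), ?_⟩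
    simp [f]
  have hPf : Q.asIdeal.comap f = P := by
    ext r
    have := congrArg (fun J : Ideal (∀ i, B i) => e r ∈ J) hQ'
    simp only [Ideal.mem_comap, Pi.evalRingHom_apply, RingEquiv.toRingHom_eq_coe,
      RingHom.coe_coe, RingEquiv.symm_apply_apply, eq_iff_iff] at this
    simpa [f] using this
  have hker : ∀ x, f x = 0 → ∃ s, f s ∉ Q.asIdeal ∧ s * x = 0 := by
    intro x hx
    refine ⟨e.symm (Pi.single i 1), ?_, ?_⟩
    · have : f (e.symm (Pi.single i 1)) = 1 := by simp [f]
      rw [this]
      exact fun h => Q.2.ne_top ((Ideal.eq_top_iff_one _).mpr h)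
    · apply e.injective
      rw [map_mul, map_zero, RingEquiv.apply_symm_apply]
      funext j
      by_cases hj : j = i
      · subst hj
        simp only [Pi.mul_apply, Pi.single_eq_same, one_mul, Pi.zero_apply]
        exact hx
      · simp only [Pi.mul_apply, Pi.single_eq_of_ne hj, zero_mul, Pi.zero_apply]
  haveI := Q.2
  obtain ⟨g⟩ := nonempty_ringEquiv_localization_comap f Q.asIdeal hf hker
  subst hPf
  have hle : Q.asIdeal.primeCompl ≤ nonZeroDivisors (B i) :=
    Ideal.primeCompl_le_nonZeroDivisors _
  haveI hd : IsDomain (Localization.AtPrime Q.asIdeal) :=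
    IsLocalization.isDomain_localization hle
  haveI hc : IsIntegrallyClosed (Localization.AtPrime Q.asIdeal) :=
    isIntegrallyClosed_of_isLocalization (Localization.AtPrime Q.asIdeal) Q.asIdeal.primeCompl hle
  exact ⟨g.toMulEquiv.isDomain _, IsIntegrallyClosed.of_equiv g.symm⟩

end Pi

section Main

variable {R : Type u} [CommRing R]

/-- minimal primes are prime (local instance). -/
lemma isPrime_of_mem_minimalPrimes (p : minimalPrimes R) : p.1.IsPrime := p.2.1.1

attribute [local instance] isPrime_of_mem_minimalPrimes

lemma sep_quot [IsReduced R] (h : (minimalPrimes R).Finite) :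
    NormProd.Sep (fun p : minimalPrimes R => Ideal.Quotient.mk p.1) := by
  classical
  refine ⟨fun p => Ideal.Quotient.mk_surjective, ?_, ?_⟩
  · intro x hx
    have hnil : nilradical R = sInf (minimalPrimes R) := by
      rw [minimalPrimes, Ideal.sInf_minimalPrimes]; rfl
    have hx' : x ∈ nilradical R := by
      rw [hnil, Ideal.mem_sInf]
      intro q hq
      exact Ideal.Quotient.eq_zero_iff_mem.mp (hx ⟨q, hq⟩)
    rw [nilradical_eq_zero] at hx'
    exact hx'
  · have key : ∀ p : minimalPrimes R, ∃ a : R, (∀ q : minimalPrimes R, q ≠ p → a ∈ q.1) ∧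
        a ∉ p.1 := by
      intro p
      by_contra hcon
      push Not at hcon
      have hle : (h.toFinset.erase p.1).inf id ≤ p.1 := by
        intro a ha
        apply hcon a
        intro q hq
        have : (h.toFinset.erase p.1).inf id ≤ q.1 :=
          Finset.inf_le (f := id) (Finset.mem_erase.mpr
            ⟨fun hqp => hq (Subtype.ext hqp), h.mem_toFinset.mpr q.2⟩)
        exact this ha
      obtain ⟨q, hq, hqp⟩ := (Ideal.IsPrime.inf_le' (isPrime_of_mem_minimalPrimes p)).mp hle
      rw [Finset.mem_erase, h.mem_toFinset] at hq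
      have hq' : q.IsPrime := hq.2.1.1
      have : p.1 ≤ q := p.2.2 ⟨hq', bot_le⟩ hqp
      exact hq.1 (le_antisymm hqp this)
    choose t ht0 ht1 using key
    refine ⟨t, ?_, ?_⟩
    · intro p q hqp
      exact Ideal.Quotient.eq_zero_iff_mem.mpr (ht0 p q hqp)
    · intro p hp
      exact ht1 p (Ideal.Quotient.eq_zero_iff_mem.mp hp)

/-- **Stacks 030C (one direction).** A reduced ring with finitely many minimal primes that is
integrally closed in its total ring of fractions is a normal ring. -/
theorem isNormal_of_isIntegrallyClosedIn [IsReduced R] (hfin : (minimalPrimes R).Finite)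
    (hic : IsIntegrallyClosedIn R (FractionRing R)) (P : Ideal R) [P.IsPrime] :
    IsDomain (Localization.AtPrime P) ∧ IsIntegrallyClosed (Localization.AtPrime P) := by
  haveI : Finite (minimalPrimes R) := hfin.to_subtype
  haveI : IsIntegralClosure R R (FractionRing R) := hic
  let e₀ : R ≃+* integralClosure R (FractionRing R) :=
    (IsIntegralClosure.equiv R R (FractionRing R) (integralClosure R (FractionRing R))).toRingEquiv
  let e₁ := (sep_quot hfin).equiv (FractionRing R)
    (fun p : minimalPrimes R => FractionRing (R ⧸ p.1))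
  haveI : ∀ p : minimalPrimes R,
      IsIntegrallyClosed (integralClosure (R ⧸ p.1) (FractionRing (R ⧸ p.1))) :=
    fun p => integralClosure.isIntegrallyClosedOfFiniteExtension (FractionRing (R ⧸ p.1))
  exact normal_of_equiv_pi
    (B := fun p : minimalPrimes R => integralClosure (R ⧸ p.1) (FractionRing (R ⧸ p.1)))
    (e₀.trans e₁) P

/-- **Stacks 030C (other direction)**, no hypotheses needed. -/
theorem isIntegrallyClosedIn_of_isNormal
    (hn : ∀ (p : Ideal R) [p.IsPrime],
      IsDomain (Localization.AtPrime p) ∧ IsIntegrallyClosed (Localization.AtPrime p)) :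
    IsIntegrallyClosedIn R (FractionRing R) := by
  refine ⟨IsFractionRing.injective R (FractionRing R), fun {x} => ⟨fun hx => ?_, ?_⟩⟩
  · obtain ⟨⟨b, s⟩, hbs⟩ := IsLocalization.surj (nonZeroDivisors R) x
    have := mem_range_of_isIntegral_of_normal (IsFractionRing.injective R (FractionRing R))
      (fun m _ => hn m) x hx s.1 b (IsLocalization.map_units _ s) (by rw [mul_comm]; exact hbs)
    exact this
  · rintro ⟨y, rfl⟩
    exact isIntegral_algebraMap

end Main

end Groth.Agent.Lib.Helper97.NormalProd
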