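import Groth.Agent.Lib.Helper97.GeomBr

/-!
# One geometric branch iff geometrically unibranch (helper97; for S9236)
-/

set_option autoImplicit false
set_option linter.unusedSectionVars false
set_option linter.style.haveILetI false

namespace Groth.Agent.Lib.Helper97.GeomUni

open Groth.Agent.Lib.Helper97.NormRed Groth.Agent.Lib.Helper97.GeomBr

universe u

section Fields

variable {R : Type*} [CommRing R] (F E Ω : Type*) [Field F] [Field E] [Field Ω]
  [Algebra F E] [Algebra F Ω] [Algebra.IsAlgebraic F E] [IsAlgClosed Ω]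
  (π : R →+* F) (hπ : Function.Surjective π)
  (r : R →+* E) (c : R →+* Ω) (hr : r = (algebraMap F E).comp π)
  (hc : c = (algebraMap F Ω).comp π)

include hπ hr hc in
/-- Ring maps over the base are algebra maps. -/
def embSubtypeEquivAlgHom : {σ : E →+* Ω // σ.comp r = c} ≃ (E →ₐ[F] Ω) where
  toFun σ :=
    { σ.1 with
      commutes' := fun x => by
        obtain ⟨a, rfl⟩ := hπ x
        have h1 : σ.1 (r a) = c a := RingHom.congr_fun σ.2 a
        have h2 : r a = algebraMap F E (π a) := by rw [hr]; rfl
        have h3 : c a = algebraMap F Ω (π a) := by rw [hc]; rfl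
        rw [h2, h3] at h1
        exact h1 }
  invFun φ := ⟨φ.toRingHom, by
    rw [hr, hc]
    ext a
    exact φ.commutes (π a)⟩
  left_inv σ := by
    apply Subtype.ext
    ext x
    rfl
  right_inv φ := by
    ext x
    rfl

include hπ hr hc in
theorem nonempty_embSubtype : Nonempty {σ : E →+* Ω // σ.comp r = c} :=
  ⟨(embSubtypeEquivAlgHom F E Ω π hπ r c hr hc).symm
    (Field.embEquivOfIsAlgClosed F E Ω default)⟩

include hπ hr hc in
theorem subsingleton_embSubtype_iff :
    Subsingleton {σ : E →+* Ω // σ.comp r = c} ↔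
      ∀ x : E, ∃ n : ℕ, x ^ (ringExpChar E) ^ n ∈ r.range := by
  rw [((embSubtypeEquivAlgHom F E Ω π hπ r c hr hc).trans
    (Field.embEquivOfIsAlgClosed F E Ω).symm).subsingleton_congr,
    ← isPurelyInseparable_iff_subsingleton_emb]
  haveI : ExpChar F (ringExpChar E) :=
    (algebraMap F E).expChar (algebraMap F E).injective _
  rw [isPurelyInseparable_iff_pow_mem F (ringExpChar E)]
  have : (algebraMap F E).range = r.range := by
    rw [hr]
    ext x
    constructor
    · rintro ⟨y, rfl⟩
      obtain ⟨a, rfl⟩ := hπ y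
      exact ⟨a, rfl⟩
    · rintro ⟨a, rfl⟩
      exact ⟨π a, rfl⟩
  rw [this]

end Fields

section Abstract

variable {A : Type u} [CommRing A] [IsLocalRing A] {N : Type u} [CommRing N]
  (g : A →+* N) (hg : g.IsIntegral) (M : Ideal N) [hM : M.IsMaximal]

/-- `A → N → N ⧸ M`. -/
def resMap : A →+* N ⧸ M := (Ideal.Quotient.mk M).comp g

include hg in
lemma resMap_isIntegral : (resMap g M).IsIntegral :=
  RingHom.IsIntegral.trans _ _ hg
    (RingHom.isIntegral_of_surjective _ Ideal.Quotient.mk_surjective)

include hg in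
lemma ker_resMap : RingHom.ker (resMap g M) = IsLocalRing.maximalIdeal A := by
  have h1 : RingHom.ker (resMap g M) = M.comap g := by
    rw [resMap, ← RingHom.comap_ker, Ideal.mk_ker]
  rw [h1]
  exact IsLocalRing.eq_maximalIdeal
    (Ideal.isMaximal_comap_of_isIntegral_of_isMaximal' g hg M)

/-- The residue field extension `κ(A) → N ⧸ M`. -/
noncomputable def resHom : IsLocalRing.ResidueField A →+* (N ⧸ M) :=
  Ideal.Quotient.lift (IsLocalRing.maximalIdeal A) (resMap g M)
    (fun a ha => by rw [← ker_resMap g hg M] at ha; exact ha)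

lemma resHom_residue (a : A) :
    resHom g hg M (IsLocalRing.residue A a) = resMap g M a := rfl

lemma resHom_isIntegral : (resHom g hg M).IsIntegral := by
  intro x
  obtain ⟨P, hP, hPx⟩ := resMap_isIntegral g hg M x
  refine ⟨P.map (IsLocalRing.residue A), hP.map _, ?_⟩
  rw [Polynomial.eval₂_map]
  exact hPx

include hg in
theorem nonempty_gEmb :
    Nonempty {σ : N ⧸ M →+* AlgebraicClosure (IsLocalRing.ResidueField A) //
      σ.comp (resMap g M) = Brnch.toClosure A} := by
  letI : Field (N ⧸ M) := Ideal.Quotient.field M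
  letI : Algebra (IsLocalRing.ResidueField A) (N ⧸ M) := (resHom g hg M).toAlgebra
  haveI : Algebra.IsIntegral (IsLocalRing.ResidueField A) (N ⧸ M) := ⟨resHom_isIntegral g hg M⟩
  exact nonempty_embSubtype (IsLocalRing.ResidueField A) (N ⧸ M)
    (AlgebraicClosure (IsLocalRing.ResidueField A)) (IsLocalRing.residue A)
    IsLocalRing.residue_surjective (resMap g M) (Brnch.toClosure A) rfl rfl

include hg in
theorem subsingleton_gEmb_iff :
    Subsingleton {σ : N ⧸ M →+* AlgebraicClosure (IsLocalRing.ResidueField A) //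
      σ.comp (resMap g M) = Brnch.toClosure A} ↔
    ∀ x : N ⧸ M, ∃ n : ℕ, x ^ (ringExpChar (N ⧸ M)) ^ n ∈ (resMap g M).range := by
  letI : Field (N ⧸ M) := Ideal.Quotient.field M
  letI : Algebra (IsLocalRing.ResidueField A) (N ⧸ M) := (resHom g hg M).toAlgebra
  haveI : Algebra.IsIntegral (IsLocalRing.ResidueField A) (N ⧸ M) := ⟨resHom_isIntegral g hg M⟩
  exact subsingleton_embSubtype_iff (IsLocalRing.ResidueField A) (N ⧸ M)
    (AlgebraicClosure (IsLocalRing.ResidueField A)) (IsLocalRing.residue A)
    IsLocalRing.residue_surjective (resMap g M) (Brnch.toClosure A) rfl rfl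

end Abstract

section Main

variable {A : Type u} [CommRing A]

/-- The canonical map `A → normRed A`. -/
noncomputable def toNormRed (A : Type u) [CommRing A] : A →+* CAlg2.normRed A :=
  (algebraMap (CAlg2.red A) (CAlg2.normRed A)).comp (Ideal.Quotient.mk (nilradical A))

lemma toNormRed_isIntegral : (toNormRed A).IsIntegral :=
  RingHom.IsIntegral.trans _ _ (RingHom.isIntegral_of_surjective _ Ideal.Quotient.mk_surjective)
    (algebraMap_isIntegral_iff.mpr inferInstance)

variable [IsLocalRing A] (M : MaximalSpectrum (CAlg2.normRed A))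

lemma nonempty_emb : Nonempty (Brnch.Emb A M) :=
  nonempty_gEmb (toNormRed A) toNormRed_isIntegral M.asIdeal

lemma subsingleton_emb_iff :
    Subsingleton (Brnch.Emb A M) ↔ ∀ x : CAlg2.normRed A ⧸ M.asIdeal, ∃ n : ℕ,
      x ^ (ringExpChar (CAlg2.normRed A ⧸ M.asIdeal)) ^ n ∈ (Brnch.toResidue A M).range :=
  subsingleton_gEmb_iff (toNormRed A) toNormRed_isIntegral M.asIdeal

theorem numGeomBranches_eq_one_iff :
    Brnch.numGeomBranches A = 1 ↔ CAlg2.IsGeomUnibranch A := by
  constructor
  · intro h1
    have hfin : (minimalPrimes A).Finite := by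
      by_contra hnf
      rw [numGeomBranches_of_not_finite hnf] at h1
      exact ENat.top_ne_one h1
    rw [numGeomBranches_of_finite hfin, ENat.card_eq_one_iff_unique] at h1
    obtain ⟨hu⟩ := h1
    have hMsub : ∀ M M' : MaximalSpectrum (CAlg2.normRed A), M = M' := by
      intro M M'
      obtain ⟨σ⟩ := nonempty_emb M
      obtain ⟨σ'⟩ := nonempty_emb M'
      have : (⟨M, σ⟩ : Σ M, Brnch.Emb A M) = ⟨M', σ'⟩ := (hu.uniq _).trans (hu.uniq _).symm
      exact (Sigma.mk.inj_iff.mp this).1
    have hEsub : ∀ M, Subsingleton (Brnch.Emb A M) := by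
      intro M
      constructor
      intro σ σ'
      have : (⟨M, σ⟩ : Σ M, Brnch.Emb A M) = ⟨M, σ'⟩ := (hu.uniq _).trans (hu.uniq _).symm
      exact eq_of_heq (Sigma.mk.inj_iff.mp this).2
    have hnb : Brnch.numBranches A = 1 := by
      rw [numBranches_of_finite hfin, ENat.card_eq_one_iff_unique]
      exact ⟨{ default := hu.default.1, uniq := fun M => hMsub _ _ }⟩
    refine ⟨numBranches_eq_one_iff.mp hnb, ?_⟩
    intro m' hm'
    exact (subsingleton_emb_iff ⟨m', hm'⟩).mp (hEsub _)
  · rintro ⟨hU, hP⟩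
    have hfin : (minimalPrimes A).Finite := by
      rw [minimalPrimes_eq_singleton_of_isDomain_red hU.1]
      exact Set.finite_singleton _
    rw [numGeomBranches_of_finite hfin, ENat.card_eq_one_iff_unique]
    haveI := hU.2
    let M₀ : MaximalSpectrum (CAlg2.normRed A) := default
    have hsub : ∀ M, Subsingleton (Brnch.Emb A M) := fun M =>
      (subsingleton_emb_iff M).mpr (@hP M.asIdeal M.isMaximal)
    obtain ⟨σ₀⟩ := nonempty_emb M₀
    refine ⟨{ default := ⟨M₀, σ₀⟩, uniq := ?_ }⟩
    rintro ⟨M, σ⟩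
    obtain rfl : M = M₀ := Subsingleton.elim _ _
    congr 1
    exact (hsub _).elim _ _

end Main

end Groth.Agent.Lib.Helper97.GeomUni
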