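import Groth.Agent.Lib.Helper97.NormProd
import Groth.Prelude.Def_Brnch
import Groth.Prelude.Def_EGA4b

/-!
# `CAlg2.normRed A` decomposes along the (finitely many) minimal primes of `A`
(helper97; for S9810/S9811/S9235/S9236)

* `normRedEquiv A h : CAlg2.normRed A ≃+* ∀ p : minimalPrimes A, CAlg2.normRed (A ⧸ p.1)`.
* `maxSpecCongr`, `maxSpecPiEquiv`: maximal spectrum of a finite product.
* `ENat.card_sigma_finite`.
-/

set_option autoImplicit false
set_option linter.unusedSectionVars false
set_option linter.style.haveILetI false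

namespace Groth.Agent.Lib.Helper97.NormRed

open Groth.Agent.Lib.Helper97.NormProd

universe u v

section General

/-- Maximal spectrum transported along a ring isomorphism. -/
def maxSpecCongr {R S : Type*} [CommRing R] [CommRing S] (e : R ≃+* S) :
    MaximalSpectrum R ≃ MaximalSpectrum S where
  toFun m := ⟨m.asIdeal.comap (e.symm : S →+* R),
    haveI := m.isMaximal
    Ideal.comap_isMaximal_of_surjective _ e.symm.surjective⟩
  invFun m := ⟨m.asIdeal.comap (e : R →+* S),
    haveI := m.isMaximal
    Ideal.comap_isMaximal_of_surjective _ e.surjective⟩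
  left_inv m := by
    apply MaximalSpectrum.ext
    ext x
    change e.symm (e x) ∈ m.asIdeal ↔ _
    rw [e.symm_apply_apply]
  right_inv m := by
    apply MaximalSpectrum.ext
    ext x
    change e (e.symm x) ∈ m.asIdeal ↔ _
    rw [e.apply_symm_apply]

lemma maxSpecCongr_apply_asIdeal {R S : Type*} [CommRing R] [CommRing S] (e : R ≃+* S)
    (m : MaximalSpectrum R) :
    (maxSpecCongr e m).asIdeal = m.asIdeal.comap (e.symm : S →+* R) := rfl

lemma maxSpecCongr_symm_apply_asIdeal {R S : Type*} [CommRing R] [CommRing S] (e : R ≃+* S)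
    (m : MaximalSpectrum S) :
    ((maxSpecCongr e).symm m).asIdeal = m.asIdeal.comap (e : R →+* S) := rfl

/-- The map from the disjoint union of the maximal spectra to the maximal spectrum of the
product. -/
def sigmaToPiMax {ι : Type*} (B : ι → Type*) [∀ i, CommRing (B i)] :
    (Σ i, MaximalSpectrum (B i)) → MaximalSpectrum (∀ i, B i) :=
  fun x => ⟨x.2.asIdeal.comap (Pi.evalRingHom B x.1),
    haveI := x.2.isMaximal
    Ideal.comap_isMaximal_of_surjective _ (Function.surjective_eval x.1)⟩

lemma sigmaToPiMax_asIdeal {ι : Type*} (B : ι → Type*) [∀ i, CommRing (B i)]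
    (x : Σ i, MaximalSpectrum (B i)) :
    (sigmaToPiMax B x).asIdeal = x.2.asIdeal.comap (Pi.evalRingHom B x.1) := rfl

lemma sigmaToPiMax_bijective {ι : Type*} [Finite ι] (B : ι → Type*) [∀ i, CommRing (B i)] :
    Function.Bijective (sigmaToPiMax B) := by
  constructor
  · rintro ⟨i, m⟩ ⟨j, n⟩ hmn
    have h1 : PrimeSpectrum.sigmaToPi B ⟨i, m.toPrimeSpectrum⟩ =
        PrimeSpectrum.sigmaToPi B ⟨j, n.toPrimeSpectrum⟩ := by
      apply PrimeSpectrum.ext
      have := congrArg MaximalSpectrum.asIdeal hmn
      exact this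
    have h2 := PrimeSpectrum.sigmaToPi_injective B h1
    obtain ⟨rfl, h3⟩ := Sigma.mk.inj_iff.mp h2
    have h4 : m.toPrimeSpectrum = n.toPrimeSpectrum := eq_of_heq h3
    have h5 : m = n := MaximalSpectrum.toPrimeSpectrum_injective h4
    rw [h5]
  · intro M
    obtain ⟨⟨i, p⟩, hp⟩ := (PrimeSpectrum.sigmaToPi_bijective B).2 M.toPrimeSpectrum
    have hp' : p.asIdeal.comap (Pi.evalRingHom B i) = M.asIdeal := by
      have := congrArg PrimeSpectrum.asIdeal hp
      exact this
    have hsurj : Function.Surjective (Pi.evalRingHom B i) := Function.surjective_eval i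
    have hmap : Ideal.map (Pi.evalRingHom B i) M.asIdeal = p.asIdeal := by
      rw [← hp', Ideal.map_comap_of_surjective _ hsurj]
    have hmax : p.asIdeal.IsMaximal := by
      rcases Ideal.map_eq_top_or_isMaximal_of_surjective _ hsurj M.isMaximal with h | h
      · exact absurd (hmap ▸ h) p.isPrime.ne_top
      · exact hmap ▸ h
    refine ⟨⟨i, ⟨p.asIdeal, hmax⟩⟩, ?_⟩
    apply MaximalSpectrum.ext
    exact hp'

/-- Maximal spectrum of a finite product. -/
noncomputable def maxSpecPiEquiv {ι : Type*} [Finite ι] (B : ι → Type*) [∀ i, CommRing (B i)] :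
    (Σ i, MaximalSpectrum (B i)) ≃ MaximalSpectrum (∀ i, B i) :=
  Equiv.ofBijective _ (sigmaToPiMax_bijective B)

/-- Maximal spectrum of a ring isomorphic to a finite product. -/
noncomputable def maxSpecEquivOfPi {R : Type*} [CommRing R] {ι : Type*} [Finite ι]
    {B : ι → Type*} [∀ i, CommRing (B i)] (e : R ≃+* ∀ i, B i) :
    MaximalSpectrum R ≃ Σ i, MaximalSpectrum (B i) :=
  (maxSpecCongr e).trans (maxSpecPiEquiv B).symm

lemma maxSpecEquivOfPi_symm_asIdeal {R : Type*} [CommRing R] {ι : Type*} [Finite ι]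
    {B : ι → Type*} [∀ i, CommRing (B i)] (e : R ≃+* ∀ i, B i)
    (x : Σ i, MaximalSpectrum (B i)) :
    ((maxSpecEquivOfPi e).symm x).asIdeal =
      x.2.asIdeal.comap ((Pi.evalRingHom B x.1).comp (e : R →+* ∀ i, B i)) := by
  change ((maxSpecCongr e).symm (maxSpecPiEquiv B x)).asIdeal = _
  rw [maxSpecCongr_symm_apply_asIdeal]
  change Ideal.comap _ (sigmaToPiMax B x).asIdeal = _
  rw [sigmaToPiMax_asIdeal, Ideal.comap_comap]

lemma maxSpecEquivOfPi_asIdeal {R : Type*} [CommRing R] {ι : Type*} [Finite ι]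
    {B : ι → Type*} [∀ i, CommRing (B i)] (e : R ≃+* ∀ i, B i) (M : MaximalSpectrum R) :
    M.asIdeal = ((maxSpecEquivOfPi e) M).2.asIdeal.comap
      ((Pi.evalRingHom B ((maxSpecEquivOfPi e) M).1).comp (e : R →+* ∀ i, B i)) := by
  rw [← maxSpecEquivOfPi_symm_asIdeal, Equiv.symm_apply_apply]

lemma ENat.card_sigma_finite {ι : Type*} [Finite ι] (X : ι → Type*) :
    ENat.card (Σ i, X i) = ∑ᶠ i, ENat.card (X i) := by
  classical
  cases nonempty_fintype ι
  rw [finsum_eq_sum_of_fintype]
  by_cases hfin : ∀ i, Finite (X i)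
  · rw [ENat.card_eq_coe_natCard, Nat.card_sigma]
    push_cast
    refine Finset.sum_congr rfl fun i _ => ?_
    rw [ENat.card_eq_coe_natCard]
  · push Not at hfin
    obtain ⟨i, hi⟩ := hfin
    have : Infinite (Σ i, X i) := Infinite.of_injective (Sigma.mk i) sigma_mk_injective
    rw [ENat.card_eq_top_of_infinite]
    symm
    apply le_antisymm le_top
    calc (⊤ : ℕ∞) = ENat.card (X i) := (ENat.card_eq_top_of_infinite).symm
      _ ≤ _ := Finset.single_le_sum (f := fun i => ENat.card (X i)) (fun _ _ => zero_le)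
        (Finset.mem_univ i)

end General

section Red

variable (A : Type u) [CommRing A]

instance isDomain_red_quot (p : Ideal A) [p.IsPrime] : IsDomain (CAlg2.red (A ⧸ p)) := by
  have h0 : nilradical (A ⧸ p) = ⊥ := by
    rw [nilradical_eq_zero, Ideal.zero_eq_bot]
  haveI : (nilradical (A ⧸ p)).IsPrime := by
    rw [h0]; exact Ideal.isPrime_bot
  exact Ideal.Quotient.isDomain _

/-- The projection `A_red → (A/p)_red`. -/
def redProj (p : Ideal A) : CAlg2.red A →+* CAlg2.red (A ⧸ p) :=
  Ideal.Quotient.lift (nilradical A)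
    ((Ideal.Quotient.mk (nilradical (A ⧸ p))).comp (Ideal.Quotient.mk p))
    (fun a ha => by
      rw [RingHom.comp_apply, Ideal.Quotient.eq_zero_iff_mem, mem_nilradical]
      exact (mem_nilradical.mp ha).map _)

lemma redProj_mk (p : Ideal A) (a : A) :
    redProj A p (Ideal.Quotient.mk _ a) =
      Ideal.Quotient.mk (nilradical (A ⧸ p)) (Ideal.Quotient.mk p a) := rfl

lemma redProj_surjective (p : Ideal A) : Function.Surjective (redProj A p) :=
  Ideal.Quotient.lift_surjective_of_surjective _ _
    (Ideal.Quotient.mk_surjective.comp Ideal.Quotient.mk_surjective)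

lemma redProj_mk_eq_zero_iff (p : Ideal A) [p.IsPrime] (a : A) :
    redProj A p (Ideal.Quotient.mk _ a) = 0 ↔ a ∈ p := by
  rw [redProj_mk, Ideal.Quotient.eq_zero_iff_mem, nilradical_eq_zero, Ideal.zero_eq_bot,
    Ideal.mem_bot, Ideal.Quotient.eq_zero_iff_mem]

variable {A}

lemma isPrime_of_mem_minimalPrimes (p : minimalPrimes A) : p.1.IsPrime := p.2.1.1

attribute [local instance] isPrime_of_mem_minimalPrimes

lemma sep_redProj (h : (minimalPrimes A).Finite) :
    Sep (fun p : minimalPrimes A => redProj A p.1) := by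
  classical
  refine ⟨fun p => redProj_surjective A p.1, ?_, ?_⟩
  · intro x hx
    obtain ⟨a, rfl⟩ := Ideal.Quotient.mk_surjective x
    rw [Ideal.Quotient.eq_zero_iff_mem]
    have : nilradical A = sInf (minimalPrimes A) := by
      rw [minimalPrimes, Ideal.sInf_minimalPrimes]; rfl
    rw [this, Ideal.mem_sInf]
    intro q hq
    haveI : q.IsPrime := hq.1.1
    exact (redProj_mk_eq_zero_iff A q a).mp (hx ⟨q, hq⟩)
  · have key : ∀ p : minimalPrimes A, ∃ a : A, (∀ q : minimalPrimes A, q ≠ p → a ∈ q.1) ∧
        a ∉ p.1 := by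
      intro p
      by_contra hcon
      push Not at hcon
      have hle : (h.toFinset.erase p.1).inf id ≤ p.1 := by
        intro a ha
        apply hcon a
        intro q hq
        have : (h.toFinset.erase p.1).inf id ≤ q.1 :=
          Finset.inf_le (f := id) (Finset.mem_erase.mpr
            ⟨fun hqp => hq (Subtype.ext hqp), h.mem_toFinset.mpr q.2⟩)
        exact this ha
      obtain ⟨q, hq, hqp⟩ := (Ideal.IsPrime.inf_le' (isPrime_of_mem_minimalPrimes p)).mp hle
      rw [Finset.mem_erase, h.mem_toFinset] at hq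
      have hq' : q.IsPrime := hq.2.1.1
      have : p.1 ≤ q := p.2.2 ⟨hq', bot_le⟩ hqp
      exact hq.1 (le_antisymm hqp this)
    choose t ht0 ht1 using key
    refine ⟨fun p => Ideal.Quotient.mk _ (t p), ?_, ?_⟩
    · intro p q hqp
      exact (redProj_mk_eq_zero_iff A q.1 _).mpr (ht0 p q hqp)
    · intro p hp
      exact ht1 p ((redProj_mk_eq_zero_iff A p.1 _).mp hp)

/-- `normRed A` is the product of the `normRed (A ⧸ p)` over the minimal primes `p` of `A`. -/
noncomputable def normRedEquiv (h : (minimalPrimes A).Finite) :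
    CAlg2.normRed A ≃+* ∀ p : minimalPrimes A, CAlg2.normRed (A ⧸ p.1) := by
  haveI : Finite (minimalPrimes A) := h.to_subtype
  exact (sep_redProj h).equiv (FractionRing (CAlg2.red A))
    (fun p : minimalPrimes A => FractionRing (CAlg2.red (A ⧸ p.1)))

lemma normRedEquiv_algebraMap (h : (minimalPrimes A).Finite) (r : CAlg2.red A)
    (p : minimalPrimes A) :
    normRedEquiv h (algebraMap (CAlg2.red A) (CAlg2.normRed A) r) p =
      algebraMap (CAlg2.red (A ⧸ p.1)) (CAlg2.normRed (A ⧸ p.1)) (redProj A p.1 r) := by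
  haveI : Finite (minimalPrimes A) := h.to_subtype
  exact (sep_redProj h).equiv_algebraMap (FractionRing (CAlg2.red A))
    (fun p : minimalPrimes A => FractionRing (CAlg2.red (A ⧸ p.1))) r p

/-- Maximal ideals of `normRed A` are pairs (minimal prime `p`, maximal ideal of
`normRed (A ⧸ p)`). -/
noncomputable def maxSpecNormRedEquiv (h : (minimalPrimes A).Finite) :
    MaximalSpectrum (CAlg2.normRed A) ≃
      Σ p : minimalPrimes A, MaximalSpectrum (CAlg2.normRed (A ⧸ p.1)) :=
  haveI : Finite (minimalPrimes A) := h.to_subtype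
  maxSpecEquivOfPi (B := fun p : minimalPrimes A => CAlg2.normRed (A ⧸ p.1)) (normRedEquiv h)

lemma numBranches_of_finite [IsLocalRing A] (h : (minimalPrimes A).Finite) :
    Brnch.numBranches A = ENat.card (MaximalSpectrum (CAlg2.normRed A)) := by
  unfold Brnch.numBranches
  rw [if_pos h]

lemma numBranches_of_not_finite [IsLocalRing A] (h : ¬ (minimalPrimes A).Finite) :
    Brnch.numBranches A = ⊤ := by
  unfold Brnch.numBranches
  rw [if_neg h]

lemma minimalPrimes_finite_of_isDomain (B : Type*) [CommRing B] [IsDomain B] :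
    (minimalPrimes B).Finite := by
  rw [IsDomain.minimalPrimes_eq_singleton_bot]
  exact Set.finite_singleton _

theorem numBranches_eq_finsum [IsLocalRing A] (h : (minimalPrimes A).Finite) :
    Brnch.numBranches A =
      ∑ᶠ p : minimalPrimes A, Brnch.numBranches (A ⧸ p.1) := by
  haveI : Finite (minimalPrimes A) := h.to_subtype
  rw [numBranches_of_finite h, ENat.card_congr (maxSpecNormRedEquiv h), ENat.card_sigma_finite]
  refine finsum_congr fun p => ?_
  exact (numBranches_of_finite (minimalPrimes_finite_of_isDomain _)).symm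

lemma nilradical_eq_sInf_minimalPrimes : nilradical A = sInf (minimalPrimes A) := by
  rw [minimalPrimes, Ideal.sInf_minimalPrimes]; rfl

lemma minimalPrimes_eq_singleton_of_isDomain_red (hd : IsDomain (CAlg2.red A)) :
    minimalPrimes A = {nilradical A} := by
  have hp : (nilradical A).IsPrime := (Ideal.Quotient.isDomain_iff_prime _).mp hd
  have h1 : minimalPrimes A = (nilradical A).minimalPrimes := by
    change (⊥ : Ideal A).minimalPrimes = ((0 : Ideal A).radical).minimalPrimes
    rw [Ideal.radical_minimalPrimes, Ideal.zero_eq_bot]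
  rw [h1, Ideal.minimalPrimes_eq_subsingleton_self]

instance nontrivial_normRed_quot (p : Ideal A) [p.IsPrime] :
    Nontrivial (CAlg2.normRed (A ⧸ p)) := inferInstance

theorem numBranches_eq_one_iff [IsLocalRing A] :
    Brnch.numBranches A = 1 ↔ CAlg2.IsUnibranch A := by
  constructor
  · intro h1
    have hfin : (minimalPrimes A).Finite := by
      by_contra hnf
      rw [numBranches_of_not_finite hnf] at h1
      exact ENat.top_ne_one h1
    rw [numBranches_of_finite hfin, ENat.card_eq_one_iff_unique] at h1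
    obtain ⟨hu⟩ := h1
    have hsub : ∀ p q : minimalPrimes A, p = q := by
      intro p q
      obtain ⟨m⟩ : Nonempty (MaximalSpectrum (CAlg2.normRed (A ⧸ p.1))) := inferInstance
      obtain ⟨n⟩ : Nonempty (MaximalSpectrum (CAlg2.normRed (A ⧸ q.1))) := inferInstance
      have h2 : (maxSpecNormRedEquiv hfin).symm ⟨p, m⟩ = (maxSpecNormRedEquiv hfin).symm ⟨q, n⟩ :=
        (hu.uniq _).trans (hu.uniq _).symm
      have h3 := (maxSpecNormRedEquiv hfin).symm.injective h2
      exact (Sigma.mk.inj_iff.mp h3).1
    obtain ⟨⟨p0, hp0⟩⟩ : Nonempty (minimalPrimes A) :=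
      Ideal.nonempty_minimalPrimes (R := A) (I := ⊥) bot_ne_top
    have hmin : minimalPrimes A = {p0} := by
      ext q
      constructor
      · intro hq
        exact congrArg Subtype.val (hsub ⟨q, hq⟩ ⟨p0, hp0⟩)
      · rintro rfl
        exact hp0
    have hnil : nilradical A = p0 := by
      rw [nilradical_eq_sInf_minimalPrimes, hmin, sInf_singleton]
    have hd : IsDomain (CAlg2.red A) :=
      (Ideal.Quotient.isDomain_iff_prime _).mpr (hnil ▸ hp0.1.1)
    refine ⟨hd, ?_⟩
    haveI : Subsingleton (MaximalSpectrum (CAlg2.normRed A)) := hu.instSubsingleton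
    haveI : Nonempty (MaximalSpectrum (CAlg2.normRed A)) := ⟨hu.default⟩
    exact IsLocalRing.of_singleton_maximalSpectrum
  · rintro ⟨hd, hl⟩
    have hfin : (minimalPrimes A).Finite := by
      rw [minimalPrimes_eq_singleton_of_isDomain_red hd]
      exact Set.finite_singleton _
    rw [numBranches_of_finite hfin, ENat.card_eq_one_iff_unique]
    exact ⟨inferInstance⟩

end Red

end Groth.Agent.Lib.Helper97.NormRed
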