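import Mathlib
import Groth.Prelude.Def_GrLC
import Groth.Agent.Lib.Helper97.AInvA
import Groth.Agent.Lib.Helper97.GrHtOne
import Groth.Agent.S13224
import Groth.Agent.S0318
import Groth.Agent.S14424

/-!
# `a(R/xR) = a(R) + deg x` for Cohen–Macaulay positively graded *local rings (helper97)
-/

set_option autoImplicit false
set_option linter.unusedSectionVars false
set_option linter.unusedVariables false
universe u

namespace Groth.Agent.Lib.Helper97.AInvD

open GrLC DirectSum Groth.Agent.Lib.Helper77.GLC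

/-- vanishing of the graded local cohomology of a CM positively graded *local ring below the
dimension -/
theorem HV_of_lt (R : Type u) [CommRing R] [LocCoh.IsCohenMacaulayRing R] (𝒜 : ℤ → AddSubgroup R)
    [GradedRing 𝒜] (hpos : ∀ n : ℤ, n < 0 → 𝒜 n = ⊥) (m : HomogeneousIdeal 𝒜)
    (hm : GrLC.IsStarLocal 𝒜 m) (n : ℕ) (hn : ringKrullDim R = n) (I : GrLC.StarInjRes 𝒜 𝒜) :
    ∀ i, i < n → ∀ g, HV I m.toIdeal i g := by
  have hmne : m.toIdeal ≠ ⊤ := (GrHtOne.isMaximal hpos m hm).ne_top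
  have hht : m.toIdeal.height = n := GrHtOne.height_eq hpos m hm n hn
  have hdepth : LocCoh.idealDepth m.toIdeal R = n := by
    rw [(Groth.Agent.S14424.result R).1 inferInstance m.toIdeal hmne, hht]
  have hsmul : m.toIdeal • (⊤ : Submodule R R) ≠ ⊤ := by
    rw [smul_eq_mul, Ideal.mul_top]
    exact hmne
  have hvan := ((Groth.Agent.S0318.result R m.toIdeal R hsmul n).1 hdepth).1
  intro i hi g
  rw [← Hcomp_eq_bot_iff]
  obtain ⟨e⟩ := Groth.Agent.S13224.result R 𝒜 m R 𝒜 I i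
  have h1 : Subsingleton (LocCoh.H m.toIdeal i R) := hvan i hi
  have h2 : Subsingleton (I.H m i) := e.toEquiv.subsingleton
  rw [eq_bot_iff]
  intro x _
  rw [Submodule.mem_bot]
  exact Subsingleton.elim _ _

theorem main (R : Type u) [CommRing R] [LocCoh.IsCohenMacaulayRing R] (𝒜 : ℤ → AddSubgroup R)
    [GradedRing 𝒜] (hpos : ∀ n : ℤ, n < 0 → 𝒜 n = ⊥) (m : HomogeneousIdeal 𝒜)
    (hm : GrLC.IsStarLocal 𝒜 m) (d : ℕ) (hd : ringKrullDim R = (d + 1 : ℕ))
    (I : GrLC.StarInjRes 𝒜 𝒜) (x : R) (k : ℤ) (hxk : x ∈ 𝒜 k) (hxm : x ∈ m.toIdeal)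
    (hx : IsSMulRegular R x) (N : Type u) [AddCommGroup N] [Module R N] (𝒩 : ℤ → AddSubgroup N)
    [DirectSum.Decomposition 𝒩] [SetLike.GradedSMul 𝒜 𝒩] (π : R →ₗ[R] N)
    (hπ : GrLC.IsGrHom 𝒜 𝒩 π) (hπs : Function.Surjective π)
    (hπk : LinearMap.ker π = Ideal.span {x}) (F : GrLC.StarInjRes 𝒜 𝒩) :
    GrLC.endDeg (F.Hgr m d) =
      GrLC.endDeg (I.Hgr m (d + 1)) + ((k : WithTop ℤ) : WithBot (WithTop ℤ)) := by
  have hA := HV_of_lt R 𝒜 hpos m hm (d + 1) hd I
  have he : 0 ≤ k ∨ Subsingleton R := by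
    by_cases hk : 0 ≤ k
    · exact Or.inl hk
    · right
      have hx0 : x = 0 := by
        have h1 := hpos k (by omega)
        rw [h1] at hxk
        exact AddSubgroup.mem_bot.1 hxk
      constructor
      intro a b
      apply hx
      change x • a = x • b
      rw [hx0, zero_smul, zero_smul]
  have hker : LinearMap.ker π = LinearMap.range (x • (LinearMap.id : R →ₗ[R] R)) := by
    rw [hπk]
    ext y
    rw [Ideal.mem_span_singleton', LinearMap.mem_range]
    constructor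
    · rintro ⟨r, rfl⟩
      exact ⟨r, by simp [mul_comm]⟩
    · rintro ⟨r, rfl⟩
      exact ⟨r, by simp [mul_comm]⟩
  exact AInvA.step m I F he hxk hxm hx π hπ hπs hker d (hA d (Nat.lt_succ_self d))

end Groth.Agent.Lib.Helper97.AInvD
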