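import Mathlib
import Groth.Prelude.Def_GrLC
import Groth.Agent.Lib.Helper77.GLC6
import Groth.Agent.Lib.Helper66.GradedSub
import Groth.Agent.Lib.Helper66.GradedQuot
import Groth.Agent.S13224
import Groth.Agent.S0325

/-!
# The nonvanishing degrees of the top graded local cohomology form a down-set (helper97)

For a Noetherian `ℤ`-graded ring `R` of dimension `≤ r` (`r ≥ 1`) whose graded ideal `m` is
generated by finitely many elements of degree one, `H^r_m(R)_{g-1} = 0` implies `H^r_m(R)_g = 0`.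
-/

set_option autoImplicit false
set_option linter.unusedSectionVars false
set_option linter.unusedVariables false
universe u

namespace Groth.Agent.Lib.Helper97.DownSet

open GrLC DirectSum Groth.Agent.Lib.Helper77.GLC

section

variable {R : Type u} [CommRing R] [IsNoetherianRing R] {𝒜 : ℤ → AddSubgroup R} [GradedRing 𝒜]

/-- Grothendieck vanishing above the dimension, graded form -/
theorem HV_of_dim_lt (a : HomogeneousIdeal 𝒜) (d : ℕ) (hd : ringKrullDim R ≤ d)
    {N : Type u} [AddCommGroup N] [Module R N] {𝒩 : ℤ → AddSubgroup N} [Decomposition 𝒩]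
    [SetLike.GradedSMul 𝒜 𝒩] (E : StarInjRes 𝒜 𝒩) (i : ℕ) (hi : d < i) (g : ℤ) :
    HV E a.toIdeal i g := by
  rw [← Hcomp_eq_bot_iff]
  obtain ⟨e⟩ := Groth.Agent.S13224.result R 𝒜 a N 𝒩 E i
  have h1 : Subsingleton (LocCoh.H a.toIdeal i N) :=
    Groth.Agent.S0325.result R a.toIdeal d hd N i hi
  have h2 : Subsingleton (E.H a i) := e.toEquiv.subsingleton
  rw [eq_bot_iff]
  intro x _
  rw [Submodule.mem_bot]
  exact Subsingleton.elim _ _

/-- a graded module covered by a finite free graded module: top cohomology vanishes where that of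
the shifted copies of `R` does -/
theorem HV_of_cover {n : ℕ} (dg : Fin n → ℤ) {W : Type u} [AddCommGroup W] [Module R W]
    {𝒲 : ℤ → AddSubgroup W} [Decomposition 𝒲] [SetLike.GradedSMul 𝒜 𝒲]
    (q : (Fin n → R) →ₗ[R] W) (hq : IsGrHom (fgr 𝒜 dg) 𝒲 q) (hqs : Function.Surjective q)
    (a : HomogeneousIdeal 𝒜) (r : ℕ) (hd : ringKrullDim R ≤ r)
    (E0 : StarInjRes 𝒜 𝒜) (EW : StarInjRes 𝒜 𝒲) (g : ℤ)
    (h : ∀ b, HV E0 a.toIdeal r (-dg b + g)) : HV EW a.toIdeal r g := by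
  have hK : (LinearMap.ker q).IsHomogeneous (fgr 𝒜 dg) :=
    Helper66.Graded.ker_isHomogeneous (fgr 𝒜 dg) 𝒲 q hq
  letI : Decomposition (Helper66.GradedSub.spiece (fgr 𝒜 dg) (LinearMap.ker q)) :=
    Helper66.GradedSub.subDecomposition (fgr 𝒜 dg) (LinearMap.ker q) hK
  letI : SetLike.GradedSMul 𝒜 (Helper66.GradedSub.spiece (fgr 𝒜 dg) (LinearMap.ker q)) :=
    Helper66.GradedSub.subGradedSMul 𝒜 (fgr 𝒜 dg) (LinearMap.ker q)
  have hS : GSES (Helper66.GradedSub.spiece (fgr 𝒜 dg) (LinearMap.ker q)) (fgr 𝒜 dg) 𝒲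
      (LinearMap.ker q).subtype q :=
    { f_gr := fun _ _ hx => hx
      p_gr := hq
      f_inj := Subtype.val_injective
      p_surj := hqs
      exact := by rw [Submodule.range_subtype] }
  obtain ⟨EK⟩ := exists_res (𝒜 := 𝒜) (LinearMap.ker q)
    (Helper66.GradedSub.spiece (fgr 𝒜 dg) (LinearMap.ker q))
  obtain ⟨EF⟩ := exists_res (𝒜 := 𝒜) (Fin n → R) (fgr 𝒜 dg)
  have hF : HV EF a.toIdeal r g :=
    HV_of_finite_decomp (fun b => Helper66.GradedShift.shiftGMod 𝒜 𝒜 (-dg b))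
      (fun b => shiftRes E0 (-dg b)) EF (finc 𝒜 dg) (finc_gr 𝒜 dg) (fprj 𝒜 dg) (fprj_gr 𝒜 dg)
      (sum_finc_fprj 𝒜 dg) (fun b => (HV_shiftRes_iff E0 (-dg b)).2 (h b))
  exact HV_right hS EK EF EW hF (HV_of_dim_lt a r hd EK (r + 1) (Nat.lt_succ_self r) g)

/-- a graded module `N` with a homogeneous submodule `P ⊇ aN` covered by a finite free graded
module: top cohomology of `N` vanishes where that of the shifted copies of `R` does -/
theorem HV_of_sub_cover {N : Type u} [AddCommGroup N] [Module R N] {𝒩 : ℤ → AddSubgroup N}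
    [Decomposition 𝒩] [SetLike.GradedSMul 𝒜 𝒩] (P : Submodule R N) (hP : P.IsHomogeneous 𝒩)
    (a : HomogeneousIdeal 𝒜) (htor : ∀ y : N, ∀ c ∈ a.toIdeal, c • y ∈ P) (r : ℕ) (hr : 0 < r)
    (hd : ringKrullDim R ≤ r) {n : ℕ} (dg : Fin n → ℤ) (q : (Fin n → R) →ₗ[R] N)
    (hq : IsGrHom (fgr 𝒜 dg) 𝒩 q) (hrange : LinearMap.range q = P)
    (E0 : StarInjRes 𝒜 𝒜) (EN : StarInjRes 𝒜 𝒩) (g : ℤ)
    (h : ∀ b, HV E0 a.toIdeal r (-dg b + g)) : HV EN a.toIdeal r g := by
  letI : Decomposition (Helper66.GradedSub.spiece 𝒩 P) :=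
    Helper66.GradedSub.subDecomposition 𝒩 P hP
  letI : SetLike.GradedSMul 𝒜 (Helper66.GradedSub.spiece 𝒩 P) :=
    Helper66.GradedSub.subGradedSMul 𝒜 𝒩 P
  letI : Decomposition (Helper66.GradedQuot.qpiece 𝒩 P) :=
    Helper66.GradedQuot.quotDecomposition 𝒩 P hP
  letI : SetLike.GradedSMul 𝒜 (Helper66.GradedQuot.qpiece 𝒩 P) :=
    Helper66.GradedQuot.quotGradedSMul 𝒜 𝒩 P
  have hS : GSES (Helper66.GradedSub.spiece 𝒩 P) 𝒩 (Helper66.GradedQuot.qpiece 𝒩 P)
      P.subtype P.mkQ :=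
    { f_gr := fun _ _ hx => hx
      p_gr := Helper66.GradedQuot.mkQ_grHom 𝒩 P
      f_inj := Subtype.val_injective
      p_surj := Submodule.mkQ_surjective P
      exact := by rw [Submodule.ker_mkQ, Submodule.range_subtype] }
  obtain ⟨EP⟩ := exists_res (𝒜 := 𝒜) P (Helper66.GradedSub.spiece 𝒩 P)
  obtain ⟨EQ⟩ := exists_res (𝒜 := 𝒜) (N ⧸ P) (Helper66.GradedQuot.qpiece 𝒩 P)
  have hQ : HV EQ a.toIdeal r g := by
    refine HV_of_torsion EQ a (fun y => ⟨1, fun c hc => ?_⟩) r hr g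
    rw [pow_one] at hc
    obtain ⟨y, rfl⟩ := Submodule.mkQ_surjective P y
    rw [← map_smul, Submodule.mkQ_apply, Submodule.Quotient.mk_eq_zero]
    exact htor y c hc
  have hqP : ∀ v, q v ∈ P := fun v => hrange ▸ LinearMap.mem_range_self q v
  let q' : (Fin n → R) →ₗ[R] P := q.codRestrict P hqP
  have hq' : IsGrHom (fgr 𝒜 dg) (Helper66.GradedSub.spiece 𝒩 P) q' := fun g v hv => hq g v hv
  have hq's : Function.Surjective q' := by
    rintro ⟨y, hy⟩
    rw [← hrange] at hy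
    obtain ⟨v, rfl⟩ := hy
    exact ⟨v, rfl⟩
  have hPv : HV EP a.toIdeal r g := HV_of_cover dg q' hq' hq's a r hd E0 EP g h
  exact HV_mid hS EP EN EQ hPv hQ

end

theorem main (R : Type u) [CommRing R] [IsNoetherianRing R] (𝒜 : ℤ → AddSubgroup R) [GradedRing 𝒜]
    (m : HomogeneousIdeal 𝒜)
    (hmsp : m.toIdeal = Ideal.span (⋃ n ∈ Set.Ioi (0 : ℤ), (𝒜 n : Set R)))
    (hstd : Ideal.span (⋃ n ∈ Set.Ioi (0 : ℤ), (𝒜 n : Set R)) =
      Ideal.span ((𝒜 1 : AddSubgroup R) : Set R))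
    (r : ℕ) (hr : ringKrullDim R = r) (h1 : 1 ≤ r) (I : GrLC.StarInjRes 𝒜 𝒜) (a : ℤ)
    (ha : GrLC.endDeg (I.Hgr m r) = ((a : WithTop ℤ) : WithBot (WithTop ℤ))) (n : ℤ)
    (hn : n ≤ a) : I.Hcomp m r n ≠ ⊥ := by
  classical
  intro hbot
  have h0 : HV I m.toIdeal r n := (Hcomp_eq_bot_iff I m r n).1 hbot
  have hfg : (Submodule.span R ((𝒜 1 : AddSubgroup R) : Set R)).FG :=
    IsNoetherian.noetherian _
  obtain ⟨t, ht1, ht2⟩ := (Submodule.fg_span_iff_fg_span_finset_subset _).1 hfg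
  let x : Fin t.card → R := fun b => ((t.equivFin.symm b : t) : R)
  have hx : ∀ b, x b ∈ 𝒜 1 := fun b => ht1 (t.equivFin.symm b).2
  have hrange : Set.range x = (t : Set R) := by
    ext y
    constructor
    · rintro ⟨b, rfl⟩
      exact (t.equivFin.symm b).2
    · intro hy
      refine ⟨t.equivFin ⟨y, hy⟩, ?_⟩
      change ((t.equivFin.symm (t.equivFin ⟨y, hy⟩) : t) : R) = y
      rw [Equiv.symm_apply_apply]
  have hspan : m.toIdeal = Ideal.span (Set.range x) := by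
    rw [hmsp, hstd, hrange]
    exact ht2
  let q : (Fin t.card → R) →ₗ[R] R := Fintype.linearCombination R x
  have hq : IsGrHom (fgr 𝒜 (fun _ : Fin t.card => (1 : ℤ))) 𝒜 q := by
    intro g v hv
    change Fintype.linearCombination R x v ∈ 𝒜 g
    rw [Fintype.linearCombination_apply]
    refine sum_mem (fun b _ => ?_)
    have h2 := SetLike.GradedMul.mul_mem (A := 𝒜) (hv b) (hx b)
    rw [sub_add_cancel] at h2
    exact h2
  have hqr : LinearMap.range q = (m.toIdeal : Submodule R R) := by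
    rw [hspan]
    exact Fintype.range_linearCombination R x
  have hstep : ∀ g, HV I m.toIdeal r (-1 + g) → HV I m.toIdeal r g := fun g hg =>
    HV_of_sub_cover (m.toIdeal : Submodule R R) m.isHomogeneous m
      (fun y c hc => Ideal.mul_mem_right y _ hc) r h1 hr.le (fun _ => 1) q hq hqr I I g
      (fun _ => hg)
  have hall : ∀ g, n ≤ g → HV I m.toIdeal r g := by
    intro g hg
    induction g, hg using Int.le_induction with
    | base => exact h0
    | succ g hg ih =>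
      apply hstep (g + 1)
      have h5 : -1 + (g + 1) = g := by ring
      rw [h5]
      exact ih
  have hle : endDeg (I.Hgr m r) ≤ (((n - 1 : ℤ) : WithTop ℤ) : WithBot (WithTop ℤ)) := by
    rw [endDeg_le_iff]
    intro g hg
    rw [Hgr_eq_bot_iff]
    exact hall g (by omega)
  rw [ha] at hle
  have h3 : a ≤ n - 1 := by exact_mod_cast hle
  omega

end Groth.Agent.Lib.Helper97.DownSet
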