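import Mathlib
import Groth.Prelude.Def_GrLC
import Groth.Agent.Lib.Helper97.AInvD
import Groth.Agent.Lib.Helper97.DownSet
import Groth.Agent.S13238

/-!
# `a(R) ≥ -dim R` for Cohen–Macaulay standard graded *local rings with Artinian `R_0` (helper97)
-/

set_option autoImplicit false
set_option linter.unusedSectionVars false
set_option linter.unusedVariables false
universe u

namespace Groth.Agent.Lib.Helper97.RegLower

open GrLC DirectSum Groth.Agent.Lib.Helper77.GLC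

section gam

variable {R : Type u} [CommRing R] [IsNoetherianRing R]

theorem gam_le_of_le_radical {a b : Ideal R} (h : a ≤ b.radical) (M : Type u) [AddCommGroup M]
    [Module R M] : gam b M ≤ gam a M := by
  obtain ⟨N, hN⟩ := Ideal.exists_pow_le_of_le_radical_of_fg h (IsNoetherian.noetherian a)
  rintro x ⟨n, hn⟩
  refine ⟨N * n, fun r hr => hn r ?_⟩
  have h1 : a ^ (N * n) ≤ b ^ n := by
    rw [pow_mul]
    exact Ideal.pow_right_mono hN n
  exact h1 hr

variable {𝒜 : ℤ → AddSubgroup R} [GradedRing 𝒜]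
variable {M : Type u} [AddCommGroup M] [Module R M] {ℳ : ℤ → AddSubgroup M} [Decomposition ℳ]
  [SetLike.GradedSMul 𝒜 ℳ]

theorem HV_congr {a b : Ideal R}
    (h : ∀ (X : Type u) [AddCommGroup X] [Module R X], gam a X = gam b X)
    (E : StarInjRes 𝒜 ℳ) (i : ℕ) (g : ℤ) (hv : HV E a i g) : HV E b i g := by
  intro z hz hdz
  have hz' : Gm E a i g z := ⟨by rw [h]; exact hz.1, hz.2⟩
  have h1 := hv z hz' hdz
  cases i with
  | zero => exact h1
  | succ i =>
    obtain ⟨y, hy, hyz⟩ := h1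
    exact ⟨y, ⟨by rw [← h]; exact hy.1, hy.2⟩, hyz⟩

end gam

section nil

variable {R : Type u} [CommRing R] [IsNoetherianRing R] {𝒜 : ℤ → AddSubgroup R} [GradedRing 𝒜]

theorem nilpotent_of_mem [IsArtinianRing (GrLC.deg0 𝒜)] (m : HomogeneousIdeal 𝒜)
    (hm : GrLC.IsStarLocal 𝒜 m) {y : R} (hym : y ∈ m.toIdeal) (hy0 : y ∈ 𝒜 0) :
    IsNilpotent y := by
  obtain ⟨n, z, hz⟩ := IsArtinian.exists_pow_succ_smul_dvd (⟨y, hy0⟩ : GrLC.deg0 𝒜)
    (1 : GrLC.deg0 𝒜)
  have hz' : y ^ (n + 1) * (z : R) = y ^ n := by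
    have h1 := congrArg (Subtype.val) hz
    simpa [smul_eq_mul] using h1
  have hz0 : (z : R) ∈ 𝒜 0 := z.2
  have hu0 : (1 - y * (z : R)) ∈ 𝒜 0 := by
    refine sub_mem SetLike.GradedOne.one_mem ?_
    have h1 := SetLike.GradedMul.mul_mem (A := 𝒜) hy0 hz0
    rwa [add_zero] at h1
  have hyu : y ^ n * (1 - y * (z : R)) = 0 := by
    have h5 : y ^ n * (1 - y * (z : R)) = y ^ n - y ^ (n + 1) * (z : R) := by ring
    rw [h5, hz', sub_self]
  have hK : (Ideal.span {1 - y * (z : R)}).IsHomogeneous 𝒜 := by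
    apply Ideal.homogeneous_span
    intro w hw
    rw [Set.mem_singleton_iff.1 hw]
    exact ⟨0, hu0⟩
  obtain ⟨K, hKdef⟩ : ∃ K : HomogeneousIdeal 𝒜, K.toIdeal = Ideal.span {1 - y * (z : R)} :=
    ⟨⟨_, hK⟩, rfl⟩
  have hKtop : K = ⊤ := by
    by_contra hne
    have h1 := GrHtOne.le_of_ne_top m hm K hne
    have h2 : (1 - y * (z : R)) ∈ m.toIdeal := by
      apply h1
      change _ ∈ K.toIdeal
      rw [hKdef]
      exact Ideal.subset_span rfl
    have h3 : (1 : R) ∈ m.toIdeal := by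
      have h4 := m.toIdeal.add_mem h2 (m.toIdeal.mul_mem_right (z : R) hym)
      rwa [sub_add_cancel] at h4
    apply hm.1.1
    apply HomogeneousIdeal.toIdeal_injective
    rw [HomogeneousIdeal.toIdeal_top]
    exact (Ideal.eq_top_iff_one _).2 h3
  have h1 : (1 : R) ∈ Ideal.span {1 - y * (z : R)} := by
    rw [← hKdef, hKtop, HomogeneousIdeal.toIdeal_top]
    trivial
  obtain ⟨v, hv⟩ := Ideal.mem_span_singleton'.1 h1
  refine ⟨n, ?_⟩
  calc y ^ n = y ^ n * (v * (1 - y * (z : R))) := by rw [hv, mul_one]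
    _ = v * (y ^ n * (1 - y * (z : R))) := by ring
    _ = 0 := by rw [hyu, mul_zero]

end nil

theorem main (R : Type u) [CommRing R] [LocCoh.IsCohenMacaulayRing R] (𝒜 : ℤ → AddSubgroup R)
    [GradedRing 𝒜] (hpos : ∀ n : ℤ, n < 0 → 𝒜 n = ⊥)
    (hstd : Ideal.span (⋃ n ∈ Set.Ioi (0 : ℤ), (𝒜 n : Set R)) =
      Ideal.span ((𝒜 1 : AddSubgroup R) : Set R))
    [IsArtinianRing (GrLC.deg0 𝒜)] (m : HomogeneousIdeal 𝒜) (hm : GrLC.IsStarLocal 𝒜 m) (d : ℕ)
    (hd : ringKrullDim R = d) (I : GrLC.StarInjRes 𝒜 𝒜) :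
    (((-(d : ℤ) : ℤ) : WithTop ℤ) : WithBot (WithTop ℤ)) ≤ GrLC.endDeg (I.Hgr m d) := by
  classical
  by_contra hcon
  have hmne : m.toIdeal ≠ ⊤ := (GrHtOne.isMaximal hpos m hm).ne_top
  have hnt : Nontrivial R :=
    ⟨⟨0, 1, fun h => hmne ((Ideal.eq_top_iff_one _).2 (h ▸ zero_mem _))⟩⟩
  have hvd : ∀ g : ℤ, -(d : ℤ) ≤ g → HV I m.toIdeal d g := by
    intro g hg
    rw [← Hgr_eq_bot_iff]
    by_contra hne
    apply hcon
    have h1 : (((g : ℤ) : WithTop ℤ) : WithBot (WithTop ℤ)) ≤ endDeg (I.Hgr m d) := by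
      unfold GrLC.endDeg
      exact le_iSup₂ (f := fun (n : ℤ) (_ : I.Hgr m d n ≠ ⊥) =>
        ((n : WithTop ℤ) : WithBot (WithTop ℤ))) g hne
    refine le_trans ?_ h1
    exact_mod_cast hg
  have hlow := AInvD.HV_of_lt R 𝒜 hpos m hm d hd I
  obtain ⟨a, ha⟩ : ∃ a : HomogeneousIdeal 𝒜,
      a.toIdeal = Ideal.span (⋃ n ∈ Set.Ioi (0 : ℤ), (𝒜 n : Set R)) :=
    ⟨⟨_, GrHtOne.span_posSet_hom⟩, rfl⟩
  have hale : a.toIdeal ≤ m.toIdeal := by
    rw [ha]
    exact GrHtOne.span_posSet_le hpos m hm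
  have hmrad : m.toIdeal ≤ a.toIdeal.radical := by
    intro x hx
    have hx0 : (decompose 𝒜 x 0 : R) ∈ m.toIdeal := m.isHomogeneous 0 hx
    have h1 : x - (decompose 𝒜 x 0 : R) ∈ a.toIdeal := by
      rw [ha]
      exact AInvB.sub_decompose_zero_mem hpos x
    have hnil : IsNilpotent (decompose 𝒜 x 0 : R) :=
      nilpotent_of_mem m hm hx0 (SetLike.coe_mem _)
    have h2 : (decompose 𝒜 x 0 : R) ∈ a.toIdeal.radical := by
      obtain ⟨n, hn⟩ := hnil
      exact ⟨n, by rw [hn]; exact zero_mem _⟩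
    have h3 := a.toIdeal.radical.add_mem h2 (Ideal.le_radical h1)
    rwa [add_sub_cancel] at h3
  have hgam : ∀ (X : Type u) [AddCommGroup X] [Module R X],
      gam m.toIdeal X = gam a.toIdeal X := fun X _ _ =>
    le_antisymm (gam_le_of_le_radical (hale.trans Ideal.le_radical) X)
      (gam_le_of_le_radical hmrad X)
  have hall : ∀ i : ℕ, ∀ g : ℤ, 0 ≤ g + i → HV I a.toIdeal i g := by
    intro i g hg
    apply HV_congr hgam
    rcases lt_trichotomy i d with h | h | h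
    · exact hlow i h g
    · subst h
      exact hvd g (by omega)
    · exact DownSet.HV_of_dim_lt m d hd.le I i h g
  have hreg : (⨆ i : ℕ, GrLC.endDeg (I.Hgr a i) +
      (((i : ℤ) : WithTop ℤ) : WithBot (WithTop ℤ))) ≤
      (((-1 : ℤ) : WithTop ℤ) : WithBot (WithTop ℤ)) := by
    apply iSup_le
    intro i
    rw [endDeg_Hgr_add_le_iff]
    intro g hg
    exact hall i g (by omega)
  have hS := Groth.Agent.S13238.result R 𝒜 hpos a ha (ha.trans hstd) R 𝒜 I
  have hbot : Submodule.span R (⋃ (n : ℤ) (_ : ((n : WithTop ℤ) : WithBot (WithTop ℤ)) ≤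
      ⨆ i : ℕ, GrLC.endDeg (I.Hgr a i) + ((i : ℤ) : WithTop ℤ)), (𝒜 n : Set R)) = ⊥ := by
    rw [Submodule.span_eq_bot]
    intro x hx
    simp only [Set.mem_iUnion] at hx
    obtain ⟨n, hn, hxn⟩ := hx
    have hn' : n ≤ -1 := by
      have h1 := hn.trans hreg
      exact_mod_cast h1
    exact AInvB.eq_zero_of_neg hpos (by omega) hxn
  rw [hbot] at hS
  exact bot_ne_top hS

end Groth.Agent.Lib.Helper97.RegLower
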