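import Mathlib
import Groth.Prelude.Def_GrLC
import Groth.Agent.Lib.Helper97.AInvA
import Groth.Agent.Lib.Helper97.AInvB
import Groth.Agent.Lib.Helper97.AInvD
import Groth.Agent.Lib.Helper97.GrHtOne
import Groth.Agent.Lib.Helper97.RegLower
import Groth.Agent.Lib.Helper66.GradedCoh
import Groth.Agent.Lib.Helper66.GradedQuot

/-!
# Auxiliary lemmas for `a(R) = -d ⇒ R` polynomial (helper97)

* the degree-zero part of a positively graded *local ring is local, with the same residue field;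
* `gam_eq_bot_of_HV`: `H^0_a(Q) = 0` in all degrees means `Γ_a(Q) = 0`;
* `regular_of_filter`: a filter-regular element is regular when `Γ_a = 0`;
* `main_list`: list version of `AInvA.main` for elements of degree one.
-/

set_option autoImplicit false
set_option linter.unusedSectionVars false
set_option linter.unusedVariables false
set_option linter.style.haveILetI false
universe u

namespace Groth.Agent.Lib.Helper97.PolyA

open GrLC DirectSum IsLocalRing Groth.Agent.Lib.Helper77.GLC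

section loc

variable {R : Type u} [CommRing R] [IsNoetherianRing R] {𝒜 : ℤ → AddSubgroup R} [GradedRing 𝒜]

theorem isUnit_deg0_of_notMem (m : HomogeneousIdeal 𝒜) (hm : GrLC.IsStarLocal 𝒜 m)
    (x : GrLC.deg0 𝒜) (hx : (x : R) ∉ m.toIdeal) : IsUnit x := by
  have hK : (Ideal.span {(x : R)}).IsHomogeneous 𝒜 := by
    apply Ideal.homogeneous_span
    intro w hw
    rw [Set.mem_singleton_iff.1 hw]
    exact ⟨0, x.2⟩
  obtain ⟨K, hKdef⟩ : ∃ K : HomogeneousIdeal 𝒜, K.toIdeal = Ideal.span {(x : R)} :=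
    ⟨⟨_, hK⟩, rfl⟩
  have hKtop : K = ⊤ := by
    by_contra hne
    apply hx
    apply GrHtOne.le_of_ne_top m hm K hne
    change _ ∈ K.toIdeal
    rw [hKdef]
    exact Ideal.subset_span rfl
  have h1 : (1 : R) ∈ Ideal.span {(x : R)} := by
    rw [← hKdef, hKtop, HomogeneousIdeal.toIdeal_top]
    trivial
  obtain ⟨v, hv⟩ := Ideal.mem_span_singleton'.1 h1
  have h2 := DirectSum.coe_decompose_mul_add_of_right_mem 𝒜 (i := 0) (j := 0) (a := v)
    (show (x : R) ∈ 𝒜 0 from x.2)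
  rw [zero_add, hv, DirectSum.decompose_of_mem_same 𝒜 SetLike.GradedOne.one_mem] at h2
  refine IsUnit.of_mul_eq_one ⟨(decompose 𝒜 v 0 : R), SetLike.coe_mem _⟩ ?_
  apply Subtype.ext
  change (x : R) * (decompose 𝒜 v 0 : R) = 1
  rw [mul_comm, ← h2]

variable (hpos : ∀ n : ℤ, n < 0 → 𝒜 n = ⊥)

include hpos

theorem one_notMem (m : HomogeneousIdeal 𝒜) (hm : GrLC.IsStarLocal 𝒜 m) :
    (1 : R) ∉ m.toIdeal := fun h =>
  (GrHtOne.isMaximal hpos m hm).ne_top ((Ideal.eq_top_iff_one _).2 h)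

theorem isLocalRing_deg0 (m : HomogeneousIdeal 𝒜) (hm : GrLC.IsStarLocal 𝒜 m) :
    IsLocalRing (GrLC.deg0 𝒜) := by
  have h1 := one_notMem hpos m hm
  have hnt : Nontrivial (GrLC.deg0 𝒜) := by
    refine ⟨⟨0, 1, fun h => h1 ?_⟩⟩
    have h2 := congrArg Subtype.val h
    change (0 : R) = 1 at h2
    rw [← h2]
    exact zero_mem _
  apply IsLocalRing.of_nonunits_add
  intro x y hx hy hu
  have hxm : (x : R) ∈ m.toIdeal := by
    by_contra h
    exact hx (isUnit_deg0_of_notMem m hm x h)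
  have hym : (y : R) ∈ m.toIdeal := by
    by_contra h
    exact hy (isUnit_deg0_of_notMem m hm y h)
  obtain ⟨w, hw⟩ := hu.exists_right_inv
  apply h1
  have h2 := congrArg Subtype.val hw
  change ((x : R) + (y : R)) * (w : R) = 1 at h2
  rw [← h2]
  exact m.toIdeal.mul_mem_right _ (m.toIdeal.add_mem hxm hym)

theorem mem_maximalIdeal_iff [IsLocalRing (GrLC.deg0 𝒜)] (m : HomogeneousIdeal 𝒜)
    (hm : GrLC.IsStarLocal 𝒜 m) (x : GrLC.deg0 𝒜) :
    x ∈ maximalIdeal (GrLC.deg0 𝒜) ↔ (x : R) ∈ m.toIdeal := by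
  rw [IsLocalRing.mem_maximalIdeal, mem_nonunits_iff]
  constructor
  · intro hx
    by_contra h
    exact hx (isUnit_deg0_of_notMem m hm x h)
  · intro hx hu
    obtain ⟨w, hw⟩ := hu.exists_right_inv
    apply one_notMem hpos m hm
    have h2 := congrArg Subtype.val hw
    change (x : R) * (w : R) = 1 at h2
    rw [← h2]
    exact m.toIdeal.mul_mem_right _ hx

theorem infinite_residue [IsLocalRing (GrLC.deg0 𝒜)] (m : HomogeneousIdeal 𝒜)
    (hm : GrLC.IsStarLocal 𝒜 m) (hinf : Infinite (R ⧸ m.toIdeal)) :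
    Infinite (IsLocalRing.ResidueField (GrLC.deg0 𝒜)) := by
  let φ : GrLC.deg0 𝒜 →+* R ⧸ m.toIdeal :=
    (Ideal.Quotient.mk m.toIdeal).comp (GrLC.deg0 𝒜).subtype
  have hφ : Function.Surjective φ := by
    intro y
    obtain ⟨r, rfl⟩ := Ideal.Quotient.mk_surjective y
    refine ⟨⟨(decompose 𝒜 r 0 : R), SetLike.coe_mem _⟩, ?_⟩
    change Ideal.Quotient.mk m.toIdeal (decompose 𝒜 r 0 : R) = Ideal.Quotient.mk m.toIdeal r
    apply Ideal.Quotient.eq.2
    have h1 := AInvB.sub_decompose_zero_mem hpos r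
    have h2 := GrHtOne.span_posSet_le hpos m hm h1
    rw [← neg_sub]
    exact neg_mem h2
  have hker : ∀ x ∈ maximalIdeal (GrLC.deg0 𝒜), φ x = 0 := by
    intro x hx
    change Ideal.Quotient.mk m.toIdeal (x : R) = 0
    exact Ideal.Quotient.eq_zero_iff_mem.2 ((mem_maximalIdeal_iff hpos m hm x).1 hx)
  let ψ : (GrLC.deg0 𝒜 ⧸ maximalIdeal (GrLC.deg0 𝒜)) →+* R ⧸ m.toIdeal :=
    Ideal.Quotient.lift _ φ hker
  have hψ : Function.Surjective ψ := Ideal.Quotient.lift_surjective_of_surjective _ hker hφ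
  exact Infinite.of_surjective ψ hψ

end loc

section aux

variable {R : Type u} [CommRing R] [IsNoetherianRing R] {𝒜 : ℤ → AddSubgroup R} [GradedRing 𝒜]

theorem gam_eq_bot_of_HV {Q : Type u} [AddCommGroup Q] [Module R Q] {𝒬 : ℤ → AddSubgroup Q}
    [Decomposition 𝒬] [SetLike.GradedSMul 𝒜 𝒬] (EQ : StarInjRes 𝒜 𝒬) (a : HomogeneousIdeal 𝒜)
    (h : ∀ g, HV EQ a.toIdeal 0 g) : GrLC.gam a.toIdeal Q = ⊥ := by
  classical
  rw [eq_bot_iff]
  intro q hq
  rw [Submodule.mem_bot, ← DirectSum.sum_support_decompose 𝒬 q]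
  refine Finset.sum_eq_zero fun g _ => ?_
  exact (HV_zero_iff EQ a.toIdeal g).1 (h g) _ (SetLike.coe_mem _)
    (Groth.Agent.Lib.Helper66.GradedCoh.gam_isHomogeneous 𝒜 𝒬 a g hq)

theorem regular_of_filter {M : Type u} [AddCommGroup M] [Module R M] (a : Ideal R) (x : R)
    (hfr : ∀ P ∈ associatedPrimes R M, ¬ a ≤ P → x ∉ P)
    (hM : ∀ q : M, (∀ r ∈ a, r • q = 0) → q = 0) : IsSMulRegular M x := by
  by_contra h
  have hx : x ∈ {r : R | IsSMulRegular M r}ᶜ := h
  rw [← biUnion_associatedPrimes_eq_compl_regular R M] at hx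
  obtain ⟨P, hP, hxP⟩ := Set.mem_iUnion₂.1 hx
  have haP : a ≤ P := by
    by_contra hh
    exact hfr P hP hh hxP
  obtain ⟨hprime, q, hq⟩ := (isAssociatedPrime_iff).1 hP
  have hq0 : q = 0 := hM q fun r hr => by
    have h1 : r ∈ P := haP hr
    rw [hq, Submodule.mem_colon_singleton] at h1
    exact (Submodule.mem_bot R).1 h1
  apply hprime.ne_top
  rw [hq, hq0, Ideal.eq_top_iff_one, Submodule.mem_colon_singleton, smul_zero]
  exact Submodule.zero_mem _

variable (hneg : ∀ n : ℤ, n < 0 → 𝒜 n = ⊥) (a : HomogeneousIdeal 𝒜)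

include hneg in
theorem main_list (N : Type u) [AddCommGroup N] [Module R N] (𝒩 : ℤ → AddSubgroup N)
    [Decomposition 𝒩] [SetLike.GradedSMul 𝒜 𝒩]
    (Q : Type u) [AddCommGroup Q] [Module R Q] (𝒬 : ℤ → AddSubgroup Q) [Decomposition 𝒬]
    [SetLike.GradedSMul 𝒜 𝒬] (EN : StarInjRes 𝒜 𝒩) (EQ : StarInjRes 𝒜 𝒬)
    (l : List R) (hdeg : ∀ x ∈ l, x ∈ 𝒜 1) (hla : ∀ x ∈ l, x ∈ a.toIdeal)
    (hreg : RingTheory.Sequence.IsWeaklyRegular N l)
    (π : N →ₗ[R] Q) (hπ : IsGrHom 𝒩 𝒬 π) (hπs : Function.Surjective π)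
    (hker : LinearMap.ker π = Ideal.ofList l • (⊤ : Submodule R N))
    (c : ℕ) (hA : ∀ i, i < c + l.length → ∀ g, HV EN a.toIdeal i g) :
    (∀ i, i < c → ∀ g, HV EQ a.toIdeal i g) ∧
      endDeg (EQ.Hgr a c) = endDeg (EN.Hgr a (c + l.length)) +
        ((((l.length : ℕ) : ℤ) : WithTop ℤ) : WithBot (WithTop ℤ)) := by
  have hrange : Set.range l.get = {x | x ∈ l} := Set.range_list_get l
  have h := AInvA.main hneg a l.length N 𝒩 Q 𝒬 EN EQ l.get (fun _ => 1)
    (fun i => hdeg _ (List.get_mem l i)) (fun i => hla _ (List.get_mem l i))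
    (by rw [List.ofFn_get]; exact hreg) π hπ hπs
    (by rw [hker, hrange, Ideal.ofList]) c hA
  refine ⟨h.1, ?_⟩
  rw [h.2]
  congr 3
  simp

end aux

end Groth.Agent.Lib.Helper97.PolyA
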