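import Mathlib
import Groth.Prelude.Def_GrLC
import Groth.Agent.Lib.Helper77.GLC19

/-!
# Strand cohomology modules of graded local cohomology (helper97)

For a *injective resolution `E` of a graded module, an ideal `a`, a cohomological degree `i` and
an internal degree `g`, the module `Hs E a i g` over the degree-zero subring is the degree-`g`
strand cohomology `Γ_a(E^•)_g`; it is isomorphic to the prelude's `E.Hcomp a i g`.  We develop
induced maps, independence of the resolution, and compatibility with shifts, for use in length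
computations.
-/

set_option autoImplicit false
set_option linter.unusedSectionVars false
set_option linter.unusedVariables false
universe u

namespace Groth.Agent.Lib.Helper97.SG

open GrLC DirectSum Groth.Agent.Lib.Helper77.GLC

variable {R : Type u} [CommRing R] {𝒜 : ℤ → AddSubgroup R} [GradedRing 𝒜]
variable {M : Type u} [AddCommGroup M] [Module R M] {ℳ : ℤ → AddSubgroup M} [Decomposition ℳ]
  [SetLike.GradedSMul 𝒜 ℳ]
variable {N : Type u} [AddCommGroup N] [Module R N] {𝒩 : ℤ → AddSubgroup N} [Decomposition 𝒩]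
  [SetLike.GradedSMul 𝒜 𝒩]
variable {P : Type u} [AddCommGroup P] [Module R P] {𝒦 : ℤ → AddSubgroup P} [Decomposition 𝒦]
  [SetLike.GradedSMul 𝒜 𝒦]

theorem gm_smul0 {E : StarInjRes 𝒜 ℳ} {a : Ideal R} {i : ℕ} {g : ℤ} (r : deg0 𝒜)
    {z : (E.X i).carrier} (hz : Gm E a i g z) : Gm E a i g ((r : R) • z) := by
  refine ⟨Submodule.smul_mem _ (r : R) hz.1, ?_⟩
  have h := SetLike.GradedSMul.smul_mem (A := 𝒜) (B := (E.X i).gr) (show (r : R) ∈ 𝒜 0 from r.2)
    hz.2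
  rw [vadd_eq_add, zero_add] at h
  exact h

/-- cocycles of the degree-`g` strand -/
def Zs (E : StarInjRes 𝒜 ℳ) (a : Ideal R) (i : ℕ) (g : ℤ) :
    Submodule (deg0 𝒜) (E.X i).carrier where
  carrier := {z | Gm E a i g z ∧ E.d i z = 0}
  zero_mem' := ⟨Gm.zero E a i g, map_zero _⟩
  add_mem' := fun {z w} hz hw => ⟨hz.1.add hw.1, by rw [map_add, hz.2, hw.2, add_zero]⟩
  smul_mem' := fun r z hz => by
    refine ⟨gm_smul0 r hz.1, ?_⟩
    change E.d i ((r : R) • z) = 0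
    rw [map_smul, hz.2, smul_zero]

/-- coboundaries of the degree-`g` strand -/
def Bs (E : StarInjRes 𝒜 ℳ) (a : Ideal R) (i : ℕ) (g : ℤ) :
    Submodule (deg0 𝒜) (E.X i).carrier where
  carrier := {z | IsBd E a i g z}
  zero_mem' := IsBd.zero E a i g
  add_mem' := fun {z w} hz hw => hz.add hw
  smul_mem' := fun r z hz => by
    cases i with
    | zero =>
      change z = 0 at hz
      change (r : R) • z = 0
      rw [hz, smul_zero]
    | succ i =>
      obtain ⟨y, hy, rfl⟩ := hz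
      exact ⟨(r : R) • y, gm_smul0 r hy, map_smul _ _ _⟩

theorem mem_Zs {E : StarInjRes 𝒜 ℳ} {a : Ideal R} {i : ℕ} {g : ℤ} {z : (E.X i).carrier} :
    z ∈ Zs E a i g ↔ Gm E a i g z ∧ E.d i z = 0 := Iff.rfl

theorem mem_Bs {E : StarInjRes 𝒜 ℳ} {a : Ideal R} {i : ℕ} {g : ℤ} {z : (E.X i).carrier} :
    z ∈ Bs E a i g ↔ IsBd E a i g z := Iff.rfl

/-- strand cohomology -/
abbrev Hs (E : StarInjRes 𝒜 ℳ) (a : Ideal R) (i : ℕ) (g : ℤ) : Type u :=
  ↥(Zs E a i g) ⧸ (Bs E a i g).comap (Zs E a i g).subtype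

/-- the length of the strand cohomology -/
noncomputable def hl (E : StarInjRes 𝒜 ℳ) (a : Ideal R) (i : ℕ) (g : ℤ) : ℕ∞ :=
  Module.length (deg0 𝒜) (Hs E a i g)

/-- the class of a cocycle -/
def cls (E : StarInjRes 𝒜 ℳ) (a : Ideal R) (i : ℕ) (g : ℤ) (z : (E.X i).carrier)
    (hz : Gm E a i g z) (hd : E.d i z = 0) : Hs E a i g :=
  Submodule.Quotient.mk ⟨z, ⟨hz, hd⟩⟩

theorem cls_eq_zero {E : StarInjRes 𝒜 ℳ} {a : Ideal R} {i : ℕ} {g : ℤ} {z : (E.X i).carrier}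
    {hz : Gm E a i g z} {hd : E.d i z = 0} : cls E a i g z hz hd = 0 ↔ IsBd E a i g z := by
  unfold cls
  rw [Submodule.Quotient.mk_eq_zero]
  exact Iff.rfl

theorem cls_surj {E : StarInjRes 𝒜 ℳ} {a : Ideal R} {i : ℕ} {g : ℤ} (x : Hs E a i g) :
    ∃ (z : (E.X i).carrier) (hz : Gm E a i g z) (hd : E.d i z = 0), cls E a i g z hz hd = x := by
  obtain ⟨⟨z, hz⟩, rfl⟩ := Submodule.Quotient.mk_surjective _ x
  exact ⟨z, hz.1, hz.2, rfl⟩

theorem cls_eq_cls {E : StarInjRes 𝒜 ℳ} {a : Ideal R} {i : ℕ} {g : ℤ} {z w : (E.X i).carrier}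
    {hz : Gm E a i g z} {hd : E.d i z = 0} {hw : Gm E a i g w} {hdw : E.d i w = 0} :
    cls E a i g z hz hd = cls E a i g w hw hdw ↔ IsBd E a i g (z - w) := by
  unfold cls
  rw [Submodule.Quotient.eq]
  exact Iff.rfl

/-- vanishing of the strand cohomology -/
theorem subsingleton_Hs_of_HV {E : StarInjRes 𝒜 ℳ} {a : Ideal R} {i : ℕ} {g : ℤ}
    (h : HV E a i g) : Subsingleton (Hs E a i g) := by
  refine ⟨fun x y => ?_⟩
  obtain ⟨z, hz, hd, rfl⟩ := cls_surj x
  obtain ⟨w, hw, hdw, rfl⟩ := cls_surj y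
  rw [cls_eq_cls]
  exact h _ (hz.sub hw) (by rw [map_sub, hd, hdw, sub_zero])

theorem hl_eq_zero_of_HV {E : StarInjRes 𝒜 ℳ} {a : Ideal R} {i : ℕ} {g : ℤ}
    (h : HV E a i g) : hl E a i g = 0 := by
  have := subsingleton_Hs_of_HV h
  exact Module.length_eq_zero

theorem HV_of_hl_eq_zero {E : StarInjRes 𝒜 ℳ} {a : Ideal R} {i : ℕ} {g : ℤ}
    (h : hl E a i g = 0) : HV E a i g := by
  have hs : Subsingleton (Hs E a i g) := Module.length_eq_zero_iff.1 h
  intro z hz hd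
  rw [← cls_eq_zero (hz := hz) (hd := hd)]
  exact Subsingleton.elim _ _

/-- induced maps on strand cohomology -/
def HsMap {E : StarInjRes 𝒜 ℳ} {E' : StarInjRes 𝒜 𝒩} (a : Ideal R) (i j : ℕ) (g g' : ℤ)
    (φ : (E.X i).carrier →ₗ[R] (E'.X j).carrier)
    (hZ : ∀ z, Gm E a i g z → E.d i z = 0 → Gm E' a j g' (φ z) ∧ E'.d j (φ z) = 0)
    (hB : ∀ z, IsBd E a i g z → IsBd E' a j g' (φ z)) :
    Hs E a i g →ₗ[deg0 𝒜] Hs E' a j g' :=
  Submodule.mapQ _ _
    ((φ.restrictScalars (deg0 𝒜)).restrict (p := Zs E a i g) (q := Zs E' a j g')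
      (fun z hz => hZ z hz.1 hz.2))
    (fun z hz => hB z.1 hz)

theorem HsMap_cls {E : StarInjRes 𝒜 ℳ} {E' : StarInjRes 𝒜 𝒩} (a : Ideal R) (i j : ℕ) (g g' : ℤ)
    (φ : (E.X i).carrier →ₗ[R] (E'.X j).carrier)
    (hZ : ∀ z, Gm E a i g z → E.d i z = 0 → Gm E' a j g' (φ z) ∧ E'.d j (φ z) = 0)
    (hB : ∀ z, IsBd E a i g z → IsBd E' a j g' (φ z))
    (z : (E.X i).carrier) (hz : Gm E a i g z) (hd : E.d i z = 0) :
    HsMap a i j g g' φ hZ hB (cls E a i g z hz hd) =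
      cls E' a j g' (φ z) (hZ z hz hd).1 (hZ z hz hd).2 := rfl

/-- the map induced by a lift -/
def Hmap {E : StarInjRes 𝒜 ℳ} {E' : StarInjRes 𝒜 𝒩} {f : M →ₗ[R] N} (L : Lift E E' f)
    (a : Ideal R) (i : ℕ) (g : ℤ) : Hs E a i g →ₗ[deg0 𝒜] Hs E' a i g :=
  HsMap a i i g g (L.φ i)
    (fun z hz hd => ⟨L.map_gm hz, by rw [← L.comm_apply, hd, map_zero]⟩)
    (fun z hz => L.map_isBd hz)

theorem Hmap_cls {E : StarInjRes 𝒜 ℳ} {E' : StarInjRes 𝒜 𝒩} {f : M →ₗ[R] N} (L : Lift E E' f)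
    (a : Ideal R) (i : ℕ) (g : ℤ) (z : (E.X i).carrier) (hz : Gm E a i g z)
    (hd : E.d i z = 0) :
    Hmap L a i g (cls E a i g z hz hd) =
      cls E' a i g (L.φ i z) (L.map_gm hz) (by rw [← L.comm_apply, hd, map_zero]) := rfl

theorem Hmap_eq {E : StarInjRes 𝒜 ℳ} {E' : StarInjRes 𝒜 𝒩} {f : M →ₗ[R] N} (L₁ L₂ : Lift E E' f)
    (a : Ideal R) (i : ℕ) (g : ℤ) (x : Hs E a i g) : Hmap L₁ a i g x = Hmap L₂ a i g x := by
  obtain ⟨z, hz, hd, rfl⟩ := cls_surj x
  rw [Hmap_cls, Hmap_cls, cls_eq_cls]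
  exact isBd_sub_of_lifts L₁ L₂ hz hd

/-- a lift of a map with a retraction induces an injective map -/
theorem Hmap_injective_of_retract {E : StarInjRes 𝒜 ℳ} {E' : StarInjRes 𝒜 𝒩} {f : M →ₗ[R] N}
    (L : Lift E E' f) {f' : N →ₗ[R] M} (L' : Lift E' E f') (hff : f' ∘ₗ f = LinearMap.id)
    (a : Ideal R) (i : ℕ) (g : ℤ) : Function.Injective (Hmap L a i g) := by
  have key : ∀ x, Hmap L' a i g (Hmap L a i g x) = x := by
    intro x
    obtain ⟨z, hz, hd, rfl⟩ := cls_surj x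
    rw [Hmap_cls, Hmap_cls, cls_eq_cls]
    have h3 := isBd_sub_of_lifts ((L'.comp L).congr hff) (Lift.refl E) hz hd
    exact h3
  exact Function.LeftInverse.injective key

/-- independence of the resolution -/
theorem hl_congr (E E' : StarInjRes 𝒜 ℳ) (a : Ideal R) (i : ℕ) (g : ℤ) :
    hl E a i g = hl E' a i g := by
  obtain ⟨L⟩ := exists_lift E E' LinearMap.id (fun _ _ h => h)
  obtain ⟨L'⟩ := exists_lift E' E LinearMap.id (fun _ _ h => h)
  apply le_antisymm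
  · exact Module.length_le_of_injective _ (Hmap_injective_of_retract L L' rfl a i g)
  · exact Module.length_le_of_injective _ (Hmap_injective_of_retract L' L rfl a i g)

/-- compatibility with shifts -/
theorem hl_shiftRes (E : StarInjRes 𝒜 ℳ) (s : ℤ) (a : Ideal R) (i : ℕ) (g : ℤ) :
    hl (shiftRes E s) a i g = hl E a i (s + g) := by
  have hB1 : ∀ z : (E.X i).carrier, IsBd (shiftRes E s) a i g z → IsBd E a i (s + g) z :=
    fun z hz => (isBd_shiftRes_iff E s).1 hz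
  have hB2 : ∀ z : (E.X i).carrier, IsBd E a i (s + g) z → IsBd (shiftRes E s) a i g z :=
    fun z hz => (isBd_shiftRes_iff E s).2 hz
  let φ1 : ((shiftRes E s).X i).carrier →ₗ[R] (E.X i).carrier := LinearMap.id
  let φ2 : (E.X i).carrier →ₗ[R] ((shiftRes E s).X i).carrier := LinearMap.id
  let u : Hs (shiftRes E s) a i g →ₗ[deg0 𝒜] Hs E a i (s + g) :=
    HsMap a i i g (s + g) φ1 (fun z hz hd => ⟨hz, hd⟩) hB1
  let v : Hs E a i (s + g) →ₗ[deg0 𝒜] Hs (shiftRes E s) a i g :=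
    HsMap a i i (s + g) g φ2 (fun z hz hd => ⟨hz, hd⟩) hB2
  have huv : ∀ x, v (u x) = x := by
    intro x
    obtain ⟨z, hz, hd, rfl⟩ := cls_surj x
    rfl
  have hvu : ∀ x, u (v x) = x := by
    intro x
    obtain ⟨z, hz, hd, rfl⟩ := cls_surj x
    rfl
  apply le_antisymm
  · exact Module.length_le_of_injective u (Function.LeftInverse.injective huv)
  · exact Module.length_le_of_injective v (Function.LeftInverse.injective hvu)

/-- comparison with the prelude's graded pieces -/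
theorem length_Hcomp (E : StarInjRes 𝒜 ℳ) (a : HomogeneousIdeal 𝒜) (i : ℕ) (g : ℤ) :
    Module.length (deg0 𝒜) (E.Hcomp a i g) = hl E a.toIdeal i g := by
  have hcoc : ∀ z : Zs E a.toIdeal i g, (z : (E.X i).carrier) ∈ E.cocyc a i := fun z =>
    Submodule.mem_inf.2 ⟨z.2.1.1, z.2.2⟩
  let ψ : ↥(Zs E a.toIdeal i g) →ₗ[deg0 𝒜] ↥(E.Hcomp a i g) :=
    { toFun := fun z => ⟨E.toH a i ⟨z.1, hcoc z⟩, ⟨⟨z.1, hcoc z⟩, z.2.1.2, rfl⟩⟩
      map_add' := fun z w => Subtype.ext (by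
        change E.toH a i ⟨z.1 + w.1, _⟩ = E.toH a i ⟨z.1, _⟩ + E.toH a i ⟨w.1, _⟩
        rw [← map_add]
        rfl)
      map_smul' := fun r z => Subtype.ext (by
        change E.toH a i ⟨(r : R) • z.1, _⟩ = (r : R) • E.toH a i ⟨z.1, _⟩
        rw [← map_smul]
        rfl) }
  have hsurj : Function.Surjective ψ := by
    rintro ⟨x, ⟨z, hzg, rfl⟩⟩
    exact ⟨⟨z.1, ⟨⟨(Submodule.mem_inf.1 z.2).1, hzg⟩, (Submodule.mem_inf.1 z.2).2⟩⟩, rfl⟩
  have hker : LinearMap.ker ψ = (Bs E a.toIdeal i g).comap (Zs E a.toIdeal i g).subtype := by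
    ext z
    rw [LinearMap.mem_ker, Submodule.mem_comap]
    constructor
    · intro h
      have h0 : E.toH a i ⟨z.1, hcoc z⟩ = 0 := congrArg Subtype.val h
      have h1 : (⟨z.1, hcoc z⟩ : E.cocyc a i) ∈ (E.cobdy a i).comap (E.cocyc a i).subtype :=
        (Submodule.Quotient.mk_eq_zero _).1 h0
      exact isBd_of_mem_cobdy E a i g z.1 z.2.1.2 h1
    · intro h
      apply Subtype.ext
      change E.toH a i ⟨z.1, hcoc z⟩ = 0
      refine (Submodule.Quotient.mk_eq_zero _).2 ?_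
      change z.1 ∈ E.cobdy a i
      have hb : IsBd E a.toIdeal i g z.1 := h
      cases i with
      | zero =>
        change z.1 = 0 at hb
        rw [hb]; exact zero_mem _
      | succ i =>
        obtain ⟨y, hy, hyz⟩ := hb
        exact ⟨y, hy.1, hyz⟩
  have e1 := LinearMap.quotKerEquivOfSurjective ψ hsurj
  have e2 := Submodule.quotEquivOfEq _ _ hker
  unfold hl
  rw [← e1.length_eq, e2.length_eq]

end Groth.Agent.Lib.Helper97.SG
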