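import Mathlib
import Groth.Prelude.Def_GrLC
import Groth.Agent.Lib.Helper97.SGDef

/-!
# The long exact sequence of strand cohomology and lengths (helper97)
-/

set_option autoImplicit false
set_option linter.unusedSectionVars false
set_option linter.unusedVariables false
universe u

namespace Groth.Agent.Lib.Helper97.SG

open GrLC DirectSum Groth.Agent.Lib.Helper77.GLC

section abstract

variable {S : Type*} [Ring S]

theorem length_ker_add_range {Y Z : Type*} [AddCommGroup Y] [Module S Y] [AddCommGroup Z]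
    [Module S Z] (v : Y →ₗ[S] Z) :
    Module.length S Y = Module.length S (LinearMap.ker v) + Module.length S (LinearMap.range v) :=
  Module.length_eq_add_of_exact (LinearMap.ker v).subtype v.rangeRestrict
    (Submodule.subtype_injective _) v.surjective_rangeRestrict (by
      intro y
      constructor
      · intro hy
        have h0 : v y = 0 := congrArg Subtype.val hy
        exact ⟨⟨y, h0⟩, rfl⟩
      · rintro ⟨k, rfl⟩
        exact Subtype.ext k.2)

theorem length_range_le {Y Z : Type*} [AddCommGroup Y] [Module S Y] [AddCommGroup Z]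
    [Module S Z] (v : Y →ₗ[S] Z) : Module.length S (LinearMap.range v) ≤ Module.length S Y :=
  Module.length_le_of_surjective v.rangeRestrict v.surjective_rangeRestrict

theorem length_range_le' {Y Z : Type*} [AddCommGroup Y] [Module S Y] [AddCommGroup Z]
    [Module S Z] (v : Y →ₗ[S] Z) : Module.length S (LinearMap.range v) ≤ Module.length S Z :=
  Module.length_le_of_injective (LinearMap.range v).subtype (Submodule.subtype_injective _)

theorem length_le_of_exact {X Y Z : Type*} [AddCommGroup X] [Module S X] [AddCommGroup Y]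
    [Module S Y] [AddCommGroup Z] [Module S Z] (u : X →ₗ[S] Y) (v : Y →ₗ[S] Z)
    (h : LinearMap.ker v = LinearMap.range u) :
    Module.length S Y ≤ Module.length S X + Module.length S Z := by
  rw [length_ker_add_range v, h]
  exact add_le_add (length_range_le u) (length_range_le' v)

theorem length_le_of_injective' {X Y : Type*} [AddCommGroup X] [Module S X] [AddCommGroup Y]
    [Module S Y] (u : X →ₗ[S] Y) (h : LinearMap.ker u = ⊥) :
    Module.length S X ≤ Module.length S Y :=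
  Module.length_le_of_injective u (LinearMap.ker_eq_bot.1 h)

theorem tele (c : ℕ → ℚ) (n : ℕ) :
    ∑ i ∈ Finset.range n, (-1 : ℚ) ^ i * (c i + c (i + 1)) = c 0 - (-1 : ℚ) ^ n * c n := by
  induction n with
  | zero => simp
  | succ n ih =>
    rw [Finset.sum_range_succ, ih, pow_succ]
    ring

variable {A B C : ℕ → Type u} [∀ i, AddCommGroup (A i)] [∀ i, Module S (A i)]
  [∀ i, AddCommGroup (B i)] [∀ i, Module S (B i)] [∀ i, AddCommGroup (C i)] [∀ i, Module S (C i)]

theorem euler_les (α : ∀ i, A i →ₗ[S] B i) (β : ∀ i, B i →ₗ[S] C i)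
    (δ : ∀ i, C i →ₗ[S] A (i + 1))
    (hα0 : LinearMap.ker (α 0) = ⊥)
    (hB : ∀ i, LinearMap.ker (β i) = LinearMap.range (α i))
    (hC : ∀ i, LinearMap.ker (δ i) = LinearMap.range (β i))
    (hA : ∀ i, LinearMap.ker (α (i + 1)) = LinearMap.range (δ i))
    (hfA : ∀ i, Module.length S (A i) ≠ ⊤) (hfC : ∀ i, Module.length S (C i) ≠ ⊤)
    (d : ℕ) (hd : Module.length S (A (d + 1)) = 0) :
    ∑ i ∈ Finset.range (d + 1), (-1 : ℚ) ^ i * ((Module.length S (B i)).toNat : ℚ) =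
      ∑ i ∈ Finset.range (d + 1), (-1 : ℚ) ^ i * ((Module.length S (A i)).toNat : ℚ) +
      ∑ i ∈ Finset.range (d + 1), (-1 : ℚ) ^ i * ((Module.length S (C i)).toNat : ℚ) := by
  set ra : ℕ → ℕ∞ := fun i => Module.length S (LinearMap.range (α i)) with hra
  set rb : ℕ → ℕ∞ := fun i => Module.length S (LinearMap.range (β i)) with hrb
  set rc : ℕ → ℕ∞ := fun i => Module.length S (LinearMap.range (δ i)) with hrc
  have fa : ∀ i, ra i ≠ ⊤ := fun i =>
    ne_top_of_le_ne_top (hfA i) (length_range_le (α i))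
  have fb : ∀ i, rb i ≠ ⊤ := fun i =>
    ne_top_of_le_ne_top (hfC i) (length_range_le' (β i))
  have fc : ∀ i, rc i ≠ ⊤ := fun i =>
    ne_top_of_le_ne_top (hfC i) (length_range_le (δ i))
  have eqB : ∀ i, Module.length S (B i) = ra i + rb i := fun i => by
    rw [length_ker_add_range (β i), hB i]
  have eqC : ∀ i, Module.length S (C i) = rb i + rc i := fun i => by
    rw [length_ker_add_range (δ i), hC i]
  have eqA0 : Module.length S (A 0) = ra 0 := by
    rw [length_ker_add_range (α 0), hα0]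
    have : Module.length S (⊥ : Submodule S (A 0)) = 0 := Module.length_eq_zero
    rw [this, zero_add]
  have eqA : ∀ i, Module.length S (A (i + 1)) = rc i + ra (i + 1) := fun i => by
    rw [length_ker_add_range (α (i + 1)), hA i]
  have hrcd : rc d = 0 := by
    have h1 : rc d ≤ Module.length S (A (d + 1)) := length_range_le' (δ d)
    rw [hd] at h1
    exact nonpos_iff_eq_zero.1 h1
  let c' : ℕ → ℚ := fun i => match i with
    | 0 => 0
    | (i + 1) => ((rc i).toNat : ℚ)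
  have lenA : ∀ i, ((Module.length S (A i)).toNat : ℚ) = c' i + ((ra i).toNat : ℚ) := by
    intro i
    cases i with
    | zero =>
      rw [eqA0]
      change _ = (0 : ℚ) + _
      rw [zero_add]
    | succ i =>
      rw [eqA i, ENat.toNat_add (fc i) (fa (i + 1))]
      push_cast
      rfl
  have lenB : ∀ i, ((Module.length S (B i)).toNat : ℚ) =
      ((ra i).toNat : ℚ) + ((rb i).toNat : ℚ) := by
    intro i
    rw [eqB i, ENat.toNat_add (fa i) (fb i)]
    push_cast
    rfl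
  have lenC : ∀ i, ((Module.length S (C i)).toNat : ℚ) = ((rb i).toNat : ℚ) + c' (i + 1) := by
    intro i
    rw [eqC i, ENat.toNat_add (fb i) (fc i)]
    push_cast
    rfl
  have key : ∀ i, (-1 : ℚ) ^ i * ((Module.length S (B i)).toNat : ℚ) =
      ((-1 : ℚ) ^ i * ((Module.length S (A i)).toNat : ℚ) +
        (-1 : ℚ) ^ i * ((Module.length S (C i)).toNat : ℚ)) -
        (-1 : ℚ) ^ i * (c' i + c' (i + 1)) := by
    intro i
    rw [lenA i, lenB i, lenC i]
    ring
  have ht := tele c' (d + 1)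
  have hc0 : c' 0 = 0 := rfl
  have hcd : c' (d + 1) = 0 := by
    change ((rc d).toNat : ℚ) = 0
    rw [hrcd]
    simp
  rw [hc0, hcd, mul_zero, sub_zero] at ht
  rw [Finset.sum_congr rfl (fun i _ => key i), Finset.sum_sub_distrib, Finset.sum_add_distrib,
    ht, sub_zero]

end abstract

section horseshoe

variable {R : Type u} [CommRing R] {𝒜 : ℤ → AddSubgroup R} [GradedRing 𝒜]
variable {M' : Type u} [AddCommGroup M'] [Module R M'] {ℳ' : ℤ → AddSubgroup M'} [Decomposition ℳ']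
  [SetLike.GradedSMul 𝒜 ℳ']
variable {M : Type u} [AddCommGroup M] [Module R M] {ℳ : ℤ → AddSubgroup M} [Decomposition ℳ]
  [SetLike.GradedSMul 𝒜 ℳ]
variable {M'' : Type u} [AddCommGroup M''] [Module R M''] {ℳ'' : ℤ → AddSubgroup M''}
  [Decomposition ℳ''] [SetLike.GradedSMul 𝒜 ℳ'']
variable {f : M' →ₗ[R] M} {p : M →ₗ[R] M''}
variable {E' : StarInjRes 𝒜 ℳ'} {E'' : StarInjRes 𝒜 ℳ''} (H : Horse ℳ E' E'' f p)
  (hS : GSES ℳ' ℳ ℳ'' f p) (a : Ideal R) (g : ℤ)

/-- `H^i(M') → H^i(M)` -/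
noncomputable def αh (i : ℕ) : Hs E' a i g →ₗ[deg0 𝒜] Hs (H.res hS) a i g :=
  Hmap (H.inl hS) a i g

theorem dd_eq_zero {i : ℕ} {z : ((H.res hS).X i).carrier} (hd : (H.res hS).d i z = 0) :
    E'.d i (pfst _ _ z) + H.θ i (psnd _ _ z) = 0 ∧ E''.d i (psnd _ _ z) = 0 := by
  have hdz : H.dd i z = (0 : (prodGMod 𝒜 (E'.X (i + 1)) (E''.X (i + 1))).carrier) := hd
  exact ⟨by rw [← Horse.pfst_dd H, hdz, map_zero], by rw [← Horse.psnd_dd H, hdz, map_zero]⟩

/-- `H^i(M) → H^i(M'')` -/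
noncomputable def βh (i : ℕ) : Hs (H.res hS) a i g →ₗ[deg0 𝒜] Hs E'' a i g :=
  HsMap a i i g g (psnd _ _)
    (fun z hz hd => ⟨((Horse.gm_res_iff H hS).1 hz).2, (dd_eq_zero H hS hd).2⟩)
    (fun z hz => by
      cases i with
      | zero =>
        have hz0 : z = (0 : (prodGMod 𝒜 (E'.X 0) (E''.X 0)).carrier) := hz
        change psnd _ _ z = 0
        rw [hz0, map_zero]
      | succ i =>
        obtain ⟨y, hy, hyz⟩ := hz
        have hyz' : H.dd i y = z := hyz
        refine ⟨psnd _ _ y, ((Horse.gm_res_iff H hS).1 hy).2, ?_⟩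
        exact (Horse.psnd_dd H i y).symm.trans (congrArg (psnd _ _) hyz'))

theorem θ_cocycle {i : ℕ} {z : (E''.X i).carrier} (hz : Gm E'' a i g z) (hd : E''.d i z = 0) :
    Gm E' a (i + 1) g (H.θ i z) ∧ E'.d (i + 1) (H.θ i z) = 0 :=
  ⟨⟨map_mem_gam (H.θ i) hz.1, H.θ_gr i g _ hz.2⟩, by
    rw [H.θ_succ_apply, hd, map_zero, neg_zero]⟩

/-- the connecting map `H^i(M'') → H^{i+1}(M')` -/
noncomputable def δh (i : ℕ) : Hs E'' a i g →ₗ[deg0 𝒜] Hs E' a (i + 1) g :=
  HsMap a i (i + 1) g g (H.θ i)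
    (fun z hz hd => θ_cocycle H a g hz hd)
    (fun z hz => by
      cases i with
      | zero =>
        change z = 0 at hz
        exact ⟨0, Gm.zero E' a 0 g, by rw [hz, map_zero, map_zero]⟩
      | succ i =>
        obtain ⟨y, hy, rfl⟩ := hz
        refine ⟨-(H.θ i y), Gm.neg ⟨map_mem_gam (H.θ i) hy.1, H.θ_gr i g _ hy.2⟩, ?_⟩
        rw [map_neg, H.θ_succ_apply, neg_neg])

theorem aux_B_zero (z : (prodGMod 𝒜 (E'.X 0) (E''.X 0)).carrier)
    (hx : psnd _ _ z = 0) :
    (ppair LinearMap.id 0 : (E'.X 0).carrier →ₗ[R] (prodGMod 𝒜 (E'.X 0) (E''.X 0)).carrier)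
      (pfst _ _ z) - z = 0 := by
  apply pext
  · rw [map_sub, pfst_ppair, LinearMap.id_apply, sub_self, map_zero]
  · rw [map_sub, psnd_ppair, hx, LinearMap.zero_apply, sub_self, map_zero]

theorem aux_B_succ (i : ℕ) (z : (prodGMod 𝒜 (E'.X (i + 1)) (E''.X (i + 1))).carrier)
    (u'' : (E''.X i).carrier) (hdu'' : E''.d i u'' = psnd _ _ z) :
    H.dd i (-(pmk 0 u'')) =
      (ppair LinearMap.id 0 : (E'.X (i + 1)).carrier →ₗ[R]
        (prodGMod 𝒜 (E'.X (i + 1)) (E''.X (i + 1))).carrier) (pfst _ _ z - H.θ i u'') - z := by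
  apply pext
  · rw [map_neg, map_neg, Horse.pfst_dd, pfst_pmk, psnd_pmk, map_zero, zero_add, map_sub,
      pfst_ppair, LinearMap.id_apply]
    abel
  · rw [map_neg, map_neg, Horse.psnd_dd, psnd_pmk, hdu'', map_sub, psnd_ppair,
      LinearMap.zero_apply, zero_sub]

theorem aux_A (i : ℕ) (z'' : (E''.X i).carrier) (hd'' : E''.d i z'' = 0) :
    H.dd i (pmk 0 z'') =
      (ppair LinearMap.id 0 : (E'.X (i + 1)).carrier →ₗ[R]
        (prodGMod 𝒜 (E'.X (i + 1)) (E''.X (i + 1))).carrier) (H.θ i z'') := by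
  apply pext
  · rw [Horse.pfst_dd, pfst_pmk, psnd_pmk, map_zero, zero_add, pfst_ppair, LinearMap.id_apply]
  · rw [Horse.psnd_dd, psnd_pmk, hd'', psnd_ppair, LinearMap.zero_apply]

theorem ker_αh_zero : LinearMap.ker (αh H hS a g 0) = ⊥ := by
  rw [eq_bot_iff]
  intro x hx
  rw [LinearMap.mem_ker] at hx
  obtain ⟨z, hz, hd, rfl⟩ := cls_surj x
  rw [Submodule.mem_bot]
  change Hmap (H.inl hS) a 0 g (cls E' a 0 g z hz hd) = 0 at hx
  rw [Hmap_cls, cls_eq_zero] at hx
  have h0 : (H.inl hS).φ 0 z = (0 : (prodGMod 𝒜 (E'.X 0) (E''.X 0)).carrier) := hx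
  have h1 : z = 0 := by
    have := congrArg (pfst _ _) h0
    rwa [Horse.pfst_inl, map_zero] at this
  rw [cls_eq_zero, h1]
  exact IsBd.zero E' a 0 g

theorem exact_B (i : ℕ) : LinearMap.ker (βh H hS a g i) = LinearMap.range (αh H hS a g i) := by
  ext x
  rw [LinearMap.mem_ker, LinearMap.mem_range]
  constructor
  · intro hx
    obtain ⟨z, hz, hd, rfl⟩ := cls_surj x
    change HsMap a i i g g (psnd _ _) _ _ (cls (H.res hS) a i g z hz hd) = 0 at hx
    rw [HsMap_cls, cls_eq_zero] at hx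
    have hgm := (Horse.gm_res_iff H hS).1 hz
    obtain ⟨hd1, hd2⟩ := dd_eq_zero H hS hd
    cases i with
    | zero =>
      change psnd _ _ z = 0 at hx
      rw [hx, map_zero, add_zero] at hd1
      refine ⟨cls E' a 0 g (pfst _ _ z) hgm.1 hd1, ?_⟩
      change Hmap (H.inl hS) a 0 g _ = _
      rw [Hmap_cls, cls_eq_cls]
      exact aux_B_zero z hx
    | succ i =>
      obtain ⟨u'', hu'', hdu''⟩ := hx
      have ht : Gm E' a (i + 1) g (pfst _ _ z - H.θ i u'') :=
        hgm.1.sub ⟨map_mem_gam (H.θ i) hu''.1, H.θ_gr i g _ hu''.2⟩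
      have hdt : E'.d (i + 1) (pfst _ _ z - H.θ i u'') = 0 := by
        rw [map_sub, H.θ_succ_apply, hdu'', sub_neg_eq_add]
        exact hd1
      refine ⟨cls E' a (i + 1) g _ ht hdt, ?_⟩
      change Hmap (H.inl hS) a (i + 1) g _ = _
      rw [Hmap_cls, cls_eq_cls]
      exact ⟨-(pmk 0 u''), Gm.neg ((Horse.gm_res_iff H hS).2 ⟨Gm.zero E' a i g, hu''⟩),
        aux_B_succ H i z u'' hdu''⟩
  · rintro ⟨y, rfl⟩
    obtain ⟨z', hz', hd', rfl⟩ := cls_surj y
    change HsMap a i i g g (psnd _ _) _ _ (Hmap (H.inl hS) a i g (cls E' a i g z' hz' hd')) = 0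
    rw [Hmap_cls, HsMap_cls, cls_eq_zero]
    exact IsBd.zero E'' a i g

theorem exact_C (i : ℕ) : LinearMap.ker (δh H a g i) = LinearMap.range (βh H hS a g i) := by
  ext x
  rw [LinearMap.mem_ker, LinearMap.mem_range]
  constructor
  · intro hx
    obtain ⟨z'', hz'', hd'', rfl⟩ := cls_surj x
    change HsMap a i (i + 1) g g (H.θ i) _ _ (cls E'' a i g z'' hz'' hd'') = 0 at hx
    rw [HsMap_cls, cls_eq_zero] at hx
    obtain ⟨u', hu', hdu'⟩ := hx
    have hw : Gm (H.res hS) a i g (pmk (-u') z'') :=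
      (Horse.gm_res_iff H hS).2 ⟨hu'.neg, hz''⟩
    have hdw0 : H.dd i (pmk (-u') z'') =
        (0 : (prodGMod 𝒜 (E'.X (i + 1)) (E''.X (i + 1))).carrier) := by
      apply pext
      · rw [Horse.pfst_dd, pfst_pmk, psnd_pmk, map_neg, hdu', neg_add_cancel, map_zero]
      · rw [Horse.psnd_dd, psnd_pmk, hd'', map_zero]
    have hdw : (H.res hS).d i (pmk (-u') z'') = 0 := hdw0
    exact ⟨cls (H.res hS) a i g (pmk (-u') z'') hw hdw, rfl⟩
  · rintro ⟨y, rfl⟩
    obtain ⟨z, hz, hd, rfl⟩ := cls_surj y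
    change HsMap a i (i + 1) g g (H.θ i) _ _
      (HsMap a i i g g (psnd _ _) _ _ (cls (H.res hS) a i g z hz hd)) = 0
    rw [HsMap_cls, HsMap_cls, cls_eq_zero]
    have hgm := (Horse.gm_res_iff H hS).1 hz
    obtain ⟨hd1, hd2⟩ := dd_eq_zero H hS hd
    refine ⟨-(pfst _ _ z), hgm.1.neg, ?_⟩
    rw [map_neg]
    exact neg_eq_of_add_eq_zero_right hd1

theorem exact_A (i : ℕ) :
    LinearMap.ker (αh H hS a g (i + 1)) = LinearMap.range (δh H a g i) := by
  ext x
  rw [LinearMap.mem_ker, LinearMap.mem_range]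
  constructor
  · intro hx
    obtain ⟨z', hz', hd', rfl⟩ := cls_surj x
    change Hmap (H.inl hS) a (i + 1) g (cls E' a (i + 1) g z' hz' hd') = 0 at hx
    rw [Hmap_cls, cls_eq_zero] at hx
    obtain ⟨v, hv, hdv⟩ := hx
    have hgv := (Horse.gm_res_iff H hS).1 hv
    have hdv' : H.dd i v = (H.inl hS).φ (i + 1) z' := hdv
    have hd2 : E''.d i (psnd _ _ v) = 0 := by
      rw [← Horse.psnd_dd H, hdv', Horse.psnd_inl]
    have hd1 : E'.d i (pfst _ _ v) + H.θ i (psnd _ _ v) = z' := by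
      rw [← Horse.pfst_dd H, hdv', Horse.pfst_inl]
    refine ⟨cls E'' a i g (psnd _ _ v) hgv.2 hd2, ?_⟩
    change HsMap a i (i + 1) g g (H.θ i) _ _ _ = _
    rw [HsMap_cls, cls_eq_cls]
    refine ⟨-(pfst _ _ v), hgv.1.neg, ?_⟩
    rw [map_neg, ← hd1]
    abel
  · rintro ⟨y, rfl⟩
    obtain ⟨z'', hz'', hd'', rfl⟩ := cls_surj y
    change Hmap (H.inl hS) a (i + 1) g
      (HsMap a i (i + 1) g g (H.θ i) _ _ (cls E'' a i g z'' hz'' hd'')) = 0
    rw [HsMap_cls, Hmap_cls, cls_eq_zero]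
    exact ⟨pmk 0 z'', (Horse.gm_res_iff H hS).2 ⟨Gm.zero E' a i g, hz''⟩, aux_A H i z'' hd''⟩

end horseshoe

section general

variable {R : Type u} [CommRing R] {𝒜 : ℤ → AddSubgroup R} [GradedRing 𝒜]
variable {M' : Type u} [AddCommGroup M'] [Module R M'] {ℳ' : ℤ → AddSubgroup M'} [Decomposition ℳ']
  [SetLike.GradedSMul 𝒜 ℳ']
variable {M : Type u} [AddCommGroup M] [Module R M] {ℳ : ℤ → AddSubgroup M} [Decomposition ℳ]
  [SetLike.GradedSMul 𝒜 ℳ]
variable {M'' : Type u} [AddCommGroup M''] [Module R M''] {ℳ'' : ℤ → AddSubgroup M''}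
  [Decomposition ℳ''] [SetLike.GradedSMul 𝒜 ℳ'']
variable {f : M' →ₗ[R] M} {p : M →ₗ[R] M''} (hS : GSES ℳ' ℳ ℳ'' f p)
  (E' : StarInjRes 𝒜 ℳ') (E : StarInjRes 𝒜 ℳ) (E'' : StarInjRes 𝒜 ℳ'') (a : Ideal R) (g : ℤ)

include hS

theorem hl_mid_le (i : ℕ) : hl E a i g ≤ hl E' a i g + hl E'' a i g := by
  obtain ⟨H⟩ := exists_horse E' E'' hS
  rw [hl_congr E (H.res hS)]
  exact length_le_of_exact _ _ (exact_B H hS a g i)

theorem hl_right_le (i : ℕ) : hl E'' a i g ≤ hl E a i g + hl E' a (i + 1) g := by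
  obtain ⟨H⟩ := exists_horse E' E'' hS
  rw [hl_congr E (H.res hS)]
  exact length_le_of_exact _ _ (exact_C H hS a g i)

theorem hl_left_succ_le (i : ℕ) : hl E' a (i + 1) g ≤ hl E'' a i g + hl E a (i + 1) g := by
  obtain ⟨H⟩ := exists_horse E' E'' hS
  rw [hl_congr E (H.res hS)]
  exact length_le_of_exact _ _ (exact_A H hS a g i)

include E'' in
theorem hl_left_zero_le : hl E' a 0 g ≤ hl E a 0 g := by
  obtain ⟨H⟩ := exists_horse E' E'' hS
  rw [hl_congr E (H.res hS)]
  exact length_le_of_injective' _ (ker_αh_zero H hS a g)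

/-- the alternating sum of lengths up to `d` -/
noncomputable def chi {N : Type u} [AddCommGroup N] [Module R N] {𝒩 : ℤ → AddSubgroup N}
    [Decomposition 𝒩] [SetLike.GradedSMul 𝒜 𝒩] (EN : StarInjRes 𝒜 𝒩) (a : Ideal R) (d : ℕ)
    (g : ℤ) : ℚ :=
  ∑ i ∈ Finset.range (d + 1), (-1 : ℚ) ^ i * ((hl EN a i g).toNat : ℚ)

theorem chi_add (d : ℕ) (hf' : ∀ i, hl E' a i g ≠ ⊤) (hf'' : ∀ i, hl E'' a i g ≠ ⊤)
    (hd : hl E' a (d + 1) g = 0) : chi E a d g = chi E' a d g + chi E'' a d g := by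
  obtain ⟨H⟩ := exists_horse E' E'' hS
  unfold chi
  simp only [hl_congr E (H.res hS)]
  exact euler_les (S := deg0 𝒜) (A := fun i => Hs E' a i g) (B := fun i => Hs (H.res hS) a i g)
    (C := fun i => Hs E'' a i g) (αh H hS a g) (βh H hS a g) (δh H a g)
    (ker_αh_zero H hS a g) (exact_B H hS a g) (exact_C H hS a g) (exact_A H hS a g) hf' hf'' d hd

end general

end Groth.Agent.Lib.Helper97.SG
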