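import Mathlib

/-!
# Polynomial-like functions on the integers (helper97)

`PL t F` says that the `t`-fold backward difference of `F : ℤ → ℚ` vanishes.
-/

set_option autoImplicit false
open Polynomial

namespace Groth.Agent.Lib.Helper97.SGPoly

/-- backward difference -/
def Δ (F : ℤ → ℚ) : ℤ → ℚ := fun g => F g - F (g - 1)

/-- the `t`-fold backward difference vanishes -/
def PL : ℕ → (ℤ → ℚ) → Prop
  | 0, F => ∀ g, F g = 0
  | (t + 1), F => PL t (Δ F)

theorem Δ_zero : Δ (fun _ => (0 : ℚ)) = fun _ => 0 := by
  funext g
  simp [Δ]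

theorem PL.zero (t : ℕ) : PL t (fun _ => 0) := by
  induction t with
  | zero => intro g; rfl
  | succ t ih =>
    change PL t (Δ fun _ => 0)
    rw [Δ_zero]
    exact ih

theorem PL.congr {t : ℕ} {F G : ℤ → ℚ} (h : ∀ g, F g = G g) (hF : PL t F) : PL t G := by
  have : F = G := funext h
  rwa [← this]

theorem PL.succ {t : ℕ} : ∀ {F : ℤ → ℚ}, PL t F → PL (t + 1) F := by
  induction t with
  | zero =>
    intro F h
    change PL 0 (Δ F)
    intro g
    change F g - F (g - 1) = 0
    rw [h g, h (g - 1), sub_zero]
  | succ t ih =>
    intro F h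
    exact ih (F := Δ F) h

theorem PL.mono {s t : ℕ} (hst : s ≤ t) {F : ℤ → ℚ} (h : PL s F) : PL t F := by
  induction hst with
  | refl => exact h
  | step _ ih => exact ih.succ

theorem PL.sub {t : ℕ} : ∀ {F G : ℤ → ℚ}, PL t F → PL t G → PL t (fun g => F g - G g) := by
  induction t with
  | zero =>
    intro F G hF hG g
    change F g - G g = 0
    rw [hF g, hG g, sub_zero]
  | succ t ih =>
    intro F G hF hG
    change PL t (Δ fun g => F g - G g)
    have h := ih (F := Δ F) (G := Δ G) hF hG
    refine h.congr (fun g => ?_)
    simp only [Δ]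
    ring

theorem PL.shift {t : ℕ} : ∀ {F : ℤ → ℚ}, PL t F → PL t (fun g => F (g - 1)) := by
  induction t with
  | zero =>
    intro F hF g
    exact hF (g - 1)
  | succ t ih =>
    intro F hF
    change PL t (Δ fun g => F (g - 1))
    have h := ih (F := Δ F) hF
    exact h.congr (fun g => rfl)

theorem PL.of_delta {t : ℕ} {F G : ℤ → ℚ} (hG : PL t G) (h : ∀ g, F g - F (g - 1) = G g) :
    PL (t + 1) F := by
  change PL t (Δ F)
  exact hG.congr (fun g => (h g).symm)

/-- a polynomial-like function which vanishes for all large arguments vanishes -/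
theorem PL.eq_zero {t : ℕ} : ∀ {F : ℤ → ℚ}, PL t F → ∀ G0 : ℤ, (∀ g, G0 ≤ g → F g = 0) →
    ∀ g, F g = 0 := by
  induction t with
  | zero =>
    intro F hF _ _ g
    exact hF g
  | succ t ih =>
    intro F hF G0 h0 g
    have hΔ : ∀ g, Δ F g = 0 := by
      refine ih (F := Δ F) hF (G0 + 1) (fun g hg => ?_)
      change F g - F (g - 1) = 0
      rw [h0 g (by omega), h0 (g - 1) (by omega), sub_zero]
    have hstep : ∀ g, F (g - 1) = F g := by
      intro g
      have := hΔ g
      change F g - F (g - 1) = 0 at this
      linarith
    have hup : ∀ k : ℕ, ∀ g, F g = F (g + k) := by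
      intro k
      induction k with
      | zero => intro g; simp
      | succ k ihk =>
        intro g
        rw [ihk g]
        have := hstep (g + (k + 1 : ℕ))
        rw [← this]
        congr 1
        push_cast
        ring
    rcases le_total G0 g with h | h
    · exact h0 g h
    · rw [hup (G0 - g).toNat g]
      apply h0
      have : ((G0 - g).toNat : ℤ) = G0 - g := Int.toNat_of_nonneg (by omega)
      omega

/-- polynomials are polynomial-like -/
theorem PL.poly : ∀ (t : ℕ) (P : ℚ[X]), P.natDegree < t → PL t (fun g : ℤ => P.eval (g : ℚ)) := by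
  intro t
  induction t with
  | zero => intro P h; omega
  | succ t ih =>
    intro P hP
    change PL t (Δ fun g : ℤ => P.eval (g : ℚ))
    set Q : ℚ[X] := P - P.comp (X - C 1) with hQ
    have hQe : ∀ g : ℤ, Q.eval (g : ℚ) = Δ (fun g : ℤ => P.eval (g : ℚ)) g := by
      intro g
      simp only [hQ, Δ, eval_sub, eval_comp, eval_X, eval_C]
      push_cast
      ring_nf
    by_cases h0 : P.natDegree = 0
    · have hc : P = C (P.coeff 0) := eq_C_of_natDegree_eq_zero h0
      have hQ0 : Q = 0 := by
        rw [hQ, hc]
        simp
      refine (PL.zero t).congr (fun g => ?_)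
      rw [← hQe g, hQ0, eval_zero]
    · have hlt : Q.natDegree < P.natDegree := by
        have hP0 : P ≠ 0 := by
          rintro rfl
          exact h0 rfl
        have hdeg : (P.comp (X - C 1)).natDegree = P.natDegree := by
          rw [natDegree_comp, natDegree_X_sub_C, mul_one]
        have hlc : (P.comp (X - C 1)).leadingCoeff = P.leadingCoeff := by
          rw [leadingCoeff_comp (by rw [natDegree_X_sub_C]; exact one_ne_zero),
            leadingCoeff_X_sub_C, one_pow, mul_one]
        have hd : P.degree = (P.comp (X - C 1)).degree := by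
          have hc0 : P.comp (X - C 1) ≠ 0 := by
            intro h
            rw [h, leadingCoeff_zero] at hlc
            exact hP0 (leadingCoeff_eq_zero.1 hlc.symm)
          rw [degree_eq_natDegree hP0, degree_eq_natDegree hc0, hdeg]
        have h1 := degree_sub_lt hd hP0 hlc.symm
        by_cases hQ0 : Q = 0
        · rw [hQ0, natDegree_zero]
          omega
        · exact (natDegree_lt_natDegree_iff hQ0).2 h1
      have := ih Q (by omega)
      exact this.congr hQe

end Groth.Agent.Lib.Helper97.SGPoly
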