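import Mathlib
import Groth.Prelude.Def_GrLC
import Groth.Agent.Lib.Helper97.SGLes
import Groth.Agent.Lib.Helper97.SGPoly
import Groth.Agent.Lib.Helper97.DownSet
import Groth.Agent.Lib.Helper97.RegLower
import Groth.Agent.Lib.Helper97.AInvB

/-!
# The Serre–Grothendieck formula for graded local cohomology (helper97)

`H_M(n) - P_M(n) = Σ_i (-1)^i ℓ(H^i_m(M)_n)` for a finitely generated graded module over a
standard graded Noetherian ring with Artinian degree-zero part.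
-/

set_option autoImplicit false
set_option linter.unusedSectionVars false
set_option linter.unusedVariables false
set_option linter.style.haveILetI false
universe u

namespace Groth.Agent.Lib.Helper97.SG

open GrLC DirectSum Groth.Agent.Lib.Helper77.GLC SGPoly

section hfl

variable {R : Type u} [CommRing R] {𝒜 : ℤ → AddSubgroup R} [GradedRing 𝒜]
variable {M' : Type u} [AddCommGroup M'] [Module R M'] {ℳ' : ℤ → AddSubgroup M'} [Decomposition ℳ']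
  [SetLike.GradedSMul 𝒜 ℳ']
variable {M : Type u} [AddCommGroup M] [Module R M] {ℳ : ℤ → AddSubgroup M} [Decomposition ℳ]
  [SetLike.GradedSMul 𝒜 ℳ]
variable {M'' : Type u} [AddCommGroup M''] [Module R M''] {ℳ'' : ℤ → AddSubgroup M''}
  [Decomposition ℳ''] [SetLike.GradedSMul 𝒜 ℳ'']

/-- the Hilbert function, as a length over the degree-zero subring -/
noncomputable def hfl (𝒜 : ℤ → AddSubgroup R) [GradedRing 𝒜] {M : Type u} [AddCommGroup M]
    [Module R M] (ℳ : ℤ → AddSubgroup M) [SetLike.GradedSMul 𝒜 ℳ] (g : ℤ) : ℕ∞ :=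
  Module.length (deg0 𝒜) (comp 𝒜 ℳ g)

theorem hfl_eq_zero_of_bot {g : ℤ} (h : ℳ g = ⊥) : hfl 𝒜 ℳ g = 0 := by
  have : Subsingleton ↥(comp 𝒜 ℳ g) := by
    refine ⟨fun x y => Subtype.ext ?_⟩
    have hx : (x : M) ∈ ℳ g := x.2
    have hy : (y : M) ∈ ℳ g := y.2
    rw [h] at hx hy
    rw [(AddSubgroup.mem_bot).1 hx, (AddSubgroup.mem_bot).1 hy]
  exact Module.length_eq_zero

theorem hfl_gses {f : M' →ₗ[R] M} {p : M →ₗ[R] M''} (hS : GSES ℳ' ℳ ℳ'' f p) (g : ℤ) :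
    hfl 𝒜 ℳ g = hfl 𝒜 ℳ' g + hfl 𝒜 ℳ'' g := by
  let fg : ↥(comp 𝒜 ℳ' g) →ₗ[deg0 𝒜] ↥(comp 𝒜 ℳ g) :=
    (f.restrictScalars (deg0 𝒜)).restrict (p := comp 𝒜 ℳ' g) (q := comp 𝒜 ℳ g)
      (fun m hm => hS.f_gr g m hm)
  let pg : ↥(comp 𝒜 ℳ g) →ₗ[deg0 𝒜] ↥(comp 𝒜 ℳ'' g) :=
    (p.restrictScalars (deg0 𝒜)).restrict (p := comp 𝒜 ℳ g) (q := comp 𝒜 ℳ'' g)
      (fun m hm => hS.p_gr g m hm)
  refine Module.length_eq_add_of_exact fg pg ?_ ?_ ?_
  · intro x y h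
    apply Subtype.ext
    exact hS.f_inj (congrArg Subtype.val h)
  · rintro ⟨y, hy⟩
    obtain ⟨m, rfl⟩ := hS.p_surj y
    refine ⟨⟨(decompose ℳ m g : M), SetLike.coe_mem _⟩, Subtype.ext ?_⟩
    change p (decompose ℳ m g : M) = p m
    rw [← Helper66.Graded.decompose_grHom ℳ ℳ'' p hS.p_gr m g]
    exact decompose_of_mem_same ℳ'' hy
  · intro y
    constructor
    · intro hy
      have h0 : p y.1 = 0 := congrArg Subtype.val hy
      have h1 : y.1 ∈ LinearMap.range f := by rw [← hS.exact]; exact h0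
      obtain ⟨m', hm'⟩ := h1
      have hm'g : m' ∈ ℳ' g :=
        Helper66.GradedSub.mem_of_map_mem ℳ' ℳ f hS.f_gr hS.f_inj (by rw [hm']; exact y.2)
      exact ⟨⟨m', hm'g⟩, Subtype.ext hm'⟩
    · rintro ⟨x, rfl⟩
      apply Subtype.ext
      change p (f x.1) = 0
      have : f x.1 ∈ LinearMap.ker p := by rw [hS.exact]; exact ⟨x.1, rfl⟩
      exact this

theorem hfl_shift (s g : ℤ) :
    hfl 𝒜 (Helper66.GradedShift.shiftGMod 𝒜 ℳ s).gr g = hfl 𝒜 ℳ (s + g) := by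
  let φ1 : (Helper66.GradedShift.shiftGMod 𝒜 ℳ s).carrier →ₗ[R] M := LinearMap.id
  let φ2 : M →ₗ[R] (Helper66.GradedShift.shiftGMod 𝒜 ℳ s).carrier := LinearMap.id
  let u : ↥(comp 𝒜 (Helper66.GradedShift.shiftGMod 𝒜 ℳ s).gr g) →ₗ[deg0 𝒜] ↥(comp 𝒜 ℳ (s + g)) :=
    (φ1.restrictScalars (deg0 𝒜)).restrict
      (p := comp 𝒜 (Helper66.GradedShift.shiftGMod 𝒜 ℳ s).gr g) (q := comp 𝒜 ℳ (s + g))
      (fun m hm => hm)
  let v : ↥(comp 𝒜 ℳ (s + g)) →ₗ[deg0 𝒜] ↥(comp 𝒜 (Helper66.GradedShift.shiftGMod 𝒜 ℳ s).gr g) :=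
    (φ2.restrictScalars (deg0 𝒜)).restrict
      (p := comp 𝒜 ℳ (s + g)) (q := comp 𝒜 (Helper66.GradedShift.shiftGMod 𝒜 ℳ s).gr g)
      (fun m hm => hm)
  have huv : ∀ x, v (u x) = x := fun x => rfl
  have hvu : ∀ x, u (v x) = x := fun x => rfl
  apply le_antisymm
  · exact Module.length_le_of_injective u (Function.LeftInverse.injective huv)
  · exact Module.length_le_of_injective v (Function.LeftInverse.injective hvu)

end hfl

section claim

variable {R : Type u} [CommRing R] [IsNoetherianRing R] {𝒜 : ℤ → AddSubgroup R} [GradedRing 𝒜]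

/-- the defect function `H_M(g) - χ_M(g)` -/
noncomputable def Fd {M : Type u} [AddCommGroup M] [Module R M] {ℳ : ℤ → AddSubgroup M}
    [Decomposition ℳ] [SetLike.GradedSMul 𝒜 ℳ] (EM : StarInjRes 𝒜 ℳ) (a : Ideal R) (d : ℕ)
    (g : ℤ) : ℚ :=
  ((hfl 𝒜 ℳ g).toNat : ℚ) - chi EM a d g

/-- the inductive claim -/
structure Claim {M : Type u} [AddCommGroup M] [Module R M] {ℳ : ℤ → AddSubgroup M}
    [Decomposition ℳ] [SetLike.GradedSMul 𝒜 ℳ] (EM : StarInjRes 𝒜 ℳ) (a : Ideal R) (d : ℕ) :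
    Prop where
  fin : ∀ i g, hl EM a i g ≠ ⊤
  hfin : ∀ g, hfl 𝒜 ℳ g ≠ ⊤
  pl : ∃ t, PL t (Fd EM a d)

variable {M : Type u} [AddCommGroup M] [Module R M] {ℳ : ℤ → AddSubgroup M} [Decomposition ℳ]
  [SetLike.GradedSMul 𝒜 ℳ]

theorem finite_deg0 (hpos : ∀ n : ℤ, n < 0 → 𝒜 n = ⊥) [Module.Finite R M]
    (hkill : ∀ r ∈ Ideal.span (AInvB.posSet 𝒜), ∀ m : M, r • m = 0) :
    Module.Finite (deg0 𝒜) M := by
  obtain ⟨S, hS⟩ := (Module.Finite.fg_top : (⊤ : Submodule R M).FG)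
  refine ⟨⟨S, ?_⟩⟩
  rw [eq_top_iff]
  intro m _
  have hm : m ∈ Submodule.span R (S : Set M) := by rw [hS]; trivial
  refine Submodule.span_induction (p := fun m _ => m ∈ Submodule.span (deg0 𝒜) (S : Set M))
    ?_ ?_ ?_ ?_ hm
  · intro x hx
    exact Submodule.subset_span hx
  · exact zero_mem _
  · intro x y _ _ hx hy
    exact add_mem hx hy
  · intro r x _ hx
    have h1 : (r - (decompose 𝒜 r 0 : R)) • x = 0 :=
      hkill _ (AInvB.sub_decompose_zero_mem hpos r) x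
    have h2 : r • x = (decompose 𝒜 r 0 : R) • x := by
      rw [sub_smul, sub_eq_zero] at h1
      exact h1
    rw [h2]
    exact Submodule.smul_mem _ (⟨(decompose 𝒜 r 0 : R), SetLike.coe_mem _⟩ : deg0 𝒜) hx

theorem claim_base (hpos : ∀ n : ℤ, n < 0 → 𝒜 n = ⊥) [IsArtinianRing (deg0 𝒜)]
    (a : HomogeneousIdeal 𝒜) (harad : a.toIdeal ≤ (Ideal.span (AInvB.posSet 𝒜)).radical) (d : ℕ)
    [Module.Finite R M] (hkill : ∀ r ∈ Ideal.span (AInvB.posSet 𝒜), ∀ m : M, r • m = 0)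
    (EM : StarInjRes 𝒜 ℳ) : Claim EM a.toIdeal d := by
  obtain ⟨N, hN⟩ := Ideal.exists_pow_le_of_le_radical_of_fg harad (IsNoetherian.noetherian _)
  have htor : ∀ m : M, ∃ n : ℕ, ∀ r ∈ a.toIdeal ^ n, r • m = 0 :=
    fun m => ⟨N, fun r hr => hkill r (hN hr) m⟩
  have hgam : ∀ m : M, m ∈ gam a.toIdeal M := htor
  have hhigh : ∀ i g, hl EM a.toIdeal (i + 1) g = 0 := fun i g =>
    hl_eq_zero_of_HV (HV_of_torsion EM a htor (i + 1) (Nat.succ_pos i) g)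
  have hfinM : Module.Finite (deg0 𝒜) M := finite_deg0 hpos hkill
  have hfin : ∀ g, hfl 𝒜 ℳ g ≠ ⊤ := by
    intro g
    have h1 : Module.length (deg0 𝒜) M ≠ ⊤ := Module.length_ne_top
    exact ne_top_of_le_ne_top h1
      (Module.length_le_of_injective (comp 𝒜 ℳ g).subtype (Submodule.subtype_injective _))
  have h0 : ∀ g, hl EM a.toIdeal 0 g = hfl 𝒜 ℳ g := by
    intro g
    let ψ0 : ↥(comp 𝒜 ℳ g) →ₗ[deg0 𝒜] ↥(Zs EM a.toIdeal 0 g) :=
      (EM.ε.restrictScalars (deg0 𝒜)).restrict (p := comp 𝒜 ℳ g) (q := Zs EM a.toIdeal 0 g)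
        (fun m hm => ⟨⟨map_mem_gam EM.ε (hgam m), EM.ε_grHom g m hm⟩, d_comp_ε EM m⟩)
    let ψ : ↥(comp 𝒜 ℳ g) →ₗ[deg0 𝒜] Hs EM a.toIdeal 0 g :=
      ((Bs EM a.toIdeal 0 g).comap (Zs EM a.toIdeal 0 g).subtype).mkQ ∘ₗ ψ0
    have hinj : Function.Injective ψ := by
      rw [← LinearMap.ker_eq_bot, eq_bot_iff]
      intro x hx
      rw [LinearMap.mem_ker] at hx
      have h1 : ψ0 x ∈ (Bs EM a.toIdeal 0 g).comap (Zs EM a.toIdeal 0 g).subtype :=
        (Submodule.Quotient.mk_eq_zero _).1 hx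
      have h2 : EM.ε x.1 = 0 := h1
      rw [Submodule.mem_bot]
      apply Subtype.ext
      exact EM.ε_injective (h2.trans (map_zero _).symm)
    have hsurj : Function.Surjective ψ := by
      intro y
      obtain ⟨z, hz, hd, rfl⟩ := cls_surj y
      have h2 : z ∈ LinearMap.range EM.ε := by rw [← EM.exact_zero]; exact hd
      obtain ⟨m, rfl⟩ := h2
      have hm : m ∈ ℳ g :=
        Helper66.GradedSub.mem_of_map_mem ℳ (EM.X 0).gr EM.ε EM.ε_grHom EM.ε_injective hz.2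
      exact ⟨⟨m, hm⟩, rfl⟩
    exact ((LinearEquiv.ofBijective ψ ⟨hinj, hsurj⟩).length_eq).symm
  refine ⟨?_, hfin, ⟨0, fun g => ?_⟩⟩
  · intro i g
    cases i with
    | zero => rw [h0]; exact hfin g
    | succ i => rw [hhigh]; exact ENat.zero_ne_top
  · unfold Fd chi
    rw [Finset.sum_eq_single 0]
    · rw [h0, pow_zero, one_mul, sub_self]
    · intro i _ hi
      obtain ⟨j, rfl⟩ := Nat.exists_eq_succ_of_ne_zero hi
      rw [hhigh]
      simp
    · intro h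
      exact absurd (Finset.mem_range.2 (Nat.succ_pos d)) h

end claim

section step

variable {R : Type u} [CommRing R] [IsNoetherianRing R] {𝒜 : ℤ → AddSubgroup R} [GradedRing 𝒜]
variable {K : Type u} [AddCommGroup K] [Module R K] {𝒦 : ℤ → AddSubgroup K} [Decomposition 𝒦]
  [SetLike.GradedSMul 𝒜 𝒦]
variable {M : Type u} [AddCommGroup M] [Module R M] {ℳ : ℤ → AddSubgroup M} [Decomposition ℳ]
  [SetLike.GradedSMul 𝒜 ℳ]
variable {MK : Type u} [AddCommGroup MK] [Module R MK] {𝒬' : ℤ → AddSubgroup MK}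
  [Decomposition 𝒬'] [SetLike.GradedSMul 𝒜 𝒬']
variable {Q : Type u} [AddCommGroup Q] [Module R Q] {𝒬 : ℤ → AddSubgroup Q} [Decomposition 𝒬]
  [SetLike.GradedSMul 𝒜 𝒬]

theorem claim_step (a : HomogeneousIdeal 𝒜) (d : ℕ) (hd : ringKrullDim R ≤ d)
    {i1 : K →ₗ[R] M} {p1 : M →ₗ[R] MK} (hS1 : GSES 𝒦 ℳ 𝒬' i1 p1)
    {xb : (Helper66.GradedShift.shiftGMod 𝒜 𝒬' (-1)).carrier →ₗ[R] M} {π : M →ₗ[R] Q}
    (hS2 : GSES (Helper66.GradedShift.shiftGMod 𝒜 𝒬' (-1)).gr ℳ 𝒬 xb π)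
    (EK : StarInjRes 𝒜 𝒦) (EM : StarInjRes 𝒜 ℳ) (EMK : StarInjRes 𝒜 𝒬') (EQ : StarInjRes 𝒜 𝒬)
    (cK : Claim EK a.toIdeal d) (cQ : Claim EQ a.toIdeal d)
    (hvan : ∃ r : ℤ, ∀ (i : ℕ) (g : ℤ), r ≤ g → HV EM a.toIdeal i g)
    (hbelow : ∃ n₀ : ℤ, ∀ n : ℤ, n < n₀ → ℳ n = ⊥) : Claim EM a.toIdeal d := by
  have hsh : ∀ i g, hl (shiftRes EMK (-1)) a.toIdeal i g = hl EMK a.toIdeal i (-1 + g) :=
    fun i g => hl_shiftRes EMK (-1) a.toIdeal i g
  have hcancel : ∀ g : ℤ, -1 + (g + 1) = g := fun g => by ring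
  obtain ⟨r, hr⟩ := hvan
  -- finiteness of the cohomology of `M`
  have finM : ∀ i g, hl EM a.toIdeal i g ≠ ⊤ := by
    intro i
    have key : ∀ k : ℕ, ∀ g : ℤ, r ≤ g + k → hl EM a.toIdeal i g ≠ ⊤ := by
      intro k
      induction k with
      | zero =>
        intro g hg
        rw [hl_eq_zero_of_HV (hr i g (by simpa using hg))]
        exact ENat.zero_ne_top
      | succ k ih =>
        intro g hg
        have h1 : hl EM a.toIdeal i (g + 1) ≠ ⊤ := ih (g + 1) (by push_cast at hg ⊢; omega)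
        have hA := hl_mid_le hS1 EK EM EMK a.toIdeal g i
        have hB : hl EMK a.toIdeal i g ≠ ⊤ := by
          cases i with
          | zero =>
            have h2 := hl_left_zero_le hS2 (shiftRes EMK (-1)) EM EQ a.toIdeal (g + 1)
            rw [hsh, hcancel] at h2
            exact ne_top_of_le_ne_top h1 h2
          | succ j =>
            have h2 := hl_left_succ_le hS2 (shiftRes EMK (-1)) EM EQ a.toIdeal (g + 1) j
            rw [hsh, hcancel] at h2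
            exact ne_top_of_le_ne_top (WithTop.add_ne_top.2 ⟨cQ.fin j (g + 1), h1⟩) h2
        exact ne_top_of_le_ne_top (WithTop.add_ne_top.2 ⟨cK.fin i g, hB⟩) hA
    intro g
    refine key (r - g).toNat g ?_
    have := Int.self_le_toNat (r - g)
    omega
  have finMK : ∀ i g, hl EMK a.toIdeal i g ≠ ⊤ := fun i g =>
    ne_top_of_le_ne_top (WithTop.add_ne_top.2 ⟨finM i g, cK.fin (i + 1) g⟩)
      (hl_right_le hS1 EK EM EMK a.toIdeal g i)
  -- finiteness of the Hilbert function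
  obtain ⟨n₀, hn₀⟩ := hbelow
  have hH1 : ∀ g, hfl 𝒜 ℳ g = hfl 𝒜 𝒦 g + hfl 𝒜 𝒬' g := hfl_gses hS1
  have hH2 : ∀ g, hfl 𝒜 ℳ g = hfl 𝒜 𝒬' (-1 + g) + hfl 𝒜 𝒬 g := fun g => by
    rw [hfl_gses hS2 g, hfl_shift]
  have hfM : ∀ g, hfl 𝒜 ℳ g ≠ ⊤ := by
    have key : ∀ k : ℕ, ∀ g : ℤ, g < n₀ + k → hfl 𝒜 ℳ g ≠ ⊤ := by
      intro k
      induction k with
      | zero =>
        intro g hg
        rw [hfl_eq_zero_of_bot (hn₀ g (by simpa using hg))]
        exact ENat.zero_ne_top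
      | succ k ih =>
        intro g hg
        have h1 := ih (-1 + g) (by push_cast at hg ⊢; omega)
        rw [hH2 g]
        refine WithTop.add_ne_top.2 ⟨?_, cQ.hfin g⟩
        have h2 : hfl 𝒜 𝒬' (-1 + g) ≤ hfl 𝒜 ℳ (-1 + g) := by
          rw [hH1 (-1 + g)]
          exact le_add_self
        exact ne_top_of_le_ne_top h1 h2
    intro g
    refine key (g - n₀ + 1).toNat g ?_
    have := Int.self_le_toNat (g - n₀ + 1)
    omega
  have hfMK : ∀ g, hfl 𝒜 𝒬' g ≠ ⊤ := fun g =>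
    ne_top_of_le_ne_top (hfM g) (by rw [hH1 g]; exact le_add_self)
  -- the difference equation
  obtain ⟨tK, hK⟩ := cK.pl
  obtain ⟨tQ, hQ⟩ := cQ.pl
  have hchi1 : ∀ g, chi EM a.toIdeal d g = chi EK a.toIdeal d g + chi EMK a.toIdeal d g :=
    fun g => chi_add hS1 EK EM EMK a.toIdeal g d (fun i => cK.fin i g) (fun i => finMK i g)
      (hl_eq_zero_of_HV (DownSet.HV_of_dim_lt a d hd EK (d + 1) (Nat.lt_succ_self d) g))
  have hchi2 : ∀ g, chi EM a.toIdeal d g =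
      chi EMK a.toIdeal d (-1 + g) + chi EQ a.toIdeal d g := by
    intro g
    have h := chi_add hS2 (shiftRes EMK (-1)) EM EQ a.toIdeal g d
      (fun i => by rw [hsh]; exact finMK i _) (fun i => cQ.fin i g)
      (hl_eq_zero_of_HV (DownSet.HV_of_dim_lt a d hd (shiftRes EMK (-1)) (d + 1)
        (Nat.lt_succ_self d) g))
    rw [h]
    congr 1
    unfold chi
    simp only [hsh]
  have hHq1 : ∀ g, ((hfl 𝒜 ℳ g).toNat : ℚ) =
      ((hfl 𝒜 𝒦 g).toNat : ℚ) + ((hfl 𝒜 𝒬' g).toNat : ℚ) := fun g => by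
    rw [hH1 g, ENat.toNat_add (cK.hfin g) (hfMK g)]
    push_cast
    rfl
  have hHq2 : ∀ g, ((hfl 𝒜 ℳ g).toNat : ℚ) =
      ((hfl 𝒜 𝒬' (-1 + g)).toNat : ℚ) + ((hfl 𝒜 𝒬 g).toNat : ℚ) := fun g => by
    rw [hH2 g, ENat.toNat_add (hfMK _) (cQ.hfin g)]
    push_cast
    rfl
  refine ⟨finM, hfM, ⟨max tK tQ + 1, ?_⟩⟩
  apply PL.of_delta (G := fun g => Fd EQ a.toIdeal d g - Fd EK a.toIdeal d (g - 1))
  · exact (hQ.mono (le_max_right _ _)).sub ((hK.mono (le_max_left _ _)).shift)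
  · intro g
    have e1 : (-1 + g : ℤ) = g - 1 := by ring
    simp only [Fd]
    rw [hHq2 g, hchi2 g, hHq1 (g - 1), hchi1 (g - 1), e1]
    ring

end step

end Groth.Agent.Lib.Helper97.SG
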