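import Mathlib
import Groth.Prelude.Def_GrLC
import Groth.Agent.Lib.Helper97.SGInd
import Groth.Agent.Lib.Helper97.GrHtOne
import Groth.Agent.Lib.Helper97.AInvD

/-!
# The Serre–Grothendieck formula: the induction and the main theorem (helper97)
-/

set_option autoImplicit false
set_option linter.unusedSectionVars false
set_option linter.unusedVariables false
set_option linter.style.haveILetI false
universe u

namespace Groth.Agent.Lib.Helper97.SG

open GrLC DirectSum Groth.Agent.Lib.Helper77.GLC SGPoly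

section ind

variable {R : Type u} [CommRing R] [IsNoetherianRing R] {𝒜 : ℤ → AddSubgroup R} [GradedRing 𝒜]

theorem claim_ind (hpos : ∀ n : ℤ, n < 0 → 𝒜 n = ⊥) [IsArtinianRing (deg0 𝒜)]
    (a : HomogeneousIdeal 𝒜) (harad : a.toIdeal ≤ (Ideal.span (AInvB.posSet 𝒜)).radical) (d : ℕ)
    (hd : ringKrullDim R ≤ d)
    (hvan : ∀ (M : Type u) [AddCommGroup M] [Module R M] (ℳ : ℤ → AddSubgroup M)
      [Decomposition ℳ] [SetLike.GradedSMul 𝒜 ℳ] [Module.Finite R M] (EM : StarInjRes 𝒜 ℳ),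
      ∃ r : ℤ, ∀ (i : ℕ) (g : ℤ), r ≤ g → HV EM a.toIdeal i g)
    (xs : List R) :
    ∀ (𝔠 : Ideal R) (_ : ∀ x ∈ xs, x ∈ 𝒜 1)
      (_ : Ideal.span (AInvB.posSet 𝒜) ≤ 𝔠 ⊔ Ideal.ofList xs)
      (M : Type u) [AddCommGroup M] [Module R M] (ℳ : ℤ → AddSubgroup M) [Decomposition ℳ]
      [SetLike.GradedSMul 𝒜 ℳ] [Module.Finite R M] (_ : ∀ r ∈ 𝔠, ∀ m : M, r • m = 0)
      (EM : StarInjRes 𝒜 ℳ), Claim EM a.toIdeal d := by
  classical
  induction xs with
  | nil =>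
    intro 𝔠 _ hle M _ _ ℳ _ _ _ hc EM
    rw [Ideal.ofList_nil, sup_bot_eq] at hle
    exact claim_base hpos a harad d (fun r hr m => hc r (hle hr) m) EM
  | cons x xs ih =>
    intro 𝔠 hxs hle M _ _ ℳ _ _ _ hc EM
    have hx : x ∈ 𝒜 1 := hxs x (List.mem_cons_self ..)
    have hxs' : ∀ y ∈ xs, y ∈ 𝒜 1 := fun y hy => hxs y (List.mem_cons_of_mem _ hy)
    have hle' : Ideal.span (AInvB.posSet 𝒜) ≤ (𝔠 ⊔ Ideal.span {x}) ⊔ Ideal.ofList xs := by
      rw [Ideal.ofList_cons, ← sup_assoc] at hle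
      exact hle
    have hmem : ∀ r ∈ 𝔠 ⊔ Ideal.span {x}, ∃ c ∈ 𝔠, ∃ t : R, r = c + t * x := by
      intro r hr
      obtain ⟨c, hc', y, hy, rfl⟩ := Submodule.mem_sup.1 hr
      obtain ⟨t, rfl⟩ := Ideal.mem_span_singleton'.1 hy
      exact ⟨c, hc', t, rfl⟩
    haveI : IsNoetherian R M := isNoetherian_of_isNoetherianRing_of_finite R M
    set K : Submodule R M := LinearMap.ker (x • (LinearMap.id : M →ₗ[R] M)) with hKdef
    have hKhom : K.IsHomogeneous ℳ := ker_smul_isHomogeneous hx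
    let _ : Decomposition (Helper66.GradedSub.spiece ℳ K) :=
      Helper66.GradedSub.subDecomposition ℳ K hKhom
    let _ : SetLike.GradedSMul 𝒜 (Helper66.GradedSub.spiece ℳ K) :=
      Helper66.GradedSub.subGradedSMul 𝒜 ℳ K
    let _ : Decomposition (Helper66.GradedQuot.qpiece ℳ K) :=
      Helper66.GradedQuot.quotDecomposition ℳ K hKhom
    let _ : SetLike.GradedSMul 𝒜 (Helper66.GradedQuot.qpiece ℳ K) :=
      Helper66.GradedQuot.quotGradedSMul 𝒜 ℳ K
    have hS1 : GSES (Helper66.GradedSub.spiece ℳ K) ℳ (Helper66.GradedQuot.qpiece ℳ K)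
        K.subtype K.mkQ :=
      { f_gr := fun _ _ hx => hx
        p_gr := Helper66.GradedQuot.mkQ_grHom ℳ K
        f_inj := Subtype.val_injective
        p_surj := K.mkQ_surjective
        exact := by rw [Submodule.ker_mkQ, Submodule.range_subtype] }
    -- the cokernel
    set Q : Submodule R M := LinearMap.range (x • (LinearMap.id : M →ₗ[R] M)) with hQdef
    have hQhom : Q.IsHomogeneous ℳ := range_smul_isHomogeneous' hx
    let _ : Decomposition (Helper66.GradedQuot.qpiece ℳ Q) :=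
      Helper66.GradedQuot.quotDecomposition ℳ Q hQhom
    let _ : SetLike.GradedSMul 𝒜 (Helper66.GradedQuot.qpiece ℳ Q) :=
      Helper66.GradedQuot.quotGradedSMul 𝒜 ℳ Q
    let xb : (Helper66.GradedShift.shiftGMod 𝒜 (Helper66.GradedQuot.qpiece ℳ K) (-1)).carrier
        →ₗ[R] M := K.liftQ (x • (LinearMap.id : M →ₗ[R] M)) le_rfl
    have hxb : ∀ m : M, xb (K.mkQ m) = x • m := fun m => rfl
    have hS2 : GSES (Helper66.GradedShift.shiftGMod 𝒜 (Helper66.GradedQuot.qpiece ℳ K) (-1)).gr ℳ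
        (Helper66.GradedQuot.qpiece ℳ Q) xb Q.mkQ :=
      { f_gr := by
          rintro g _ ⟨m, (hm : m ∈ ℳ (-1 + g)), rfl⟩
          change xb (K.mkQ m) ∈ ℳ g
          rw [hxb]
          have := SetLike.GradedSMul.smul_mem (A := 𝒜) (B := ℳ) hx hm
          rw [vadd_eq_add, add_neg_cancel_left] at this
          exact this
        p_gr := Helper66.GradedQuot.mkQ_grHom ℳ Q
        f_inj := by
          rw [← LinearMap.ker_eq_bot]
          exact Submodule.ker_liftQ_eq_bot _ _ _ le_rfl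
        p_surj := Q.mkQ_surjective
        exact := by
          rw [Submodule.ker_mkQ]
          exact (Submodule.range_liftQ K (x • (LinearMap.id : M →ₗ[R] M)) le_rfl).symm }
    haveI : Module.Finite R K := Module.IsNoetherian.finite R K
    obtain ⟨EK⟩ := exists_res (𝒜 := 𝒜) K (Helper66.GradedSub.spiece ℳ K)
    obtain ⟨EMK⟩ := exists_res (𝒜 := 𝒜) (M ⧸ K) (Helper66.GradedQuot.qpiece ℳ K)
    obtain ⟨EQ⟩ := exists_res (𝒜 := 𝒜) (M ⧸ Q) (Helper66.GradedQuot.qpiece ℳ Q)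
    have hcK : ∀ r ∈ 𝔠 ⊔ Ideal.span {x}, ∀ k : K, r • k = 0 := by
      intro r hr k
      obtain ⟨c, hc', t, rfl⟩ := hmem r hr
      apply Subtype.ext
      have hk : x • (k.1 : M) = 0 := LinearMap.mem_ker.1 k.2
      change (c + t * x) • (k.1 : M) = 0
      rw [add_smul, hc c hc', mul_smul, hk, smul_zero, add_zero]
    have hcC : ∀ r ∈ 𝔠 ⊔ Ideal.span {x}, ∀ k : M ⧸ Q, r • k = 0 := by
      intro r hr k
      obtain ⟨c, hc', t, rfl⟩ := hmem r hr
      obtain ⟨m, rfl⟩ := Submodule.mkQ_surjective _ k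
      rw [← map_smul, add_smul, hc c hc', zero_add, ← LinearMap.mem_ker, Submodule.ker_mkQ]
      exact ⟨t • m, by
        change x • (t • m) = (t * x) • m
        rw [smul_smul, mul_comm]⟩
    have cK := ih (𝔠 ⊔ Ideal.span {x}) hxs' hle' K (Helper66.GradedSub.spiece ℳ K) hcK EK
    have cQ := ih (𝔠 ⊔ Ideal.span {x}) hxs' hle' (M ⧸ Q) (Helper66.GradedQuot.qpiece ℳ Q) hcC EQ
    exact claim_step a d hd hS1 hS2 EK EM EMK EQ cK cQ (hvan M ℳ EM)
      (exists_piece_eq_bot_below (ℳ := ℳ) hpos)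

end ind

section main

/-- the structural claim for the *maximal ideal of a standard graded ring -/
theorem main_claim (R : Type u) [CommRing R] [IsNoetherianRing R] (𝒜 : ℤ → AddSubgroup R)
    [GradedRing 𝒜] (hpos : ∀ n : ℤ, n < 0 → 𝒜 n = ⊥)
    (hstd : Ideal.span (⋃ n ∈ Set.Ioi (0 : ℤ), (𝒜 n : Set R)) =
      Ideal.span ((𝒜 1 : AddSubgroup R) : Set R))
    [IsArtinianRing (GrLC.deg0 𝒜)] (m : HomogeneousIdeal 𝒜) (hm : GrLC.IsStarLocal 𝒜 m) (d : ℕ)
    (hd : ringKrullDim R = d) (M : Type u) [AddCommGroup M] [Module R M] [Module.Finite R M]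
    (ℳ : ℤ → AddSubgroup M) [DirectSum.Decomposition ℳ] [SetLike.GradedSMul 𝒜 ℳ]
    (E : GrLC.StarInjRes 𝒜 ℳ) :
    Claim E m.toIdeal d ∧ ∃ r : ℤ, ∀ (i : ℕ) (g : ℤ), r ≤ g → HV E m.toIdeal i g := by
  classical
  obtain ⟨a, ha⟩ : ∃ a : HomogeneousIdeal 𝒜, a.toIdeal = Ideal.span (AInvB.posSet 𝒜) :=
    ⟨⟨_, GrHtOne.span_posSet_hom⟩, rfl⟩
  have hale : a.toIdeal ≤ m.toIdeal := by
    rw [ha]
    exact GrHtOne.span_posSet_le hpos m hm
  have hmrad : m.toIdeal ≤ a.toIdeal.radical := by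
    intro x hx
    have hx0 : (decompose 𝒜 x 0 : R) ∈ m.toIdeal := m.isHomogeneous 0 hx
    have h1 : x - (decompose 𝒜 x 0 : R) ∈ a.toIdeal := by
      rw [ha]
      exact AInvB.sub_decompose_zero_mem hpos x
    have hnil : IsNilpotent (decompose 𝒜 x 0 : R) :=
      RegLower.nilpotent_of_mem m hm hx0 (SetLike.coe_mem _)
    have h2 : (decompose 𝒜 x 0 : R) ∈ a.toIdeal.radical := by
      obtain ⟨n, hn⟩ := hnil
      exact ⟨n, by rw [hn]; exact zero_mem _⟩
    have h3 := a.toIdeal.radical.add_mem h2 (Ideal.le_radical h1)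
    rwa [add_sub_cancel] at h3
  have hgam : ∀ (X : Type u) [AddCommGroup X] [Module R X],
      gam a.toIdeal X = gam m.toIdeal X := fun X _ _ =>
    le_antisymm (RegLower.gam_le_of_le_radical hmrad X)
      (RegLower.gam_le_of_le_radical (hale.trans Ideal.le_radical) X)
  -- generators of degree one
  have hfg : (Ideal.span ((𝒜 1 : AddSubgroup R) : Set R)).FG := IsNoetherian.noetherian _
  obtain ⟨s, hs, hspan⟩ :=
    (Submodule.fg_span_iff_fg_span_finset_subset ((𝒜 1 : AddSubgroup R) : Set R)).1 hfg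
  have hxs1 : ∀ x ∈ s.toList, x ∈ 𝒜 1 := fun x hx => hs (Finset.mem_toList.1 hx)
  have hofl : Ideal.ofList s.toList = Ideal.span (AInvB.posSet 𝒜) := by
    have h1 : Ideal.ofList s.toList = Ideal.span (s : Set R) := by
      unfold Ideal.ofList
      congr 1
      ext x
      simp
    rw [h1]
    have h2 : Ideal.span (AInvB.posSet 𝒜) = Ideal.span ((𝒜 1 : AddSubgroup R) : Set R) := hstd
    rw [h2]
    exact hspan.symm
  have haA : ∀ n : ℤ, 0 < n → ∀ r ∈ 𝒜 n, r ∈ a.toIdeal := fun n hn r hr => by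
    rw [ha]
    exact Ideal.subset_span (AInvB.mem_posSet hn hr)
  have hvan : ∀ (M : Type u) [AddCommGroup M] [Module R M] (ℳ : ℤ → AddSubgroup M)
      [Decomposition ℳ] [SetLike.GradedSMul 𝒜 ℳ] [Module.Finite R M] (EM : StarInjRes 𝒜 ℳ),
      ∃ r : ℤ, ∀ (i : ℕ) (g : ℤ), r ≤ g → HV EM m.toIdeal i g := by
    intro M _ _ ℳ _ _ _ EM
    obtain ⟨r, hr⟩ := exists_HV_above hpos a haA s.toList ⊥
      (fun x hx => ⟨haA 1 one_pos x (hxs1 x hx), 1, one_pos, hxs1 x hx⟩)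
      (by rw [bot_sup_eq, hofl, ha]) M ℳ
      (fun r hr m => by rw [(Submodule.mem_bot R).1 hr, zero_smul]) EM
    exact ⟨r, fun i g hg => RegLower.HV_congr hgam EM i g (hr i g hg)⟩
  refine ⟨?_, hvan M ℳ E⟩
  exact claim_ind hpos m (ha ▸ hmrad) d hd.le hvan s.toList ⊥ hxs1
    (by rw [bot_sup_eq, hofl]) M ℳ
    (fun r hr m => by rw [(Submodule.mem_bot R).1 hr, zero_smul]) E

/-- **the Serre–Grothendieck formula** -/
theorem main (R : Type u) [CommRing R] [IsNoetherianRing R] (𝒜 : ℤ → AddSubgroup R)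
    [GradedRing 𝒜] (hpos : ∀ n : ℤ, n < 0 → 𝒜 n = ⊥)
    (hstd : Ideal.span (⋃ n ∈ Set.Ioi (0 : ℤ), (𝒜 n : Set R)) =
      Ideal.span ((𝒜 1 : AddSubgroup R) : Set R))
    [IsArtinianRing (GrLC.deg0 𝒜)] (m : HomogeneousIdeal 𝒜) (hm : GrLC.IsStarLocal 𝒜 m) (d : ℕ)
    (hd : ringKrullDim R = d) (M : Type u) [AddCommGroup M] [Module R M] [Module.Finite R M]
    (ℳ : ℤ → AddSubgroup M) [DirectSum.Decomposition ℳ] [SetLike.GradedSMul 𝒜 ℳ]
    (E : GrLC.StarInjRes 𝒜 ℳ) (P : Polynomial ℚ)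
    (hP : ∃ N : ℤ, ∀ n : ℤ, N ≤ n → P.eval (n : ℚ) =
      ((Module.length (GrLC.deg0 𝒜) (GrLC.comp 𝒜 ℳ n)).toNat : ℚ)) (n : ℤ) :
    ((Module.length (GrLC.deg0 𝒜) (GrLC.comp 𝒜 ℳ n)).toNat : ℚ) - P.eval (n : ℚ) =
      ∑ i ∈ Finset.range (d + 1),
        (-1 : ℚ) ^ i * ((Module.length (GrLC.deg0 𝒜) (E.Hcomp m i n)).toNat : ℚ) := by
  obtain ⟨c, r, hr⟩ := main_claim R 𝒜 hpos hstd m hm d hd M ℳ E
  obtain ⟨t, ht⟩ := c.pl
  obtain ⟨N, hN⟩ := hP
  have hG : PL (max t (P.natDegree + 1))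
      (fun g : ℤ => Fd E m.toIdeal d g - P.eval (g : ℚ)) :=
    (ht.mono (le_max_left _ _)).sub
      ((PL.poly (P.natDegree + 1) P (Nat.lt_succ_self _)).mono (le_max_right _ _))
  have hzero : ∀ g : ℤ, max N r ≤ g → Fd E m.toIdeal d g - P.eval (g : ℚ) = 0 := by
    intro g hg
    have h1 : chi E m.toIdeal d g = 0 := by
      unfold chi
      apply Finset.sum_eq_zero
      intro i _
      rw [hl_eq_zero_of_HV (hr i g (le_trans (le_max_right _ _) hg))]
      simp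
    unfold Fd
    rw [h1, hN g (le_trans (le_max_left _ _) hg)]
    unfold hfl
    ring
  have key := hG.eq_zero (max N r) hzero n
  have hsum : (∑ i ∈ Finset.range (d + 1),
      (-1 : ℚ) ^ i * ((Module.length (GrLC.deg0 𝒜) (E.Hcomp m i n)).toNat : ℚ)) =
      chi E m.toIdeal d n := by
    unfold chi
    apply Finset.sum_congr rfl
    intro i _
    rw [length_Hcomp]
  rw [hsum]
  have key' : ((hfl 𝒜 ℳ n).toNat : ℚ) - chi E m.toIdeal d n - P.eval (n : ℚ) = 0 := key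
  unfold hfl at key'
  linarith

end main

end Groth.Agent.Lib.Helper97.SG
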