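import Mathlib
import Groth.Prelude.Def_GrLC
import Groth.Agent.Lib.Helper97.SGMain
import Groth.Agent.Lib.Helper97.PolyA
import Groth.Agent.Lib.Helper97.FiltReg
import Groth.Agent.Lib.Helper97.Avoid

/-!
# Vanishing of graded local cohomology above the dimension for graded Cohen–Macaulay modules
(helper97)

For a standard graded Noetherian ring with Artinian degree-zero part, *local with infinite residue
field: linear non-zerodivisors, `dim ≤ 0 ⇒ m`-torsion, and `H^i_m(M) = 0` for `i > c` when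
`dim M ≤ c` and `H^i_m(M) = 0` for `i < c`.  Consequence: the Serre–Grothendieck formula for
Cohen–Macaulay modules has a single term.
-/

set_option autoImplicit false
set_option linter.unusedSectionVars false
set_option linter.unusedVariables false
set_option linter.style.haveILetI false
universe u

namespace Groth.Agent.Lib.Helper97.CMVan

open GrLC DirectSum IsLocalRing Groth.Agent.Lib.Helper77.GLC SG
open scoped Pointwise

section

variable {R : Type u} [CommRing R] [IsNoetherianRing R] {𝒜 : ℤ → AddSubgroup R} [GradedRing 𝒜]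

theorem le_radical_irr (hpos : ∀ n : ℤ, n < 0 → 𝒜 n = ⊥) [IsArtinianRing (deg0 𝒜)]
    (m : HomogeneousIdeal 𝒜) (hm : IsStarLocal 𝒜 m) :
    m.toIdeal ≤ (Ideal.span (AInvB.posSet 𝒜)).radical := by
  intro x hx
  have hx0 : (decompose 𝒜 x 0 : R) ∈ m.toIdeal := m.isHomogeneous 0 hx
  have h1 : x - (decompose 𝒜 x 0 : R) ∈ Ideal.span (AInvB.posSet 𝒜) :=
    AInvB.sub_decompose_zero_mem hpos x
  have hnil : IsNilpotent (decompose 𝒜 x 0 : R) :=
    RegLower.nilpotent_of_mem m hm hx0 (SetLike.coe_mem _)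
  have h2 : (decompose 𝒜 x 0 : R) ∈ (Ideal.span (AInvB.posSet 𝒜)).radical := by
    obtain ⟨n, hn⟩ := hnil
    exact ⟨n, by rw [hn]; exact zero_mem _⟩
  have h3 := (Ideal.span (AInvB.posSet 𝒜)).radical.add_mem h2 (Ideal.le_radical h1)
  rwa [add_sub_cancel] at h3

variable (hpos : ∀ n : ℤ, n < 0 → 𝒜 n = ⊥)
  (hstd : Ideal.span (⋃ n ∈ Set.Ioi (0 : ℤ), (𝒜 n : Set R)) =
    Ideal.span ((𝒜 1 : AddSubgroup R) : Set R))
  [IsArtinianRing (deg0 𝒜)] (m : HomogeneousIdeal 𝒜) (hm : IsStarLocal 𝒜 m)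
  (hinf : Infinite (R ⧸ m.toIdeal))

include hpos hstd hm hinf in
/-- a linear form which is a non-zerodivisor, when `Γ_m(M) = 0` -/
theorem exists_regular_deg_one (M : Type u) [AddCommGroup M] [Module R M] [Module.Finite R M]
    (hM : ∀ q : M, (∀ r ∈ m.toIdeal, r • q = 0) → q = 0) :
    ∃ y ∈ 𝒜 1, IsSMulRegular M y := by
  classical
  haveI : IsLocalRing (deg0 𝒜) := PolyA.isLocalRing_deg0 hpos m hm
  haveI hinf' : Infinite (deg0 𝒜 ⧸ maximalIdeal (deg0 𝒜)) :=
    PolyA.infinite_residue hpos m hm hinf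
  set V : Submodule (deg0 𝒜) R := comp 𝒜 𝒜 1 with hV
  haveI hVfin : Module.Finite (deg0 𝒜) ↥V := Module.Finite.iff_fg.2 (FiltReg.comp_one_fg 𝒜)
  let W : Ideal R → Submodule (deg0 𝒜) ↥V := fun P =>
    Submodule.comap V.subtype (P.restrictScalars (deg0 𝒜))
  have hfin : (W '' (associatedPrimes R M)).Finite := (associatedPrimes.finite R M).image _
  have hmrad := le_radical_irr hpos m hm
  have hbad : ∀ W' ∈ W '' (associatedPrimes R M), W' ≠ ⊤ := by
    rintro _ ⟨P, hP, rfl⟩ htop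
    have hPprime : P.IsPrime := IsAssociatedPrime.isPrime hP
    have hVP : ∀ v : R, v ∈ 𝒜 1 → v ∈ P := by
      intro v hv
      have : (⟨v, hv⟩ : ↥V) ∈ W P := by rw [htop]; trivial
      exact this
    have hirr : Ideal.span (AInvB.posSet 𝒜) ≤ P := by
      have h2 : Ideal.span (AInvB.posSet 𝒜) = Ideal.span ((𝒜 1 : AddSubgroup R) : Set R) := hstd
      rw [h2, Ideal.span_le]
      exact fun v hv => hVP v hv
    have hmP : m.toIdeal ≤ P := hmrad.trans (hPprime.radical_le_iff.2 hirr)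
    obtain ⟨-, q, hq⟩ := (isAssociatedPrime_iff).1 hP
    have hq0 : q = 0 := hM q fun r hr => by
      have h1 : r ∈ P := hmP hr
      rw [hq, Submodule.mem_colon_singleton] at h1
      exact (Submodule.mem_bot R).1 h1
    apply hPprime.ne_top
    rw [hq, hq0, Ideal.eq_top_iff_one, Submodule.mem_colon_singleton, smul_zero]
    exact Submodule.zero_mem _
  obtain ⟨x, hx⟩ : ∃ x : ↥V, ∀ W' ∈ W '' (associatedPrimes R M), x ∉ W' := by
    by_cases hE : (⊥ : Submodule (deg0 𝒜 ⧸ maximalIdeal (deg0 𝒜)) (Avoid.E (deg0 𝒜) ↥V)) = ⊤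
    · refine ⟨0, fun W' hW' _ => hbad W' hW' (Avoid.eq_top_of_img_eq_top ?_)⟩
      rw [eq_top_iff, ← hE]
      exact bot_le
    · obtain ⟨x, -, hx⟩ := Avoid.exists_avoid ⊥ hE _ hfin hbad
      exact ⟨x, hx⟩
  refine ⟨(x : R), x.2, ?_⟩
  apply PolyA.regular_of_filter m.toIdeal (x : R) ?_ hM
  intro P hP _ hxP
  exact hx (W P) ⟨P, hP, rfl⟩ hxP

include hpos hstd hm hinf in
/-- a finitely generated graded module of dimension `≤ 0` is `m`-torsion -/
theorem torsion_of_supportDim_le_zero (M : Type u) [AddCommGroup M] [Module R M]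
    [Module.Finite R M] (ℳ : ℤ → AddSubgroup M) [Decomposition ℳ] [SetLike.GradedSMul 𝒜 ℳ]
    (hdim : Module.supportDim R M ≤ 0) : ∀ x : M, x ∈ gam m.toIdeal M := by
  classical
  haveI : IsNoetherian R M := isNoetherian_of_isNoetherianRing_of_finite R M
  set Γ : Submodule R M := gam m.toIdeal M with hΓ
  have hΓhom : Γ.IsHomogeneous ℳ := Helper66.GradedCoh.gam_isHomogeneous 𝒜 ℳ m
  -- uniform killing power
  obtain ⟨N, hN⟩ : ∃ N : ℕ, ∀ c ∈ m.toIdeal ^ N, ∀ γ ∈ Γ, c • γ = 0 := by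
    obtain ⟨S, hS⟩ := (IsNoetherian.noetherian Γ : Γ.FG)
    have hex : ∀ s : M, ∃ n : ℕ, s ∈ Γ → ∀ r ∈ m.toIdeal ^ n, r • s = 0 := by
      intro s
      by_cases hs : s ∈ Γ
      · obtain ⟨n, hn⟩ := hs
        exact ⟨n, fun _ => hn⟩
      · exact ⟨0, fun h => absurd h hs⟩
    choose nf hnf using hex
    refine ⟨S.sup nf, fun c hc γ hγ => ?_⟩
    rw [← hS] at hγ
    refine Submodule.span_induction (p := fun γ _ => c • γ = 0) ?_ ?_ ?_ ?_ hγ
    · intro s hs
      have hsΓ : s ∈ Γ := by rw [← hS]; exact Submodule.subset_span hs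
      exact hnf s hsΓ c (Ideal.pow_le_pow_right (Finset.le_sup (Finset.mem_coe.1 hs)) hc)
    · exact smul_zero c
    · intro a b _ _ ha hb
      rw [smul_add, ha, hb, add_zero]
    · intro r a _ ha
      rw [smul_comm, ha, smul_zero]
  have hM' : ∀ q' : M ⧸ Γ, (∀ r ∈ m.toIdeal, r • q' = 0) → q' = 0 := by
    intro q' hq'
    obtain ⟨q, rfl⟩ := Submodule.mkQ_surjective Γ q'
    have h1 : ∀ r ∈ m.toIdeal, r • q ∈ Γ := fun r hr => by
      have := hq' r hr
      rw [← map_smul] at this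
      exact (Submodule.Quotient.mk_eq_zero Γ).1 this
    have hq : q ∈ Γ := by
      refine ⟨N + 1, fun x hx => ?_⟩
      rw [pow_succ] at hx
      refine Submodule.mul_induction_on hx ?_ ?_
      · intro c hc r hr
        rw [mul_smul]
        exact hN c hc _ (h1 r hr)
      · intro a b ha hb
        rw [add_smul, ha, hb, add_zero]
    exact (Submodule.Quotient.mk_eq_zero Γ).2 hq
  obtain ⟨y, hy1, hyreg⟩ := exists_regular_deg_one hpos hstd m hm hinf (M ⧸ Γ) hM'
  have hsub : Subsingleton (QuotSMulTop y (M ⧸ Γ)) := by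
    rw [← Module.supportDim_eq_bot_iff_subsingleton (R := R)]
    have h1 := Module.supportDim_quotSMulTop_succ_le_of_notMem_minimalPrimes (R := R)
      (M := M ⧸ Γ) (x := y) (fun _ => hyreg.notMem_of_mem_minimalPrimes)
    have h2 := Module.supportDim_le_of_surjective Γ.mkQ Γ.mkQ_surjective
    have h3 : Module.supportDim R (QuotSMulTop y (M ⧸ Γ)) + 1 ≤ 0 := h1.trans (h2.trans hdim)
    by_contra hne
    obtain ⟨n, hn⟩ := WithBot.ne_bot_iff_exists.1 hne
    rw [← hn] at h3
    have h4 : ((n + 1 : ℕ∞) : WithBot ℕ∞) ≤ ((0 : ℕ∞) : WithBot ℕ∞) := by exact_mod_cast h3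
    have h5 := WithBot.coe_le_coe.1 h4
    simp at h5
  have hdiv : ∀ x : M, ∃ x' : M, x - y • x' ∈ Γ := by
    intro x
    have h0 : (Submodule.Quotient.mk (Γ.mkQ x) : QuotSMulTop y (M ⧸ Γ)) = 0 :=
      Subsingleton.elim _ _
    rw [Submodule.Quotient.mk_eq_zero, Submodule.mem_smul_pointwise_iff_exists] at h0
    obtain ⟨z, -, hz⟩ := h0
    obtain ⟨x', rfl⟩ := Γ.mkQ_surjective z
    refine ⟨x', ?_⟩
    have : Γ.mkQ (x - y • x') = 0 := by rw [map_sub, map_smul, hz, sub_self]
    exact (Submodule.Quotient.mk_eq_zero Γ).1 this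
  obtain ⟨n₀, hn₀⟩ := exists_piece_eq_bot_below (ℳ := ℳ) hpos
  have key : ∀ j : ℕ, ∀ g : ℤ, g < n₀ + j → ∀ x ∈ ℳ g, x ∈ Γ := by
    intro j
    induction j with
    | zero =>
      intro g hg x hx
      rw [hn₀ g (by simpa using hg)] at hx
      rw [(AddSubgroup.mem_bot).1 hx]
      exact zero_mem _
    | succ j ih =>
      intro g hg x hx
      obtain ⟨x', hx'⟩ := hdiv x
      have h1 := hΓhom g hx'
      simp only [DirectSum.decompose_sub, DirectSum.sub_apply, AddSubgroupClass.coe_sub] at h1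
      rw [decompose_of_mem_same ℳ hx] at h1
      have h2 : (decompose ℳ (y • x') g : M) = y • (decompose ℳ x' (g - 1) : M) := by
        have := Helper66.Graded.decompose_smul_homog 𝒜 ℳ hy1 x' (g - 1)
        rw [show (1 : ℤ) + (g - 1) = g by ring] at this
        exact this
      rw [h2] at h1
      have h3 : (decompose ℳ x' (g - 1) : M) ∈ Γ :=
        ih (g - 1) (by push_cast at hg ⊢; omega) _ (SetLike.coe_mem _)
      have := Γ.add_mem h1 (Γ.smul_mem y h3)
      rwa [sub_add_cancel] at this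
  intro x
  rw [← DirectSum.sum_support_decompose ℳ x]
  exact Γ.sum_mem fun g _ => key (g - n₀ + 1).toNat g
    (by have := Int.self_le_toNat (g - n₀ + 1); omega) _ (SetLike.coe_mem _)

include hpos hstd hm hinf in
/-- **vanishing above the dimension** for modules whose local cohomology vanishes below it -/
theorem HV_above (d : ℕ) (hd : ringKrullDim R = d) : ∀ (c : ℕ) (M : Type u) [AddCommGroup M]
    [Module R M] [Module.Finite R M] (ℳ : ℤ → AddSubgroup M) [Decomposition ℳ]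
    [SetLike.GradedSMul 𝒜 ℳ] (EM : StarInjRes 𝒜 ℳ), Module.supportDim R M ≤ c →
    (∀ i, i < c → ∀ g, HV EM m.toIdeal i g) → ∀ i, c < i → ∀ g, HV EM m.toIdeal i g := by
  intro c
  induction c with
  | zero =>
    intro M _ _ _ ℳ _ _ EM hdim _ i hi g
    have htor := torsion_of_supportDim_le_zero hpos hstd m hm hinf M ℳ (by simpa using hdim)
    exact HV_of_torsion EM m htor i hi g
  | succ c ih =>
    intro M _ _ _ ℳ _ _ EM hdim hlow i hi g
    classical
    have hgam : gam m.toIdeal M = ⊥ :=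
      PolyA.gam_eq_bot_of_HV EM m (fun g => hlow 0 (Nat.succ_pos c) g)
    have hM : ∀ q : M, (∀ r ∈ m.toIdeal, r • q = 0) → q = 0 := by
      intro q hq
      have h1 : q ∈ gam m.toIdeal M := ⟨1, fun r hr => hq r (by rwa [pow_one] at hr)⟩
      rw [hgam] at h1
      exact (Submodule.mem_bot R).1 h1
    obtain ⟨y, hy1, hyreg⟩ := exists_regular_deg_one hpos hstd m hm hinf M hM
    set Q : Submodule R M := LinearMap.range (y • (LinearMap.id : M →ₗ[R] M)) with hQdef
    have hQhom : Q.IsHomogeneous ℳ := range_smul_isHomogeneous' hy1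
    let _ : Decomposition (Helper66.GradedQuot.qpiece ℳ Q) :=
      Helper66.GradedQuot.quotDecomposition ℳ Q hQhom
    let _ : SetLike.GradedSMul 𝒜 (Helper66.GradedQuot.qpiece ℳ Q) :=
      Helper66.GradedQuot.quotGradedSMul 𝒜 ℳ Q
    let yb : (Helper66.GradedShift.shiftGMod 𝒜 ℳ (-1)).carrier →ₗ[R] M :=
      y • (LinearMap.id : M →ₗ[R] M)
    have hS : GSES (Helper66.GradedShift.shiftGMod 𝒜 ℳ (-1)).gr ℳ
        (Helper66.GradedQuot.qpiece ℳ Q) yb Q.mkQ :=
      { f_gr := by
          rintro g (x : M) (hx : x ∈ ℳ (-1 + g))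
          change y • x ∈ ℳ g
          have := SetLike.GradedSMul.smul_mem (A := 𝒜) (B := ℳ) hy1 hx
          rw [vadd_eq_add, add_neg_cancel_left] at this
          exact this
        p_gr := Helper66.GradedQuot.mkQ_grHom ℳ Q
        f_inj := fun a b hab => hyreg hab
        p_surj := Q.mkQ_surjective
        exact := (Submodule.ker_mkQ Q).trans rfl }
    obtain ⟨EQ⟩ := exists_res (𝒜 := 𝒜) (M ⧸ Q) (Helper66.GradedQuot.qpiece ℳ Q)
    have hsh : ∀ i g, hl (shiftRes EM (-1)) m.toIdeal i g = hl EM m.toIdeal i (-1 + g) :=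
      fun i g => hl_shiftRes EM (-1) m.toIdeal i g
    have hQeq : y • (⊤ : Submodule R M) = Q := by
      ext x
      rw [Submodule.mem_smul_pointwise_iff_exists]
      constructor
      · rintro ⟨z, -, rfl⟩
        exact ⟨z, rfl⟩
      · rintro ⟨z, rfl⟩
        exact ⟨z, trivial, rfl⟩
    have hdimQ : Module.supportDim R (M ⧸ Q) ≤ c := by
      have h1 := Module.supportDim_quotSMulTop_succ_le_of_notMem_minimalPrimes (R := R)
        (M := M) (x := y) (fun _ => hyreg.notMem_of_mem_minimalPrimes)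
      have h2 : Module.supportDim R (QuotSMulTop y M) = Module.supportDim R (M ⧸ Q) :=
        Module.supportDim_eq_of_equiv (Submodule.quotEquivOfEq _ _ hQeq)
      rw [h2] at h1
      have h3 := h1.trans hdim
      rcases eq_or_ne (Module.supportDim R (M ⧸ Q)) ⊥ with hb | hb
      · rw [hb]
        exact bot_le
      · obtain ⟨n, hn⟩ := WithBot.ne_bot_iff_exists.1 hb
        rw [← hn] at h3 ⊢
        have h4 : ((n + 1 : ℕ∞) : WithBot ℕ∞) ≤ (((c + 1 : ℕ) : ℕ∞) : WithBot ℕ∞) := by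
          exact_mod_cast h3
        have h5 := WithBot.coe_le_coe.1 h4
        have h6 : n ≤ (c : ℕ∞) := by
          push_cast at h5
          exact (ENat.add_le_add_iff_right ENat.one_ne_top).1 h5
        exact_mod_cast WithBot.coe_le_coe.2 h6
    have hlowQ : ∀ i, i < c → ∀ g, HV EQ m.toIdeal i g := by
      intro i hi g
      apply HV_of_hl_eq_zero
      have h1 := hl_right_le hS (shiftRes EM (-1)) EM EQ m.toIdeal g i
      rw [hsh, hl_eq_zero_of_HV (hlow i (by omega) g),
        hl_eq_zero_of_HV (hlow (i + 1) (by omega) (-1 + g)), add_zero] at h1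
      exact nonpos_iff_eq_zero.1 h1
    have hhighQ := ih (M ⧸ Q) (Helper66.GradedQuot.qpiece ℳ Q) EQ hdimQ hlowQ
    obtain ⟨j, rfl⟩ : ∃ j, i = j + 1 := ⟨i - 1, by omega⟩
    have hstep : ∀ g, hl EM m.toIdeal (j + 1) (-1 + g) ≤ hl EM m.toIdeal (j + 1) g := by
      intro g
      have h1 := hl_left_succ_le hS (shiftRes EM (-1)) EM EQ m.toIdeal g j
      rw [hsh, hl_eq_zero_of_HV (hhighQ j (by omega) g), zero_add] at h1
      exact h1
    obtain ⟨-, r, hr⟩ := main_claim R 𝒜 hpos hstd m hm d hd M ℳ EM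
    have key : ∀ k : ℕ, ∀ g : ℤ, r ≤ g + k → hl EM m.toIdeal (j + 1) g = 0 := by
      intro k
      induction k with
      | zero =>
        intro g hg
        exact hl_eq_zero_of_HV (hr _ g (by simpa using hg))
      | succ k ihk =>
        intro g hg
        have h1 := hstep (g + 1)
        rw [show (-1 : ℤ) + (g + 1) = g by ring,
          ihk (g + 1) (by push_cast at hg ⊢; omega)] at h1
        exact nonpos_iff_eq_zero.1 h1
    exact HV_of_hl_eq_zero (key (r - g).toNat g (by have := Int.self_le_toNat (r - g); omega))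

/-- vanishing below the depth -/
theorem HV_of_lt_depth (a : HomogeneousIdeal 𝒜) (M : Type u) [AddCommGroup M] [Module R M]
    [Module.Finite R M] (ℳ : ℤ → AddSubgroup M) [Decomposition ℳ] [SetLike.GradedSMul 𝒜 ℳ]
    (E : StarInjRes 𝒜 ℳ) (e : ℕ) (hdepth : LocCoh.idealDepth a.toIdeal M = e) :
    ∀ i, i < e → ∀ g, HV E a.toIdeal i g := by
  have hsmul : a.toIdeal • (⊤ : Submodule R M) ≠ ⊤ := by
    intro h
    unfold LocCoh.idealDepth at hdepth
    rw [if_pos h] at hdepth
    exact ENat.top_ne_coe e hdepth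
  have hvan := ((Groth.Agent.S0318.result R a.toIdeal M hsmul e).1 hdepth).1
  intro i hi g
  rw [← Hcomp_eq_bot_iff]
  obtain ⟨eq⟩ := Groth.Agent.S13224.result R 𝒜 a M ℳ E i
  have h1 : Subsingleton (LocCoh.H a.toIdeal i M) := hvan i hi
  have h2 : Subsingleton (E.H a i) := eq.toEquiv.subsingleton
  rw [eq_bot_iff]
  intro x _
  rw [Submodule.mem_bot]
  exact Subsingleton.elim _ _

include hpos hstd hm hinf in
/-- the Serre–Grothendieck formula for a graded Cohen–Macaulay module: a single term -/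
theorem sg_cm (d : ℕ) (hd : ringKrullDim R = d) (M : Type u) [AddCommGroup M] [Module R M]
    [Module.Finite R M] (ℳ : ℤ → AddSubgroup M) [Decomposition ℳ] [SetLike.GradedSMul 𝒜 ℳ]
    (E : StarInjRes 𝒜 ℳ) (e : ℕ) (hed : e ≤ d)
    (hdepth : LocCoh.idealDepth m.toIdeal M = e) (hdim : Module.supportDim R M ≤ e)
    (P : Polynomial ℚ)
    (hP : ∃ N : ℤ, ∀ n : ℤ, N ≤ n → P.eval (n : ℚ) =
      ((Module.length (GrLC.deg0 𝒜) (GrLC.comp 𝒜 ℳ n)).toNat : ℚ)) :
    (∀ i, i ≠ e → ∀ g, HV E m.toIdeal i g) ∧ (∀ n, hl E m.toIdeal e n ≠ ⊤) ∧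
    ∀ n : ℤ, ((Module.length (GrLC.deg0 𝒜) (GrLC.comp 𝒜 ℳ n)).toNat : ℚ) - P.eval (n : ℚ) =
      (-1 : ℚ) ^ e * ((hl E m.toIdeal e n).toNat : ℚ) := by
  have hlow := HV_of_lt_depth m M ℳ E e hdepth
  have hhigh := HV_above hpos hstd m hm hinf d hd e M ℳ E hdim hlow
  have hne : ∀ i, i ≠ e → ∀ g, HV E m.toIdeal i g := by
    intro i hi g
    rcases lt_or_gt_of_ne hi with h | h
    · exact hlow i h g
    · exact hhigh i h g
  obtain ⟨c, -⟩ := main_claim R 𝒜 hpos hstd m hm d hd M ℳ E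
  refine ⟨hne, fun n => c.fin e n, fun n => ?_⟩
  rw [main R 𝒜 hpos hstd m hm d hd M ℳ E P hP n, Finset.sum_eq_single e]
  · rw [length_Hcomp]
  · intro i _ hie
    rw [length_Hcomp, hl_eq_zero_of_HV (hne i hie n)]
    simp
  · intro h
    exact absurd (Finset.mem_range.2 (Nat.lt_succ_of_le hed)) h

end

end Groth.Agent.Lib.Helper97.CMVan
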