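import Mathlib
import Groth.Prelude.Def_GrLC
import Groth.Prelude.Def_GrSyz
import Groth.Agent.Lib.Helper97.CMVan
import Groth.Agent.Lib.Helper77.GLC7
import Groth.Agent.Lib.Helper77.GLC9
import Groth.Agent.Lib.Helper77.GLC21
import Groth.Agent.S16323

/-!
# The Hilbert function of a graded Cohen–Macaulay module over a polynomial ring differs from its
Hilbert polynomial in degree `reg M + pd M - n - 1` (helper97)
-/

set_option autoImplicit false
set_option linter.unusedSectionVars false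
set_option linter.unusedVariables false
set_option linter.style.haveILetI false
universe u

namespace Groth.Agent.Lib.Helper97.CMPoly

open GrLC DirectSum GrSyz MvPolynomial Groth.Agent.Lib.Helper77.GLC SG

section setup

variable (k : Type u) [Field k] (m : ℕ)

theorem sg_neg : ∀ n : ℤ, n < 0 → sg k m n = ⊥ := by
  intro n hn
  rw [eq_bot_iff]
  intro p hp
  have hp' : p ∈ stdGr k (Fin m) n := hp
  rw [stdGr_neg k (Fin m) hn] at hp'
  exact (AddSubgroup.mem_bot).2 ((Submodule.mem_bot k).1 hp')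

theorem sg_std (r : ℕ) : Ideal.span (⋃ n ∈ Set.Ioi (0 : ℤ), (sg k (r + 1) n : Set _)) =
    Ideal.span ((sg k (r + 1) 1 : AddSubgroup (MvPolynomial (Fin (r + 1)) k)) :
      Set (MvPolynomial (Fin (r + 1)) k)) := by
  apply le_antisymm
  · refine le_trans (?_ : _ ≤ (am k (r + 1)).toIdeal) (am_le_span_sg_one k r)
    apply Ideal.span_mono
    intro x hx
    simp only [Set.mem_iUnion] at hx
    obtain ⟨n, hn, hxn⟩ := hx
    exact ⟨n, hn, hxn⟩
  · apply Ideal.span_mono
    intro x hx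
    simp only [Set.mem_iUnion]
    exact ⟨1, Set.mem_Ioi.2 one_pos, hx⟩

/-- the constants, as a ring homomorphism onto the degree-zero subring -/
noncomputable def Cdeg0 : k →+* deg0 (sg k m) :=
  (C : k →+* MvPolynomial (Fin m) k).codRestrict (deg0 (sg k m)) (fun c => by
    change C c ∈ stdGr k (Fin m) 0
    rw [mem_stdGr_iff]
    exact isWeightedHomogeneous_C _ c)

theorem Cdeg0_coe (c : k) : ((Cdeg0 k m c : deg0 (sg k m)) : MvPolynomial (Fin m) k) = C c := rfl

theorem Cdeg0_surjective : Function.Surjective (Cdeg0 k m) := by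
  rintro ⟨p, hp⟩
  have hp' : p ∈ stdGr k (Fin m) 0 := hp
  rw [stdGr_zero, Submodule.mem_span_singleton] at hp'
  obtain ⟨c, rfl⟩ := hp'
  refine ⟨c, Subtype.ext ?_⟩
  change C c = c • (1 : MvPolynomial (Fin m) k)
  rw [MvPolynomial.smul_eq_C_mul, mul_one]

instance : IsArtinianRing (deg0 (sg k m)) := (Cdeg0_surjective k m).isArtinianRing

theorem isField_deg0 : IsField (deg0 (sg k m)) where
  exists_pair_ne := ⟨0, 1, fun h => by
    have := congrArg Subtype.val h
    exact zero_ne_one this⟩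
  mul_comm := mul_comm
  mul_inv_cancel := by
    intro a ha
    obtain ⟨c, rfl⟩ := Cdeg0_surjective k m a
    have hc : c ≠ 0 := fun h => ha (by rw [h, map_zero])
    exact ⟨Cdeg0 k m c⁻¹, by rw [← map_mul, mul_inv_cancel₀ hc, map_one]⟩

theorem am_toIdeal_eq : (am k m).toIdeal = Ideal.span (AInvB.posSet (sg k m)) := by
  change Ideal.span _ = Ideal.span _
  congr 1
  ext x
  simp only [AInvB.posSet, Set.mem_iUnion, Set.mem_setOf_eq]
  constructor
  · rintro ⟨n, hn, hx⟩
    exact ⟨n, hn, hx⟩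
  · rintro ⟨n, hn, hx⟩
    exact ⟨n, hn, hx⟩

theorem am_ne_top : (am k m).toIdeal ≠ ⊤ := by
  intro h
  have h1 : (1 : MvPolynomial (Fin m) k) ∈ (am k m).toIdeal := by rw [h]; trivial
  rw [show (am k m).toIdeal = (irrel (stdGr k (Fin m))).toIdeal from rfl,
    Groth.Agent.Lib.Helper77.GrTor.irrel_eq_ker_constantCoeff, RingHom.mem_ker, map_one] at h1
  exact one_ne_zero h1

theorem am_isStarLocal : IsStarLocal (sg k m) (am k m) := by
  have h0 := isField_deg0 k m
  have hpos := sg_neg k m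
  have hne : am k m ≠ ⊤ := by
    intro h
    apply am_ne_top k m
    rw [h, HomogeneousIdeal.toIdeal_top]
  have hle : ∀ J : HomogeneousIdeal (sg k m), J ≠ ⊤ → J ≤ am k m := by
    intro J hJ
    have hJ' : J.toIdeal ≠ ⊤ := fun h =>
      hJ (HomogeneousIdeal.toIdeal_injective (by rw [h, HomogeneousIdeal.toIdeal_top]))
    have := AInvB.le_span_posSet hpos h0 J.isHomogeneous hJ'
    rw [← am_toIdeal_eq] at this
    exact this
  refine ⟨⟨hne, fun J hJ => ?_⟩, fun n hn => ?_⟩
  · by_contra hJt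
    exact absurd (hle J hJt) (not_le_of_gt hJ)
  · have h1 := hle n hn.1
    rcases eq_or_lt_of_le h1 with h | h
    · exact h
    · exact absurd (hn.2 _ h) hne

theorem dim_eq : ringKrullDim (MvPolynomial (Fin m) k) = m := by
  rw [MvPolynomial.ringKrullDim_of_isNoetherianRing, ringKrullDim_eq_zero_of_field, zero_add,
    Nat.card_fin]

theorem infinite_quot [Infinite k] : Infinite (MvPolynomial (Fin m) k ⧸ (am k m).toIdeal) := by
  haveI : Nontrivial (MvPolynomial (Fin m) k ⧸ (am k m).toIdeal) :=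
    Ideal.Quotient.nontrivial_iff.2 (am_ne_top k m)
  exact Infinite.of_injective _
    ((Ideal.Quotient.mk (am k m).toIdeal).comp (C : k →+* MvPolynomial (Fin m) k)).injective

variable {M : Type u} [AddCommGroup M] [Module k M] [Module (MvPolynomial (Fin m) k) M]
  [IsScalarTower k (MvPolynomial (Fin m) k) M]
  (ℳ : ℤ → Submodule k M) [Decomposition ℳ] [SetLike.GradedSMul (stdGr k (Fin m)) ℳ]

theorem length_comp_eq (d : ℤ) :
    (Module.length (deg0 (sg k m)) (comp (sg k m) (flat ℳ) d)).toNat =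
      Module.finrank k ↥(ℳ d) := by
  letI : Algebra k (deg0 (sg k m)) := (Cdeg0 k m).toAlgebra
  letI : Module k ↥(comp (sg k m) (flat ℳ) d) := Module.compHom _ (Cdeg0 k m)
  haveI : IsScalarTower k (deg0 (sg k m)) ↥(comp (sg k m) (flat ℳ) d) :=
    ⟨fun c a x => by
      change (Cdeg0 k m c * a) • x = Cdeg0 k m c • (a • x)
      rw [mul_smul]⟩
  have h1 : Module.length k ↥(comp (sg k m) (flat ℳ) d) =
      Module.length (deg0 (sg k m)) ↥(comp (sg k m) (flat ℳ) d) :=
    Module.length_eq_of_surjective (Cdeg0_surjective k m)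
  let e : ↥(comp (sg k m) (flat ℳ) d) ≃ₗ[k] ↥(ℳ d) :=
    { toFun := fun x => ⟨x.1, x.2⟩
      invFun := fun x => ⟨x.1, x.2⟩
      map_add' := fun x y => rfl
      map_smul' := fun c x => Subtype.ext (by
        change (C c : MvPolynomial (Fin m) k) • (x.1 : M) = c • (x.1 : M)
        rw [← MvPolynomial.algebraMap_eq, algebraMap_smul])
      left_inv := fun x => rfl
      right_inv := fun x => rfl }
  rw [← h1, e.length_eq, Module.length_eq_rank, Cardinal.toNat_toENat]
  rfl

end setup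

section main

theorem main (k : Type u) [Field k] [IsAlgClosed k] [CharZero k] (n : ℕ)
    (M : Type u) [AddCommGroup M] [Module k M] [Module (MvPolynomial (Fin (n + 1)) k) M]
    [IsScalarTower k (MvPolynomial (Fin (n + 1)) k) M]
    [Module.Finite (MvPolynomial (Fin (n + 1)) k) M]
    (ℳ : ℤ → Submodule k M) [DirectSum.Decomposition ℳ]
    [SetLike.GradedSMul (GrSyz.stdGr k (Fin (n + 1))) ℳ]
    (hCM : Module.supportDim (MvPolynomial (Fin (n + 1)) k) M =
      ((LocCoh.idealDepth (GrSyz.irrel (GrSyz.stdGr k (Fin (n + 1)))).toIdeal M : ℕ∞) :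
        WithBot ℕ∞))
    (F : GrSyz.FreeRes (GrSyz.stdGr k (Fin (n + 1))) ℳ)
    (hF : F.IsMinimal (GrSyz.irrel (GrSyz.stdGr k (Fin (n + 1)))).toIdeal)
    (ℓ : ℕ) (hℓ : F.HasLengthLE ℓ) (hℓ' : F.rk ℓ ≠ 0)
    (ρ : ℤ) (hρ : F.IsGenLE ρ) (hρ' : ∃ (i : ℕ) (b : Fin (F.rk i)), F.deg i b = ρ + i)
    (P : Polynomial ℚ)
    (hP : ∃ d₁ : ℤ, ∀ d : ℤ, d₁ ≤ d →
      ((Module.finrank k ↥(ℳ d) : ℤ) : ℚ) = P.eval (d : ℚ)) :
    ((Module.finrank k ↥(ℳ (ρ + ℓ - n - 1)) : ℤ) : ℚ) ≠ P.eval ((ρ + ℓ - n - 1 : ℤ) : ℚ) := by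
  classical
  have hAB := Groth.Agent.S16323.result k n M ℳ F hF ℓ hℓ hℓ'
  have hdne : LocCoh.idealDepth (GrSyz.irrel (GrSyz.stdGr k (Fin (n + 1)))).toIdeal M ≠ ⊤ := by
    intro h
    rw [h, add_top] at hAB
    exact ENat.top_ne_coe _ hAB
  obtain ⟨e, he⟩ := ENat.ne_top_iff_exists.1 hdne
  have hle : ℓ + e = n + 1 := by
    rw [← he] at hAB
    exact_mod_cast hAB
  have hdepth : LocCoh.idealDepth (am k (n + 1)).toIdeal M = e := he.symm
  have hdim : Module.supportDim (MvPolynomial (Fin (n + 1)) k) M ≤ e := by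
    rw [hCM, ← he]
    exact le_rfl
  have hinf : Infinite (MvPolynomial (Fin (n + 1)) k ⧸ (am k (n + 1)).toIdeal) :=
    infinite_quot k (n + 1)
  obtain ⟨E⟩ := exists_res (𝒜 := sg k (n + 1)) M (flat ℳ)
  have hP' : ∃ N : ℤ, ∀ d : ℤ, N ≤ d → P.eval (d : ℚ) =
      ((Module.length (GrLC.deg0 (sg k (n + 1))) (GrLC.comp (sg k (n + 1)) (flat ℳ) d)).toNat :
        ℚ) := by
    obtain ⟨d₁, hd₁⟩ := hP
    refine ⟨d₁, fun d hd => ?_⟩
    rw [length_comp_eq, ← hd₁ d hd, Int.cast_natCast]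
  obtain ⟨hne, hfin, hform⟩ := CMVan.sg_cm (sg_neg k (n + 1)) (sg_std k n) (am k (n + 1))
    (am_isStarLocal k (n + 1)) hinf (n + 1) (dim_eq k (n + 1)) M (flat ℳ) E e (by omega)
    hdepth hdim P hP'
  have hd0 : ρ + ℓ - n - 1 = ρ - e := by
    have : (ℓ : ℤ) + e = n + 1 := by exact_mod_cast hle
    omega
  intro hcon
  have h1 := hform (ρ + ℓ - n - 1)
  rw [length_comp_eq, ← Int.cast_natCast (R := ℚ), hcon, sub_self] at h1
  have h2 : ((hl E (am k (n + 1)).toIdeal e (ρ + ℓ - n - 1)).toNat : ℚ) = 0 := by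
    rcases mul_eq_zero.1 h1.symm with h3 | h3
    · exact absurd h3 (pow_ne_zero _ (by norm_num))
    · exact h3
  have h3 : (hl E (am k (n + 1)).toIdeal e (ρ + ℓ - n - 1)).toNat = 0 := by exact_mod_cast h2
  have h4 : hl E (am k (n + 1)).toIdeal e (ρ + ℓ - n - 1) = 0 := by
    rcases (ENat.toNat_eq_zero).1 h3 with h | h
    · exact h
    · exact absurd h (hfin _)
  have hv : HV E (am k (n + 1)).toIdeal e (ρ - e) := by
    rw [← hd0]
    exact HV_of_hl_eq_zero h4
  have hgen : F.IsGenLE (ρ - 1) := by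
    apply isGenLE_of_HV k n F hF (ρ - 1) E
    intro i g hg
    by_cases hie : i = e
    · subst hie
      rcases eq_or_lt_of_le (show ρ - (i : ℤ) ≤ g by omega) with h | h
      · rw [← h]
        exact hv
      · exact HV_of_isGenLE k n F hF ρ hρ E i g h
    · exact hne i hie g
  obtain ⟨i, b, hib⟩ := hρ'
  have := hgen i b
  omega

end main

end Groth.Agent.Lib.Helper97.CMPoly
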