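import Mathlib

set_option autoImplicit false
set_option linter.unusedSectionVars false
set_option linter.unusedSimpArgs false
set_option linter.unusedVariables false

/-! Plane conics: quadratic forms in three variables and products of linear forms (helper97). -/

namespace Groth.Agent.Lib.Helper97.Conic

open Matrix MvPolynomial Module

section Diag
variable {k : Type*} [Field k]

theorem exists_diag {n : ℕ} [Invertible (2 : k)] (Q : Matrix (Fin n) (Fin n) k) (hQ : Q.IsSymm) :
    ∃ (R : Matrix (Fin n) (Fin n) k) (d : Fin n → k), IsUnit R.det ∧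
      Q = Rᵀ * diagonal d * R := by
  have hB : (Matrix.toBilin' Q).IsSymm := Matrix.isSymm_toBilin'_iff_isSymm.mpr hQ
  obtain ⟨v, hv⟩ := LinearMap.BilinForm.exists_orthogonal_basis
    (LinearMap.BilinForm.isSymm_iff.mp hB)
  have hn : Module.finrank k (Fin n → k) = n := Module.finrank_fin_fun k
  obtain ⟨v', hv'⟩ : ∃ v' : Basis (Fin n) k (Fin n → k),
      ∀ i j, i ≠ j → Matrix.toBilin' Q (v' i) (v' j) = 0 := by
    refine ⟨v.reindex (finCongr hn), fun i j hij => ?_⟩
    rw [Basis.reindex_apply, Basis.reindex_apply]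
    exact LinearMap.isOrthoᵢ_def.mp hv _ _ (fun h => hij ((finCongr hn).symm.injective h))
  obtain ⟨P, hP⟩ : ∃ P, P = (Pi.basisFun k (Fin n)).toMatrix v' := ⟨_, rfl⟩
  obtain ⟨R, hR⟩ : ∃ R, R = v'.toMatrix (Pi.basisFun k (Fin n)) := ⟨_, rfl⟩
  have hPR : P * R = 1 := by rw [hP, hR]; exact Basis.toMatrix_mul_toMatrix_flip _ _
  have hentry : ∀ i j, (Pᵀ * Q * P) i j = Matrix.toBilin' Q (v' i) (v' j) := by
    intro i j
    rw [Matrix.toBilin'_apply, hP]
    simp only [Matrix.mul_apply, Matrix.transpose_apply, Basis.toMatrix_apply,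
      Pi.basisFun_repr, Finset.sum_mul]
    rw [Finset.sum_comm]
  have key : Pᵀ * Q * P = diagonal (fun i => Matrix.toBilin' Q (v' i) (v' i)) := by
    ext i j
    rw [hentry]
    by_cases hij : i = j
    · subst hij; simp
    · rw [diagonal_apply_ne _ hij]; exact hv' i j hij
  refine ⟨R, fun i => Matrix.toBilin' Q (v' i) (v' i), Matrix.isUnit_det_of_left_inverse hPR, ?_⟩
  rw [← key]
  calc Q = (P * R)ᵀ * Q * (P * R) := by rw [hPR]; simp
    _ = Rᵀ * (Pᵀ * Q * P) * R := by
      rw [Matrix.transpose_mul]; simp only [Matrix.mul_assoc]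

theorem quad_eval {n : ℕ} (R : Matrix (Fin n) (Fin n) k) (d : Fin n → k) (x : Fin n → k) :
    x ⬝ᵥ (Rᵀ * diagonal d * R) *ᵥ x = ∑ l, d l * ((R *ᵥ x) l) ^ 2 := by
  rw [← Matrix.mulVec_mulVec, ← Matrix.mulVec_mulVec, Matrix.dotProduct_mulVec,
    Matrix.vecMul_transpose]
  simp only [dotProduct, mulVec_diagonal]
  refine Finset.sum_congr rfl fun l _ => ?_
  ring

theorem quad_eval_subset {n : ℕ} (R : Matrix (Fin n) (Fin n) k) (d : Fin n → k)
    (S : Finset (Fin n)) (hS : ∀ m, m ∉ S → d m = 0) (x : Fin n → k) :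
    x ⬝ᵥ (Rᵀ * diagonal d * R) *ᵥ x = ∑ l ∈ S, d l * ((R *ᵥ x) l) ^ 2 := by
  rw [quad_eval]
  symm
  apply Finset.sum_subset (Finset.subset_univ S)
  intro m _ hm
  rw [hS m hm, zero_mul]

open Classical in
theorem rank_diag {n : ℕ} (R : Matrix (Fin n) (Fin n) k) (d : Fin n → k) (hR : IsUnit R.det) :
    (Rᵀ * diagonal d * R).rank = (Finset.univ.filter (fun i => d i ≠ 0)).card := by
  rw [Matrix.rank_mul_eq_left_of_isUnit_det R _ hR,
    Matrix.rank_mul_eq_right_of_isUnit_det Rᵀ _ (by rwa [Matrix.det_transpose]),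
    Matrix.rank_diagonal, Fintype.card_subtype]

theorem det_diag_zero_iff {n : ℕ} (R : Matrix (Fin n) (Fin n) k) (d : Fin n → k)
    (hR : IsUnit R.det) : (Rᵀ * diagonal d * R).det = 0 ↔ ∃ l, d l = 0 := by
  rw [Matrix.det_mul, Matrix.det_mul, Matrix.det_transpose, Matrix.det_diagonal]
  have h0 : R.det ≠ 0 := hR.ne_zero
  constructor
  · intro h
    have : ∏ i, d i = 0 := by
      rcases mul_eq_zero.mp h with h | h
      · rcases mul_eq_zero.mp h with h | h
        · exact absurd h h0
        · exact h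
      · exact absurd h h0
    obtain ⟨l, _, hl⟩ := Finset.prod_eq_zero_iff.mp this
    exact ⟨l, hl⟩
  · rintro ⟨l, hl⟩
    rw [Finset.prod_eq_zero (Finset.mem_univ l) hl]; simp

theorem rows_pair_indep {n : ℕ} (R : Matrix (Fin n) (Fin n) k) (hR : IsUnit R.det) {i j : Fin n}
    (hij : i ≠ j) : LinearIndependent k ![R.row i, R.row j] := by
  have hrows : LinearIndependent k R.row :=
    Matrix.linearIndependent_rows_of_isUnit ((Matrix.isUnit_iff_isUnit_det R).mpr hR)
  have hinj : Function.Injective ![i, j] := by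
    intro a b hab
    fin_cases a <;> fin_cases b <;> simp_all
  have := hrows.comp ![i, j] hinj
  convert this using 1
  funext l
  fin_cases l <;> rfl

variable [IsAlgClosed k]

theorem exists_pair {n : ℕ} (R : Matrix (Fin n) (Fin n) k) (d : Fin n → k) (hR : IsUnit R.det)
    (h2 : (2 : k) ≠ 0) {i j : Fin n} (hij : i ≠ j) (hS : ∀ m, m ∉ ({i, j} : Finset (Fin n)) → d m = 0) :
    ∃ a b : Fin n → k, (∀ x, x ⬝ᵥ (Rᵀ * diagonal d * R) *ᵥ x = (a ⬝ᵥ x) * (b ⬝ᵥ x)) ∧
      (d i ≠ 0 → d j ≠ 0 → LinearIndependent k ![a, b]) := by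
  obtain ⟨α, hα⟩ := IsAlgClosed.exists_pow_nat_eq (d i) (n := 2) (by norm_num)
  obtain ⟨β, hβ⟩ := IsAlgClosed.exists_pow_nat_eq (-d j) (n := 2) (by norm_num)
  refine ⟨α • R.row i + β • R.row j, α • R.row i - β • R.row j, ?_, ?_⟩
  · intro x
    rw [quad_eval_subset R d {i, j} hS, Finset.sum_pair hij]
    have hi : (R *ᵥ x) i = R.row i ⬝ᵥ x := rfl
    have hj : (R *ᵥ x) j = R.row j ⬝ᵥ x := rfl
    simp only [add_dotProduct, sub_dotProduct, smul_dotProduct, smul_eq_mul, hi, hj]
    have hdj : d j = -β ^ 2 := by rw [hβ]; ring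
    rw [← hα, hdj]; ring
  · intro hdi hdj
    have hα0 : α ≠ 0 := by rintro rfl; apply hdi; rw [← hα]; ring
    have hβ0 : β ≠ 0 := by
      rintro rfl
      apply hdj
      have : -d j = 0 := by rw [← hβ]; ring
      simpa using this
    have hpair := LinearIndependent.pair_iff.mp (rows_pair_indep R hR hij)
    rw [LinearIndependent.pair_iff]
    intro s t hst
    have h1 : (s * α + t * α) • R.row i + (s * β - t * β) • R.row j = 0 := by
      rw [← hst]
      simp only [smul_add, smul_sub, smul_smul, add_smul, sub_smul]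
      abel
    obtain ⟨e1, e2⟩ := hpair _ _ h1
    have e1' : s + t = 0 := by
      have : (s + t) * α = 0 := by linear_combination e1
      exact (mul_eq_zero.mp this).resolve_right hα0
    have e2' : s - t = 0 := by
      have : (s - t) * β = 0 := by linear_combination e2
      exact (mul_eq_zero.mp this).resolve_right hβ0
    have hs : s = 0 := by
      have : (2 : k) * s = 0 := by linear_combination e1' + e2'
      exact (mul_eq_zero.mp this).resolve_left h2
    refine ⟨hs, ?_⟩
    rw [hs] at e1'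
    simpa using e1'

theorem exists_single {n : ℕ} (R : Matrix (Fin n) (Fin n) k) (d : Fin n → k) {i : Fin n}
    (hS : ∀ m, m ∉ ({i} : Finset (Fin n)) → d m = 0) :
    ∃ a : Fin n → k, ∀ x, x ⬝ᵥ (Rᵀ * diagonal d * R) *ᵥ x = (a ⬝ᵥ x) * (a ⬝ᵥ x) := by
  obtain ⟨α, hα⟩ := IsAlgClosed.exists_pow_nat_eq (d i) (n := 2) (by norm_num)
  refine ⟨α • R.row i, fun x => ?_⟩
  rw [quad_eval_subset R d {i} hS, Finset.sum_singleton]
  have hi : (R *ᵥ x) i = R.row i ⬝ᵥ x := rfl
  simp only [smul_dotProduct, smul_eq_mul, hi]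
  rw [← hα]; ring

end Diag

section Symm
variable {k : Type*} [Field k] {n : ℕ}

/-- the symmetric matrix of the product of two linear forms. -/
def symm (a b : Fin n → k) : Matrix (Fin n) (Fin n) k := fun i j => (a i * b j + b i * a j) / 2

theorem symm_mulVec (a b u : Fin n → k) :
    symm a b *ᵥ u = ((b ⬝ᵥ u) / 2) • a + ((a ⬝ᵥ u) / 2) • b := by
  funext i
  simp only [mulVec, dotProduct, symm, Pi.add_apply, Pi.smul_apply, smul_eq_mul, Finset.sum_div,
    Finset.sum_mul, ← Finset.sum_add_distrib]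
  refine Finset.sum_congr rfl fun j _ => ?_
  ring

theorem bilin_symm (Q : Matrix (Fin n) (Fin n) k) (hQ : Q.IsSymm) (x y : Fin n → k) :
    y ⬝ᵥ Q *ᵥ x = x ⬝ᵥ Q *ᵥ y := by
  rw [Matrix.dotProduct_mulVec, ← Matrix.mulVec_transpose, hQ.eq, dotProduct_comm]

theorem eq_symm_of_quad (h2 : (2 : k) ≠ 0) (Q : Matrix (Fin n) (Fin n) k) (hQ : Q.IsSymm)
    (a b : Fin n → k) (h : ∀ x, x ⬝ᵥ Q *ᵥ x = (a ⬝ᵥ x) * (b ⬝ᵥ x)) : Q = symm a b := by
  ext i j
  have hij := h (Pi.single i 1 + Pi.single j 1)
  have hi := h (Pi.single i 1)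
  have hj := h (Pi.single j 1)
  have e : ∀ l m : Fin n, (Pi.single l 1 : Fin n → k) ⬝ᵥ Q *ᵥ (Pi.single m 1) = Q l m := by
    intro l m
    rw [single_one_dotProduct, Matrix.mulVec_single_one]
    rfl
  simp only [mulVec_add, dotProduct_add, add_dotProduct, e, dotProduct_single_one] at hij hi hj
  have hs : Q j i = Q i j := hQ.apply i j
  rw [hs] at hij
  have : 2 * Q i j = a i * b j + b i * a j := by linear_combination hij - hi - hj
  unfold symm
  field_simp
  linear_combination this

theorem det_symm_three (a b : Fin 3 → k) : (symm a b).det = 0 := by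
  rw [Matrix.det_fin_three]
  simp only [symm]
  ring

theorem exists_dual (a b : Fin n → k) (h : LinearIndependent k ![a, b]) :
    ∃ u : Fin n → k, a ⬝ᵥ u = 1 ∧ b ⬝ᵥ u = 0 := by
  have hp := LinearIndependent.pair_iff.mp h
  obtain ⟨i, j, hij⟩ : ∃ i j, a i * b j - a j * b i ≠ 0 := by
    by_contra hcon
    push Not at hcon
    by_cases ha : a = 0
    · have := hp 1 0 (by simp [ha])
      exact one_ne_zero this.1
    · obtain ⟨i, hi⟩ := Function.ne_iff.mp ha
      have h0 : (b i) • a + (-a i) • b = 0 := by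
        funext l
        simp only [Pi.add_apply, Pi.smul_apply, smul_eq_mul, Pi.zero_apply]
        linear_combination -(hcon i l)
      have := (hp _ _ h0).2
      apply hi
      simpa using this
  refine ⟨(a i * b j - a j * b i)⁻¹ • (b j • Pi.single i 1 - b i • Pi.single j 1), ?_, ?_⟩
  · simp only [dotProduct_smul, dotProduct_sub, dotProduct_single_one, smul_eq_mul]
    field_simp
  · simp only [dotProduct_smul, dotProduct_sub, dotProduct_single_one, smul_eq_mul]
    field_simp
    ring

theorem rank_symm_pair (h2 : (2 : k) ≠ 0) (a b : Fin n → k) (h : LinearIndependent k ![a, b]) :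
    (symm a b).rank = 2 := by
  have hrange : LinearMap.range (symm a b).mulVecLin = Submodule.span k (Set.range ![a, b]) := by
    apply le_antisymm
    · rintro _ ⟨u, rfl⟩
      rw [Matrix.mulVecLin_apply, symm_mulVec]
      apply Submodule.add_mem
      · exact Submodule.smul_mem _ _ (Submodule.subset_span ⟨0, rfl⟩)
      · exact Submodule.smul_mem _ _ (Submodule.subset_span ⟨1, rfl⟩)
    · rw [Submodule.span_le]
      rintro _ ⟨l, rfl⟩
      obtain ⟨u, hu1, hu2⟩ := exists_dual a b h
      obtain ⟨w, hw1, hw2⟩ := exists_dual b a (LinearIndependent.pair_symm_iff.mp h)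
      fin_cases l
      · refine ⟨(2 : k) • w, ?_⟩
        rw [Matrix.mulVecLin_apply, symm_mulVec]
        simp only [dotProduct_smul, hw1, hw2, smul_eq_mul]
        simp [h2]
      · refine ⟨(2 : k) • u, ?_⟩
        rw [Matrix.mulVecLin_apply, symm_mulVec]
        simp only [dotProduct_smul, hu1, hu2, smul_eq_mul]
        simp [h2]
  rw [Matrix.rank, hrange, finrank_span_eq_card h]
  rfl

theorem rank_symm_self (h2 : (2 : k) ≠ 0) (a : Fin n → k) (ha : a ≠ 0) :
    (symm a a).rank = 1 := by
  have hrange : LinearMap.range (symm a a).mulVecLin = Submodule.span k {a} := by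
    apply le_antisymm
    · rintro _ ⟨u, rfl⟩
      rw [Matrix.mulVecLin_apply, symm_mulVec]
      apply Submodule.add_mem <;>
        exact Submodule.smul_mem _ _ (Submodule.subset_span rfl)
    · rw [Submodule.span_le]
      intro x hx
      rw [Set.mem_singleton_iff.mp hx]
      obtain ⟨i, hi⟩ := Function.ne_iff.mp ha
      refine ⟨(a i)⁻¹ • Pi.single i 1, ?_⟩
      rw [Matrix.mulVecLin_apply, symm_mulVec]
      simp only [dotProduct_smul, dotProduct_single_one, smul_eq_mul]
      rw [inv_mul_cancel₀ hi, ← add_smul]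
      have : (1 / 2 + 1 / 2 : k) = 1 := by field_simp; norm_num
      rw [this, one_smul]
  rw [Matrix.rank, hrange, finrank_span_singleton ha]

end Symm

section Poly
variable {k : Type*} [Field k] {n : ℕ}

noncomputable def lin (a : Fin n → k) : MvPolynomial (Fin n) k := ∑ i, a i • X i

noncomputable def qf (Q : Matrix (Fin n) (Fin n) k) : MvPolynomial (Fin n) k :=
  ∑ i, ∑ j, Q i j • (X i * X j)

theorem eval_lin (a x : Fin n → k) : eval x (lin a) = a ⬝ᵥ x := by
  simp [lin, dotProduct, map_sum, smul_eval]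

theorem eval_qf (Q : Matrix (Fin n) (Fin n) k) (x : Fin n → k) :
    eval x (qf Q) = x ⬝ᵥ Q *ᵥ x := by
  simp only [qf, map_sum, smul_eval, map_mul, eval_X, dotProduct, mulVec, Finset.mul_sum]
  refine Finset.sum_congr rfl fun i _ => Finset.sum_congr rfl fun j _ => ?_
  ring

theorem not_isUnit_lin (a : Fin n → k) : ¬ IsUnit (lin a) := by
  intro h
  have := h.map (eval (0 : Fin n → k))
  rw [eval_lin, dotProduct_zero] at this
  exact not_isUnit_zero this

theorem not_isUnit_qf (Q : Matrix (Fin n) (Fin n) k) : ¬ IsUnit (qf Q) := by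
  intro h
  have := h.map (eval (0 : Fin n → k))
  rw [eval_qf, zero_dotProduct] at this
  exact not_isUnit_zero this

theorem eval_pderiv_qf (Q : Matrix (Fin n) (Fin n) k) (hQ : Q.IsSymm) (u : Fin n → k)
    (i : Fin n) : eval u (pderiv i (qf Q)) = 2 * (Q *ᵥ u) i := by
  have h1 : ∀ l m : Fin n, eval u (pderiv i (X l * X m : MvPolynomial (Fin n) k)) =
      (if i = m then u l else 0) + (if i = l then u m else 0) := by
    intro l m
    rw [Derivation.leibniz, pderiv_X, pderiv_X]
    simp only [Pi.single_apply, smul_eq_mul, map_add, map_mul, eval_X]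
    congr 1
    · by_cases h : m = i
      · subst h; simp
      · have : ¬ i = m := fun h' => h h'.symm
        simp [h, this]
    · by_cases h : l = i
      · subst h; simp
      · have : ¬ i = l := fun h' => h h'.symm
        simp [h, this]
  have h2 : eval u (pderiv i (qf Q)) = ∑ l, ∑ m, Q l m *
      ((if i = m then u l else 0) + (if i = l then u m else 0)) := by
    simp only [qf, map_sum, Derivation.map_smul, smul_eval, h1]
  rw [h2]
  simp only [mul_add, Finset.sum_add_distrib, mul_ite, mul_zero, Finset.sum_ite_eq,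
    Finset.mem_univ, if_true]
  have h3 : ∑ l, ∑ m, (if i = l then Q l m * u m else 0) = ∑ m, Q i m * u m := by
    rw [Finset.sum_comm]
    refine Finset.sum_congr rfl fun m _ => ?_
    rw [Finset.sum_ite_eq]; simp
  have h4 : ∑ l, Q l i * u l = ∑ m, Q i m * u m := by
    refine Finset.sum_congr rfl fun m _ => ?_
    rw [hQ.apply]
  rw [h3, h4]
  simp only [mulVec, dotProduct]
  ring

theorem eq_C_add_lin (p : MvPolynomial (Fin n) k) (hp : p.totalDegree ≤ 1) :
    p = C (coeff 0 p) + lin (fun i => coeff (Finsupp.single i 1) p) := by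
  classical
  ext m
  have hlin : coeff m (lin (fun i => coeff (Finsupp.single i 1) p)) =
      ∑ i, coeff (Finsupp.single i 1) p * (if Finsupp.single i 1 = m then 1 else 0) := by
    simp only [lin, coeff_sum, coeff_smul, smul_eq_mul, coeff_X']
  rw [coeff_add, coeff_C, hlin]
  by_cases hm0 : m = 0
  · subst hm0
    have : ∀ i : Fin n, ¬ (Finsupp.single i 1 = (0 : Fin n →₀ ℕ)) := by
      intro i h
      have := DFunLike.congr_fun h i
      simp at this
    simp [this]
  · have hne : ¬ (0 = m) := fun h => hm0 h.symm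
    rw [if_neg hne, zero_add]
    obtain ⟨i0, hi0⟩ : ∃ i0, m i0 ≠ 0 := by
      by_contra hcon
      push Not at hcon
      exact hm0 (Finsupp.ext hcon)
    by_cases hm1 : m = Finsupp.single i0 1
    · subst hm1
      rw [Finset.sum_eq_single i0]
      · simp
      · intro j _ hj
        have : ¬ (Finsupp.single j 1 = (Finsupp.single i0 1 : Fin n →₀ ℕ)) := by
          intro h
          exact hj ((Finsupp.single_left_inj one_ne_zero).mp h)
        simp [this]
      · intro h; exact absurd (Finset.mem_univ _) h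
    · have hz : ∀ i : Fin n, ¬ (Finsupp.single i 1 = m) := by
        intro i h
        subst h
        by_cases hii : i = i0
        · subst hii; exact hm1 rfl
        · apply hi0
          simp [Finsupp.single_apply, hii]
      have hdeg : p.totalDegree < ∑ i ∈ m.support, m i := by
        refine lt_of_le_of_lt hp ?_
        have hi0s : i0 ∈ m.support := Finsupp.mem_support_iff.mpr hi0
        by_cases h2 : 2 ≤ m i0
        · exact lt_of_lt_of_le (by omega) (Finset.single_le_sum (f := fun i => m i)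
            (fun _ _ => Nat.zero_le _) hi0s)
        · have h1 : m i0 = 1 := by omega
          obtain ⟨j, hj, hjm⟩ : ∃ j, j ≠ i0 ∧ m j ≠ 0 := by
            by_contra hcon
            push Not at hcon
            apply hm1
            ext l
            by_cases hl : l = i0
            · subst hl; simp [h1]
            · rw [hcon l hl]; simp [Finsupp.single_apply, Ne.symm hl]
          have hjs : j ∈ m.support := Finsupp.mem_support_iff.mpr hjm
          have hsub : ({i0, j} : Finset (Fin n)) ⊆ m.support := by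
            intro l hl
            simp only [Finset.mem_insert, Finset.mem_singleton] at hl
            rcases hl with rfl | rfl
            · exact hi0s
            · exact hjs
          have := Finset.sum_le_sum_of_subset (f := fun i => m i) hsub
          rw [Finset.sum_pair (Ne.symm hj)] at this
          have hj1 : 1 ≤ m j := Nat.one_le_iff_ne_zero.mpr hjm
          omega
      rw [coeff_eq_zero_of_totalDegree_lt hdeg]
      symm
      apply Finset.sum_eq_zero
      intro i _
      simp [hz i]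

theorem totalDegree_qf_le (Q : Matrix (Fin n) (Fin n) k) : (qf Q).totalDegree ≤ 2 := by
  unfold qf
  refine (totalDegree_finsetSum_le fun i _ => ?_)
  refine (totalDegree_finsetSum_le fun j _ => ?_)
  refine (totalDegree_smul_le _ _).trans ?_
  refine (totalDegree_mul _ _).trans ?_
  rw [totalDegree_X, totalDegree_X]

theorem symm_zero : symm (0 : Fin n → k) 0 = 0 := by
  ext i j; simp [symm]

end Poly

section Main

theorem thm_S13911 {k : Type*} [Field k] [IsAlgClosed k] [CharZero k]
    (Q : Matrix (Fin 3) (Fin 3) k) (hQ : Q.IsSymm) (hQ0 : Q ≠ 0) (f : MvPolynomial (Fin 3) k)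
    (hf : f = ∑ i : Fin 3, ∑ j : Fin 3, Q i j • (MvPolynomial.X i * MvPolynomial.X j)) :
    (Irreducible f ↔ Q.det ≠ 0) ∧
    ((∃ u : Fin 3 → k, u ≠ 0 ∧ ∀ i : Fin 3,
      MvPolynomial.eval u (MvPolynomial.pderiv i f) = 0) ↔ Q.det = 0) ∧
    ((∃ a b : Fin 3 → k, LinearIndependent k ![a, b] ∧
        f = (∑ i : Fin 3, a i • MvPolynomial.X i) * (∑ i : Fin 3, b i • MvPolynomial.X i)) ↔
      Q.rank = 2) ∧
    ((∃ a : Fin 3 → k, f = (∑ i : Fin 3, a i • MvPolynomial.X i) ^ 2) ↔ Q.rank = 1) := by
  classical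
  have h2 : (2 : k) ≠ 0 := two_ne_zero
  have : Invertible (2 : k) := invertibleOfNonzero h2
  have hfq : f = qf Q := hf
  obtain ⟨R, d, hR, hQd⟩ := exists_diag Q hQ
  have hprod : ∀ a b : Fin 3 → k, f = lin a * lin b ↔
      ∀ x, x ⬝ᵥ Q *ᵥ x = (a ⬝ᵥ x) * (b ⬝ᵥ x) := by
    intro a b
    rw [hfq, MvPolynomial.funext_iff]
    simp only [eval_qf, map_mul, eval_lin]
  have hdet0 : Q.det = 0 → ∃ a b, f = lin a * lin b := by
    intro hdet
    rw [hQd, det_diag_zero_iff R d hR] at hdet
    obtain ⟨l, hl⟩ := hdet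
    have hcard : (Finset.univ.erase l).card = 2 := by
      rw [Finset.card_erase_of_mem (Finset.mem_univ l)]; simp
    obtain ⟨i, j, hij, hS⟩ := Finset.card_eq_two.mp hcard
    have hzero : ∀ m, m ∉ ({i, j} : Finset (Fin 3)) → d m = 0 := by
      intro m hm
      rw [← hS] at hm
      have : m = l := by
        by_contra hne
        exact hm (Finset.mem_erase.mpr ⟨hne, Finset.mem_univ m⟩)
      rw [this]; exact hl
    obtain ⟨a, b, hab, -⟩ := exists_pair R d hR h2 hij hzero
    exact ⟨a, b, (hprod a b).mpr (by rw [hQd]; exact hab)⟩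
  have hf0 : f ≠ 0 := by
    intro h0
    apply hQ0
    have : f = lin (0 : Fin 3 → k) * lin 0 := by rw [h0]; simp [lin]
    rw [eq_symm_of_quad h2 Q hQ 0 0 ((hprod 0 0).mp this), symm_zero]
  refine ⟨⟨?_, ?_⟩, ⟨?_, ?_⟩, ⟨?_, ?_⟩, ⟨?_, ?_⟩⟩
  · intro hirr hdet
    obtain ⟨a, b, hab⟩ := hdet0 hdet
    rw [hab] at hirr
    rcases hirr.isUnit_or_isUnit rfl with h | h
    · exact not_isUnit_lin a h
    · exact not_isUnit_lin b h
  · intro hdet
    rw [irreducible_iff]
    refine ⟨by rw [hfq]; exact not_isUnit_qf Q, ?_⟩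
    intro g h hgh
    by_contra hcon
    push Not at hcon
    obtain ⟨hg, hh⟩ := hcon
    have hg0 : g ≠ 0 := by rintro rfl; apply hf0; rw [hgh, zero_mul]
    have hh0 : h ≠ 0 := by rintro rfl; apply hf0; rw [hgh, mul_zero]
    have hdeg : g.totalDegree + h.totalDegree ≤ 2 := by
      rw [← totalDegree_mul_of_isDomain hg0 hh0, ← hgh, hfq]; exact totalDegree_qf_le Q
    have hunit : ∀ p : MvPolynomial (Fin 3) k, p ≠ 0 → ¬ IsUnit p → 1 ≤ p.totalDegree := by
      intro p hp0 hpu
      by_contra hlt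
      have h0 : p.totalDegree = 0 := by omega
      rw [totalDegree_eq_zero_iff_eq_C] at h0
      apply hpu
      rw [h0]
      have hc : coeff 0 p ≠ 0 := by
        intro hc; apply hp0; rw [h0, hc, map_zero]
      exact (IsUnit.mk0 _ hc).map C
    have hg1 := hunit g hg0 hg
    have hh1 := hunit h hh0 hh
    have hgd := eq_C_add_lin g (by omega)
    have hhd := eq_C_add_lin h (by omega)
    obtain ⟨g₀, hg₀⟩ : ∃ g₀, g₀ = coeff 0 g := ⟨_, rfl⟩
    obtain ⟨h₀, hh₀⟩ : ∃ h₀, h₀ = coeff 0 h := ⟨_, rfl⟩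
    obtain ⟨a, ha⟩ : ∃ a : Fin 3 → k, a = fun i => coeff (Finsupp.single i 1) g := ⟨_, rfl⟩
    obtain ⟨b, hb⟩ : ∃ b : Fin 3 → k, b = fun i => coeff (Finsupp.single i 1) h := ⟨_, rfl⟩
    rw [← hg₀, ← ha] at hgd
    rw [← hh₀, ← hb] at hhd
    have hev : ∀ x : Fin 3 → k, x ⬝ᵥ Q *ᵥ x = (g₀ + a ⬝ᵥ x) * (h₀ + b ⬝ᵥ x) := by
      intro x
      have := congrArg (eval x) hgh
      rw [hfq, eval_qf, map_mul, hgd, hhd] at this
      simpa [eval_lin] using this
    have h00 : g₀ * h₀ = 0 := by
      have := hev 0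
      simpa using this.symm
    have hquad : ∀ x : Fin 3 → k, x ⬝ᵥ Q *ᵥ x = (a ⬝ᵥ x) * (b ⬝ᵥ x) := by
      intro x
      have e1 := hev x
      have e2 := hev ((2 : k) • x)
      simp only [mulVec_smul, dotProduct_smul, smul_dotProduct, smul_eq_mul] at e2
      have e3 : (2 : k) * (g₀ * (b ⬝ᵥ x) + h₀ * (a ⬝ᵥ x)) = 0 := by
        linear_combination e2 - 4 * e1 - 3 * h00
      have e4 := (mul_eq_zero.mp e3).resolve_left h2
      linear_combination e1 + h00 + e4
    apply hdet
    rw [eq_symm_of_quad h2 Q hQ a b hquad, det_symm_three]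
  · rintro ⟨u, hu0, hu⟩
    apply Matrix.exists_mulVec_eq_zero_iff.mp
    refine ⟨u, hu0, ?_⟩
    funext i
    have := hu i
    rw [hfq, eval_pderiv_qf Q hQ] at this
    exact (mul_eq_zero.mp this).resolve_left h2
  · intro hdet
    obtain ⟨u, hu0, hu⟩ := Matrix.exists_mulVec_eq_zero_iff.mpr hdet
    refine ⟨u, hu0, fun i => ?_⟩
    rw [hfq, eval_pderiv_qf Q hQ, hu]
    simp
  · rintro ⟨a, b, hab, hfab⟩
    have hq := (hprod a b).mp hfab
    rw [eq_symm_of_quad h2 Q hQ a b hq]
    exact rank_symm_pair h2 a b hab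
  · intro hrank
    rw [hQd, rank_diag R d hR] at hrank
    obtain ⟨i, j, hij, hS⟩ := Finset.card_eq_two.mp hrank
    have hzero : ∀ m, m ∉ ({i, j} : Finset (Fin 3)) → d m = 0 := by
      intro m hm
      rw [← hS] at hm
      by_contra hne
      exact hm (Finset.mem_filter.mpr ⟨Finset.mem_univ m, hne⟩)
    have hdi : d i ≠ 0 := by
      have : i ∈ Finset.univ.filter (fun i => d i ≠ 0) := by rw [hS]; simp
      exact (Finset.mem_filter.mp this).2
    have hdj : d j ≠ 0 := by
      have : j ∈ Finset.univ.filter (fun i => d i ≠ 0) := by rw [hS]; simp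
      exact (Finset.mem_filter.mp this).2
    obtain ⟨a, b, hab, hind⟩ := exists_pair R d hR h2 hij hzero
    exact ⟨a, b, hind hdi hdj, (hprod a b).mpr (by rw [hQd]; exact hab)⟩
  · rintro ⟨a, hfa⟩
    have hfa' : f = lin a * lin a := by rw [hfa, sq]; rfl
    have hq := (hprod a a).mp hfa'
    have hQa := eq_symm_of_quad h2 Q hQ a a hq
    have ha : a ≠ 0 := by
      rintro rfl
      apply hQ0
      rw [hQa, symm_zero]
    rw [hQa]
    exact rank_symm_self h2 a ha
  · intro hrank
    rw [hQd, rank_diag R d hR] at hrank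
    obtain ⟨i, hS⟩ := Finset.card_eq_one.mp hrank
    have hzero : ∀ m, m ∉ ({i} : Finset (Fin 3)) → d m = 0 := by
      intro m hm
      rw [← hS] at hm
      by_contra hne
      exact hm (Finset.mem_filter.mpr ⟨Finset.mem_univ m, hne⟩)
    obtain ⟨a, ha⟩ := exists_single R d hzero
    refine ⟨a, ?_⟩
    rw [sq]
    exact (hprod a a).mpr (by rw [hQd]; exact ha)

end Main

end Groth.Agent.Lib.Helper97.Conic
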