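import Groth.Agent.Lib.Helper97.Conic

set_option autoImplicit false
set_option linter.unusedSectionVars false
set_option linter.unusedSimpArgs false
set_option linter.unusedVariables false

/-! 2 × 2 matrices of linear forms in three variables with split determinant (helper97). -/

namespace Groth.Agent.Lib.Helper97.Conic

open Matrix MvPolynomial Module

section LinAlg
variable {k : Type*} [Field k]

theorem prod_zero_on {n : ℕ} (V : Set (Fin n → k)) (hV : ∀ x ∈ V, ∀ y ∈ V, x + y ∈ V)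
    (b c : Fin n → k) (h : ∀ x ∈ V, (b ⬝ᵥ x) * (c ⬝ᵥ x) = 0) :
    (∀ x ∈ V, b ⬝ᵥ x = 0) ∨ (∀ x ∈ V, c ⬝ᵥ x = 0) := by
  by_contra hcon
  push Not at hcon
  obtain ⟨⟨x₁, hx₁, hb⟩, ⟨x₂, hx₂, hc⟩⟩ := hcon
  have h1 : c ⬝ᵥ x₁ = 0 := (mul_eq_zero.mp (h x₁ hx₁)).resolve_left hb
  have h2 : b ⬝ᵥ x₂ = 0 := (mul_eq_zero.mp (h x₂ hx₂)).resolve_right hc
  have h3 := h (x₁ + x₂) (hV x₁ hx₁ x₂ hx₂)
  rw [dotProduct_add, dotProduct_add, h1, h2, add_zero, zero_add] at h3
  rcases mul_eq_zero.mp h3 with h | h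
  · exact hb h
  · exact hc h

theorem span_of_perp {n : ℕ} (p b : Fin n → k) (hp : p ≠ 0)
    (h : ∀ x, p ⬝ᵥ x = 0 → b ⬝ᵥ x = 0) : ∃ β : k, b = β • p := by
  obtain ⟨i, hi⟩ := Function.ne_iff.mp hp
  refine ⟨b i / p i, ?_⟩
  funext j
  have := h (p i • Pi.single j 1 - p j • Pi.single i 1) (by
    simp only [dotProduct_sub, dotProduct_smul, dotProduct_single_one, smul_eq_mul]; ring)
  simp only [dotProduct_sub, dotProduct_smul, dotProduct_single_one, smul_eq_mul] at this
  simp only [Pi.smul_apply, smul_eq_mul]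
  have hi' : p i ≠ 0 := hi
  field_simp
  linear_combination this

theorem span_of_perp₂ (p a b : Fin 3 → k) (hp : p ≠ 0) (ha : ¬ ∃ α : k, a = α • p)
    (h : ∀ x, p ⬝ᵥ x = 0 → a ⬝ᵥ x = 0 → b ⬝ᵥ x = 0) : ∃ β β' : k, b = β • a + β' • p := by
  have h0 : b ⬝ᵥ (p ⨯₃ a) = 0 := h _ (dot_self_cross p a) (dot_cross_self p a)
  rw [triple_product_eq_det] at h0
  obtain ⟨v, hv0, hv⟩ := Matrix.exists_vecMul_eq_zero_iff.mpr h0
  have hsum : v 0 • b + v 1 • p + v 2 • a = 0 := by
    funext j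
    have := congrFun hv j
    simp only [vecMul, dotProduct, Fin.sum_univ_three] at this
    simp only [Pi.add_apply, Pi.smul_apply, smul_eq_mul, Pi.zero_apply]
    simpa using this
  have hv00 : v 0 ≠ 0 := by
    intro h00
    rw [h00, zero_smul, zero_add] at hsum
    by_cases h2 : v 2 = 0
    · rw [h2, zero_smul, add_zero] at hsum
      have h1 : v 1 ≠ 0 := by
        intro h1
        apply hv0
        funext l
        fin_cases l <;> simp [h00, h1, h2]
      apply hp
      have := congrArg (fun z => (v 1)⁻¹ • z) hsum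
      simpa [smul_smul, inv_mul_cancel₀ h1] using this
    · apply ha
      refine ⟨-(v 1 / v 2), ?_⟩
      have : v 2 • a = -(v 1 • p) := eq_neg_of_add_eq_zero_right hsum
      have h3 := congrArg (fun z => (v 2)⁻¹ • z) this
      simp only [smul_smul, inv_mul_cancel₀ h2, one_smul, smul_neg] at h3
      rw [h3, neg_smul, div_eq_inv_mul]
  refine ⟨-(v 2 / v 0), -(v 1 / v 0), ?_⟩
  have : v 0 • b = -(v 2 • a) - v 1 • p := by
    have := hsum
    rw [add_assoc] at this
    rw [eq_neg_of_add_eq_zero_left this]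
    abel
  have h3 := congrArg (fun z => (v 0)⁻¹ • z) this
  simp only [smul_smul, inv_mul_cancel₀ hv00, one_smul, smul_neg, smul_sub] at h3
  rw [h3, neg_smul, neg_smul, div_eq_inv_mul, div_eq_inv_mul]
  abel

/-- a nonzero vector of `k²` orthogonal to `(s, t)`. -/
noncomputable def perp (s t : k) : Fin 2 → k :=
  open Classical in if s = 0 ∧ t = 0 then ![1, 0] else ![t, -s]

theorem perp_ne_zero (s t : k) : perp s t ≠ 0 := by
  unfold perp
  split_ifs with h
  · intro h0
    have := congrFun h0 0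
    simp at this
  · intro h0
    apply h
    have h1 := congrFun h0 0
    have h2 := congrFun h0 1
    simp at h1 h2
    exact ⟨h2, h1⟩

theorem perp_spec (s t : k) : perp s t 0 * s + perp s t 1 * t = 0 := by
  unfold perp
  split_ifs with h
  · simp [h.1, h.2]
  · simp; ring

/-- the key lemma: a 2 × 2 matrix of linear forms whose determinant splits has an
isotropic pair. -/
theorem exists_isotropic (a b c d p q : Fin 3 → k) (hp : p ≠ 0)
    (h : ∀ x, (a ⬝ᵥ x) * (d ⬝ᵥ x) - (b ⬝ᵥ x) * (c ⬝ᵥ x) = (p ⬝ᵥ x) * (q ⬝ᵥ x)) :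
    ∃ u w : Fin 2 → k, u ≠ 0 ∧ w ≠ 0 ∧
      (u 0 * w 0) • a + (u 0 * w 1) • b + (u 1 * w 0) • c + (u 1 * w 1) • d = 0 := by
  -- row type or column type
  have key : (∃ (u : Fin 2 → k) (s t : k), u ≠ 0 ∧ u 0 • a + u 1 • c = s • p ∧
        u 0 • b + u 1 • d = t • p) ∨
      (∃ (w : Fin 2 → k) (s t : k), w ≠ 0 ∧ w 0 • a + w 1 • b = s • p ∧
        w 0 • c + w 1 • d = t • p) := by
    have hV : ∀ x ∈ {x : Fin 3 → k | p ⬝ᵥ x = 0}, ∀ y ∈ {x : Fin 3 → k | p ⬝ᵥ x = 0},
        x + y ∈ {x : Fin 3 → k | p ⬝ᵥ x = 0} := by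
      intro x hx y hy
      simp only [Set.mem_setOf_eq] at hx hy ⊢
      rw [dotProduct_add, hx, hy, add_zero]
    have h10 : (![1, 0] : Fin 2 → k) ≠ 0 := by
      intro h0; have := congrFun h0 0; simp at this
    by_cases ha : ∃ α : k, a = α • p
    · obtain ⟨α, rfl⟩ := ha
      have hbc : ∀ x ∈ {x : Fin 3 → k | p ⬝ᵥ x = 0}, (b ⬝ᵥ x) * (c ⬝ᵥ x) = 0 := by
        intro x hx
        simp only [Set.mem_setOf_eq] at hx
        have := h x
        rw [smul_dotProduct, hx] at this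
        simp only [smul_eq_mul, mul_zero, zero_mul, zero_sub, neg_eq_zero] at this
        exact this
      rcases prod_zero_on _ hV b c hbc with hb | hc
      · obtain ⟨β, rfl⟩ := span_of_perp p b hp (fun x hx => hb x hx)
        left
        exact ⟨![1, 0], α, β, h10, by simp, by simp⟩
      · obtain ⟨γ, rfl⟩ := span_of_perp p c hp (fun x hx => hc x hx)
        right
        exact ⟨![1, 0], α, γ, h10, by simp, by simp⟩
    · have hV' : ∀ x ∈ {x : Fin 3 → k | p ⬝ᵥ x = 0 ∧ a ⬝ᵥ x = 0},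
          ∀ y ∈ {x : Fin 3 → k | p ⬝ᵥ x = 0 ∧ a ⬝ᵥ x = 0},
          x + y ∈ {x : Fin 3 → k | p ⬝ᵥ x = 0 ∧ a ⬝ᵥ x = 0} := by
        intro x hx y hy
        simp only [Set.mem_setOf_eq] at hx hy ⊢
        rw [dotProduct_add, dotProduct_add, hx.1, hy.1, hx.2, hy.2, add_zero]
        exact ⟨rfl, rfl⟩
      have hbc : ∀ x ∈ {x : Fin 3 → k | p ⬝ᵥ x = 0 ∧ a ⬝ᵥ x = 0},
          (b ⬝ᵥ x) * (c ⬝ᵥ x) = 0 := by
        intro x hx
        simp only [Set.mem_setOf_eq] at hx
        have := h x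
        rw [hx.1, hx.2] at this
        simp only [zero_mul, zero_sub, neg_eq_zero] at this
        exact this
      have hanz : ¬ ∀ x ∈ {x : Fin 3 → k | p ⬝ᵥ x = 0}, a ⬝ᵥ x = 0 := by
        intro hcon
        exact ha (span_of_perp p a hp (fun x hx => hcon x hx))
      rcases prod_zero_on _ hV' b c hbc with hb | hc
      · obtain ⟨β, β', rfl⟩ := span_of_perp₂ p a b hp ha (fun x hx hx' => hb x ⟨hx, hx'⟩)
        have h3 : ∀ x ∈ {x : Fin 3 → k | p ⬝ᵥ x = 0}, (a ⬝ᵥ x) * ((d - β • c) ⬝ᵥ x) = 0 := by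
          intro x hx
          simp only [Set.mem_setOf_eq] at hx
          have := h x
          simp only [add_dotProduct, smul_dotProduct, sub_dotProduct, hx, smul_eq_mul,
            mul_zero, zero_mul, add_zero] at this ⊢
          linear_combination this
        rcases prod_zero_on _ hV a (d - β • c) h3 with h4 | h4
        · exact absurd h4 hanz
        · obtain ⟨δ', hδ⟩ := span_of_perp p (d - β • c) hp (fun x hx => h4 x hx)
          right
          refine ⟨![-β, 1], β', δ', ?_, ?_, ?_⟩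
          · intro h0; have := congrFun h0 1; simp at this
          · simp
          · rw [← hδ]; simp; abel
      · obtain ⟨γ, γ', rfl⟩ := span_of_perp₂ p a c hp ha (fun x hx hx' => hc x ⟨hx, hx'⟩)
        have h3 : ∀ x ∈ {x : Fin 3 → k | p ⬝ᵥ x = 0}, (a ⬝ᵥ x) * ((d - γ • b) ⬝ᵥ x) = 0 := by
          intro x hx
          simp only [Set.mem_setOf_eq] at hx
          have := h x
          simp only [add_dotProduct, smul_dotProduct, sub_dotProduct, hx, smul_eq_mul,
            mul_zero, zero_mul, add_zero] at this ⊢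
          linear_combination this
        rcases prod_zero_on _ hV a (d - γ • b) h3 with h4 | h4
        · exact absurd h4 hanz
        · obtain ⟨δ', hδ⟩ := span_of_perp p (d - γ • b) hp (fun x hx => h4 x hx)
          left
          refine ⟨![-γ, 1], γ', δ', ?_, ?_, ?_⟩
          · intro h0; have := congrFun h0 1; simp at this
          · simp
          · rw [← hδ]; simp; abel
  rcases key with ⟨u, s, t, hu, h1, h2⟩ | ⟨w, s, t, hw, h1, h2⟩
  · refine ⟨u, perp s t, hu, perp_ne_zero s t, ?_⟩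
    have : (u 0 * perp s t 0) • a + (u 0 * perp s t 1) • b + (u 1 * perp s t 0) • c +
        (u 1 * perp s t 1) • d =
        perp s t 0 • (u 0 • a + u 1 • c) + perp s t 1 • (u 0 • b + u 1 • d) := by
      simp only [smul_add, smul_smul]
      rw [mul_comm (perp s t 0) (u 0), mul_comm (perp s t 0) (u 1), mul_comm (perp s t 1) (u 0),
        mul_comm (perp s t 1) (u 1)]
      abel
    rw [this, h1, h2, smul_smul, smul_smul, ← add_smul, perp_spec, zero_smul]
  · refine ⟨perp s t, w, perp_ne_zero s t, hw, ?_⟩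
    have : (perp s t 0 * w 0) • a + (perp s t 0 * w 1) • b + (perp s t 1 * w 0) • c +
        (perp s t 1 * w 1) • d =
        perp s t 0 • (w 0 • a + w 1 • b) + perp s t 1 • (w 0 • c + w 1 • d) := by
      simp only [smul_add, smul_smul]
      abel
    rw [this, h1, h2, smul_smul, smul_smul, ← add_smul, perp_spec, zero_smul]

theorem exists_GL_row (u : Fin 2 → k) (hu : u ≠ 0) :
    ∃ g : GL (Fin 2) k, ∀ j, g.val 0 j = u j := by
  by_cases h0 : u 0 = 0
  · have h1 : u 1 ≠ 0 := by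
      intro h1; apply hu; funext l; fin_cases l <;> simp [h0, h1]
    refine ⟨Matrix.GeneralLinearGroup.mkOfDetNeZero !![u 0, u 1; 1, 0] ?_, ?_⟩
    · rw [Matrix.det_fin_two_of]; simpa using h1
    · intro j; fin_cases j <;> simp [Matrix.GeneralLinearGroup.mkOfDetNeZero]
  · refine ⟨Matrix.GeneralLinearGroup.mkOfDetNeZero !![u 0, u 1; 0, 1] ?_, ?_⟩
    · rw [Matrix.det_fin_two_of]; simpa using h0
    · intro j; fin_cases j <;> simp [Matrix.GeneralLinearGroup.mkOfDetNeZero]

theorem exists_GL_col (w : Fin 2 → k) (hw : w ≠ 0) :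
    ∃ g : GL (Fin 2) k, ∀ j, g.val j 1 = w j := by
  by_cases h0 : w 0 = 0
  · have h1 : w 1 ≠ 0 := by
      intro h1; apply hw; funext l; fin_cases l <;> simp [h0, h1]
    refine ⟨Matrix.GeneralLinearGroup.mkOfDetNeZero !![1, w 0; 0, w 1] ?_, ?_⟩
    · rw [Matrix.det_fin_two_of]; simpa using h1
    · intro j; fin_cases j <;> simp [Matrix.GeneralLinearGroup.mkOfDetNeZero]
  · refine ⟨Matrix.GeneralLinearGroup.mkOfDetNeZero !![0, w 0; 1, w 1] ?_, ?_⟩
    · rw [Matrix.det_fin_two_of]; simpa using h0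
    · intro j; fin_cases j <;> simp [Matrix.GeneralLinearGroup.mkOfDetNeZero]

end LinAlg

section PolyMat
variable {k : Type*} [Field k]

theorem isHomogeneous_lin {n : ℕ} (a : Fin n → k) : (lin a).IsHomogeneous 1 := by
  unfold lin
  apply IsHomogeneous.sum
  intro i _
  exact (homogeneousSubmodule (Fin n) k 1).smul_mem (a i) (isHomogeneous_X k i)

theorem eq_lin_of_isHomogeneous {n : ℕ} (p : MvPolynomial (Fin n) k) (hp : p.IsHomogeneous 1) :
    p = lin (fun i => coeff (Finsupp.single i 1) p) := by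
  have h1 := eq_C_add_lin p hp.totalDegree_le
  have h0 : coeff 0 p = 0 := hp.coeff_eq_zero (d := 0) (by simp)
  rw [h0, map_zero, zero_add] at h1
  exact h1

theorem lin_add {n : ℕ} (a b : Fin n → k) : lin (a + b) = lin a + lin b := by
  simp [lin, add_smul, Finset.sum_add_distrib]

theorem lin_smul {n : ℕ} (c : k) (a : Fin n → k) : lin (c • a) = C c * lin a := by
  simp only [lin, Pi.smul_apply, smul_eq_mul, Finset.mul_sum, MvPolynomial.smul_eq_C_mul, map_mul,
    mul_assoc]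

theorem lin_zero {n : ℕ} : lin (0 : Fin n → k) = 0 := by simp [lin]

theorem thm_S13912 [Infinite k]
    (M : Matrix (Fin 2) (Fin 2) (MvPolynomial (Fin 3) k))
    (hM : ∀ a b : Fin 2, (M a b).IsHomogeneous 1) :
    (∃ l₁ l₂ : MvPolynomial (Fin 3) k, l₁.IsHomogeneous 1 ∧ l₂.IsHomogeneous 1 ∧
      M.det = l₁ * l₂) ↔
    ∃ g h : GL (Fin 2) k,
      ((MvPolynomial.C : k →+* MvPolynomial (Fin 3) k).mapMatrix g.val * M *
        (MvPolynomial.C : k →+* MvPolynomial (Fin 3) k).mapMatrix h.val) 0 1 = 0 := by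
  obtain ⟨m, hm⟩ : ∃ m : Fin 2 → Fin 2 → Fin 3 → k, ∀ a b, M a b = lin (m a b) :=
    ⟨fun a b i => coeff (Finsupp.single i 1) (M a b),
      fun a b => eq_lin_of_isHomogeneous _ (hM a b)⟩
  have hentry : ∀ (g h : Matrix (Fin 2) (Fin 2) k) (r s : Fin 2),
      ((MvPolynomial.C : k →+* MvPolynomial (Fin 3) k).mapMatrix g * M *
        (MvPolynomial.C : k →+* MvPolynomial (Fin 3) k).mapMatrix h) r s =
      lin ((g r 0 * h 0 s) • m 0 0 + (g r 0 * h 1 s) • m 0 1 + (g r 1 * h 0 s) • m 1 0 +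
        (g r 1 * h 1 s) • m 1 1) := by
    intro g h r s
    simp only [Matrix.mul_apply, Fin.sum_univ_two, RingHom.mapMatrix_apply, Matrix.map_apply, hm,
      lin_add, lin_smul, map_mul]
    ring
  constructor
  · rintro ⟨l₁, l₂, hl₁, hl₂, hdet⟩
    -- normalise so that l₁ ≠ 0
    obtain ⟨p, q, hp, hpq⟩ : ∃ p q : Fin 3 → k, p ≠ 0 ∧ M.det = lin p * lin q := by
      by_cases h1 : l₁ = 0
      · refine ⟨Pi.single 0 1, 0, ?_, ?_⟩
        · intro h0; have := congrFun h0 0; simp at this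
        · rw [hdet, h1, lin_zero, zero_mul, mul_zero]
      · refine ⟨fun i => coeff (Finsupp.single i 1) l₁, fun i => coeff (Finsupp.single i 1) l₂,
          ?_, ?_⟩
        · intro h0
          apply h1
          rw [eq_lin_of_isHomogeneous l₁ hl₁, h0, lin_zero]
        · rw [hdet, ← eq_lin_of_isHomogeneous l₁ hl₁, ← eq_lin_of_isHomogeneous l₂ hl₂]
    have hx : ∀ x, (m 0 0 ⬝ᵥ x) * (m 1 1 ⬝ᵥ x) - (m 0 1 ⬝ᵥ x) * (m 1 0 ⬝ᵥ x) =
        (p ⬝ᵥ x) * (q ⬝ᵥ x) := by
      intro x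
      have := congrArg (eval x) hpq
      rw [Matrix.det_fin_two, hm, hm, hm, hm] at this
      simpa [eval_lin] using this
    obtain ⟨u, w, hu, hw, huw⟩ := exists_isotropic (m 0 0) (m 0 1) (m 1 0) (m 1 1) p q hp hx
    obtain ⟨g, hg⟩ := exists_GL_row u hu
    obtain ⟨h, hh⟩ := exists_GL_col w hw
    refine ⟨g, h, ?_⟩
    rw [hentry, hg, hg, hh, hh, huw, lin_zero]
  · rintro ⟨g, h, hgh⟩
    obtain ⟨N, hN⟩ : ∃ N, N = (MvPolynomial.C : k →+* MvPolynomial (Fin 3) k).mapMatrix g.val *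
      M * (MvPolynomial.C : k →+* MvPolynomial (Fin 3) k).mapMatrix h.val := ⟨_, rfl⟩
    have hNhom : ∀ r s, (N r s).IsHomogeneous 1 := by
      intro r s
      rw [hN, hentry]
      exact isHomogeneous_lin _
    have hdetN : N.det = C (g.val.det) * M.det * C (h.val.det) := by
      rw [hN, Matrix.det_mul, Matrix.det_mul, ← RingHom.map_det, ← RingHom.map_det]
    have hdetN' : N.det = N 0 0 * N 1 1 := by
      rw [Matrix.det_fin_two, hN, hgh]; ring
    have hg0 : g.val.det ≠ 0 := ((Matrix.isUnit_iff_isUnit_det _).mp g.isUnit).ne_zero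
    have hh0 : h.val.det ≠ 0 := ((Matrix.isUnit_iff_isUnit_det _).mp h.isUnit).ne_zero
    refine ⟨C ((g.val.det)⁻¹ * (h.val.det)⁻¹) * N 0 0, N 1 1, ?_, hNhom 1 1, ?_⟩
    · have := (isHomogeneous_C (Fin 3) ((g.val.det)⁻¹ * (h.val.det)⁻¹)).mul (hNhom 0 0)
      simpa using this
    · rw [mul_assoc, ← hdetN', hdetN]
      have : C ((g.val.det)⁻¹ * (h.val.det)⁻¹) * (C (g.val.det) * M.det * C (h.val.det)) =
          C ((g.val.det)⁻¹ * (h.val.det)⁻¹ * (g.val.det * h.val.det)) * M.det := by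
        simp only [map_mul]; ring
      rw [this]
      have : (g.val.det)⁻¹ * (h.val.det)⁻¹ * (g.val.det * h.val.det) = 1 := by
        field_simp
      rw [this, map_one, one_mul]

end PolyMat

end Groth.Agent.Lib.Helper97.Conic
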