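import Mathlib

/-!
# Curvilinear clusters on a smooth surface germ (helper97; S19453)
-/

set_option autoImplicit false
set_option linter.unusedSectionVars false
set_option linter.style.haveILetI false

namespace Groth.Agent.Lib.Helper97.Curvilinear

open Polynomial

/-- In a 2-dimensional space every nonzero vector is part of a spanning pair. -/
lemma exists_span_pair_eq_top {κ V : Type*} [Field κ] [AddCommGroup V] [Module κ V]
    (h2 : Module.finrank κ V = 2) (v : V) (hv : v ≠ 0) :
    ∃ w : V, Submodule.span κ ({v, w} : Set V) = ⊤ := by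
  haveI : FiniteDimensional κ V := Module.finite_of_finrank_pos (by omega)
  have hne : Submodule.span κ ({v} : Set V) ≠ ⊤ := by
    intro h
    have h1 := finrank_span_singleton (K := κ) hv
    rw [h, finrank_top, h2] at h1
    omega
  obtain ⟨w, hw⟩ : ∃ w : V, w ∉ Submodule.span κ ({v} : Set V) := by
    by_contra hcon
    push Not at hcon
    exact hne (eq_top_iff.mpr fun x _ => hcon x)
  refine ⟨w, ?_⟩
  have hli : LinearIndependent κ ![w, v] := by
    rw [LinearIndependent.pair_iff]
    intro s t hst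
    by_cases hs : s = 0
    · subst hs
      rw [zero_smul, zero_add] at hst
      exact ⟨rfl, (smul_eq_zero.mp hst).resolve_right hv⟩
    · exfalso
      apply hw
      rw [Submodule.mem_span_singleton]
      refine ⟨-(s⁻¹ * t), ?_⟩
      have : s • w = -(t • v) := eq_neg_of_add_eq_zero_left hst
      calc (-(s⁻¹ * t)) • v = s⁻¹ • (-(t • v)) := by rw [neg_smul, mul_smul, smul_neg]
        _ = s⁻¹ • (s • w) := by rw [this]
        _ = w := by rw [smul_smul, inv_mul_cancel₀ hs, one_smul]
  have hcard := finrank_span_eq_card hli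
  have hrange : Set.range ![w, v] = ({v, w} : Set V) := by
    ext x
    simp only [Set.mem_range, Set.mem_insert_iff, Set.mem_singleton_iff]
    constructor
    · rintro ⟨i, rfl⟩
      fin_cases i
      · right; rfl
      · left; rfl
    · rintro (rfl | rfl)
      · exact ⟨1, rfl⟩
      · exact ⟨0, rfl⟩
  rw [hrange, Fintype.card_fin] at hcard
  exact Submodule.eq_top_of_finrank_eq (hcard.trans h2.symm)

universe u

theorem curvilinear (k : Type u) [Field k]
    (A : Type u) [CommRing A] [Algebra k A] [IsRegularLocalRing A] (hdim : ringKrullDim A = 2)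
    (hres : Function.Surjective (algebraMap k (IsLocalRing.ResidueField A)))
    (I : Ideal A) [Module.Finite k (A ⧸ I)] (n : ℕ) (hn : Module.finrank k (A ⧸ I) = n) (h1 : 1 ≤ n)
    (g : A) (hgI : g ∈ I) (hg : g ∉ IsLocalRing.maximalIdeal A ^ 2) :
    Nonempty ((A ⧸ I) ≃ₐ[k] (Polynomial k ⧸ Ideal.span {(Polynomial.X : Polynomial k) ^ n})) := by
  classical
  set M := IsLocalRing.maximalIdeal A with hM
  have hI : I ≠ ⊤ := by
    intro h
    haveI : Subsingleton (A ⧸ I) := Ideal.Quotient.subsingleton_iff.mpr h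
    rw [Module.finrank_zero_of_subsingleton] at hn
    omega
  have hIM : I ≤ M := IsLocalRing.le_maximalIdeal hI
  have hgM : g ∈ M := hIM hgI
  have hcot : Module.finrank (IsLocalRing.ResidueField A) (IsLocalRing.CotangentSpace A) = 2 := by
    have := (IsRegularLocalRing.iff_finrank_cotangentSpace A).mp inferInstance
    rw [hdim] at this
    exact_mod_cast this
  have hg0 : M.toCotangent ⟨g, hgM⟩ ≠ 0 := by
    rw [Ne, Ideal.toCotangent_eq_zero]
    exact hg
  obtain ⟨w, hw⟩ := exists_span_pair_eq_top hcot _ hg0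
  obtain ⟨⟨h, hhM⟩, rfl⟩ := Ideal.toCotangent_surjective M w
  have hspan : Submodule.span A ({⟨g, hgM⟩, ⟨h, hhM⟩} : Set M) = ⊤ := by
    rw [← IsLocalRing.CotangentSpace.span_image_eq_top_iff, Set.image_pair]
    exact hw
  have hMgh : ∀ x ∈ M, ∃ u v : A, x = u * g + v * h := by
    intro x hx
    have : (⟨x, hx⟩ : M) ∈ Submodule.span A ({⟨g, hgM⟩, ⟨h, hhM⟩} : Set M) := by
      rw [hspan]; trivial
    rw [Submodule.mem_span_pair] at this
    obtain ⟨u, v, huv⟩ := this
    exact ⟨u, v, (congrArg Subtype.val huv).symm⟩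
  let hb : A ⧸ I := Ideal.Quotient.mk I h
  have F1 : ∀ a : A ⧸ I, ∃ (c : k) (a' : A ⧸ I), a = algebraMap k (A ⧸ I) c + hb * a' := by
    intro a
    obtain ⟨x, rfl⟩ := Ideal.Quotient.mk_surjective a
    obtain ⟨c, hc⟩ := hres (IsLocalRing.residue A x)
    have hmem : x - algebraMap k A c ∈ M := by
      rw [← IsLocalRing.residue_eq_zero_iff, map_sub, ← hc, sub_eq_zero,
        IsScalarTower.algebraMap_apply k A (IsLocalRing.ResidueField A) c]
      rfl
    obtain ⟨u, v, huv⟩ := hMgh _ hmem
    refine ⟨c, Ideal.Quotient.mk I v, ?_⟩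
    have hx : x = algebraMap k A c + (u * g + v * h) := by rw [← huv]; ring
    rw [hx, map_add, map_add, map_mul, map_mul, Ideal.Quotient.eq_zero_iff_mem.mpr hgI, mul_zero,
      zero_add, mul_comm]
    rfl
  have hjac : hb ∈ Ideal.jacobson (⊥ : Ideal (A ⧸ I)) := by
    rw [Ideal.mem_jacobson_bot]
    intro y
    obtain ⟨v, rfl⟩ := Ideal.Quotient.mk_surjective y
    have hhv : h * v ∈ M := M.mul_mem_right _ hhM
    have hu : IsUnit (h * v + 1) := by
      by_contra hnu
      have h2 : h * v + 1 ∈ M := (IsLocalRing.mem_maximalIdeal _).mpr hnu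
      have h3 : (1 : A) ∈ M := by
        have := M.sub_mem h2 hhv
        simpa using this
      exact (IsLocalRing.maximalIdeal.isMaximal A).ne_top ((Ideal.eq_top_iff_one _).mpr h3)
    have := hu.map (Ideal.Quotient.mk I)
    simpa only [hb, map_add, map_mul, map_one] using this
  haveI : IsArtinianRing (A ⧸ I) := IsArtinianRing.of_finite k (A ⧸ I)
  obtain ⟨N, hN⟩ := IsArtinianRing.isNilpotent_jacobson_bot (R := A ⧸ I)
  have hbN : hb ^ N = 0 := by
    have : hb ^ N ∈ (Ideal.jacobson (⊥ : Ideal (A ⧸ I))) ^ N := Ideal.pow_mem_pow hjac N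
    rw [hN] at this
    exact this
  let φ : k[X] →ₐ[k] (A ⧸ I) := Polynomial.aeval hb
  have hsurjN : ∀ N : ℕ, ∀ a : A ⧸ I, ∃ (p : k[X]) (a' : A ⧸ I), a = φ p + hb ^ N * a' := by
    intro N
    induction N with
    | zero => intro a; exact ⟨0, a, by simp⟩
    | succ N ih =>
      intro a
      obtain ⟨p, a', rfl⟩ := ih a
      obtain ⟨c, a'', rfl⟩ := F1 a'
      refine ⟨p + C c * X ^ N, a'', ?_⟩
      simp only [map_add, map_mul, map_pow, φ, aeval_X, aeval_C]
      ring
  have hsurj : Function.Surjective φ := by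
    intro a
    obtain ⟨p, a', rfl⟩ := hsurjN N a
    exact ⟨p, by rw [hbN, zero_mul, add_zero]⟩
  let e := Ideal.quotientKerAlgEquivOfSurjective hsurj
  have hXN : (X : k[X]) ^ N ∈ RingHom.ker φ := by
    rw [RingHom.mem_ker]
    simp only [φ, map_pow, aeval_X, hbN]
  obtain ⟨q, hq⟩ : ∃ q, RingHom.ker φ = Ideal.span {q} :=
    (IsPrincipalIdealRing.principal _).principal
  have hqd : q ∣ X ^ N := by
    rw [hq, Ideal.mem_span_singleton] at hXN
    exact hXN
  obtain ⟨j, _, hj⟩ := (dvd_prime_pow Polynomial.prime_X N).mp hqd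
  have hker : RingHom.ker φ = Ideal.span {(X : k[X]) ^ j} := by
    rw [hq]
    exact Ideal.span_singleton_eq_span_singleton.mpr hj
  have hjn : j = n := by
    have h1 : Module.finrank k (k[X] ⧸ RingHom.ker φ) = n := by
      rw [← hn]
      exact e.toLinearEquiv.finrank_eq
    rw [hker, finrank_quotient_span_eq_natDegree, natDegree_X_pow] at h1
    exact h1
  subst hjn
  exact ⟨e.symm.trans (Ideal.quotientEquivAlgOfEq k hker)⟩

end Groth.Agent.Lib.Helper97.Curvilinear
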