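import Mathlib

/-!
# Curvilinear algebras `k[t]/(t^n)` and flat subalgebras (helper97; S14087)
-/

set_option autoImplicit false
set_option linter.unusedSectionVars false
set_option linter.style.haveILetI false

namespace Groth.Agent.Lib.Helper97.Curvilinear2

open Polynomial

universe u

/-- A finite-dimensional algebra in which every element is a scalar plus a multiple of a fixed
nilpotent element is `k[X]/(X^m)`. -/
theorem nonempty_algEquiv_of_principal (k : Type u) [Field k] (A : Type u) [CommRing A]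
    [Algebra k A] [Module.Finite k A] (hb : A)
    (F1 : ∀ a : A, ∃ (c : k) (a' : A), a = algebraMap k A c + hb * a')
    (hnil : IsNilpotent hb) :
    Nonempty (A ≃ₐ[k] (k[X] ⧸ Ideal.span {(X : k[X]) ^ Module.finrank k A})) := by
  obtain ⟨N, hbN⟩ := hnil
  let φ : k[X] →ₐ[k] A := Polynomial.aeval hb
  have hsurjN : ∀ N : ℕ, ∀ a : A, ∃ (p : k[X]) (a' : A), a = φ p + hb ^ N * a' := by
    intro N
    induction N with
    | zero => intro a; exact ⟨0, a, by simp⟩
    | succ N ih =>
      intro a
      obtain ⟨p, a', rfl⟩ := ih a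
      obtain ⟨c, a'', rfl⟩ := F1 a'
      refine ⟨p + C c * X ^ N, a'', ?_⟩
      simp only [map_add, map_mul, map_pow, φ, aeval_X, aeval_C]
      ring
  have hsurj : Function.Surjective φ := by
    intro a
    obtain ⟨p, a', rfl⟩ := hsurjN N a
    exact ⟨p, by rw [hbN, zero_mul, add_zero]⟩
  let e := Ideal.quotientKerAlgEquivOfSurjective hsurj
  have hXN : (X : k[X]) ^ N ∈ RingHom.ker φ := by
    rw [RingHom.mem_ker]
    simp only [φ, map_pow, aeval_X, hbN]
  obtain ⟨q, hq⟩ : ∃ q, RingHom.ker φ = Ideal.span {q} :=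
    (IsPrincipalIdealRing.principal _).principal
  have hqd : q ∣ X ^ N := by
    rw [hq, Ideal.mem_span_singleton] at hXN
    exact hXN
  obtain ⟨j, _, hj⟩ := (dvd_prime_pow Polynomial.prime_X N).mp hqd
  have hker : RingHom.ker φ = Ideal.span {(X : k[X]) ^ j} := by
    rw [hq]
    exact Ideal.span_singleton_eq_span_singleton.mpr hj
  have hjn : j = Module.finrank k A := by
    have h1 : Module.finrank k (k[X] ⧸ RingHom.ker φ) = Module.finrank k A :=
      e.toLinearEquiv.finrank_eq
    rw [hker, finrank_quotient_span_eq_natDegree, natDegree_X_pow] at h1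
    exact h1
  rw [← hjn]
  exact ⟨e.symm.trans (Ideal.quotientEquivAlgOfEq k hker)⟩

section SecB

variable (k : Type u) [Field k] (n : ℕ)

local notation "B" => (k[X] ⧸ Ideal.span {(X : k[X]) ^ n})

/-- the class of `X`. -/
noncomputable def t : B := Ideal.Quotient.mk _ X

lemma t_pow : t k n ^ n = 0 := by
  rw [t, ← map_pow, Ideal.Quotient.eq_zero_iff_mem]
  exact Ideal.subset_span rfl

lemma decomp (x : B) : ∃ (c : k) (x' : B), x = algebraMap k B c + t k n * x' := by
  obtain ⟨p, rfl⟩ := Ideal.Quotient.mk_surjective x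
  refine ⟨p.coeff 0, Ideal.Quotient.mk _ p.divX, ?_⟩
  rw [t, ← map_mul, ← Ideal.Quotient.mk_algebraMap, ← map_add, ← C_eq_algebraMap, add_comm,
    X_mul_divX_add]

lemma nilp (x' : B) : IsNilpotent (t k n * x') :=
  ⟨n, by rw [mul_pow, t_pow, zero_mul]⟩

lemma unit_of {c : k} (hc : c ≠ 0) (x' : B) : IsUnit (algebraMap k B c + t k n * x') :=
  (nilp k n x').isUnit_add_left_of_commute ((isUnit_iff_ne_zero.mpr hc).map _) (Commute.all _ _)

lemma nontrivialB (hn : 0 < n) : Nontrivial B := by
  apply Ideal.Quotient.nontrivial_iff.mpr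
  rw [Ne, Ideal.span_singleton_eq_top]
  intro hu
  have := natDegree_eq_zero_of_isUnit hu
  rw [natDegree_X_pow] at this
  omega

lemma isLocalB (hn : 0 < n) : IsLocalRing B := by
  haveI := nontrivialB k n hn
  apply IsLocalRing.of_isUnit_or_isUnit_one_sub_self
  intro a
  obtain ⟨c, a', rfl⟩ := decomp k n a
  by_cases hc : c = 0
  · right
    have : (1 : B) - (algebraMap k B c + t k n * a') = algebraMap k B 1 + t k n * (-a') := by
      rw [hc, map_zero, map_one]; ring
    rw [this]
    exact unit_of k n one_ne_zero _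
  · left
    exact unit_of k n hc _

lemma span_eq (x : B) : ∃ i : ℕ, Ideal.span {x} = Ideal.span {t k n ^ i} := by
  classical
  obtain ⟨p, rfl⟩ := Ideal.Quotient.mk_surjective x
  set g := EuclideanDomain.gcd p (X ^ n) with hg
  have hgd : g ∣ X ^ n := EuclideanDomain.gcd_dvd_right _ _
  obtain ⟨i, _, hi⟩ := (dvd_prime_pow Polynomial.prime_X n).mp hgd
  refine ⟨i, ?_⟩
  have h1 : Ideal.span {Ideal.Quotient.mk (Ideal.span {(X : k[X]) ^ n}) p} =
      Ideal.span {Ideal.Quotient.mk (Ideal.span {(X : k[X]) ^ n}) g} := by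
    apply le_antisymm
    · rw [Ideal.span_singleton_le_iff_mem, Ideal.mem_span_singleton]
      exact (Ideal.Quotient.mk _).map_dvd (EuclideanDomain.gcd_dvd_left _ _)
    · rw [Ideal.span_singleton_le_iff_mem, Ideal.mem_span_singleton]
      have hbez := EuclideanDomain.gcd_eq_gcd_ab p (X ^ n)
      refine ⟨Ideal.Quotient.mk _ (EuclideanDomain.gcdA p (X ^ n)), ?_⟩
      rw [← map_mul, hg, hbez, map_add, map_mul, map_mul]
      have : Ideal.Quotient.mk (Ideal.span {(X : k[X]) ^ n}) (X ^ n) = 0 :=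
        Ideal.Quotient.eq_zero_iff_mem.mpr (Ideal.subset_span rfl)
      rw [this, zero_mul, add_zero]
  rw [h1, t, ← map_pow]
  have hi' := hi.map (Ideal.Quotient.mk (Ideal.span {(X : k[X]) ^ n}))
  apply le_antisymm
  · rw [Ideal.span_singleton_le_iff_mem, Ideal.mem_span_singleton]
    exact hi'.symm.dvd
  · rw [Ideal.span_singleton_le_iff_mem, Ideal.mem_span_singleton]
    exact hi'.dvd

lemma total (x y : B) : Ideal.span {x} ≤ Ideal.span {y} ∨ Ideal.span {y} ≤ Ideal.span {x} := by
  obtain ⟨i, hi⟩ := span_eq k n x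
  obtain ⟨j, hj⟩ := span_eq k n y
  rw [hi, hj]
  rcases le_total i j with h | h
  · right
    rw [Ideal.span_singleton_le_iff_mem, Ideal.mem_span_singleton]
    exact pow_dvd_pow _ h
  · left
    rw [Ideal.span_singleton_le_iff_mem, Ideal.mem_span_singleton]
    exact pow_dvd_pow _ h

/-- An element of a subalgebra `A ⊆ k[t]/(t^n)` which is a unit of `k[t]/(t^n)` is a unit of `A`. -/
lemma isUnit_of_isUnit_coe (hn : 0 < n) (A : Subalgebra k B) (z : A) (hz : IsUnit (z : B)) :
    IsUnit z := by
  haveI := nontrivialB k n hn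
  obtain ⟨γ, x', hzx⟩ := decomp k n (z : B)
  have hγ : γ ≠ 0 := by
    rintro rfl
    rw [map_zero, zero_add] at hzx
    rw [hzx] at hz
    exact (nilp k n x').not_isUnit hz
  have hw : IsNilpotent (z - algebraMap k A γ) := by
    refine ⟨n, Subtype.ext ?_⟩
    have : ((z - algebraMap k A γ : A) : B) = t k n * x' := by
      rw [Subalgebra.coe_sub, hzx]
      simp
    rw [Subalgebra.coe_pow, this, mul_pow, t_pow, zero_mul]
    rfl
  have := hw.isUnit_add_left_of_commute ((isUnit_iff_ne_zero.mpr hγ).map (algebraMap k A))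
    (Commute.all _ _)
  simpa using this

theorem flat_subalgebra (hn : 0 < n) (A : Subalgebra k B) [Module.Flat A B] :
    ∃ m : ℕ, Nonempty (A ≃ₐ[k] (k[X] ⧸ Ideal.span {(X : k[X]) ^ m})) := by
  classical
  haveI := nontrivialB k n hn
  haveI := isLocalB k n hn
  haveI : Module.Finite k B := (monic_X_pow n).finite_adjoinRoot
  haveI : Module.Finite k A := Module.Finite.of_injective A.val.toLinearMap Subtype.val_injective
  let S : Set (Ideal B) := {J | ∃ a : A, (a : B) ∈ Ideal.span {t k n} ∧ J = Ideal.span {(a : B)}}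
  have hSne : S.Nonempty := ⟨Ideal.span {((0 : A) : B)}, 0, by simp, rfl⟩
  obtain ⟨J, ⟨h, hht, rfl⟩, hmax⟩ :=
    (set_has_maximal_iff_noetherian (R := B) (M := B)).mpr inferInstance S hSne
  have key : ∀ a : A, (a : B) ∈ Ideal.span {t k n} → ∃ a' : A, a = h * a' := by
    intro a hat
    have hah : (a : B) ∈ Ideal.span {(h : B)} := by
      rcases total k n (a : B) (h : B) with hle | hle
      · exact hle (Ideal.mem_span_singleton_self _)
      · have hnlt : ¬ Ideal.span {(h : B)} < Ideal.span {(a : B)} := hmax _ ⟨a, hat, rfl⟩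
        have heq : Ideal.span {(h : B)} = Ideal.span {(a : B)} := eq_of_le_of_not_lt hle hnlt
        rw [heq]
        exact Ideal.mem_span_singleton_self _
    obtain ⟨b, hb⟩ := Ideal.mem_span_singleton'.mp hah
    have hrel : ∑ i : Fin 2, (![a, h] i) • (![(1 : B), -b] i) = 0 := by
      rw [Fin.sum_univ_two]
      simp only [Matrix.cons_val_zero, Matrix.cons_val_one, Subalgebra.smul_def, smul_eq_mul]
      rw [← hb]
      ring
    obtain ⟨l, c, y, hxy, hfc⟩ := Module.Flat.isTrivialRelation_of_sum_smul_eq_zero (R := A) (M := B)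
      (f := ![a, h]) (x := ![(1 : B), -b]) hrel
    have h1 : (1 : B) = ∑ j, (c 0 j) • y j := hxy 0
    obtain ⟨j, hj⟩ : ∃ j, IsUnit ((c 0 j : B) * y j) := by
      by_contra hcon
      push Not at hcon
      have : (1 : B) ∈ IsLocalRing.maximalIdeal B := by
        rw [h1]
        refine Ideal.sum_mem _ fun j _ => ?_
        rw [Subalgebra.smul_def, smul_eq_mul]
        exact (IsLocalRing.mem_maximalIdeal _).mpr (hcon j)
      exact (IsLocalRing.maximalIdeal.isMaximal B).ne_top ((Ideal.eq_top_iff_one _).mpr this)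
    have hcu : IsUnit ((c 0 j : A) : B) := isUnit_of_mul_isUnit_left hj
    obtain ⟨u, hu⟩ := isUnit_of_isUnit_coe k n hn A (c 0 j) hcu
    have hrel2 := hfc j
    rw [Fin.sum_univ_two] at hrel2
    simp only [Matrix.cons_val_zero, Matrix.cons_val_one] at hrel2
    refine ⟨-(c 1 j) * ↑u⁻¹, ?_⟩
    have h3 : a * (u : A) = -(h * c 1 j) := by
      rw [hu]
      exact eq_neg_of_add_eq_zero_left hrel2
    calc a = a * u * ↑u⁻¹ := by rw [mul_assoc, Units.mul_inv, mul_one]
      _ = h * (-(c 1 j) * ↑u⁻¹) := by rw [h3]; ring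
  have hnil : IsNilpotent h := by
    obtain ⟨x', hx'⟩ := Ideal.mem_span_singleton'.mp hht
    refine ⟨n, Subtype.ext ?_⟩
    rw [Subalgebra.coe_pow, ← hx', mul_pow, t_pow, mul_zero]
    rfl
  have F1 : ∀ a : A, ∃ (γ : k) (a' : A), a = algebraMap k A γ + h * a' := by
    intro a
    obtain ⟨γ, x', hax⟩ := decomp k n (a : B)
    have hmem : ((a - algebraMap k A γ : A) : B) ∈ Ideal.span {t k n} := by
      have : ((a - algebraMap k A γ : A) : B) = t k n * x' := by
        rw [Subalgebra.coe_sub, hax]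
        simp
      rw [this]
      exact Ideal.mul_mem_right _ _ (Ideal.mem_span_singleton_self _)
    obtain ⟨a', ha'⟩ := key _ hmem
    exact ⟨γ, a', by rw [← ha']; ring⟩
  exact ⟨_, nonempty_algEquiv_of_principal k A h F1 hnil⟩

end SecB

end Groth.Agent.Lib.Helper97.Curvilinear2
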