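import Groth.Prelude.Def_W4c6equivkfinstabCyc
import Mathlib

/-!
# Helper library: cyclotomic decomposition of group rings of finite abelian groups
(helper97; used by S19276–S19279)
-/

set_option autoImplicit false
set_option linter.unusedSectionVars false
set_option linter.style.haveILetI false

namespace Groth.Agent.Lib.Helper97.CycDecomp

open W4c6equivkfinstab Polynomial

variable (Λ : Type*) [CommRing Λ]

/-- `X^d - 1` and `Φ_m` are coprime when `d` is a proper divisor of `m` and `m` is invertible. -/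
lemma isCoprime_X_pow_sub_one_cyclotomic {m d : ℕ} (hd : d ∈ m.properDivisors)
    (hm : IsUnit ((m : ℕ) : Λ)) :
    IsCoprime (X ^ d - 1 : Λ[X]) (cyclotomic m Λ) := by
  have hsep : (X ^ m - 1 : Λ[X]).Separable := by
    simpa using separable_X_pow_sub_C_unit (1 : Λˣ) hm
  have hdvd := X_pow_sub_one_mul_cyclotomic_dvd_X_pow_sub_one_of_dvd Λ hd
  exact (hsep.of_dvd hdvd).isCoprime

variable {Λ}

/-- In the cyclotomic quotient of the group ring of a finite cyclic group `C` whose order is
invertible in `Λ`, the class of `[c] - 1` is a unit for every `c ≠ 0`. -/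
lemma isUnit_mk_single_sub_one {C : Type*} [AddCommGroup C] [Finite C] [IsAddCyclic C]
    (hu : IsUnit ((Nat.card C : ℕ) : Λ)) {c : C} (hc : c ≠ 0) :
    IsUnit (Ideal.Quotient.mk (cycIdeal Λ C) (AddMonoidAlgebra.single c (1 : Λ) - 1)) := by
  classical
  obtain ⟨g, hg⟩ := IsAddCyclic.exists_generator (α := C)
  have hgtop : AddSubgroup.zmultiples g = ⊤ := by
    ext x; simp [hg x]
  set m := Nat.card C with hm
  have hmpos : 0 < m := Nat.card_pos
  have hord : addOrderOf g = m := by
    rw [hm, ← Nat.card_zmultiples, hgtop, Nat.card_congr (AddSubgroup.topEquiv (G := C)).toEquiv]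
  -- c = k • g with k < m
  obtain ⟨k, hk, hkc⟩ : ∃ k < m, k • g = c := by
    have := hg c
    rw [mem_zmultiples_iff_mem_range_addOrderOf, hord] at this
    simpa using this
  have hk0 : ¬ m ∣ k := by
    intro hdiv
    apply hc
    rw [← hkc]
    obtain ⟨e, rfl⟩ := hdiv
    rw [mul_comm, mul_smul, ← hord, addOrderOf_nsmul_eq_zero, smul_zero]
  set d := Nat.gcd k m with hd
  have hdm : d ∣ m := Nat.gcd_dvd_right _ _
  have hdne : d ≠ m := fun h => hk0 (h ▸ Nat.gcd_dvd_left k m)
  have hdlt : d < m := lt_of_le_of_ne (Nat.le_of_dvd hmpos hdm) hdne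
  have hdprop : d ∈ m.properDivisors := Nat.mem_properDivisors.mpr ⟨hdm, hdlt⟩
  -- coprimality evaluated at [g]
  obtain ⟨a, b, hab⟩ := isCoprime_X_pow_sub_one_cyclotomic Λ hdprop hu
  have hev := congrArg (Polynomial.aeval (AddMonoidAlgebra.single g (1 : Λ))) hab
  simp only [map_add, map_mul, map_sub, map_pow, aeval_X, map_one,
    AddMonoidAlgebra.single_pow, one_pow] at hev
  have hmem : Polynomial.aeval (AddMonoidAlgebra.single g (1 : Λ)) (cyclotomic m Λ) ∈
      cycIdeal Λ C := Ideal.subset_span ⟨g, hgtop, rfl⟩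
  have hunit_d : IsUnit (Ideal.Quotient.mk (cycIdeal Λ C)
      (AddMonoidAlgebra.single (d • g) (1 : Λ) - 1)) := by
    have h2 := congrArg (Ideal.Quotient.mk (cycIdeal Λ C)) hev
    rw [map_add, map_mul, map_mul, Ideal.Quotient.eq_zero_iff_mem.mpr hmem, mul_zero, add_zero,
      map_one] at h2
    exact IsUnit.of_mul_eq_one _ (by rw [mul_comm]; exact h2)
  -- d • g = α • c
  obtain ⟨α, -, hα⟩ := Nat.exists_mul_mod_eq_gcd (n := k) (k := m) (by rw [← hd]; exact hdlt)
  have hdg : d • g = α • c := by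
    rw [← hkc, ← mul_smul, mul_comm α k, ← mod_addOrderOf_nsmul g (k * α), hord, hα]
  -- [c] - 1 divides [α • c] - 1
  have hdvd : (AddMonoidAlgebra.single c (1 : Λ) - 1) ∣
      (AddMonoidAlgebra.single (d • g) (1 : Λ) - 1) := by
    rw [hdg]
    have := sub_dvd_pow_sub_pow (AddMonoidAlgebra.single c (1 : Λ)) 1 α
    simpa [AddMonoidAlgebra.single_pow] using this
  exact isUnit_of_dvd_unit (map_dvd (Ideal.Quotient.mk (cycIdeal Λ C)) hdvd) hunit_d

section general

variable {M : Type*} [AddCommGroup M]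

lemma quotMap_surjective (B : AddSubgroup M) : Function.Surjective (quotMap Λ M B) := by
  intro y
  obtain ⟨x, hx⟩ := Finsupp.mapDomain_surjective (QuotientAddGroup.mk'_surjective B) y.coeff
  refine ⟨.ofCoeff x, ?_⟩
  simp only [quotMap, AddMonoidAlgebra.mapDomainRingHom_apply, AddMonoidAlgebra.mapDomain]
  change AddMonoidAlgebra.ofCoeff (Finsupp.mapDomain (⇑(QuotientAddGroup.mk' B)) x) = y
  rw [hx]

lemma cycQuotMap_surjective (B : AddSubgroup M) : Function.Surjective (cycQuotMap Λ M B) := by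
  unfold cycQuotMap
  exact Ideal.Quotient.mk_surjective.comp (quotMap_surjective B)

lemma quotMap_single (B : AddSubgroup M) (a : M) (r : Λ) :
    quotMap Λ M B (AddMonoidAlgebra.single a r) = AddMonoidAlgebra.single (a : M ⧸ B) r := by
  simp [quotMap]

lemma cycQuotMap_apply (B : AddSubgroup M) (x : AddMonoidAlgebra Λ M) :
    cycQuotMap Λ M B x = Ideal.Quotient.mk (cycIdeal Λ (M ⧸ B)) (quotMap Λ M B x) := rfl

lemma quotMap_single_sub_one_of_mem (B : AddSubgroup M) {b : M} (hb : b ∈ B) :
    quotMap Λ M B (AddMonoidAlgebra.single b 1 - 1) = 0 := by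
  have hb0 : ((b : M ⧸ B)) = 0 := (QuotientAddGroup.eq_zero_iff b).mpr hb
  rw [map_sub, quotMap_single, hb0, map_one, AddMonoidAlgebra.one_def, sub_self]

lemma cycQuotMap_single_sub_one_of_mem (B : AddSubgroup M) {b : M} (hb : b ∈ B) :
    cycQuotMap Λ M B (AddMonoidAlgebra.single b 1 - 1) = 0 := by
  rw [cycQuotMap_apply, quotMap_single_sub_one_of_mem B hb, map_zero]

lemma smul_quot_def (B : AddSubgroup M) (r : AddMonoidAlgebra Λ M)
    (x : AddMonoidAlgebra Λ (M ⧸ B)) : r • x = quotMap Λ M B r * x := by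
  rw [Algebra.smul_def]; rfl

lemma smul_cycQuot_def (B : AddSubgroup M) (r : AddMonoidAlgebra Λ M)
    (x : CycQuot Λ (M ⧸ B)) : r • x = cycQuotMap Λ M B r * x := by
  obtain ⟨x, rfl⟩ := Ideal.Quotient.mk_surjective x
  change Ideal.Quotient.mk _ (r • x) = _
  rw [smul_quot_def, map_mul]
  rfl

/-- Key element: if `b' ∉ B`, then `[b'] - 1` becomes a unit in the cyclotomic quotient at `B`. -/
lemma exists_mul_single_sub_one (B : AddSubgroup M) [B.FiniteIndex] [IsAddCyclic (M ⧸ B)]
    (hu : IsUnit ((B.index : ℕ) : Λ)) {b' : M} (hb' : b' ∉ B) :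
    ∃ y : AddMonoidAlgebra Λ M,
      cycQuotMap Λ M B (y * (AddMonoidAlgebra.single b' 1 - 1)) = 1 := by
  have hc : ((b' : M ⧸ B)) ≠ 0 := by
    rwa [Ne, QuotientAddGroup.eq_zero_iff]
  have hU := isUnit_mk_single_sub_one (Λ := Λ) (C := M ⧸ B) hu hc
  obtain ⟨y, hy⟩ := cycQuotMap_surjective (Λ := Λ) B (↑hU.unit⁻¹)
  refine ⟨y, ?_⟩
  rw [map_mul, hy]
  have : cycQuotMap Λ M B (AddMonoidAlgebra.single b' 1 - 1) =
      Ideal.Quotient.mk (cycIdeal Λ (M ⧸ B))
        (AddMonoidAlgebra.single (b' : M ⧸ B) (1 : Λ) - 1) := by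
    simp [cycQuotMap, quotMap_single]
  rw [this]
  exact hU.val_inv_mul

end general

section poly

variable (Λ)

/-- `Φ_d ∣ Φ_d(X^k)` for `k` coprime to `d`. -/
lemma cyclotomic_dvd_expand (d k : ℕ) (hk : Nat.Coprime k d) :
    cyclotomic d Λ ∣ expand Λ k (cyclotomic d Λ) := by
  induction k using Nat.recOnMul with
  | zero =>
    have hd : d = 1 := by simpa using hk
    subst hd
    simp [expand_zero]
  | one => simp
  | prime p hp =>
    have hpd : ¬ p ∣ d := (Nat.Prime.coprime_iff_not_dvd hp).mp hk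
    rw [cyclotomic_expand_eq_cyclotomic_mul hp hpd]
    exact dvd_mul_left _ _
  | mul a b ha hb =>
    have hka : Nat.Coprime a d := Nat.Coprime.coprime_mul_right hk
    have hkb : Nat.Coprime b d := Nat.Coprime.coprime_mul_left hk
    rw [expand_mul]
    exact (ha hka).trans (map_dvd (expand Λ a) (hb hkb))

end poly

section cyclic

variable {C : Type*} [AddCommGroup C] [Finite C] {g : C}

omit [Finite C] in
lemma addOrderOf_gen (hg : AddSubgroup.zmultiples g = ⊤) : addOrderOf g = Nat.card C := by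
  rw [← Nat.card_zmultiples, hg, Nat.card_congr (AddSubgroup.topEquiv (G := C)).toEquiv]

lemma exists_nsmul_gen (hg : AddSubgroup.zmultiples g = ⊤) (c : C) :
    ∃ k < Nat.card C, k • g = c := by
  classical
  have : c ∈ AddSubgroup.zmultiples g := by rw [hg]; trivial
  rw [mem_zmultiples_iff_mem_range_addOrderOf, addOrderOf_gen hg] at this
  simpa using this

lemma aeval_single_X_pow_sub_one (hg : AddSubgroup.zmultiples g = ⊤) :
    aeval (AddMonoidAlgebra.single g (1 : Λ)) (X ^ Nat.card C - 1 : Λ[X]) = 0 := by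
  rw [map_sub, map_pow, aeval_X, map_one, AddMonoidAlgebra.single_pow, one_pow,
    ← addOrderOf_gen hg, addOrderOf_nsmul_eq_zero, AddMonoidAlgebra.one_def, sub_self]

/-- Every element of the group ring of a cyclic group is a polynomial in `[g]`. -/
lemma exists_aeval_eq (hg : AddSubgroup.zmultiples g = ⊤) (x : AddMonoidAlgebra Λ C) :
    ∃ f : Λ[X], aeval (AddMonoidAlgebra.single g (1 : Λ)) f = x := by
  induction x using AddMonoidAlgebra.induction_linear with
  | zero => exact ⟨0, by simp⟩
  | add x y hx hy =>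
    obtain ⟨f, rfl⟩ := hx
    obtain ⟨f', rfl⟩ := hy
    exact ⟨f + f', by simp⟩
  | single c r =>
    obtain ⟨k, -, rfl⟩ := exists_nsmul_gen hg c
    refine ⟨Polynomial.C r * X ^ k, ?_⟩
    rw [map_mul, aeval_C, map_pow, aeval_X, AddMonoidAlgebra.single_pow, one_pow,
      AddMonoidAlgebra.coe_algebraMap]
    simp [AddMonoidAlgebra.single_mul_single]

/-- The kernel of `Λ[X] → Λ[C]`, `X ↦ [g]`, is generated by `X^d - 1`, `d = |C|`. -/
lemma X_pow_sub_one_dvd_of_aeval_eq_zero (hg : AddSubgroup.zmultiples g = ⊤) (f : Λ[X])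
    (h : aeval (AddMonoidAlgebra.single g (1 : Λ)) f = 0) :
    (X ^ Nat.card C - 1 : Λ[X]) ∣ f := by
  classical
  nontriviality Λ
  set d := Nat.card C with hd
  have hdpos : 0 < d := Nat.card_pos
  have hmonic : (X ^ d - 1 : Λ[X]).Monic := monic_X_pow_sub_C (1 : Λ) hdpos.ne'
  rw [← modByMonic_eq_zero_iff_dvd hmonic]
  set r := f %ₘ (X ^ d - 1) with hr
  have hr0 : aeval (AddMonoidAlgebra.single g (1 : Λ)) r = 0 := by
    have := congrArg (aeval (AddMonoidAlgebra.single g (1 : Λ))) (modByMonic_add_div f (X ^ d - 1))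
    rw [map_add, map_mul, aeval_single_X_pow_sub_one hg, zero_mul, add_zero, h] at this
    exact this
  have hnd : (X ^ d - 1 : Λ[X]).natDegree = d := by
    simpa using natDegree_X_pow_sub_C (R := Λ) (n := d) (r := 1)
  have hdeg : r.natDegree < d := by
    have := natDegree_modByMonic_lt f hmonic (by
      intro h1
      have := congrArg natDegree h1
      rw [hnd, natDegree_one] at this
      omega)
    rwa [hnd] at this
  rw [aeval_eq_sum_range' hdeg] at hr0
  ext j
  rw [coeff_zero]
  by_cases hj : j < d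
  · have := congrArg (fun y : AddMonoidAlgebra Λ C => y.coeff (j • g)) hr0
    simp only [AddMonoidAlgebra.coeff_sum, AddMonoidAlgebra.single_pow, one_pow,
      AddMonoidAlgebra.coeff_zero, Finsupp.coe_zero, Pi.zero_apply] at this
    rw [Finset.sum_apply'] at this
    rw [Finset.sum_eq_single j] at this
    · simpa using this
    · intro i hi hij
      have hi' : i < d := Finset.mem_range.mp hi
      have hne : i • g ≠ j • g := by
        intro heq
        apply hij
        have hinj := nsmul_injOn_Iio_addOrderOf (x := g)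
        rw [addOrderOf_gen hg] at hinj
        exact hinj (Set.mem_Iio.mpr hi') (Set.mem_Iio.mpr hj) heq
      simp [AddMonoidAlgebra.smul_single, hne]
    · intro hj'
      exact absurd (Finset.mem_range.mpr hj) hj'
  · exact coeff_eq_zero_of_natDegree_lt (lt_of_lt_of_le hdeg (not_lt.mp hj))

/-- The cyclotomic ideal of a finite cyclic group is generated by `Φ_d([g])` for any single
generator `g`. -/
lemma cycIdeal_le_span (hg : AddSubgroup.zmultiples g = ⊤) :
    cycIdeal Λ C ≤ Ideal.span
      {aeval (AddMonoidAlgebra.single g (1 : Λ)) (cyclotomic (Nat.card C) Λ)} := by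
  classical
  unfold cycIdeal
  rw [Ideal.span_le]
  rintro _ ⟨g', hg', rfl⟩
  obtain ⟨k, -, rfl⟩ := exists_nsmul_gen hg g'
  have hdpos : 0 < Nat.card C := Nat.card_pos
  have hcop : Nat.Coprime k (Nat.card C) := by
    have h1 := addOrderOf_gen hg'
    rw [addOrderOf_nsmul, addOrderOf_gen hg] at h1
    have h4 : Nat.gcd (Nat.card C) k = 1 := by
      rcases Nat.div_eq_self.mp h1 with h0 | h0
      · omega
      · exact h0
    rw [Nat.Coprime, Nat.gcd_comm]; exact h4
  obtain ⟨q, hq⟩ := cyclotomic_dvd_expand Λ (Nat.card C) k hcop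
  rw [SetLike.mem_coe, Ideal.mem_span_singleton]
  refine ⟨aeval (AddMonoidAlgebra.single g (1 : Λ)) q, ?_⟩
  rw [← map_mul, ← hq, expand_aeval, AddMonoidAlgebra.single_pow, one_pow]

/-- Key structural fact: if `f([g])` vanishes in the cyclotomic quotient of the cyclic group `C`
of order `d` with generator `g`, then `Φ_d ∣ f`. -/
lemma cyclotomic_dvd_of_mk_aeval_eq_zero (hg : AddSubgroup.zmultiples g = ⊤) (f : Λ[X])
    (h : Ideal.Quotient.mk (cycIdeal Λ C) (aeval (AddMonoidAlgebra.single g (1 : Λ)) f) = 0) :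
    cyclotomic (Nat.card C) Λ ∣ f := by
  rw [Ideal.Quotient.eq_zero_iff_mem] at h
  have h2 := cycIdeal_le_span (Λ := Λ) hg h
  rw [Ideal.mem_span_singleton] at h2
  obtain ⟨y, hy⟩ := h2
  obtain ⟨q, rfl⟩ := exists_aeval_eq (Λ := Λ) hg y
  rw [← map_mul, ← sub_eq_zero, ← map_sub] at hy
  have h3 := X_pow_sub_one_dvd_of_aeval_eq_zero hg _ hy
  have h4 : cyclotomic (Nat.card C) Λ ∣ f - cyclotomic (Nat.card C) Λ * q :=
    (cyclotomic.dvd_X_pow_sub_one _ Λ).trans h3
  have := dvd_add h4 (dvd_mul_right (cyclotomic (Nat.card C) Λ) q)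
  simpa using this

end cyclic

section cyclicCase

variable {A : Type*} [AddCommGroup A]

lemma quotMap_aeval (B : AddSubgroup A) (a : A) (f : Λ[X]) :
    quotMap Λ A B (aeval (AddMonoidAlgebra.single a (1 : Λ)) f) =
      aeval (AddMonoidAlgebra.single (a : A ⧸ B) (1 : Λ)) f := by
  rw [aeval_def, aeval_def, hom_eval₂, quotMap_single]
  congr 1
  exact AddMonoidAlgebra.mapDomainRingHom_comp_algebraMap _

lemma zmultiples_mk_eq_top (B : AddSubgroup A) {g : A} (hg : AddSubgroup.zmultiples g = ⊤) :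
    AddSubgroup.zmultiples ((g : A ⧸ B)) = ⊤ := by
  have := AddMonoidHom.map_zmultiples (QuotientAddGroup.mk' B) g
  rw [hg, AddSubgroup.map_top_of_surjective _ (QuotientAddGroup.mk'_surjective B)] at this
  exact this.symm

/-- Injectivity of the cyclotomic decomposition for a finite cyclic group. -/
lemma eq_zero_of_cyclic [Finite A] [IsAddCyclic A]
    (hu : IsUnit ((Nat.card A : ℕ) : Λ)) (x : AddMonoidAlgebra Λ A)
    (h : ∀ B : AddSubgroup A, IsAddCyclic (A ⧸ B) → cycQuotMap Λ A B x = 0) : x = 0 := by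
  classical
  obtain ⟨g, hg'⟩ := IsAddCyclic.exists_generator (α := A)
  have hg : AddSubgroup.zmultiples g = ⊤ := by
    ext y; simp [hg' y]
  set m := Nat.card A with hm
  have hmpos : 0 < m := Nat.card_pos
  obtain ⟨f, rfl⟩ := exists_aeval_eq (Λ := Λ) hg x
  have hdiv : ∀ d ∈ m.divisors, cyclotomic d Λ ∣ f := by
    intro d hd
    have hdm : d ∣ m := Nat.dvd_of_mem_divisors hd
    set B : AddSubgroup A := (nsmulAddMonoidHom d : A →+ A).range with hB
    have hcyc : IsAddCyclic (A ⧸ B) :=
      isAddCyclic_of_surjective (QuotientAddGroup.mk' B) (QuotientAddGroup.mk'_surjective B)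
    have hcard : Nat.card (A ⧸ B) = d := by
      have := IsAddCyclic.index_nsmulAddMonoidHom_range A d
      rw [← hm, Nat.gcd_eq_right hdm] at this
      exact this
    have h1 := h B hcyc
    rw [cycQuotMap_apply, quotMap_aeval] at h1
    have h2 := cyclotomic_dvd_of_mk_aeval_eq_zero (Λ := Λ) (zmultiples_mk_eq_top B hg) f h1
    rwa [hcard] at h2
  have hprod := prod_cyclotomic_eq_X_pow_sub_one hmpos Λ
  have hsep : (X ^ m - 1 : Λ[X]).Separable := by
    simpa using separable_X_pow_sub_C_unit (1 : Λˣ) hu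
  have hpair : (↑m.divisors : Set ℕ).Pairwise (Function.onFun IsCoprime fun d => cyclotomic d Λ) := by
    intro d hd d' hd' hne
    have hdvd : cyclotomic d Λ * cyclotomic d' Λ ∣ X ^ m - 1 := by
      rw [← hprod, ← Finset.mul_prod_erase _ _ hd,
        ← Finset.mul_prod_erase _ _ (Finset.mem_erase.mpr ⟨hne.symm, hd'⟩), ← mul_assoc]
      exact dvd_mul_right _ _
    exact (hsep.of_dvd hdvd).isCoprime
  have hall := Finset.prod_dvd_of_coprime hpair hdiv
  rw [hprod] at hall
  obtain ⟨q, rfl⟩ := hall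
  rw [map_mul, aeval_single_X_pow_sub_one hg, zero_mul]

end cyclicCase

section pull

/-- Functoriality of the cyclotomic ideal under group isomorphisms. -/
lemma mapDomain_mem_cycIdeal {C C' : Type*} [AddCommGroup C] [AddCommGroup C'] (e : C ≃+ C')
    {y : AddMonoidAlgebra Λ C} (hy : y ∈ cycIdeal Λ C) :
    AddMonoidAlgebra.mapDomainRingHom Λ e.toAddMonoidHom y ∈ cycIdeal Λ C' := by
  have hle : cycIdeal Λ C ≤
      (cycIdeal Λ C').comap (AddMonoidAlgebra.mapDomainRingHom Λ e.toAddMonoidHom) := by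
    rw [cycIdeal, Ideal.span_le]
    rintro _ ⟨g, hg, rfl⟩
    rw [SetLike.mem_coe, Ideal.mem_comap]
    apply Ideal.subset_span
    refine ⟨e g, ?_, ?_⟩
    · have := AddMonoidHom.map_zmultiples e.toAddMonoidHom g
      rw [hg, AddSubgroup.map_top_of_surjective _ e.surjective] at this
      exact this.symm
    · rw [aeval_def, hom_eval₂, AddMonoidAlgebra.mapDomainRingHom_comp_algebraMap, ← aeval_def,
        Nat.card_congr e.toEquiv]
      simp
  exact hle hy

variable {M : Type*} [AddCommGroup M] (B₀ : AddSubgroup M) (Bb : AddSubgroup (M ⧸ B₀))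

/-- The composite `M → M/B₀ → (M/B₀)/B̄`. -/
def compHom : M →+ (M ⧸ B₀) ⧸ Bb :=
  (QuotientAddGroup.mk' Bb).comp (QuotientAddGroup.mk' B₀)

lemma compHom_surjective : Function.Surjective (compHom B₀ Bb) :=
  (QuotientAddGroup.mk'_surjective Bb).comp (QuotientAddGroup.mk'_surjective B₀)

/-- The preimage of `B̄ ≤ M/B₀` in `M`, as a kernel. -/
abbrev pullSub : AddSubgroup M := (compHom B₀ Bb).ker

lemma le_pullSub : B₀ ≤ pullSub B₀ Bb := by
  intro b hb
  rw [AddMonoidHom.mem_ker]
  simp [compHom, (QuotientAddGroup.eq_zero_iff b).mpr hb]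

/-- `M / pullSub ≃ (M/B₀)/B̄`. -/
noncomputable def pullEquiv : M ⧸ pullSub B₀ Bb ≃+ (M ⧸ B₀) ⧸ Bb :=
  QuotientAddGroup.quotientKerEquivOfSurjective _ (compHom_surjective B₀ Bb)

lemma pullEquiv_mk (a : M) :
    pullEquiv B₀ Bb (a : M ⧸ pullSub B₀ Bb) = (((a : M ⧸ B₀)) : (M ⧸ B₀) ⧸ Bb) := rfl

lemma isAddCyclic_pull [IsAddCyclic ((M ⧸ B₀) ⧸ Bb)] : IsAddCyclic (M ⧸ pullSub B₀ Bb) :=
  isAddCyclic_of_surjective (pullEquiv B₀ Bb).symm.toAddMonoidHom (pullEquiv B₀ Bb).symm.surjective

lemma cycQuotMap_pull (x : AddMonoidAlgebra Λ M)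
    (h : cycQuotMap Λ M (pullSub B₀ Bb) x = 0) :
    cycQuotMap Λ (M ⧸ B₀) Bb (quotMap Λ M B₀ x) = 0 := by
  rw [cycQuotMap_apply, Ideal.Quotient.eq_zero_iff_mem] at h ⊢
  have h2 := mapDomain_mem_cycIdeal (pullEquiv B₀ Bb) h
  convert h2 using 1
  simp only [quotMap]
  rw [← RingHom.comp_apply, ← RingHom.comp_apply, ← AddMonoidAlgebra.mapDomainRingHom_comp,
    ← AddMonoidAlgebra.mapDomainRingHom_comp]
  rfl

end pull

section kernel

variable {M : Type*} [AddCommGroup M]

/-- The kernel of `Λ[M] → Λ[M/B₀]` is generated by the `[b] - 1`, `b ∈ B₀`. -/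
lemma mem_span_of_quotMap_eq_zero (B₀ : AddSubgroup M) (x : AddMonoidAlgebra Λ M)
    (hx : quotMap Λ M B₀ x = 0) :
    x ∈ Ideal.span {y : AddMonoidAlgebra Λ M | ∃ b ∈ B₀, y = AddMonoidAlgebra.single b 1 - 1} := by
  set J := Ideal.span {y : AddMonoidAlgebra Λ M | ∃ b ∈ B₀, y = AddMonoidAlgebra.single b 1 - 1}
    with hJ
  have key : ∀ x : AddMonoidAlgebra Λ M,
      x - AddMonoidAlgebra.mapDomain (Quotient.out : M ⧸ B₀ → M) (quotMap Λ M B₀ x) ∈ J := by
    intro x
    induction x using AddMonoidAlgebra.induction_linear with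
    | zero => simp
    | add x y hx hy =>
      rw [map_add, AddMonoidAlgebra.mapDomain_add]
      have := J.add_mem hx hy
      convert this using 1
      abel
    | single a r =>
      rw [quotMap_single, AddMonoidAlgebra.mapDomain_single]
      set a' : M := Quotient.out (a : M ⧸ B₀) with ha'
      have hmem : a - a' ∈ B₀ := by
        rw [← QuotientAddGroup.eq_zero_iff, QuotientAddGroup.mk_sub, sub_eq_zero, ha']
        exact (QuotientAddGroup.out_eq' _).symm
      have : AddMonoidAlgebra.single a r - AddMonoidAlgebra.single a' r =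
          AddMonoidAlgebra.single a' r * (AddMonoidAlgebra.single (a - a') (1 : Λ) - 1) := by
        rw [mul_sub, AddMonoidAlgebra.single_mul_single, mul_one, mul_one]
        congr 2
        abel
      rw [this]
      exact J.mul_mem_left _ (Ideal.subset_span ⟨a - a', hmem, rfl⟩)
  have := key x
  rwa [hx, AddMonoidAlgebra.mapDomain_zero, sub_zero] at this

variable {K : Type*} [AddCommGroup K] [Fintype K]

/-- The "norm element" of a homomorphism from a finite group. -/
noncomputable def normElt (φ : K →+ M) : AddMonoidAlgebra Λ M := ∑ k : K, AddMonoidAlgebra.single (φ k) (1 : Λ)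

lemma normElt_mul_single_sub_one (φ : K →+ M) (k₀ : K) :
    normElt (Λ := Λ) φ * (AddMonoidAlgebra.single (φ k₀) (1 : Λ) - 1) = 0 := by
  rw [mul_sub, mul_one, sub_eq_zero, normElt, Finset.sum_mul]
  simp only [AddMonoidAlgebra.single_mul_single, mul_one, ← map_add]
  exact Fintype.sum_equiv (Equiv.addRight k₀) _ _ (fun k => rfl)

lemma normElt_mul_eq_zero (φ : K →+ M) (x : AddMonoidAlgebra Λ M)
    (hx : quotMap Λ M φ.range x = 0) : normElt (Λ := Λ) φ * x = 0 := by
  have hmem := mem_span_of_quotMap_eq_zero φ.range x hx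
  refine Submodule.span_induction ?_ ?_ ?_ ?_ hmem
  · rintro _ ⟨b, ⟨k₀, rfl⟩, rfl⟩
    exact normElt_mul_single_sub_one φ k₀
  · simp
  · intro y z _ _ hy hz
    rw [mul_add, hy, hz, add_zero]
  · intro r y _ hy
    rw [smul_eq_mul, mul_left_comm, hy, mul_zero]

end kernel

section torsionCount

variable {A : Type*} [AddCommGroup A] [Fintype A] [DecidableEq A]

lemma card_torsion_mul_le (p a : ℕ) :
    (Finset.univ.filter fun x : A => (p * a) • x = 0).card ≤
      (Finset.univ.filter fun x : A => a • x = 0).card *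
        (Finset.univ.filter fun x : A => p • x = 0).card := by
  set s := Finset.univ.filter fun x : A => (p * a) • x = 0 with hs
  have h1 := Finset.card_le_mul_card_image (f := fun x : A => a • x) s
    (Finset.univ.filter fun x : A => a • x = 0).card (by
      intro y hy
      obtain ⟨x₀, hx₀, rfl⟩ := Finset.mem_image.mp hy
      apply Finset.card_le_card_of_injOn (fun x => x - x₀)
      · intro x hx
        simp only [Finset.coe_filter, Set.mem_setOf_eq] at hx
        simp only [Finset.coe_filter, Finset.mem_univ, true_and, Set.mem_setOf_eq]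
        rw [smul_sub, hx.2, sub_self]
      · intro x _ x' _ h
        simpa using h)
  refine h1.trans (Nat.mul_le_mul_left _ (Finset.card_le_card ?_))
  intro y hy
  obtain ⟨x, hx, rfl⟩ := Finset.mem_image.mp hy
  simp only [hs, Finset.mem_filter, Finset.mem_univ, true_and] at hx ⊢
  rw [← mul_smul]; exact hx

/-- A non-cyclic finite abelian group has more than `p` elements of `p`-torsion for some
prime `p`. -/
lemma exists_prime_lt_card_torsion (hA : ¬ IsAddCyclic A) :
    ∃ p : ℕ, p.Prime ∧ p < (Finset.univ.filter fun x : A => p • x = 0).card := by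
  by_contra hcon
  push Not at hcon
  apply hA
  apply isAddCyclic_of_card_nsmul_eq_zero_le
  intro n
  induction n using induction_on_primes with
  | zero => intro h; exact absurd h (lt_irrefl 0)
  | one =>
    intro _
    have : (Finset.univ.filter fun x : A => 1 • x = 0) = {0} := by
      ext x; simp
    rw [this]; simp
  | prime_mul p a hp ih =>
    intro hpos
    have hapos : 0 < a := Nat.pos_of_mul_pos_left hpos
    calc _ ≤ _ := card_torsion_mul_le p a
      _ ≤ a * p := Nat.mul_le_mul (ih hapos) (hcon p hp)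
      _ = p * a := mul_comm _ _

end torsionCount

section identity

variable {A : Type*} [AddCommGroup A] (p : ℕ) [Fact p.Prime] {E : Type*} [AddCommGroup E]
  [Module (ZMod p) E] (ι : E →+ A)

/-- The homomorphism `ZMod p → A`, `k ↦ ι (k • c)`. -/
noncomputable def lineHom (c : E) : ZMod p →+ A :=
  ι.comp ((LinearMap.toSpanSingleton (ZMod p) E c).toAddMonoidHom)

lemma lineHom_apply (c : E) (k : ZMod p) : lineHom p ι c k = ι (k • c) := rfl

lemma normElt_identity (a b : E) :
    normElt (Λ := Λ) (lineHom p ι a) + ∑ i : ZMod p, normElt (Λ := Λ) (lineHom p ι (b + i • a)) =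
      (p : AddMonoidAlgebra Λ A) +
        normElt (Λ := Λ) (lineHom p ι a) * normElt (Λ := Λ) (lineHom p ι b) := by
  classical
  have key : ∀ k : ZMod p, ∑ i : ZMod p, AddMonoidAlgebra.single (ι ((k * i) • a)) (1 : Λ) =
      if k = 0 then (p : AddMonoidAlgebra Λ A) else normElt (Λ := Λ) (lineHom p ι a) := by
    intro k
    split_ifs with hk
    · subst hk
      simp only [zero_mul, zero_smul, map_zero, Finset.sum_const, Finset.card_univ, ZMod.card,
        ← AddMonoidAlgebra.one_def, nsmul_eq_mul, mul_one]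
    · exact Fintype.sum_equiv (Equiv.mulLeft₀ k hk) _ _ (fun i => rfl)
  have h1 : ∑ i : ZMod p, normElt (Λ := Λ) (lineHom p ι (b + i • a)) =
      ∑ k : ZMod p, AddMonoidAlgebra.single (ι (k • b)) (1 : Λ) *
        (if k = 0 then (p : AddMonoidAlgebra Λ A) else normElt (Λ := Λ) (lineHom p ι a)) := by
    change ∑ i : ZMod p, ∑ k : ZMod p, AddMonoidAlgebra.single (ι (k • (b + i • a))) (1 : Λ) = _
    rw [Finset.sum_comm]
    refine Finset.sum_congr rfl fun k _ => ?_
    rw [← key k, Finset.mul_sum]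
    refine Finset.sum_congr rfl fun i _ => ?_
    rw [AddMonoidAlgebra.single_mul_single, mul_one, smul_add, smul_smul, map_add]
  have h2 : ∀ k : ZMod p, AddMonoidAlgebra.single (ι (k • b)) (1 : Λ) *
        (if k = 0 then (p : AddMonoidAlgebra Λ A) else normElt (Λ := Λ) (lineHom p ι a)) =
      AddMonoidAlgebra.single (ι (k • b)) (1 : Λ) * normElt (Λ := Λ) (lineHom p ι a) +
        (if k = 0 then ((p : AddMonoidAlgebra Λ A) - normElt (Λ := Λ) (lineHom p ι a)) else 0) := by
    intro k
    split_ifs with hk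
    · subst hk
      simp only [zero_smul, map_zero, ← AddMonoidAlgebra.one_def, one_mul]
      abel
    · rw [add_zero]
  rw [h1, Finset.sum_congr rfl fun k _ => h2 k, Finset.sum_add_distrib, ← Finset.sum_mul,
    Finset.sum_ite_eq' Finset.univ (0 : ZMod p)]
  simp only [Finset.mem_univ, if_true]
  have : ∑ k : ZMod p, AddMonoidAlgebra.single (ι (k • b)) (1 : Λ) =
      normElt (Λ := Λ) (lineHom p ι b) := rfl
  rw [this]
  ring

end identity

section main

lemma isUnit_natCast_of_dvd {d n : ℕ} (hdn : d ∣ n) (hn : IsUnit ((n : ℕ) : Λ)) :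
    IsUnit ((d : ℕ) : Λ) := by
  obtain ⟨e, rfl⟩ := hdn
  rw [Nat.cast_mul] at hn
  exact isUnit_of_mul_isUnit_left hn

/-- The non-cyclic step of the induction. -/
lemma eq_zero_of_not_cyclic {A : Type*} [AddCommGroup A] [Finite A] (hA : ¬ IsAddCyclic A)
    (hu : IsUnit ((Nat.card A : ℕ) : Λ)) (x : AddMonoidAlgebra Λ A)
    (hN : ∀ (p : ℕ) [Fact p.Prime] (φ : ZMod p →+ A), φ.range ≠ ⊥ →
      normElt (Λ := Λ) φ * x = 0) : x = 0 := by
  classical
  haveI : Fintype A := Fintype.ofFinite A
  obtain ⟨p, hp, hlt⟩ := exists_prime_lt_card_torsion hA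
  haveI : Fact p.Prime := ⟨hp⟩
  set E : AddSubgroup A := (nsmulAddMonoidHom p : A →+ A).ker with hE
  have hEmem : ∀ y : A, y ∈ E ↔ p • y = 0 := fun y => by
    rw [hE, AddMonoidHom.mem_ker, nsmulAddMonoidHom_apply]
  letI : Module (ZMod p) E := AddCommGroup.zmodModule (n := p) (fun y => by
    apply Subtype.ext
    have := (hEmem y.1).mp y.2
    simp [this])
  have hcardE : p < Fintype.card E := by
    rw [Fintype.card_subtype]
    convert hlt using 3
    exact hEmem _
  -- a nonzero element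
  have h1 : 1 < Fintype.card E := lt_trans hp.one_lt hcardE
  haveI : Nontrivial E := Fintype.one_lt_card_iff_nontrivial.mp h1
  obtain ⟨a, ha⟩ := exists_ne (0 : E)
  -- an element outside the line through `a`
  obtain ⟨b, -, hb⟩ := Finset.exists_mem_notMem_of_card_lt_card
    (s := Finset.univ.image fun i : ZMod p => -(i • a)) (t := (Finset.univ : Finset E)) (by
      refine lt_of_le_of_lt Finset.card_image_le ?_
      rw [Finset.card_univ, ZMod.card, Finset.card_univ]
      exact hcardE)
  have hb' : ∀ i : ZMod p, b + i • a ≠ 0 := by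
    intro i h0
    apply hb
    rw [Finset.mem_image]
    exact ⟨i, Finset.mem_univ _, (eq_neg_of_add_eq_zero_left h0).symm⟩
  have hrange : ∀ c : E, c ≠ 0 → (lineHom p E.subtype c).range ≠ ⊥ := by
    intro c hc hbot
    apply hc
    have hmem : lineHom p E.subtype c 1 ∈ (lineHom p E.subtype c).range := ⟨1, rfl⟩
    rw [hbot, AddSubgroup.mem_bot, lineHom_apply, one_smul] at hmem
    exact Subtype.ext hmem
  have hid := normElt_identity (Λ := Λ) p E.subtype a b
  have hid2 := congrArg (· * x) hid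
  simp only [add_mul, Finset.sum_mul] at hid2
  rw [hN p _ (hrange a ha), Finset.sum_eq_zero (fun i _ => hN p _ (hrange _ (hb' i))), add_zero,
    mul_assoc, hN p _ (hrange b (by simpa using hb' 0)), mul_zero, add_zero] at hid2
  -- `p` is a unit
  have hpdvd : p ∣ Nat.card A := by
    have hpa : p • (a : A) = 0 := (hEmem a.1).mp a.2
    have hane : (a : A) ≠ 0 := fun h => ha (Subtype.ext h)
    have hord : addOrderOf (a : A) = p := by
      rcases (Nat.dvd_prime hp).mp (addOrderOf_dvd_of_nsmul_eq_zero hpa) with h | h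
      · exact absurd (AddMonoid.addOrderOf_eq_one_iff.mp h) hane
      · exact h
    rw [← hord]
    exact addOrderOf_dvd_natCard _
  obtain ⟨u, hu'⟩ := isUnit_natCast_of_dvd hpdvd hu
  have : (p : AddMonoidAlgebra Λ A) = algebraMap Λ (AddMonoidAlgebra Λ A) (u : Λ) := by
    rw [hu', map_natCast]
  rw [this] at hid2
  calc x = algebraMap Λ (AddMonoidAlgebra Λ A) ((u⁻¹ : Λˣ) : Λ) *
        (algebraMap Λ (AddMonoidAlgebra Λ A) (u : Λ) * x) := by
        rw [← mul_assoc, ← map_mul, Units.inv_mul, map_one, one_mul]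
    _ = 0 := by rw [← hid2, mul_zero]

universe v

/-- Injectivity of the cyclotomic decomposition, by strong induction on the order. -/
theorem eq_zero_aux (n : ℕ) : ∀ (A : Type v) [AddCommGroup A] [Finite A], Nat.card A = n →
    IsUnit ((n : ℕ) : Λ) → ∀ x : AddMonoidAlgebra Λ A,
      (∀ B : AddSubgroup A, IsAddCyclic (A ⧸ B) → cycQuotMap Λ A B x = 0) → x = 0 := by
  induction n using Nat.strong_induction_on with
  | _ n ih =>
    intro A _ _ hcard hu x hx
    by_cases hA : IsAddCyclic A
    · exact eq_zero_of_cyclic (hcard ▸ hu) x hx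
    · apply eq_zero_of_not_cyclic hA (hcard ▸ hu) x
      intro p _ φ hφ
      apply normElt_mul_eq_zero
      have hmul := AddSubgroup.card_mul_index φ.range
      have h2 : 1 < Nat.card φ.range := (AddSubgroup.one_lt_card_iff_ne_bot _).mpr hφ
      have hipos : 0 < φ.range.index := Nat.pos_of_ne_zero AddSubgroup.index_ne_zero_of_finite
      have hlt : Nat.card (A ⧸ φ.range) < n := by
        change φ.range.index < n
        rw [← hcard, ← hmul]
        nlinarith
      have hdvd : Nat.card (A ⧸ φ.range) ∣ n := by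
        change φ.range.index ∣ n
        rw [← hcard]
        exact AddSubgroup.index_dvd_card _
      refine ih _ hlt (A ⧸ φ.range) rfl (isUnit_natCast_of_dvd hdvd hu)
        (quotMap Λ A φ.range x) ?_
      intro Bb hBb
      haveI := hBb
      exact cycQuotMap_pull φ.range Bb x (hx (pullSub φ.range Bb) (isAddCyclic_pull φ.range Bb))

/-- **Injectivity** of the cyclotomic decomposition of the group ring of a finite abelian group
whose order is invertible. -/
theorem eq_zero_of_forall_cycQuotMap_eq_zero {A : Type*} [AddCommGroup A] [Finite A]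
    (hu : IsUnit ((Nat.card A : ℕ) : Λ)) (x : AddMonoidAlgebra Λ A)
    (hx : ∀ B : AddSubgroup A, IsAddCyclic (A ⧸ B) → cycQuotMap Λ A B x = 0) : x = 0 :=
  eq_zero_aux (Nat.card A) A rfl hu x hx

end main

section crt

variable {M : Type*} [AddCommGroup M]

/-- Comaximality of the kernels of two distinct cyclotomic quotients. -/
lemma exists_sep (B B' : AddSubgroup M) [B.FiniteIndex] [B'.FiniteIndex]
    [IsAddCyclic (M ⧸ B)] [IsAddCyclic (M ⧸ B')] (hne : B ≠ B')
    (huB : IsUnit ((B.index : ℕ) : Λ)) (huB' : IsUnit ((B'.index : ℕ) : Λ)) :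
    ∃ s : AddMonoidAlgebra Λ M, cycQuotMap Λ M B' s = 1 ∧ cycQuotMap Λ M B s = 0 := by
  by_cases hle : B' ≤ B
  · have : ¬ B ≤ B' := fun h => hne (le_antisymm h hle)
    obtain ⟨b, hbB, hbB'⟩ := SetLike.not_le_iff_exists.mp this
    obtain ⟨y, hy⟩ := exists_mul_single_sub_one (Λ := Λ) B' huB' hbB'
    refine ⟨y * (AddMonoidAlgebra.single b 1 - 1), hy, ?_⟩
    rw [map_mul, cycQuotMap_single_sub_one_of_mem B hbB, mul_zero]
  · obtain ⟨b', hb'B', hb'B⟩ := SetLike.not_le_iff_exists.mp hle
    obtain ⟨y, hy⟩ := exists_mul_single_sub_one (Λ := Λ) B huB hb'B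
    refine ⟨1 - y * (AddMonoidAlgebra.single b' 1 - 1), ?_, ?_⟩
    · rw [map_sub, map_mul, cycQuotMap_single_sub_one_of_mem B' hb'B', mul_zero, map_one, sub_zero]
    · rw [map_sub, hy, map_one, sub_self]

/-- Chinese remainder theorem for the cyclotomic quotients. -/
lemma exists_crt {ι : Type*} [Finite ι] (Bs : ι → AddSubgroup M) (hinj : Function.Injective Bs)
    [∀ i, (Bs i).FiniteIndex] [∀ i, IsAddCyclic (M ⧸ Bs i)]
    (hu : ∀ i, IsUnit (((Bs i).index : ℕ) : Λ)) (x : ι → AddMonoidAlgebra Λ M) :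
    ∃ r : AddMonoidAlgebra Λ M,
      ∀ i, cycQuotMap Λ M (Bs i) r = cycQuotMap Λ M (Bs i) (x i) := by
  have hcop : Pairwise
      (Function.onFun IsCoprime fun i => RingHom.ker (cycQuotMap Λ M (Bs i))) := by
    intro i j hij
    obtain ⟨s, hs1, hs0⟩ := exists_sep (Λ := Λ) (Bs i) (Bs j) (hinj.ne hij) (hu i) (hu j)
    rw [Function.onFun, Ideal.isCoprime_iff_exists]
    exact ⟨s, hs0, 1 - s, by simp [RingHom.mem_ker, hs1], by ring⟩
  obtain ⟨r, hr⟩ := Ideal.exists_forall_sub_mem_ideal hcop x
  exact ⟨r, fun i => by have := hr i; rwa [RingHom.mem_ker, map_sub, sub_eq_zero] at this⟩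

end crt

section relative

variable {M : Type*} [AddCommGroup M] (B₀ : AddSubgroup M) [B₀.FiniteIndex]

/-- Relative injectivity: an element of `Λ[M]` killed in all cyclotomic quotients `M/B`, `B ⊇ B₀`,
is killed in `Λ[M/B₀]`. -/
theorem quotMap_eq_zero_of_forall (hu : IsUnit ((B₀.index : ℕ) : Λ)) (x : AddMonoidAlgebra Λ M)
    (hx : ∀ B : AddSubgroup M, B₀ ≤ B → IsAddCyclic (M ⧸ B) → cycQuotMap Λ M B x = 0) :
    quotMap Λ M B₀ x = 0 := by
  apply eq_zero_of_forall_cycQuotMap_eq_zero (A := M ⧸ B₀) hu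
  intro Bb hBb
  haveI := hBb
  exact cycQuotMap_pull B₀ Bb x
    (hx (pullSub B₀ Bb) (le_pullSub B₀ Bb) (isAddCyclic_pull B₀ Bb))

/-- There are finitely many subgroups containing a subgroup of finite index. -/
lemma finite_subgroups_ge : Finite {B : AddSubgroup M // B₀ ≤ B} := by
  refine Finite.of_injective
    (fun B : {B : AddSubgroup M // B₀ ≤ B} => B.1.map (QuotientAddGroup.mk' B₀)) ?_
  intro B B' h
  apply Subtype.ext
  have h2 := congrArg (AddSubgroup.comap (QuotientAddGroup.mk' B₀)) h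
  rwa [AddSubgroup.comap_map_eq_self (by rw [QuotientAddGroup.ker_mk']; exact B.2),
    AddSubgroup.comap_map_eq_self (by rw [QuotientAddGroup.ker_mk']; exact B'.2)] at h2

end relative

end Groth.Agent.Lib.Helper97.CycDecomp
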