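import Mathlib
import Groth.Prelude.Def_GrLC
import Groth.Agent.S13227
import Groth.Agent.Lib.Helper97.SGLes

/-!
# A descent lemma for graded local cohomology along a degree `-1` injective endomorphism (helper97)
-/

set_option autoImplicit false
set_option linter.unusedSectionVars false
set_option linter.unusedVariables false
set_option linter.style.haveILetI false
universe u

namespace Groth.Agent.Lib.Helper97.ER1

open GrLC DirectSum Groth.Agent.Lib.Helper77.GLC Groth.Agent.Lib.Helper97.SG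
open Groth.Agent.Lib

variable {R : Type u} [CommRing R] [IsNoetherianRing R] {𝒜 : ℤ → AddSubgroup R} [GradedRing 𝒜]
variable {M : Type u} [AddCommGroup M] [Module R M] {ℳ : ℤ → AddSubgroup M} [Decomposition ℳ]
  [SetLike.GradedSMul 𝒜 ℳ]

/-- if ungraded local cohomology vanishes then so do all graded pieces -/
theorem HV_of_subsingleton_H (a : HomogeneousIdeal 𝒜) (E : StarInjRes 𝒜 ℳ) (i : ℕ)
    (h : Subsingleton (LocCoh.H a.toIdeal i M)) (g : ℤ) : HV E a.toIdeal i g := by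
  rw [← Hcomp_eq_bot_iff]
  obtain ⟨e⟩ := Groth.Agent.S13224.result R 𝒜 a M ℳ E i
  have : Subsingleton (E.H a i) := e.toEquiv.subsingleton
  rw [eq_bot_iff]
  intro y _
  rw [Submodule.mem_bot]
  exact Subsingleton.elim _ _

/-- if all graded pieces vanish then ungraded local cohomology vanishes -/
theorem subsingleton_H_of_HV (a : HomogeneousIdeal 𝒜) (E : StarInjRes 𝒜 ℳ) (i : ℕ)
    (h : ∀ g : ℤ, HV E a.toIdeal i g) : Subsingleton (LocCoh.H a.toIdeal i M) := by
  classical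
  obtain ⟨e⟩ := Groth.Agent.S13224.result R 𝒜 a M ℳ E i
  suffices hs : Subsingleton (E.H a i) from e.symm.toEquiv.subsingleton
  refine ⟨fun x y => ?_⟩
  suffices h0 : ∀ x : E.H a i, x = 0 by rw [h0 x, h0 y]
  intro x
  obtain ⟨z, rfl⟩ := Submodule.mkQ_surjective _ x
  rw [Submodule.mkQ_apply, Submodule.Quotient.mk_eq_zero, Submodule.mem_comap]
  have hz1 : (z : (E.X i).carrier) ∈ gam a.toIdeal (E.X i).carrier := z.2.1
  have hz2 : E.d i (z : (E.X i).carrier) = 0 := z.2.2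
  have hcomp : ∀ g : ℤ, ((decompose (E.X i).gr (z : (E.X i).carrier) g : (E.X i).gr g) :
      (E.X i).carrier) ∈ E.cobdy a i := by
    intro g
    have h1 : ((decompose (E.X i).gr (z : (E.X i).carrier) g : (E.X i).gr g) :
        (E.X i).carrier) ∈ gam a.toIdeal (E.X i).carrier :=
      Helper66.GradedCoh.gam_isHomogeneous 𝒜 (E.X i).gr a g hz1
    have h2 : E.d i ((decompose (E.X i).gr (z : (E.X i).carrier) g : (E.X i).gr g) :
        (E.X i).carrier) = 0 := by
      rw [← Helper66.Graded.decompose_grHom (E.X i).gr (E.X (i + 1)).gr (E.d i) (E.d_grHom i),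
        hz2, decompose_zero]
      rfl
    have h3 := h g _ ⟨h1, Subtype.property _⟩ h2
    cases i with
    | zero =>
      have : ((decompose (E.X 0).gr (z : (E.X 0).carrier) g : (E.X 0).gr g) :
          (E.X 0).carrier) = 0 := h3
      rw [this]
      exact Submodule.zero_mem _
    | succ i =>
      obtain ⟨y, hy, hyz⟩ := h3
      exact ⟨y, hy.1, hyz⟩
  rw [Submodule.subtype_apply, ← DirectSum.sum_support_decompose (E.X i).gr (z : (E.X i).carrier)]
  exact Submodule.sum_mem _ fun g _ => hcomp g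

theorem main (hpos : ∀ n : ℤ, n < 0 → 𝒜 n = ⊥) (a : HomogeneousIdeal 𝒜)
    (ha : a.toIdeal = Ideal.span (⋃ n ∈ Set.Ioi (0 : ℤ), (𝒜 n : Set R)))
    (j : R →ₗ[R] M) (hj : IsGrHom 𝒜 ℳ j) (hjinj : Function.Injective j)
    (htor : ∀ x : M, ∃ n : ℕ, ∀ r ∈ a.toIdeal ^ n, r • x ∈ LinearMap.range j)
    (U : M →ₗ[R] M) (hU : ∀ (g : ℤ) (x : M), x ∈ ℳ g → U x ∈ ℳ (g - 1))
    (hUinj : Function.Injective U) (q : ℕ) (hq : 1 ≤ q)
    (hG : Subsingleton (LocCoh.H a.toIdeal q (M ⧸ LinearMap.range U))) :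
    Subsingleton (LocCoh.H a.toIdeal q M) := by
  classical
  -- the quotient by `U`
  let U' : (Helper66.GradedShift.shiftGMod 𝒜 ℳ 1).carrier →ₗ[R] M := U
  have hU'gr : IsGrHom (Helper66.GradedShift.shiftGMod 𝒜 ℳ 1).gr ℳ U' := by
    intro g x hx
    have hx' : x ∈ ℳ (1 + g) := hx
    have := hU (1 + g) x hx'
    rwa [show 1 + g - 1 = g by ring] at this
  set Q : Submodule R M := LinearMap.range U with hQdef
  have hQhom : Q.IsHomogeneous ℳ :=
    Helper66.Graded.range_isHomogeneous (Helper66.GradedShift.shiftGMod 𝒜 ℳ 1).gr ℳ U' hU'gr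
  let _ : Decomposition (Helper66.GradedQuot.qpiece ℳ Q) :=
    Helper66.GradedQuot.quotDecomposition ℳ Q hQhom
  let _ : SetLike.GradedSMul 𝒜 (Helper66.GradedQuot.qpiece ℳ Q) :=
    Helper66.GradedQuot.quotGradedSMul 𝒜 ℳ Q
  have hS2 : GSES (Helper66.GradedShift.shiftGMod 𝒜 ℳ 1).gr ℳ
      (Helper66.GradedQuot.qpiece ℳ Q) U' Q.mkQ :=
    { f_gr := hU'gr
      p_gr := Helper66.GradedQuot.mkQ_grHom ℳ Q
      f_inj := hUinj
      p_surj := Q.mkQ_surjective
      exact := (Submodule.ker_mkQ Q).trans rfl }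
  -- the quotient by `R`
  set S : Submodule R M := LinearMap.range j with hSdef
  have hShom : S.IsHomogeneous ℳ := Helper66.Graded.range_isHomogeneous 𝒜 ℳ j hj
  let _ : Decomposition (Helper66.GradedQuot.qpiece ℳ S) :=
    Helper66.GradedQuot.quotDecomposition ℳ S hShom
  let _ : SetLike.GradedSMul 𝒜 (Helper66.GradedQuot.qpiece ℳ S) :=
    Helper66.GradedQuot.quotGradedSMul 𝒜 ℳ S
  have hS1 : GSES 𝒜 ℳ (Helper66.GradedQuot.qpiece ℳ S) j S.mkQ :=
    { f_gr := hj
      p_gr := Helper66.GradedQuot.mkQ_grHom ℳ S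
      f_inj := hjinj
      p_surj := S.mkQ_surjective
      exact := (Submodule.ker_mkQ S).trans rfl }
  obtain ⟨EM⟩ := exists_res (𝒜 := 𝒜) M ℳ
  obtain ⟨EG⟩ := exists_res (𝒜 := 𝒜) (M ⧸ Q) (Helper66.GradedQuot.qpiece ℳ Q)
  obtain ⟨ER⟩ := exists_res (𝒜 := 𝒜) R 𝒜
  obtain ⟨EC⟩ := exists_res (𝒜 := 𝒜) (M ⧸ S) (Helper66.GradedQuot.qpiece ℳ S)
  have hGV : ∀ g : ℤ, hl EG a.toIdeal q g = 0 := fun g =>
    hl_eq_zero_of_HV (HV_of_subsingleton_H a EG q hG g)
  have hCV : ∀ g : ℤ, hl EC a.toIdeal q g = 0 := by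
    intro g
    refine hl_eq_zero_of_HV (HV_of_torsion EC a ?_ q (by omega) g)
    intro y
    obtain ⟨x, rfl⟩ := S.mkQ_surjective y
    obtain ⟨n, hn⟩ := htor x
    refine ⟨n, fun r hr => ?_⟩
    rw [← map_smul, Submodule.mkQ_apply, Submodule.Quotient.mk_eq_zero]
    exact hn r hr
  obtain ⟨r0, hr0⟩ := Groth.Agent.S13227.result R 𝒜 hpos a ha R 𝒜 ER
  have hRV : ∀ g : ℤ, r0 ≤ g → hl ER a.toIdeal q g = 0 := fun g hg =>
    hl_eq_zero_of_HV ((Hcomp_eq_bot_iff ER a q g).1 (hr0 q g hg))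
  have hstep : ∀ g : ℤ, hl EM a.toIdeal q g ≤ hl EM a.toIdeal q (1 + g) := by
    intro g
    have h1 := hl_mid_le hS2 (shiftRes EM 1) EM EG a.toIdeal g q
    rw [hl_shiftRes EM 1 a.toIdeal q g, hGV g, add_zero] at h1
    exact h1
  have habove : ∀ g : ℤ, r0 ≤ g → hl EM a.toIdeal q g = 0 := by
    intro g hg
    have h1 := hl_mid_le hS1 ER EM EC a.toIdeal g q
    rw [hRV g hg, hCV g, add_zero] at h1
    exact nonpos_iff_eq_zero.1 h1
  have hdown : ∀ k : ℕ, hl EM a.toIdeal q (r0 - k) = 0 := by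
    intro k
    induction k with
    | zero => exact habove _ (by simp)
    | succ k ih =>
      have h1 := hstep (r0 - (k + 1 : ℕ))
      rw [show (1 : ℤ) + (r0 - ((k + 1 : ℕ) : ℤ)) = r0 - (k : ℤ) by push_cast; ring, ih] at h1
      exact nonpos_iff_eq_zero.1 h1
  have hall : ∀ g : ℤ, hl EM a.toIdeal q g = 0 := by
    intro g
    rcases le_or_gt r0 g with hg | hg
    · exact habove g hg
    · have := hdown (r0 - g).toNat
      rwa [show r0 - ((r0 - g).toNat : ℤ) = g by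
        rw [Int.toNat_of_nonneg (by omega)]; ring] at this
  exact subsingleton_H_of_HV a EM q fun g => HV_of_hl_eq_zero (hall g)

end Groth.Agent.Lib.Helper97.ER1
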