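import Mathlib
import Groth.Prelude.Def_AssocGr2
import Groth.Prelude.Def_Rees2
import Groth.Prelude.Def_ReesExt
import Groth.Agent.S11614
import Groth.Agent.Lib.Helper97.ER1
import Groth.Agent.Lib.Helper29.ExtRees4

/-!
# The extended Rees algebra as a graded module over the Rees algebra (helper97)
-/

set_option autoImplicit false
set_option linter.unusedSectionVars false
set_option linter.unusedVariables false
set_option linter.style.haveILetI false
universe u

namespace Groth.Agent.Lib.Helper97.ER2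

open Polynomial LaurentPolynomial DirectSum GrLC AssocGr Groth.Agent.Lib.Helper77.GLC
open Groth.Agent.Lib.Helper29.ExtRees

variable {A : Type u} [CommRing A] (𝓕 : FiltBl.IdealFiltration A)

/-- the extended Rees algebra as an algebra over the Rees algebra -/
@[reducible] noncomputable def algRR : Algebra ↥𝓕.rees ↥𝓕.extRees := (toExt 𝓕).toRingHom.toAlgebra

attribute [local instance] algRR

theorem smul_eq (r : 𝓕.rees) (x : 𝓕.extRees) : r • x = toExt 𝓕 r * x := rfl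

theorem algebraMap_eq' (r : 𝓕.rees) : algebraMap ↥𝓕.rees ↥𝓕.extRees r = toExt 𝓕 r := rfl

/-- the grading of the Rees algebra -/
noncomputable abbrev gR : ℤ → AddSubgroup ↥𝓕.rees := flat (Rees.degZ 𝓕.rees)

/-- the grading of the extended Rees algebra -/
noncomputable abbrev gE : ℤ → AddSubgroup ↥𝓕.extRees := flat (Rees.ldeg 𝓕.extRees)

theorem mem_gR_iff (n : ℤ) (f : 𝓕.rees) :
    f ∈ gR 𝓕 n ↔ ∀ m : ℕ, (m : ℤ) ≠ n → (f : A[X]).coeff m = 0 := Iff.rfl

theorem mem_gE_iff (n : ℤ) (f : 𝓕.extRees) :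
    f ∈ gE 𝓕 n ↔ ∀ m : ℤ, m ≠ n → (f : A[T;T⁻¹]).coeff m = 0 :=
  Rees.mem_ldeg_iff' 𝓕.extRees n f

theorem toExt_mem {i : ℤ} {r : 𝓕.rees} (hr : r ∈ gR 𝓕 i) : toExt 𝓕 r ∈ gE 𝓕 i := by
  rw [mem_gE_iff]
  intro m hm
  rw [coe_toExt, AssocGr.coeff_toLaurent]
  split_ifs with h
  · exact (mem_gR_iff 𝓕 i r).1 hr m.toNat (by rw [Int.toNat_of_nonneg h]; exact hm)
  · rfl

theorem toExt_injective : Function.Injective (toExt 𝓕) := by
  intro x y h
  apply Subtype.ext
  apply Polynomial.toLaurent_injective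
  have := congrArg Subtype.val h
  rwa [coe_toExt, coe_toExt] at this

instance gsmul : SetLike.GradedSMul (gR 𝓕) (gE 𝓕) where
  smul_mem := fun {i j} r x hr hx => by
    have h1 : toExt 𝓕 r ∈ Rees.ldeg 𝓕.extRees i := toExt_mem 𝓕 hr
    have hx' : x ∈ Rees.ldeg 𝓕.extRees j := hx
    have := SetLike.GradedMul.mul_mem h1 hx'
    exact this

theorem gR_neg : ∀ n : ℤ, n < 0 → gR 𝓕 n = ⊥ := by
  intro n hn
  rw [eq_bot_iff]
  intro f hf
  rw [AddSubgroup.mem_bot]
  apply Subtype.ext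
  apply Polynomial.ext
  intro m
  rw [(mem_gR_iff 𝓕 n f).1 hf m (by omega)]
  simp

/-- the irrelevant ideal of the Rees algebra -/
noncomputable def irr : HomogeneousIdeal (gR 𝓕) :=
  ⟨Ideal.span (⋃ n ∈ Set.Ioi (0 : ℤ), (gR 𝓕 n : Set ↥𝓕.rees)),
    Ideal.homogeneous_span _ _ (fun x hx => by
      obtain ⟨n, hn, hx⟩ := Set.mem_iUnion₂.1 hx
      exact ⟨n, hx⟩)⟩

theorem irr_toIdeal : (irr 𝓕).toIdeal =
    Ideal.span (⋃ n ∈ Set.Ioi (0 : ℤ), (gR 𝓕 n : Set ↥𝓕.rees)) := rfl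

theorem coeff_zero_of_mem_irr {r : 𝓕.rees} (hr : r ∈ (irr 𝓕).toIdeal) :
    (r : A[X]).coeff 0 = 0 := by
  let φ : ↥𝓕.rees →+* A := (Polynomial.constantCoeff).comp 𝓕.rees.val.toRingHom
  have hle : (irr 𝓕).toIdeal ≤ RingHom.ker φ := by
    rw [irr_toIdeal, Ideal.span_le]
    intro x hx
    obtain ⟨n, hn, hx⟩ := Set.mem_iUnion₂.1 hx
    have hn' : (0 : ℤ) < n := hn
    have h0 : (x : A[X]).coeff 0 = 0 :=
      (mem_gR_iff 𝓕 n x).1 hx 0 (by simp only [Nat.cast_zero]; omega)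
    exact h0
  exact hle hr

theorem coeff_of_mem_irr_pow (n : ℕ) {r : 𝓕.rees} (hr : r ∈ (irr 𝓕).toIdeal ^ n) (m : ℕ)
    (hm : m < n) : (r : A[X]).coeff m = 0 := by
  induction n generalizing r m with
  | zero => omega
  | succ n ih =>
    rw [pow_succ] at hr
    refine Submodule.mul_induction_on hr ?_ ?_
    · intro p hp q hq
      rw [Subalgebra.coe_mul, coeff_mul]
      refine Finset.sum_eq_zero fun ij hij => ?_
      have hij : ij.1 + ij.2 = m := Finset.HasAntidiagonal.mem_antidiagonal.1 hij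
      by_cases h1 : ij.1 < n
      · rw [ih hp ij.1 h1, zero_mul]
      · have h2 : ij.2 = 0 := by omega
        rw [h2, coeff_zero_of_mem_irr 𝓕 hq, mul_zero]
    · intro x y hx hy
      rw [Subalgebra.coe_add, coeff_add, hx, hy, add_zero]

/-- the structure map as a linear map -/
noncomputable def jmap : ↥𝓕.rees →ₗ[↥𝓕.rees] ↥𝓕.extRees := Algebra.linearMap ↥𝓕.rees ↥𝓕.extRees

theorem jmap_apply (r : 𝓕.rees) : jmap 𝓕 r = toExt 𝓕 r := rfl

theorem jmap_gr : IsGrHom (gR 𝓕) (gE 𝓕) (jmap 𝓕) := fun _ _ hr => toExt_mem 𝓕 hr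

/-- membership in the image of the Rees algebra -/
theorem mem_range_jmap_of_coeff (y : 𝓕.extRees) (hy : ∀ w : ℤ, w < 0 → (y : A[T;T⁻¹]).coeff w = 0) :
    y ∈ LinearMap.range (jmap 𝓕) := by
  rw [← sum_termL 𝓕 y]
  refine Submodule.sum_mem _ fun z hz => ?_
  by_cases hz0 : 0 ≤ z
  · rw [termL_eq_toExt 𝓕 y hz0]
    exact ⟨_, rfl⟩
  · exfalso
    exact (Finsupp.mem_support_iff.1 hz) (hy z (lt_of_not_ge hz0))

theorem coeff_mul_single (f : A[T;T⁻¹]) (z w : ℤ) (c : A) :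
    (f * AddMonoidAlgebra.single z c).coeff w = f.coeff (w - z) * c := by
  have h := AddMonoidAlgebra.coeff_mul_single_add f c z (w - z)
  rw [sub_add_cancel] at h
  exact h

theorem torsion_term (z : ℤ) (c : A) (hc : ∀ w : ℤ, (AddMonoidAlgebra.single z c : A[T;T⁻¹]).coeff w ∈
    𝓕.F w.toNat) :
    ∃ n : ℕ, ∀ r ∈ (irr 𝓕).toIdeal ^ n,
      r • (⟨AddMonoidAlgebra.single z c, hc⟩ : 𝓕.extRees) ∈ LinearMap.range (jmap 𝓕) := by
  refine ⟨(-z).toNat, fun r hr => ?_⟩
  apply mem_range_jmap_of_coeff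
  intro w hw
  rw [smul_eq, Subalgebra.coe_mul, coe_toExt]
  change (toLaurent (r : A[X]) * AddMonoidAlgebra.single z c).coeff w = 0
  rw [coeff_mul_single, AssocGr.coeff_toLaurent]
  split_ifs with h
  · rw [coeff_of_mem_irr_pow 𝓕 _ hr (w - z).toNat (by omega), zero_mul]
  · rw [zero_mul]

theorem torsion (x : 𝓕.extRees) :
    ∃ n : ℕ, ∀ r ∈ (irr 𝓕).toIdeal ^ n, r • x ∈ LinearMap.range (jmap 𝓕) := by
  classical
  rw [← sum_termL 𝓕 x]
  generalize (x : A[T;T⁻¹]).coeff.support = s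
  induction s using Finset.induction_on with
  | empty => exact ⟨0, fun r _ => by rw [Finset.sum_empty, smul_zero]; exact Submodule.zero_mem _⟩
  | insert z s hz ih =>
    obtain ⟨n1, h1⟩ := ih
    obtain ⟨n2, h2⟩ := torsion_term 𝓕 z ((x : A[T;T⁻¹]).coeff z) (termL 𝓕 x z).2
    refine ⟨max n1 n2, fun r hr => ?_⟩
    rw [Finset.sum_insert hz, smul_add]
    exact Submodule.add_mem _
      (h2 r (Ideal.pow_le_pow_right (le_max_right n1 n2) hr))
      (h1 r (Ideal.pow_le_pow_right (le_max_left n1 n2) hr))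

/-- multiplication by `u` -/
noncomputable def Umap : ↥𝓕.extRees →ₗ[↥𝓕.rees] ↥𝓕.extRees := LinearMap.mulLeft ↥𝓕.rees 𝓕.u

theorem Umap_apply (x : 𝓕.extRees) : Umap 𝓕 x = 𝓕.u * x := rfl

theorem u_mem : 𝓕.u ∈ gE 𝓕 (-1) := by
  rw [mem_gE_iff]
  intro m hm
  rw [coe_u, LaurentPolynomial.T, AddMonoidAlgebra.coeff_single, Finsupp.single_apply,
    if_neg (Ne.symm hm)]

theorem Umap_deg (g : ℤ) (x : 𝓕.extRees) (hx : x ∈ gE 𝓕 g) : Umap 𝓕 x ∈ gE 𝓕 (g - 1) := by
  have h1 : 𝓕.u ∈ Rees.ldeg 𝓕.extRees (-1) := u_mem 𝓕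
  have hx' : x ∈ Rees.ldeg 𝓕.extRees g := hx
  have := SetLike.GradedMul.mul_mem h1 hx'
  rw [show (-1 : ℤ) + g = g - 1 by ring] at this
  exact this

theorem Umap_injective : Function.Injective (Umap 𝓕) := by
  intro x y h
  apply Subtype.ext
  have h1 := congrArg Subtype.val h
  rw [Umap_apply, Umap_apply, Subalgebra.coe_mul, Subalgebra.coe_mul, coe_u] at h1
  exact (isUnit_T (-1)).mul_left_cancel h1

theorem range_Umap : LinearMap.range (Umap 𝓕) =
    (Ideal.span {𝓕.u}).restrictScalars ↥𝓕.rees := by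
  ext x
  rw [Submodule.restrictScalars_mem, Ideal.mem_span_singleton']
  constructor
  · rintro ⟨y, rfl⟩; exact ⟨y, mul_comm _ _⟩
  · rintro ⟨y, rfl⟩; exact ⟨y, mul_comm _ _⟩

/-- the ideal of positive degree forms of the extended Rees algebra -/
noncomputable def Ipos : Ideal ↥𝓕.extRees :=
  Ideal.span {x : 𝓕.extRees | ∃ n : ℤ, 0 < n ∧ ∃ a : A, (x : A[T;T⁻¹]) = LaurentPolynomial.C a * T n}

theorem map_irr : (irr 𝓕).toIdeal.map (algebraMap ↥𝓕.rees ↥𝓕.extRees) = Ipos 𝓕 := by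
  rw [irr_toIdeal, Ideal.map_span]
  apply le_antisymm
  · rw [Ideal.span_le]
    rintro _ ⟨r, hr, rfl⟩
    obtain ⟨n, hn, hr⟩ := Set.mem_iUnion₂.1 hr
    have hn' : (0 : ℤ) < n := hn
    refine Ideal.subset_span ⟨n, hn', (r : A[X]).coeff n.toNat, ?_⟩
    rw [algebraMap_eq', coe_toExt]
    have hmono : (r : A[X]) = monomial n.toNat ((r : A[X]).coeff n.toNat) := by
      apply Polynomial.ext
      intro m
      rw [coeff_monomial]
      split_ifs with h
      · rw [h]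
      · exact (mem_gR_iff 𝓕 n r).1 hr m (by omega)
    rw [hmono, Polynomial.toLaurent_C_mul_T, coeff_monomial, if_pos rfl,
      Int.toNat_of_nonneg hn'.le]
  · rw [Ipos, Ideal.span_le]
    rintro x ⟨n, hn, c, hx⟩
    have hc : c ∈ 𝓕.F n.toNat := by
      have := x.2 n
      rw [hx] at this
      have h2 : (LaurentPolynomial.C c * T n : A[T;T⁻¹]).coeff n = c := by
        rw [← single_eq_C_mul_T, AddMonoidAlgebra.coeff_single, Finsupp.single_eq_same]
      rwa [h2] at this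
    let r : 𝓕.rees := ⟨monomial n.toNat c, fun m => by
      rw [coeff_monomial]
      split_ifs with h
      · subst h; exact hc
      · exact Ideal.zero_mem _⟩
    have hr : r ∈ gR 𝓕 n := by
      rw [mem_gR_iff]
      intro m hm
      change (monomial n.toNat c).coeff m = 0
      rw [coeff_monomial, if_neg (by omega)]
    have hx' : x = algebraMap ↥𝓕.rees ↥𝓕.extRees r := by
      apply Subtype.ext
      rw [algebraMap_eq', coe_toExt, hx]
      change _ = toLaurent (monomial n.toNat c)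
      rw [Polynomial.toLaurent_C_mul_T, Int.toNat_of_nonneg hn.le]
    rw [hx']
    exact Ideal.subset_span ⟨r, Set.mem_iUnion₂.2 ⟨n, hn, hr⟩, rfl⟩

end Groth.Agent.Lib.Helper97.ER2
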