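import Mathlib
import Groth.Agent.S11614
import Groth.Agent.S11617
import Groth.Agent.Lib.Helper97.ER2

/-!
# Vanishing of `H^q_{G_+}(G)` forces vanishing of `H^q_{F^1}(A)` (helper97)
-/

set_option autoImplicit false
set_option linter.unusedSectionVars false
set_option linter.unusedVariables false
set_option linter.style.haveILetI false
universe u

namespace Groth.Agent.Lib.Helper97.ER3

open Polynomial LaurentPolynomial DirectSum GrLC AssocGr CategoryTheory
open Groth.Agent.Lib.Helper29.ExtRees Groth.Agent.Lib.Helper97.ER2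

section generic

variable {R : Type u} [CommRing R] (I : Ideal R) (q : ℕ)
variable {M N : Type u} [AddCommGroup M] [Module R M] [AddCommGroup N] [Module R N]

theorem subsingleton_H_of_linearEquiv (e : M ≃ₗ[R] N) (h : Subsingleton (LocCoh.H I q M)) :
    Subsingleton (LocCoh.H I q N) :=
  (((localCohomology I q).mapIso e.toModuleIso).toLinearEquiv.symm.toEquiv).subsingleton

theorem subsingleton_H_of_retract (ι : M →ₗ[R] N) (ρ : N →ₗ[R] M) (h : ρ ∘ₗ ι = LinearMap.id)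
    (hN : Subsingleton (LocCoh.H I q N)) : Subsingleton (LocCoh.H I q M) := by
  have hcomp : ModuleCat.ofHom ι ≫ ModuleCat.ofHom ρ = 𝟙 (ModuleCat.of R M) := by
    rw [← ModuleCat.ofHom_comp, h]; rfl
  have hF : (localCohomology I q).map (ModuleCat.ofHom ι) ≫
      (localCohomology I q).map (ModuleCat.ofHom ρ) = 𝟙 _ := by
    rw [← CategoryTheory.Functor.map_comp, hcomp, CategoryTheory.Functor.map_id]
  have key : ∀ x : LocCoh.H I q M,
      ((localCohomology I q).map (ModuleCat.ofHom ρ)).hom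
        (((localCohomology I q).map (ModuleCat.ofHom ι)).hom x) = x := by
    intro x
    have := congrArg (fun f => f.hom x) hF
    simpa using this
  refine ⟨fun x y => ?_⟩
  rw [← key x, ← key y]
  congr 1
  exact Subsingleton.elim _ _

theorem tensor_subsingleton {S : Type u} [CommRing S] [Algebra R S] [Subsingleton N] :
    Subsingleton (TensorProduct R S N) := by
  have h0 : ∀ z : TensorProduct R S N, z = 0 := by
    intro z
    induction z using TensorProduct.induction_on with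
    | zero => rfl
    | tmul m n => rw [Subsingleton.elim n 0, TensorProduct.tmul_zero]
    | add a b ha hb => rw [ha, hb, add_zero]
  exact ⟨fun x y => by rw [h0 x, h0 y]⟩

end generic

variable {A : Type u} [CommRing A] (𝓕 : FiltBl.IdealFiltration A)

attribute [local instance] algRR

theorem graded_part [IsNoetherianRing A] (hfg : Algebra.FiniteType A 𝓕.rees) (q : ℕ) (hq : 1 ≤ q)
    (hG : Subsingleton (LocCoh.H (irr 𝓕).toIdeal q (↥𝓕.extRees ⧸ LinearMap.range (Umap 𝓕)))) :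
    Subsingleton (LocCoh.H (irr 𝓕).toIdeal q ↥𝓕.extRees) := by
  haveI : IsNoetherianRing ↥𝓕.rees := Algebra.FiniteType.isNoetherianRing A 𝓕.rees
  exact ER1.main (𝒜 := gR 𝓕) (ℳ := gE 𝓕) (gR_neg 𝓕) (irr 𝓕) (irr_toIdeal 𝓕) (jmap 𝓕) (jmap_gr 𝓕)
    (toExt_injective 𝓕) (torsion 𝓕) (Umap 𝓕) (Umap_deg 𝓕) (Umap_injective 𝓕) q hq hG

/-- the coefficient of `T⁰` -/
noncomputable def coeff0 : A[T;T⁻¹] →ₗ[A] A where
  toFun x := x.coeff 0
  map_add' x y := by rw [AddMonoidAlgebra.coeff_add, Finsupp.add_apply]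
  map_smul' r x := by rw [AddMonoidAlgebra.coeff_smul, Finsupp.smul_apply, RingHom.id_apply]

theorem coeff0_comp : (coeff0 (A := A)) ∘ₗ (Algebra.linearMap A A[T;T⁻¹]) = LinearMap.id := by
  ext
  change ((algebraMap A A[T;T⁻¹]) 1).coeff 0 = 1
  rw [LaurentPolynomial.algebraMap_apply, Algebra.algebraMap_self, RingHom.id_apply,
    LaurentPolynomial.C_apply, if_pos rfl]

theorem map_Ipos : (Ipos 𝓕).map (algebraMap ↥𝓕.extRees A[T;T⁻¹]) =
    (𝓕.F 1).map (algebraMap A A[T;T⁻¹]) := by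
  apply le_antisymm
  · rw [Ipos, Ideal.map_span, Ideal.span_le]
    rintro _ ⟨x, ⟨n, hn, c, hx⟩, rfl⟩
    rw [algebraMap_extRees, hx]
    have hc : c ∈ 𝓕.F n.toNat := by
      have := x.2 n
      rw [hx] at this
      have h2 : (LaurentPolynomial.C c * T n : A[T;T⁻¹]).coeff n = c := by
        rw [← single_eq_C_mul_T, AddMonoidAlgebra.coeff_single, Finsupp.single_eq_same]
      rwa [h2] at this
    have hc1 : c ∈ 𝓕.F 1 := 𝓕.antitone (by omega : 1 ≤ n.toNat) hc
    refine Ideal.mul_mem_right _ _ ?_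
    have : (LaurentPolynomial.C c : A[T;T⁻¹]) = algebraMap A A[T;T⁻¹] c := by
      rw [LaurentPolynomial.algebraMap_apply, Algebra.algebraMap_self, RingHom.id_apply]
    rw [this]
    exact Ideal.mem_map_of_mem _ hc1
  · rw [Ideal.map_le_iff_le_comap]
    intro c hc
    rw [Ideal.mem_comap]
    let x0 : 𝓕.extRees := ⟨LaurentPolynomial.C c * T 1, fun z => by
      rw [← single_eq_C_mul_T, AddMonoidAlgebra.coeff_single, Finsupp.single_apply]
      split_ifs with h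
      · subst h; exact hc
      · exact Ideal.zero_mem _⟩
    have hx0 : x0 ∈ Ipos 𝓕 := Ideal.subset_span ⟨1, one_pos, c, rfl⟩
    have h1 : algebraMap A A[T;T⁻¹] c = algebraMap ↥𝓕.extRees A[T;T⁻¹] x0 * T (-1) := by
      rw [algebraMap_extRees, LaurentPolynomial.algebraMap_apply, Algebra.algebraMap_self,
        RingHom.id_apply]
      change _ = LaurentPolynomial.C c * T 1 * T (-1)
      rw [mul_assoc, ← T_add]
      simp
    rw [h1]
    exact Ideal.mul_mem_right _ _ (Ideal.mem_map_of_mem _ hx0)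

theorem main [IsNoetherianRing A] (hfg : Algebra.FiniteType A 𝓕.rees) (q : ℕ) (hq : 1 ≤ q)
    (hG : Subsingleton (LocCoh.H
      ((Ideal.span {x : 𝓕.extRees | ∃ n : ℤ, 0 < n ∧ ∃ a : A,
        (x : A[T;T⁻¹]) = LaurentPolynomial.C a * T n}).map
        (Ideal.Quotient.mk (Ideal.span {𝓕.u}))) q 𝓕.Gr)) :
    Subsingleton (LocCoh.H (𝓕.F 1) q A) := by
  haveI : IsNoetherianRing ↥𝓕.rees := Algebra.FiniteType.isNoetherianRing A 𝓕.rees
  haveI : IsNoetherianRing ↥𝓕.extRees := isNoetherianRing_extRees 𝓕 hfg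
  -- hypothesis over the Rees algebra
  have hmap : (irr 𝓕).toIdeal.map (algebraMap ↥𝓕.rees 𝓕.Gr) =
      (Ipos 𝓕).map (Ideal.Quotient.mk (Ideal.span {𝓕.u})) := by
    rw [← map_irr, Ideal.map_map]
    rfl
  obtain ⟨φ, -⟩ := Groth.Agent.S11614.result ↥𝓕.rees 𝓕.Gr (irr 𝓕).toIdeal 𝓕.Gr q
  have h1 : Subsingleton (LocCoh.H (irr 𝓕).toIdeal q 𝓕.Gr) := by
    have h0 : Subsingleton (LocCoh.H ((irr 𝓕).toIdeal.map (algebraMap ↥𝓕.rees 𝓕.Gr)) q 𝓕.Gr) := by
      rw [hmap]; exact hG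
    exact φ.symm.toEquiv.subsingleton
  let e : 𝓕.Gr ≃ₗ[↥𝓕.rees] (↥𝓕.extRees ⧸ LinearMap.range (Umap 𝓕)) :=
    (Submodule.Quotient.restrictScalarsEquiv ↥𝓕.rees (Ideal.span {𝓕.u})).symm ≪≫ₗ
      Submodule.quotEquivOfEq _ _ (range_Umap 𝓕).symm
  have h2 := subsingleton_H_of_linearEquiv (irr 𝓕).toIdeal q e h1
  have h3 := graded_part 𝓕 hfg q hq h2
  -- back to the extended Rees algebra
  obtain ⟨ψ, -⟩ := Groth.Agent.S11614.result ↥𝓕.rees ↥𝓕.extRees (irr 𝓕).toIdeal ↥𝓕.extRees q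
  have h4 : Subsingleton (LocCoh.H (Ipos 𝓕) q ↥𝓕.extRees) := by
    rw [← map_irr]
    exact ψ.toEquiv.subsingleton
  -- localize at `u`
  haveI : Module.Flat ↥𝓕.extRees A[T;T⁻¹] :=
    IsLocalization.flat A[T;T⁻¹] (Submonoid.powers 𝓕.u)
  obtain ⟨χ⟩ := Groth.Agent.S11617.result ↥𝓕.extRees A[T;T⁻¹] (Ipos 𝓕) ↥𝓕.extRees q
  haveI := h4
  haveI : Subsingleton (TensorProduct ↥𝓕.extRees A[T;T⁻¹] (LocCoh.H (Ipos 𝓕) q ↥𝓕.extRees)) :=
    tensor_subsingleton
  have h5 : Subsingleton (LocCoh.H ((Ipos 𝓕).map (algebraMap ↥𝓕.extRees A[T;T⁻¹])) q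
      (TensorProduct ↥𝓕.extRees A[T;T⁻¹] ↥𝓕.extRees)) := χ.symm.toEquiv.subsingleton
  have h6 : Subsingleton (LocCoh.H ((Ipos 𝓕).map (algebraMap ↥𝓕.extRees A[T;T⁻¹])) q
      A[T;T⁻¹]) :=
    subsingleton_H_of_linearEquiv _ q
      (Algebra.TensorProduct.rid ↥𝓕.extRees A[T;T⁻¹] A[T;T⁻¹]).toLinearEquiv h5
  rw [map_Ipos] at h6
  obtain ⟨θ, -⟩ := Groth.Agent.S11614.result A A[T;T⁻¹] (𝓕.F 1) A[T;T⁻¹] q
  have h7 : Subsingleton (LocCoh.H (𝓕.F 1) q A[T;T⁻¹]) := by
    haveI := h6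
    exact θ.symm.toEquiv.subsingleton
  exact subsingleton_H_of_retract (𝓕.F 1) q (Algebra.linearMap A A[T;T⁻¹]) coeff0 coeff0_comp h7

end Groth.Agent.Lib.Helper97.ER3
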