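import Mathlib

/-!
# Rational simplicial cones around real points (helper97; Instab.Fan family, S19361)

Basis lemma: finitely many positive reals are nonnegative rational combinations of finitely many
`ℚ`-linearly independent positive reals lying in their `ℚ`-span.
-/

set_option autoImplicit false
set_option linter.unusedSectionVars false
set_option linter.style.haveILetI false
set_option linter.unusedSimpArgs false

namespace Groth.Agent.Lib.Helper97.RatCone

open Finset

section Cone

variable {ι : Type*} [Fintype ι] [DecidableEq ι]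

/-- The nonnegative rational cone spanned by a family of reals. -/
def Cone (e : ι → ℝ) : Set ℝ := {x | ∃ c : ι → ℚ, (∀ j, 0 ≤ c j) ∧ x = ∑ j, c j • e j}

lemma self_mem_cone (e : ι → ℝ) (j : ι) : e j ∈ Cone e := by
  refine ⟨Pi.single j 1, fun l => ?_, ?_⟩
  · by_cases h : l = j
    · subst h; simp
    · simp [Pi.single_apply, h]
  · rw [Fintype.sum_eq_single j]
    · simp
    · intro l hl
      simp [Pi.single_apply, hl]

lemma cone_trans {ι' : Type*} [Fintype ι'] {e : ι → ℝ} {e' : ι' → ℝ}
    (h : ∀ j, e j ∈ Cone e') {x : ℝ} (hx : x ∈ Cone e) : x ∈ Cone e' := by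
  obtain ⟨c, hc0, rfl⟩ := hx
  choose d hd0 hd using h
  refine ⟨fun l => ∑ j, c j * d j l, fun l => Finset.sum_nonneg fun j _ =>
    mul_nonneg (hc0 j) (hd0 j l), ?_⟩
  calc ∑ j, c j • e j = ∑ j, ∑ l, (c j * d j l) • e' l := by
        refine Finset.sum_congr rfl fun j _ => ?_
        rw [hd j, Finset.smul_sum]
        refine Finset.sum_congr rfl fun l _ => ?_
        rw [mul_smul]
    _ = ∑ l, ∑ j, (c j * d j l) • e' l := Finset.sum_comm
    _ = ∑ l, (∑ j, c j * d j l) • e' l := by
        refine Finset.sum_congr rfl fun l _ => ?_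
        rw [Finset.sum_smul]

/-- The elementary move: replace `e a` by `e a + s • e b`. -/
lemma move_props (e : ι → ℝ) (hpos : ∀ j, 0 < e j) (hli : LinearIndependent ℚ e) (a b : ι)
    (hab : a ≠ b) (s : ℚ) (hs : s ≤ 0) (hpos' : 0 < e a + s • e b) :
    ∃ e' : ι → ℝ, (∀ j, 0 < e' j) ∧ LinearIndependent ℚ e' ∧ (∀ j, e j ∈ Cone e') ∧
      (∀ j, e' j ∈ Submodule.span ℚ (Set.range e)) ∧ e' a = e a + s • e b ∧
      ∀ j, j ≠ a → e' j = e j := by
  let c : ι → ℚ := Pi.single a s
  have hcb : c b = 0 := by simp [c, Pi.single_apply, hab.symm]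
  let e' : ι → ℝ := e + fun j => c j • e b
  have hea : e' a = e a + s • e b := by simp [e', c]
  have hej : ∀ j, j ≠ a → e' j = e j := by
    intro j hj
    simp [e', c, Pi.single_apply, hj]
  refine ⟨e', ?_, (linearIndependent_add_smul_iff hcb).mpr hli, ?_, ?_, hea, hej⟩
  · intro j
    by_cases hj : j = a
    · subst hj; rw [hea]; exact hpos'
    · rw [hej j hj]; exact hpos j
  · intro j
    by_cases hj : j = a
    · subst hj
      -- e j = e' j + (-s) • e' b
      refine ⟨Pi.single j 1 + Pi.single b (-s), fun l => ?_, ?_⟩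
      · have h1 : (0 : ℚ) ≤ (Pi.single j 1 : ι → ℚ) l := by
          by_cases h : l = j
          · subst h; simp
          · simp [Pi.single_apply, h]
        have h2 : (0 : ℚ) ≤ (Pi.single b (-s) : ι → ℚ) l := by
          by_cases h : l = b
          · subst h; simpa using hs
          · simp [Pi.single_apply, h]
        exact add_nonneg h1 h2
      · have : ∑ l, ((Pi.single j 1 + Pi.single b (-s) : ι → ℚ) l) • e' l =
            e' j + (-s) • e' b := by
          simp only [Pi.add_apply, add_smul, Finset.sum_add_distrib]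
          congr 1
          · rw [Fintype.sum_eq_single j]
            · simp
            · intro l hl; simp [Pi.single_apply, hl]
          · rw [Fintype.sum_eq_single b]
            · simp
            · intro l hl; simp [Pi.single_apply, hl]
        rw [this, hea, hej b hab.symm]
        simp only [neg_smul]
        ring
    · rw [← hej j hj]
      exact self_mem_cone e' j
  · intro j
    by_cases hj : j = a
    · subst hj
      rw [hea]
      exact Submodule.add_mem _ (Submodule.subset_span ⟨j, rfl⟩)
        (Submodule.smul_mem _ _ (Submodule.subset_span ⟨b, rfl⟩))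
    · rw [hej j hj]
      exact Submodule.subset_span ⟨j, rfl⟩

/-- Refinement: a positive rational combination `t` of an independent positive family lies in the
cone of a refined independent positive family. -/
theorem refine_cone : ∀ (N : ℕ) (e : ι → ℝ) (q : ι → ℚ),
    (Finset.univ.filter fun j => q j ≠ 0).card ≤ N → (∀ j, 0 < e j) → LinearIndependent ℚ e →
    0 < ∑ j, q j • e j →
    ∃ e' : ι → ℝ, (∀ j, 0 < e' j) ∧ LinearIndependent ℚ e' ∧ (∀ j, e j ∈ Cone e') ∧
      (∑ j, q j • e j) ∈ Cone e' ∧ ∀ j, e' j ∈ Submodule.span ℚ (Set.range e) := by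
  intro N
  induction N with
  | zero =>
    intro e q hN hpos hli ht
    refine ⟨e, hpos, hli, self_mem_cone e, ⟨q, fun j => ?_, rfl⟩,
      fun j => Submodule.subset_span ⟨j, rfl⟩⟩
    have : j ∉ Finset.univ.filter fun j => q j ≠ 0 := by
      rw [Nat.le_zero, Finset.card_eq_zero] at hN
      rw [hN]; exact Finset.notMem_empty _
    simp only [Finset.mem_filter, Finset.mem_univ, true_and, not_not] at this
    rw [this]
  | succ N ih =>
    intro e q hN hpos hli ht
    by_cases hall : ∀ j, 0 ≤ q j
    · exact ⟨e, hpos, hli, self_mem_cone e, ⟨q, hall, rfl⟩,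
        fun j => Submodule.subset_span ⟨j, rfl⟩⟩
    push Not at hall
    obtain ⟨a, ha⟩ := hall
    obtain ⟨b, hb⟩ : ∃ b, 0 < q b := by
      by_contra hcon
      push Not at hcon
      have : ∑ j, q j • e j ≤ 0 := Finset.sum_nonpos fun j _ => by
        rw [Rat.smul_def]
        exact mul_nonpos_of_nonpos_of_nonneg (by exact_mod_cast hcon j) (hpos j).le
      linarith
    have hab : a ≠ b := by rintro rfl; linarith
    have haR : (q a : ℝ) < 0 := by exact_mod_cast ha
    have hbR : (0 : ℝ) < (q b : ℝ) := by exact_mod_cast hb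
    have haR' : (q a : ℝ) ≠ 0 := haR.ne
    have hbR' : (q b : ℝ) ≠ 0 := hbR.ne'
    -- generic step
    have step : ∀ (a' b' : ι) (s : ℚ), a' ≠ b' → s ≤ 0 → 0 < e a' + s • e b' →
        q a' ≠ 0 → q b' ≠ 0 → (q a' : ℝ) * (s : ℝ) = (q b' : ℝ) →
        ∃ e' : ι → ℝ, (∀ j, 0 < e' j) ∧ LinearIndependent ℚ e' ∧ (∀ j, e j ∈ Cone e') ∧
          (∑ j, q j • e j) ∈ Cone e' ∧ ∀ j, e' j ∈ Submodule.span ℚ (Set.range e) := by
      intro a' b' s hab' hs hpos' hqa hqb hrel
      obtain ⟨e1, h1pos, h1li, h1cone, h1span, h1a, h1j⟩ :=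
        move_props e hpos hli a' b' hab' s hs hpos'
      let q1 : ι → ℚ := Function.update q b' 0
      have hsum : ∑ j, q1 j • e1 j = ∑ j, q j • e j := by
        rw [← sub_eq_zero, ← Finset.sum_sub_distrib]
        rw [Fintype.sum_eq_add a' b' hab']
        · have hq1a : q1 a' = q a' := by simp [q1, Function.update_of_ne hab']
          have hq1b : q1 b' = 0 := by simp [q1]
          rw [hq1a, hq1b, h1a, h1j b' hab'.symm]
          simp only [Rat.smul_def, Rat.cast_zero]
          linear_combination (e b') * hrel
        · intro x hx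
          have hq1x : q1 x = q x := by simp [q1, Function.update_of_ne hx.2]
          rw [hq1x, h1j x hx.1, sub_self]
      have hcard : (Finset.univ.filter fun j => q1 j ≠ 0).card ≤ N := by
        have hsub : (Finset.univ.filter fun j => q1 j ≠ 0) ⊆
            (Finset.univ.filter fun j => q j ≠ 0).erase b' := by
          intro j hj
          simp only [Finset.mem_filter, Finset.mem_univ, true_and] at hj
          rw [Finset.mem_erase]
          have hjb : j ≠ b' := by
            rintro rfl
            exact hj (by simp [q1])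
          refine ⟨hjb, ?_⟩
          simp only [Finset.mem_filter, Finset.mem_univ, true_and]
          rwa [show q1 j = q j from by simp [q1, Function.update_of_ne hjb]] at hj
        have hmem : b' ∈ Finset.univ.filter fun j => q j ≠ 0 := by
          simp only [Finset.mem_filter, Finset.mem_univ, true_and]
          exact hqb
        have := Finset.card_le_card hsub
        rw [Finset.card_erase_of_mem hmem] at this
        omega
      obtain ⟨e', h2pos, h2li, h2cone, h2t, h2span⟩ :=
        ih e1 q1 hcard h1pos h1li (by rw [hsum]; exact ht)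
      refine ⟨e', h2pos, h2li, fun j => cone_trans h2cone (h1cone j), ?_, fun j => ?_⟩
      · rw [← hsum]; exact h2t
      · have hle : Submodule.span ℚ (Set.range e1) ≤ Submodule.span ℚ (Set.range e) := by
          rw [Submodule.span_le]
          rintro _ ⟨l, rfl⟩
          exact h1span l
        exact hle (h2span j)
    have hu : q b • e b + q a • e a ≠ 0 := by
      intro h0
      have := Fintype.linearIndependent_iff.mp hli
        (fun j => if j = a then q a else if j = b then q b else 0) ?_ a
      · simp at this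
        exact ha.ne this
      · rw [Fintype.sum_eq_add a b hab]
        · simp only [if_true, if_neg hab.symm]
          rw [add_comm]; exact h0
        · intro x hx
          simp [hx.1, hx.2]
    rcases lt_or_gt_of_ne hu with hneg | hposu
    · -- u < 0 : move a by s = q b / q a
      refine step a b (q b / q a) hab (div_nonpos_of_nonneg_of_nonpos hb.le ha.le) ?_ ha.ne
        hb.ne' ?_
      · simp only [Rat.smul_def] at hneg ⊢
        push_cast
        have : e a + (q b : ℝ) / (q a : ℝ) * e b = ((q b : ℝ) * e b + (q a : ℝ) * e a) / (q a : ℝ) := by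
          field_simp
          ring
        rw [this]
        exact div_pos_of_neg_of_neg hneg haR
      · push_cast
        field_simp
    · -- u > 0 : move b by s = q a / q b
      refine step b a (q a / q b) hab.symm (div_nonpos_of_nonpos_of_nonneg ha.le hb.le) ?_ hb.ne'
        ha.ne ?_
      · simp only [Rat.smul_def] at hposu ⊢
        push_cast
        have : e b + (q a : ℝ) / (q b : ℝ) * e a =
            ((q b : ℝ) * e b + (q a : ℝ) * e a) / (q b : ℝ) := by
          field_simp
        rw [this]
        exact div_pos hposu hbR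
      · push_cast
        field_simp

/-- **Basis lemma.** -/
theorem basis_lemma (S : Finset ℝ) (hS : ∀ y ∈ S, 0 < y) :
    ∃ (m : ℕ) (e : Fin m → ℝ), (∀ j, 0 < e j) ∧ LinearIndependent ℚ e ∧
      (∀ y ∈ S, y ∈ Cone e) ∧ ∀ j, e j ∈ Submodule.span ℚ (S : Set ℝ) := by
  classical
  induction S using Finset.induction_on with
  | empty =>
    exact ⟨0, fun j => j.elim0, fun j => j.elim0, linearIndependent_empty_type,
      fun y hy => absurd hy (Finset.notMem_empty _), fun j => j.elim0⟩
  | insert t S htS ih =>
    obtain ⟨m, e, hpos, hli, hcone, hspan⟩ := ih fun y hy => hS y (Finset.mem_insert_of_mem hy)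
    have htpos : 0 < t := hS t (Finset.mem_insert_self _ _)
    have hSle : Submodule.span ℚ (S : Set ℝ) ≤ Submodule.span ℚ ((insert t S : Finset ℝ) : Set ℝ) :=
      Submodule.span_mono (by simp)
    by_cases ht : t ∈ Submodule.span ℚ (Set.range e)
    · obtain ⟨q, hq⟩ := (Submodule.mem_span_range_iff_exists_fun ℚ).mp ht
      obtain ⟨e', h2pos, h2li, h2cone, h2t, h2span⟩ :=
        refine_cone _ e q le_rfl hpos hli (by rw [hq]; exact htpos)
      refine ⟨m, e', h2pos, h2li, ?_, fun j => ?_⟩
      · intro y hy
        rcases Finset.mem_insert.mp hy with rfl | hy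
        · rw [← hq]; exact h2t
        · exact cone_trans h2cone (hcone y hy)
      · have hle : Submodule.span ℚ (Set.range e) ≤ Submodule.span ℚ (S : Set ℝ) := by
          rw [Submodule.span_le]
          rintro _ ⟨l, rfl⟩
          exact hspan l
        exact hSle (hle (h2span j))
    · refine ⟨m + 1, Fin.cons t e, ?_, hli.finCons ht, ?_, ?_⟩
      · intro j
        refine Fin.cases ?_ (fun i => ?_) j
        · simpa using htpos
        · simpa using hpos i
      · intro y hy
        rcases Finset.mem_insert.mp hy with rfl | hy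
        · have := self_mem_cone (Fin.cons y e : Fin (m + 1) → ℝ) 0
          simpa using this
        · have h1 : ∀ i, e i ∈ Cone (Fin.cons t e : Fin (m + 1) → ℝ) := by
            intro i
            have := self_mem_cone (Fin.cons t e : Fin (m + 1) → ℝ) i.succ
            simpa using this
          exact cone_trans h1 (hcone y hy)
      · intro j
        refine Fin.cases ?_ (fun i => ?_) j
        · simp only [Fin.cons_zero]
          exact Submodule.subset_span (by simp)
        · simp only [Fin.cons_succ]
          exact hSle (hspan i)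

end Cone

section GeomLemma

/-- **Geometric lemma, abstract form.** A nonnegative real vector `Y` is `a *ᵥ z` for a natural
matrix `a` and a positive, `ℤ`-independent real vector `z`, such that the rows of `a` separate
integer vectors. -/
theorem exists_nat_matrix {I : Type*} [Fintype I] (Y : I → ℝ) (hY : ∀ i, 0 ≤ Y i) :
    ∃ (m : ℕ) (a : I → Fin m → ℕ) (z : Fin m → ℝ), (∀ l, 0 < z l) ∧
      (∀ i, Y i = ∑ l, (a i l : ℝ) * z l) ∧
      (∀ u : Fin m → ℤ, ∑ l, (u l : ℝ) * z l = 0 → u = 0) ∧
      (∀ w : Fin m → ℤ, (∀ i, ∑ l, (a i l : ℤ) * w l = 0) → w = 0) := by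
  classical
  let S : Finset ℝ := (Finset.univ.filter fun i => 0 < Y i).image Y
  have hS : ∀ y ∈ S, 0 < y := by
    intro y hy
    obtain ⟨i, hi, rfl⟩ := Finset.mem_image.mp hy
    exact (Finset.mem_filter.mp hi).2
  obtain ⟨m, e, hpos, hli, hcone, hspan⟩ := basis_lemma S hS
  have hc : ∀ i, ∃ c : Fin m → ℚ, (∀ l, 0 ≤ c l) ∧ Y i = ∑ l, c l • e l := by
    intro i
    by_cases hi : 0 < Y i
    · exact hcone (Y i) (Finset.mem_image.mpr ⟨i, Finset.mem_filter.mpr ⟨Finset.mem_univ _, hi⟩, rfl⟩)
    · exact ⟨0, fun _ => le_rfl, by simp [le_antisymm (not_lt.mp hi) (hY i)]⟩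
  choose cvec hc0 hcY using hc
  let D : ℕ := ∏ i, ∏ l, (cvec i l).den
  have hD : 0 < D := Finset.prod_pos fun i _ => Finset.prod_pos fun l _ => (cvec i l).den_pos
  have hDR : (0 : ℝ) < (D : ℝ) := by exact_mod_cast hD
  have hdvd : ∀ i l, (cvec i l).den ∣ D := fun i l =>
    (Finset.dvd_prod_of_mem _ (Finset.mem_univ l)).trans
      (Finset.dvd_prod_of_mem (fun i => ∏ l, (cvec i l).den) (Finset.mem_univ i))
  let a : I → Fin m → ℕ := fun i l => (cvec i l).num.toNat * (D / (cvec i l).den)
  have ha : ∀ i l, ((a i l : ℕ) : ℚ) = cvec i l * D := by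
    intro i l
    have hnum : ((cvec i l).num.toNat : ℤ) = (cvec i l).num :=
      Int.toNat_of_nonneg (Rat.num_nonneg.mpr (hc0 i l))
    have hden : ((cvec i l).den : ℚ) ≠ 0 := by exact_mod_cast (cvec i l).den_pos.ne'
    simp only [a]
    rw [Nat.cast_mul, Nat.cast_div (hdvd i l) hden]
    have h1 : (((cvec i l).num.toNat : ℕ) : ℚ) = ((cvec i l).num : ℚ) := by exact_mod_cast hnum
    rw [h1]
    conv_rhs => rw [← Rat.num_div_den (cvec i l)]
    field_simp
  have haR : ∀ i l, ((a i l : ℕ) : ℝ) = (cvec i l : ℝ) * D := by
    intro i l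
    have := congrArg (fun x : ℚ => (x : ℝ)) (ha i l)
    simpa using this
  refine ⟨m, a, fun l => e l / D, fun l => div_pos (hpos l) hDR, ?_, ?_, ?_⟩
  · intro i
    rw [hcY i]
    refine Finset.sum_congr rfl fun l _ => ?_
    rw [haR, Rat.smul_def]
    field_simp
  · intro u hu
    have h1 : ∑ l, ((u l : ℤ) : ℚ) • e l = 0 := by
      have : ∑ l, (u l : ℝ) * (e l / D) = (∑ l, (u l : ℝ) * e l) / D := by
        rw [Finset.sum_div]
        refine Finset.sum_congr rfl fun l _ => ?_
        ring
      rw [this, div_eq_zero_iff] at hu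
      rcases hu with hu | hu
      · simpa [Rat.smul_def] using hu
      · exact absurd hu hDR.ne'
    have h2 := Fintype.linearIndependent_iff.mp hli _ h1
    funext l
    have := h2 l
    exact_mod_cast this
  · intro w hw
    -- the linear map `L`
    let L : (Fin m → ℚ) →ₗ[ℚ] ℝ := Fintype.linearCombination ℚ e
    have hLinj : Function.Injective L :=
      linearIndependent_iff_injective_fintypeLinearCombination.mp hli
    have hLc : ∀ i, L (cvec i) = Y i := by
      intro i
      rw [hcY i]
      exact Fintype.linearCombination_apply ℚ e (cvec i)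
    let V : Submodule ℚ (Fin m → ℚ) := Submodule.span ℚ (Set.range cvec)
    have hSV : (S : Set ℝ) ⊆ (V.map L : Set ℝ) := by
      intro y hy
      obtain ⟨i, _, rfl⟩ := Finset.mem_image.mp (Finset.mem_coe.mp hy)
      exact ⟨cvec i, Submodule.subset_span ⟨i, rfl⟩, hLc i⟩
    have hdelta : ∀ p : Fin m, (Pi.single p 1 : Fin m → ℚ) ∈ V := by
      intro p
      have h1 : e p ∈ V.map L := (Submodule.span_le.mpr hSV) (hspan p)
      obtain ⟨v, hv, hvL⟩ := h1
      have h2 : L (Pi.single p 1) = e p := by
        rw [Fintype.linearCombination_apply]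
        rw [Fintype.sum_eq_single p]
        · simp
        · intro l hl; simp [Pi.single_apply, hl]
      have : v = Pi.single p 1 := hLinj (hvL.trans h2.symm)
      rw [← this]; exact hv
    -- the dot product functional
    let ψ : (Fin m → ℚ) →ₗ[ℚ] ℚ :=
      { toFun := fun v => ∑ l, v l * (w l : ℚ)
        map_add' := fun v v' => by simp [add_mul, Finset.sum_add_distrib]
        map_smul' := fun c v => by simp [Finset.mul_sum, mul_assoc] }
    have hVker : V ≤ LinearMap.ker ψ := by
      rw [Submodule.span_le]
      rintro _ ⟨i, rfl⟩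
      rw [SetLike.mem_coe, LinearMap.mem_ker]
      change ∑ l, cvec i l * (w l : ℚ) = 0
      have h1 : (∑ l, ((a i l : ℕ) : ℚ) * (w l : ℚ)) = 0 := by
        have := hw i
        have h2 := congrArg (fun x : ℤ => (x : ℚ)) this
        simpa using h2
      have h3 : (∑ l, ((a i l : ℕ) : ℚ) * (w l : ℚ)) = (D : ℚ) * ∑ l, cvec i l * (w l : ℚ) := by
        rw [Finset.mul_sum]
        refine Finset.sum_congr rfl fun l _ => ?_
        rw [ha]; ring
      rw [h3] at h1
      have hDQ : (D : ℚ) ≠ 0 := by exact_mod_cast hD.ne'
      exact (mul_eq_zero.mp h1).resolve_left hDQ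
    funext p
    have := hVker (hdelta p)
    rw [LinearMap.mem_ker] at this
    change ∑ l, (Pi.single p 1 : Fin m → ℚ) l * (w l : ℚ) = 0 at this
    rw [Fintype.sum_eq_single p] at this
    · simp at this
      exact_mod_cast this
    · intro l hl; simp [Pi.single_apply, hl]

end GeomLemma

end Groth.Agent.Lib.Helper97.RatCone
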