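import Mathlib
import Groth.Prelude.Def_W4c6instabfans3Fan
import Groth.Agent.Lib.Helper97.RatCone

/-!
# Formal fans: the common sub-cone relation (helper97; S19361 and consequences)
-/

set_option autoImplicit false
set_option linter.unusedSectionVars false
set_option linter.style.haveILetI false
set_option linter.unusedSimpArgs false

namespace Groth.Agent.Lib.Helper97.FanLib

open CategoryTheory Opposite Instab Instab.Fan

universe u

section LinAlg

variable {k m n : ℕ}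

/-- The real matrix action of an integer linear map. -/
def realMapL (f : (Fin k → ℤ) →ₗ[ℤ] (Fin n → ℤ)) (v : Fin k → ℝ) : Fin n → ℝ :=
  fun j => ∑ i, (f (Pi.single i 1) j : ℝ) * v i

lemma lin_apply_eq_sum (f : (Fin k → ℤ) →ₗ[ℤ] (Fin n → ℤ)) (w : Fin k → ℤ) (j : Fin n) :
    f w j = ∑ i, w i * f (Pi.single i 1) j := by
  have h := LinearMap.pi_apply_eq_sum_univ f w
  have h2 : ∀ i : Fin k, (fun j : Fin k => if i = j then (1 : ℤ) else 0) = Pi.single i 1 := by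
    intro i; funext j; simp [Pi.single_apply, eq_comm]
  simp only [h2] at h
  rw [h]
  simp [Finset.sum_apply]

lemma realMapL_comp (f : (Fin k → ℤ) →ₗ[ℤ] (Fin m → ℤ)) (g : (Fin m → ℤ) →ₗ[ℤ] (Fin n → ℤ))
    (v : Fin k → ℝ) : realMapL (g.comp f) v = realMapL g (realMapL f v) := by
  funext j
  simp only [realMapL, LinearMap.comp_apply]
  have h1 : ∀ l : Fin k, ((g (f (Pi.single l 1)) j : ℤ) : ℝ) =
      ∑ i, ((f (Pi.single l 1) i : ℤ) : ℝ) * ((g (Pi.single i 1) j : ℤ) : ℝ) := by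
    intro l
    rw [lin_apply_eq_sum g (f (Pi.single l 1)) j]
    push_cast
    rfl
  simp only [h1, Finset.sum_mul, Finset.mul_sum]
  rw [Finset.sum_comm]
  refine Finset.sum_congr rfl fun i _ => Finset.sum_congr rfl fun l _ => ?_
  ring

lemma realMapL_smul (f : (Fin k → ℤ) →ₗ[ℤ] (Fin n → ℤ)) (c : ℝ) (v : Fin k → ℝ) :
    realMapL f (c • v) = c • realMapL f v := by
  funext j
  simp only [realMapL, Pi.smul_apply, smul_eq_mul, Finset.mul_sum]
  refine Finset.sum_congr rfl fun i _ => ?_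
  ring

/-- The integer linear map of a natural matrix. -/
def matLin (a : Fin k → Fin m → ℕ) : (Fin m → ℤ) →ₗ[ℤ] (Fin k → ℤ) where
  toFun w := fun i => ∑ l, (a i l : ℤ) * w l
  map_add' w w' := by funext i; simp [mul_add, Finset.sum_add_distrib]
  map_smul' c w := by funext i; simp [Finset.mul_sum, mul_left_comm]

lemma matLin_single (a : Fin k → Fin m → ℕ) (l : Fin m) (i : Fin k) :
    matLin a (Pi.single l 1) i = a i l := by
  simp only [matLin, LinearMap.coe_mk, AddHom.coe_mk]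
  rw [Fintype.sum_eq_single l]
  · simp
  · intro l' hl'; simp [Pi.single_apply, hl']

lemma realMapL_matLin (a : Fin k → Fin m → ℕ) (z : Fin m → ℝ) (i : Fin k) :
    realMapL (matLin a) z i = ∑ l, (a i l : ℝ) * z l := by
  simp only [realMapL, matLin_single]
  push_cast
  rfl

lemma matLin_nonneg (a : Fin k → Fin m → ℕ) (w : Fin m → ℤ) (hw : ∀ l, 0 ≤ w l) (i : Fin k) :
    0 ≤ matLin a w i := by
  change 0 ≤ ∑ l, (a i l : ℤ) * w l
  exact Finset.sum_nonneg fun l _ => mul_nonneg (Int.natCast_nonneg _) (hw l)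

end LinAlg

section Hom

lemma realMap_comp {k m n : ICone} (α : k ⟶ m) (φ : m ⟶ n) (v : Fin k.dim → ℝ) :
    (α ≫ φ).realMap v = φ.realMap (α.realMap v) :=
  realMapL_comp α.toLin φ.toLin v

lemma realMap_smul {k n : ICone} (φ : k ⟶ n) (c : ℝ) (v : Fin k.dim → ℝ) :
    φ.realMap (c • v) = c • φ.realMap v :=
  realMapL_smul φ.toLin c v

lemma single_nonneg {k : ℕ} (i : Fin k) : ∀ i', (0 : ℤ) ≤ (Pi.single i 1 : Fin k → ℤ) i' := by
  intro i'
  by_cases h : i' = i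
  · subst h; simp
  · simp [Pi.single_apply, h]

lemma realMap_nonneg {k n : ICone} (φ : k ⟶ n) (v : Fin k.dim → ℝ) (hv : ∀ i, 0 ≤ v i)
    (j : Fin n.dim) : 0 ≤ φ.realMap v j := by
  refine Finset.sum_nonneg fun i _ => mul_nonneg ?_ (hv i)
  exact_mod_cast φ.nonneg (Pi.single i 1) (single_nonneg i) j

lemma realMap_ne_zero {k n : ICone} (φ : k ⟶ n) (v : Orth k) : φ.realMap v.1 ≠ 0 := by
  obtain ⟨i, hi⟩ := Function.ne_iff.mp v.2.2
  have hvi : 0 < v.1 i := lt_of_le_of_ne (v.2.1 i) (Ne.symm hi)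
  have hne : φ.toLin (Pi.single i 1) ≠ 0 := by
    intro h0
    have := φ.injective (h0.trans (map_zero φ.toLin).symm)
    have h1 := congr_fun this i
    simp at h1
  obtain ⟨j, hj⟩ := Function.ne_iff.mp hne
  have hjpos : (0 : ℤ) < φ.toLin (Pi.single i 1) j :=
    lt_of_le_of_ne (φ.nonneg _ (single_nonneg i) j) (Ne.symm hj)
  intro h0
  have h1 : φ.realMap v.1 j = 0 := by rw [h0]; rfl
  have h2 : (φ.toLin (Pi.single i 1) j : ℝ) * v.1 i ≤ φ.realMap v.1 j := by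
    refine Finset.single_le_sum (f := fun i' => (φ.toLin (Pi.single i' 1) j : ℝ) * v.1 i')
      (fun i' _ => mul_nonneg ?_ (v.2.1 i')) (Finset.mem_univ i)
    exact_mod_cast φ.nonneg (Pi.single i' 1) (single_nonneg i') j
  have h3 : (0 : ℝ) < (φ.toLin (Pi.single i 1) j : ℝ) * v.1 i :=
    mul_pos (by exact_mod_cast hjpos) hvi
  linarith

/-- Push a point of the orthant forward along a cone morphism. -/
def pushOrth {k n : ICone} (φ : k ⟶ n) (v : Orth k) : Orth n :=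
  ⟨φ.realMap v.1, realMap_nonneg φ v.1 v.2.1, realMap_ne_zero φ v⟩

/-- **Geometric lemma.** Two cones with a common real point have a common rational sub-cone
around that point. -/
theorem exists_common_refinement {k k' n : ICone} (φ : k ⟶ n) (ψ : k' ⟶ n) (y : Orth k)
    (y' : Orth k') (h : φ.realMap y.1 = ψ.realMap y'.1) :
    ∃ (M : ICone) (α : M ⟶ k) (β : M ⟶ k') (z : Orth M),
      α ≫ φ = β ≫ ψ ∧ α.realMap z.1 = y.1 ∧ β.realMap z.1 = y'.1 := by
  obtain ⟨m, a, z, hz, hY, hind, hsp⟩ :=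
    RatCone.exists_nat_matrix (Sum.elim y.1 y'.1) (by
      rintro (i | i)
      · exact y.2.1 i
      · exact y'.2.1 i)
  have hm : m ≠ 0 := by
    rintro rfl
    apply y.2.2
    funext i
    have := hY (Sum.inl i)
    simpa using this
  let αL : (Fin m → ℤ) →ₗ[ℤ] (Fin k.dim → ℤ) := matLin fun i l => a (Sum.inl i) l
  let βL : (Fin m → ℤ) →ₗ[ℤ] (Fin k'.dim → ℤ) := matLin fun i l => a (Sum.inr i) l
  have hαz : realMapL αL z = y.1 := by
    funext i
    rw [realMapL_matLin]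
    exact (hY (Sum.inl i)).symm
  have hβz : realMapL βL z = y'.1 := by
    funext i
    rw [realMapL_matLin]
    exact (hY (Sum.inr i)).symm
  have hcompat : φ.toLin.comp αL = ψ.toLin.comp βL := by
    have key : ∀ (j : Fin n.dim) (l : Fin m),
        (φ.toLin.comp αL) (Pi.single l 1) j = (ψ.toLin.comp βL) (Pi.single l 1) j := by
      intro j
      have h0 := hind (fun l => (φ.toLin.comp αL) (Pi.single l 1) j -
        (ψ.toLin.comp βL) (Pi.single l 1) j) ?_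
      · intro l
        have := congr_fun h0 l
        simpa [sub_eq_zero] using this
      · have h1 : realMapL (φ.toLin.comp αL) z j = realMapL (ψ.toLin.comp βL) z j := by
          rw [realMapL_comp, realMapL_comp, hαz, hβz]
          exact congr_fun h j
        simp only [realMapL] at h1
        push_cast
        simp only [sub_mul, Finset.sum_sub_distrib]
        rw [sub_eq_zero]
        exact h1
    apply LinearMap.ext
    intro w
    funext j
    rw [lin_apply_eq_sum (φ.toLin.comp αL) w j, lin_apply_eq_sum (ψ.toLin.comp βL) w j]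
    refine Finset.sum_congr rfl fun l _ => ?_
    rw [key j l]
  have hker : ∀ w : Fin m → ℤ, αL w = 0 → βL w = 0 → w = 0 := by
    intro w hα hβ
    apply hsp
    rintro (i | i)
    · exact congr_fun hα i
    · exact congr_fun hβ i
  have hαinj : Function.Injective αL := by
    rw [injective_iff_map_eq_zero]
    intro w hw
    apply hker w hw
    apply ψ.injective
    rw [map_zero]
    have := LinearMap.congr_fun hcompat w
    simp only [LinearMap.comp_apply] at this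
    rw [← this, hw, map_zero]
  have hβinj : Function.Injective βL := by
    rw [injective_iff_map_eq_zero]
    intro w hw
    refine hker w ?_ hw
    apply φ.injective
    rw [map_zero]
    have := LinearMap.congr_fun hcompat w
    simp only [LinearMap.comp_apply] at this
    rw [this, hw, map_zero]
  let M : ICone := ⟨⟨m, Nat.pos_of_ne_zero hm⟩⟩
  let α : M ⟶ k := ⟨αL, hαinj, fun w hw i => matLin_nonneg _ w hw i⟩
  let β : M ⟶ k' := ⟨βL, hβinj, fun w hw i => matLin_nonneg _ w hw i⟩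
  have hz0 : z ≠ 0 := by
    intro h0
    have := hz ⟨0, Nat.pos_of_ne_zero hm⟩
    rw [h0] at this
    simp at this
  refine ⟨M, α, β, ⟨z, fun l => (hz l).le, hz0⟩, ?_, hαz, hβz⟩
  exact ICone.Hom.ext hcompat

end Hom

section Common

variable {F : Fan.{u}}

lemma map_comp_op {k m n : ICone} (α : k ⟶ m) (φ : m ⟶ n) (ξ : F.obj (op n)) :
    F.map (α ≫ φ).op ξ = F.map α.op (F.map φ.op ξ) := by
  rw [op_comp, Functor.map_comp_apply]

/-- The common sub-cone relation on points of the disjoint union. -/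
def Common (F : Fan.{u}) (p₁ p₂ : Pt F) : Prop :=
  ∃ (k : ICone) (φ₁ : k ⟶ p₁.1.1) (φ₂ : k ⟶ p₂.1.1) (y : Orth k) (c₁ c₂ : ℝ),
    F.map φ₁.op p₁.1.2 = F.map φ₂.op p₂.1.2 ∧ 0 < c₁ ∧ 0 < c₂ ∧
      p₁.2.1 = c₁ • φ₁.realMap y.1 ∧ p₂.2.1 = c₂ • φ₂.realMap y.1

lemma realMap_id {n : ICone} (v : Fin n.dim → ℝ) : (𝟙 n : n ⟶ n).realMap v = v := by
  funext j
  change ∑ i, (((Pi.single i 1 : Fin n.dim → ℤ) j : ℤ) : ℝ) * v i = v j
  rw [Fintype.sum_eq_single j]
  · simp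
  · intro i hi
    simp [Pi.single_apply, Ne.symm hi]

lemma common_refl (p : Pt F) : Common F p p :=
  ⟨p.1.1, 𝟙 _, 𝟙 _, p.2, 1, 1, rfl, one_pos, one_pos, by rw [realMap_id, one_smul],
    by rw [realMap_id, one_smul]⟩

lemma common_symm {p₁ p₂ : Pt F} (h : Common F p₁ p₂) : Common F p₂ p₁ := by
  obtain ⟨k, φ₁, φ₂, y, c₁, c₂, h1, h2, h3, h4, h5⟩ := h
  exact ⟨k, φ₂, φ₁, y, c₂, c₁, h1.symm, h3, h2, h5, h4⟩

lemma common_of_rel {p₁ p₂ : Pt F} (h : Rel F p₁ p₂) : Common F p₁ p₂ := by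
  obtain @⟨k, n, φ, ξ, v, w, c, hc, hw⟩ := h
  refine ⟨k, 𝟙 k, φ, v, 1, c, ?_, one_pos, hc, ?_, hw⟩
  · simp
  · change v.1 = (1 : ℝ) • (𝟙 k : k ⟶ k).realMap v.1
    rw [realMap_id, one_smul]

lemma common_trans {p₁ p₂ p₃ : Pt F} (h12 : Common F p₁ p₂) (h23 : Common F p₂ p₃) :
    Common F p₁ p₃ := by
  obtain ⟨k, φ₁, φ₂, y, c₁, c₂, e12, hc₁, hc₂, hv₁, hv₂⟩ := h12
  obtain ⟨k', ψ₂, ψ₃, y', d₂, d₃, e23, hd₂, hd₃, hw₂, hw₃⟩ := h23
  -- rescale y'
  have hs : 0 < d₂ / c₂ := div_pos hd₂ hc₂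
  let y'' : Orth k' := ⟨(d₂ / c₂) • y'.1, fun i => mul_nonneg hs.le (y'.2.1 i), by
    intro h0
    apply y'.2.2
    have := smul_eq_zero.mp h0
    exact this.resolve_left hs.ne'⟩
  have hreal : φ₂.realMap y.1 = ψ₂.realMap y''.1 := by
    change _ = ψ₂.realMap ((d₂ / c₂) • y'.1)
    rw [realMap_smul]
    have h1 : c₂ • φ₂.realMap y.1 = d₂ • ψ₂.realMap y'.1 := hv₂.symm.trans hw₂
    have h2 : φ₂.realMap y.1 = c₂⁻¹ • (d₂ • ψ₂.realMap y'.1) := by
      rw [← h1, smul_smul, inv_mul_cancel₀ hc₂.ne', one_smul]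
    rw [h2, smul_smul]
    congr 1
    field_simp
  obtain ⟨M, α, β, z, hαβ, hαz, hβz⟩ := exists_common_refinement φ₂ ψ₂ y y'' hreal
  refine ⟨M, α ≫ φ₁, β ≫ ψ₃, z, c₁, d₃ * (c₂ / d₂), ?_, hc₁, mul_pos hd₃ (div_pos hc₂ hd₂), ?_, ?_⟩
  · rw [map_comp_op, e12, ← map_comp_op, hαβ, map_comp_op, e23, ← map_comp_op]
  · rw [realMap_comp, hαz]; exact hv₁
  · rw [realMap_comp, hβz]
    change p₃.2.1 = (d₃ * (c₂ / d₂)) • ψ₃.realMap ((d₂ / c₂) • y'.1)
    rw [realMap_smul, smul_smul, hw₃]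
    congr 1
    field_simp

/-- Equality in `P F` is the common sub-cone relation. -/
theorem common_of_eq {p₁ p₂ : Pt F} (h : (Quot.mk (Rel F) p₁ : P F) = Quot.mk (Rel F) p₂) :
    Common F p₁ p₂ := by
  have h' := Quot.eq.mp h
  clear h
  induction h' with
  | rel _ _ h => exact common_of_rel h
  | refl _ => exact common_refl _
  | symm _ _ _ ih => exact common_symm ih
  | trans _ _ _ _ _ ih1 ih2 => exact common_trans ih1 ih2

/-- **S19361.** -/
theorem common_subcone {n₁ n₂ : ICone}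
    (σ₁ : F.obj (op n₁)) (σ₂ : F.obj (op n₂)) (v₁ : Fan.Orth n₁) (v₂ : Fan.Orth n₂)
    (h : Fan.P.mk σ₁ v₁ = Fan.P.mk σ₂ v₂) :
    ∃ (k : ICone) (φ₁ : k ⟶ n₁) (φ₂ : k ⟶ n₂) (y : Fan.Orth k) (c₁ c₂ : ℝ),
      F.map φ₁.op σ₁ = F.map φ₂.op σ₂ ∧ 0 < c₁ ∧ 0 < c₂ ∧
        v₁.1 = c₁ • φ₁.realMap y.1 ∧ v₂.1 = c₂ • φ₂.realMap y.1 :=
  common_of_eq (p₁ := ⟨⟨n₁, σ₁⟩, v₁⟩) (p₂ := ⟨⟨n₂, σ₂⟩, v₂⟩) h

/-- The converse: a common sub-cone gives equal points. -/
theorem mk_eq_of_common {n₁ n₂ : ICone}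
    (σ₁ : F.obj (op n₁)) (σ₂ : F.obj (op n₂)) (v₁ : Fan.Orth n₁) (v₂ : Fan.Orth n₂)
    {k : ICone} (φ₁ : k ⟶ n₁) (φ₂ : k ⟶ n₂) (y : Fan.Orth k) (c₁ c₂ : ℝ)
    (he : F.map φ₁.op σ₁ = F.map φ₂.op σ₂) (hc₁ : 0 < c₁) (hc₂ : 0 < c₂)
    (h₁ : v₁.1 = c₁ • φ₁.realMap y.1) (h₂ : v₂.1 = c₂ • φ₂.realMap y.1) :
    Fan.P.mk σ₁ v₁ = Fan.P.mk σ₂ v₂ := by
  have e1 : Fan.P.mk (F.map φ₁.op σ₁) y = Fan.P.mk σ₁ v₁ :=
    Quot.sound (Rel.glue φ₁ σ₁ y v₁ c₁ hc₁ h₁)
  have e2 : Fan.P.mk (F.map φ₂.op σ₂) y = Fan.P.mk σ₂ v₂ :=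
    Quot.sound (Rel.glue φ₂ σ₂ y v₂ c₂ hc₂ h₂)
  rw [← e1, ← e2, he]

end Common

end Groth.Agent.Lib.Helper97.FanLib
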