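import Mathlib
import Groth.Prelude.Def_W4c6instabfans3Fan
import Groth.Agent.Lib.Helper97.FanLib

/-!
# Formal fans: consequences of the common sub-cone lemma (helper97; S19358, S19360, S19362, S19368)
-/

set_option autoImplicit false
set_option linter.unusedSectionVars false
set_option linter.style.haveILetI false
set_option linter.unusedSimpArgs false

namespace Groth.Agent.Lib.Helper97.FanLib

open CategoryTheory Opposite Instab Instab.Fan Limits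

universe u

section Basic

variable {F G : Fan.{u}}

lemma P_map_mk (f : F ⟶ G) {n : ICone} (σ : F.obj (op n)) (v : Orth n) :
    Fan.P.map f (Fan.P.mk σ v) = Fan.P.mk (f.app _ σ) v := rfl

lemma P_exists_rep (x : Fan.P F) : ∃ (n : ICone) (σ : F.obj (op n)) (v : Orth n),
    x = Fan.P.mk σ v := by
  obtain ⟨⟨⟨n, σ⟩, v⟩, rfl⟩ := Quot.exists_rep x
  exact ⟨n, σ, v, rfl⟩

lemma mk_map_eq {k n : ICone} (φ : k ⟶ n) (ξ : F.obj (op n)) (y : Orth k) (w : Orth n) (c : ℝ)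
    (hc : 0 < c) (hw : w.1 = c • φ.realMap y.1) :
    Fan.P.mk (F.map φ.op ξ) y = Fan.P.mk ξ w :=
  Quot.sound (Rel.glue φ ξ y w c hc hw)

lemma app_map (f : F ⟶ G) {k n : ICone} (φ : k ⟶ n) (σ : F.obj (op n)) :
    f.app _ (F.map φ.op σ) = G.map φ.op (f.app _ σ) :=
  NatTrans.naturality_apply f φ.op σ

/-- **S19358.** -/
theorem P_map_injective_surjective (f : F ⟶ G) :
    ((∀ n : ICone, Function.Injective (f.app (op n))) → Function.Injective (Fan.P.map f)) ∧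
    ((∀ n : ICone, Function.Surjective (f.app (op n))) → Function.Surjective (Fan.P.map f)) := by
  constructor
  · intro hinj x x' hxx'
    obtain ⟨n₁, σ₁, v₁, rfl⟩ := P_exists_rep x
    obtain ⟨n₂, σ₂, v₂, rfl⟩ := P_exists_rep x'
    rw [P_map_mk, P_map_mk] at hxx'
    obtain ⟨k, φ₁, φ₂, y, c₁, c₂, he, hc₁, hc₂, h₁, h₂⟩ := common_subcone _ _ _ _ hxx'
    rw [← app_map, ← app_map] at he
    exact mk_eq_of_common σ₁ σ₂ v₁ v₂ φ₁ φ₂ y c₁ c₂ (hinj k he) hc₁ hc₂ h₁ h₂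
  · intro hsurj y
    obtain ⟨n, τ, v, rfl⟩ := P_exists_rep y
    obtain ⟨σ, rfl⟩ := hsurj n τ
    exact ⟨Fan.P.mk σ v, rfl⟩

end Basic

section Pullback

variable {F F' G : Fan.{u}} (f : F ⟶ G) (g : F' ⟶ G)

/-- Elements of the fibre product of fans from compatible pairs. -/
noncomputable def pullbackElt {k : ICone} (a : F.obj (op k)) (a' : F'.obj (op k))
    (h : f.app _ a = g.app _ a') : (pullback f g).obj (op k) :=
  uliftYonedaEquiv.{u} (pullback.lift (coneMap a) (coneMap a') (by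
    rw [coneMap, coneMap, uliftYonedaEquiv_symm_comp, uliftYonedaEquiv_symm_comp, h]))

lemma pullbackElt_fst {k : ICone} (a : F.obj (op k)) (a' : F'.obj (op k))
    (h : f.app _ a = g.app _ a') :
    (pullback.fst f g).app _ (pullbackElt f g a a' h) = a := by
  rw [pullbackElt, ← uliftYonedaEquiv_comp, pullback.lift_fst, coneMap, Equiv.apply_symm_apply]

lemma pullbackElt_snd {k : ICone} (a : F.obj (op k)) (a' : F'.obj (op k))
    (h : f.app _ a = g.app _ a') :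
    (pullback.snd f g).app _ (pullbackElt f g a a' h) = a' := by
  rw [pullbackElt, ← uliftYonedaEquiv_comp, pullback.lift_snd, coneMap, Equiv.apply_symm_apply]

lemma pullback_condition_apply {k : ICone} (p : (pullback f g).obj (op k)) :
    f.app _ ((pullback.fst f g).app _ p) = g.app _ ((pullback.snd f g).app _ p) := by
  have := congr_fun (congrArg (fun τ => (ConcreteCategory.hom (τ.app (op k)) : _ → _))
    (pullback.condition (f := f) (g := g))) p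
  simpa using this

/-- **S19360.** -/
theorem exists_pullback_point (x : Fan.P F) (x' : Fan.P F')
    (h : Fan.P.map f x = Fan.P.map g x') :
    ∃ y : Fan.P (pullback f g),
      Fan.P.map (pullback.fst f g) y = x ∧ Fan.P.map (pullback.snd f g) y = x' := by
  obtain ⟨n₁, σ₁, v₁, rfl⟩ := P_exists_rep x
  obtain ⟨n₂, σ₂, v₂, rfl⟩ := P_exists_rep x'
  rw [P_map_mk, P_map_mk] at h
  obtain ⟨k, φ₁, φ₂, y, c₁, c₂, he, hc₁, hc₂, h₁, h₂⟩ := common_subcone _ _ _ _ h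
  rw [← app_map, ← app_map] at he
  refine ⟨Fan.P.mk (pullbackElt f g _ _ he) y, ?_, ?_⟩
  · rw [P_map_mk, pullbackElt_fst]
    exact mk_map_eq φ₁ σ₁ y v₁ c₁ hc₁ h₁
  · rw [P_map_mk, pullbackElt_snd]
    exact mk_map_eq φ₂ σ₂ y v₂ c₂ hc₂ h₂

/-- **S19362.** -/
theorem range_P_map {G' : Fan.{u}} (f : F ⟶ G) (g : G' ⟶ G) :
    Set.range (Fan.P.map f) = Set.range (Fan.P.map (Subfunctor.range f).ι) ∧
    Set.range (Fan.P.map (pullback.snd f g)) = Fan.P.map g ⁻¹' Set.range (Fan.P.map f) := by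
  constructor
  · apply Set.eq_of_subset_of_subset
    · rintro _ ⟨x, rfl⟩
      obtain ⟨n, σ, v, rfl⟩ := P_exists_rep x
      exact ⟨Fan.P.mk (F := (Subfunctor.range f).toFunctor) ⟨f.app _ σ, ⟨σ, rfl⟩⟩ v, rfl⟩
    · rintro _ ⟨x, rfl⟩
      obtain ⟨n, ⟨τ, ⟨σ, rfl⟩⟩, v, rfl⟩ := P_exists_rep x
      exact ⟨Fan.P.mk σ v, rfl⟩
  · apply Set.eq_of_subset_of_subset
    · rintro _ ⟨x, rfl⟩
      obtain ⟨n, p, v, rfl⟩ := P_exists_rep x
      refine ⟨Fan.P.mk ((pullback.fst f g).app _ p) v, ?_⟩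
      rw [P_map_mk, P_map_mk, P_map_mk, pullback_condition_apply]
    · rintro y' ⟨x, hx⟩
      obtain ⟨z, _, hz⟩ := exists_pullback_point f g x y' hx
      exact ⟨z, hz⟩

end Pullback

section Realizable

variable (F : Fan.{u})

lemma ι_app_apply (S : Subfunctor F) {n : ICone} (σ : S.toFunctor.obj (op n)) :
    S.ι.app _ σ = σ.1 := rfl

/-- **S19368.** -/
theorem isRealizable_inter_iUnion :
    (∀ U V : Set (Fan.P F), Fan.IsRealizable U → Fan.IsRealizable V → Fan.IsRealizable (U ∩ V)) ∧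
    ∀ (ι : Type u) (U : ι → Set (Fan.P F)), (∀ i, Fan.IsRealizable (U i)) →
      Fan.IsRealizable (Set.iUnion U) := by
  constructor
  · rintro _ _ ⟨S, rfl⟩ ⟨S', rfl⟩
    refine ⟨S ⊓ S', ?_⟩
    apply Set.eq_of_subset_of_subset
    · rintro x ⟨⟨p, hp⟩, ⟨p', hp'⟩⟩
      obtain ⟨n₁, σ₁, v₁, rfl⟩ := P_exists_rep p
      obtain ⟨n₂, σ₂, v₂, rfl⟩ := P_exists_rep p'
      rw [P_map_mk, ι_app_apply] at hp hp'
      have heq : Fan.P.mk σ₁.1 v₁ = Fan.P.mk σ₂.1 v₂ := hp.trans hp'.symm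
      obtain ⟨k, φ₁, φ₂, y, c₁, c₂, he, hc₁, hc₂, h₁, h₂⟩ := common_subcone _ _ _ _ heq
      have hmem : F.map φ₁.op σ₁.1 ∈ (S ⊓ S').obj (op k) :=
        ⟨S.map φ₁.op σ₁.2, by rw [he]; exact S'.map φ₂.op σ₂.2⟩
      refine ⟨Fan.P.mk (F := (S ⊓ S').toFunctor) ⟨F.map φ₁.op σ₁.1, hmem⟩ y, ?_⟩
      rw [← hp]
      exact mk_map_eq φ₁ σ₁.1 y v₁ c₁ hc₁ h₁
    · rintro _ ⟨p, rfl⟩
      obtain ⟨n, σ, v, rfl⟩ := P_exists_rep p
      exact ⟨⟨Fan.P.mk (F := S.toFunctor) ⟨σ.1, σ.2.1⟩ v, rfl⟩,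
        ⟨Fan.P.mk (F := S'.toFunctor) ⟨σ.1, σ.2.2⟩ v, rfl⟩⟩
  · intro ι U hU
    choose S hS using hU
    refine ⟨⨆ i, S i, ?_⟩
    apply Set.eq_of_subset_of_subset
    · intro x hx
      obtain ⟨i, hi⟩ := Set.mem_iUnion.mp hx
      rw [hS i] at hi
      obtain ⟨p, rfl⟩ := hi
      obtain ⟨n, σ, v, rfl⟩ := P_exists_rep p
      have hmem : σ.1 ∈ (⨆ i, S i).obj (op n) := by
        rw [Subfunctor.iSup_obj]
        exact Set.mem_iUnion.mpr ⟨i, σ.2⟩
      exact ⟨Fan.P.mk (F := (⨆ i, S i).toFunctor) ⟨σ.1, hmem⟩ v, rfl⟩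
    · rintro _ ⟨p, rfl⟩
      obtain ⟨n, σ, v, rfl⟩ := P_exists_rep p
      have hmem : σ.1 ∈ ⋃ i, (S i).obj (op n) := by
        have h2 := σ.2
        simpa [Subfunctor.iSup_obj] using h2
      obtain ⟨i, hi⟩ := Set.mem_iUnion.mp hmem
      refine Set.mem_iUnion.mpr ⟨i, ?_⟩
      rw [hS i]
      exact ⟨Fan.P.mk (F := (S i).toFunctor) ⟨σ.1, hi⟩ v, rfl⟩

end Realizable

end Groth.Agent.Lib.Helper97.FanLib
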