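import Mathlib
import Groth.Prelude.Def_W4c6instabfans3Fan
import Groth.Agent.Lib.Helper97.FanLib2

/-!
# Formal fans: quasi-separated fans and finite unions of common sub-simplices (helper97; S19373)
-/

set_option autoImplicit false
set_option linter.unusedSectionVars false
set_option linter.style.haveILetI false
set_option linter.unusedSimpArgs false

namespace Groth.Agent.Lib.Helper97.FanLib

open CategoryTheory Opposite Instab Instab.Fan Limits

universe u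

section QSep

variable {G : Fan.{u}}

/-- A cone morphism as a cone of the representable fan. -/
def yUp {n k : ICone} (φ : k ⟶ n) : (uliftYoneda.{u}.obj n).obj (op k) := ULift.up φ

/-- A cone of the representable fan as a cone morphism. -/
def yDown {n k : ICone} (x : (uliftYoneda.{u}.obj n).obj (op k)) : k ⟶ n := ULift.down x

lemma yUp_yDown {n k : ICone} (x : (uliftYoneda.{u}.obj n).obj (op k)) : yUp (yDown x) = x := rfl

lemma yDown_yUp {n k : ICone} (φ : k ⟶ n) : yDown (yUp.{u} φ) = φ := rfl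

lemma coneMap_app {n k : ICone} (ξ : G.obj (op n)) (x : (uliftYoneda.{u}.obj n).obj (op k)) :
    (coneMap ξ).app _ x = G.map (yDown x).op ξ := by
  simp [coneMap, yDown]

lemma yoneda_map_up {n k m : ICone} (α : m ⟶ k) (φ : k ⟶ n) :
    (uliftYoneda.{u}.obj n).map α.op (yUp φ) = yUp (α ≫ φ) := rfl

/-- In the representable fan, `P.mk ⟨φ⟩ y` determines the ray of `φ y`. -/
lemma ray_of_mk_eq {n k : ICone} (φ : k ⟶ n) (y : Orth k) (v : Orth n)
    (h : Fan.P.mk (yUp.{u} φ) y = Fan.P.mk (yUp.{u} (𝟙 n)) v) :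
    ∃ c : ℝ, 0 < c ∧ v.1 = c • φ.realMap y.1 := by
  obtain ⟨m, φ₁, φ₂, z, c₁, c₂, he, hc₁, hc₂, h₁, h₂⟩ := common_subcone _ _ _ _ h
  rw [yoneda_map_up, yoneda_map_up] at he
  have he' : φ₁ ≫ φ = φ₂ := by
    have := congrArg yDown he
    simpa [yDown_yUp] using this
  refine ⟨c₂ / c₁, div_pos hc₂ hc₁, ?_⟩
  rw [h₂, ← he', realMap_comp, h₁, realMap_smul, smul_smul, div_mul_cancel₀ _ hc₁.ne']

/-- **S19373.** -/
theorem qsep_finite_pairs (hG : G.IsQuasiSeparated)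
    {n n' : ICone} (ξ : G.obj (op n)) (ξ' : G.obj (op n')) :
    ∃ s : Finset (Σ k : ICone, (k ⟶ n) × (k ⟶ n')),
      (∀ e ∈ s, G.map e.2.1.op ξ = G.map e.2.2.op ξ') ∧
      ∀ (v : Fan.Orth n) (w : Fan.Orth n'), Fan.P.mk ξ v = Fan.P.mk ξ' w ↔
        ∃ e ∈ s, ∃ (y : Fan.Orth e.1) (c c' : ℝ), 0 < c ∧ 0 < c' ∧
          v.1 = c • e.2.1.realMap y.1 ∧ w.1 = c' • e.2.2.realMap y.1 := by
  classical
  obtain ⟨s₀, hs₀⟩ := hG n n' ξ ξ'
  let toPair : (Σ k : ICone, (pullback (coneMap ξ) (coneMap ξ')).obj (op k)) →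
      Σ k : ICone, (k ⟶ n) × (k ⟶ n') := fun e =>
    ⟨e.1, yDown ((pullback.fst (coneMap ξ) (coneMap ξ')).app _ e.2),
      yDown ((pullback.snd (coneMap ξ) (coneMap ξ')).app _ e.2)⟩
  have hcomm : ∀ e ∈ s₀.image toPair, G.map e.2.1.op ξ = G.map e.2.2.op ξ' := by
    intro e he
    obtain ⟨e₀, _, rfl⟩ := Finset.mem_image.mp he
    have := pullback_condition_apply (coneMap ξ) (coneMap ξ') e₀.2
    rw [coneMap_app, coneMap_app] at this
    exact this
  refine ⟨s₀.image toPair, hcomm, ?_⟩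
  intro v w
  constructor
  · intro h
    have hx : Fan.P.map (coneMap ξ) (Fan.P.mk (yUp (𝟙 n)) v) = Fan.P.mk ξ v := by
      rw [P_map_mk, coneMap_app, yDown_yUp]; simp
    have hx' : Fan.P.map (coneMap ξ') (Fan.P.mk (yUp (𝟙 n')) w) = Fan.P.mk ξ' w := by
      rw [P_map_mk, coneMap_app, yDown_yUp]; simp
    have hxx' : Fan.P.map (coneMap ξ) (Fan.P.mk (yUp (𝟙 n)) v) =
        Fan.P.map (coneMap ξ') (Fan.P.mk (yUp (𝟙 n')) w) := by rw [hx, hx', h]
    obtain ⟨z, hz₁, hz₂⟩ := exists_pullback_point _ _ _ _ hxx'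
    obtain ⟨e₀, he₀, y, rfl⟩ := hs₀ z
    rw [P_map_mk, ← yUp_yDown ((pullback.fst (coneMap ξ) (coneMap ξ')).app _ e₀.2)] at hz₁
    rw [P_map_mk, ← yUp_yDown ((pullback.snd (coneMap ξ) (coneMap ξ')).app _ e₀.2)] at hz₂
    obtain ⟨c, hc, hv⟩ := ray_of_mk_eq _ y v hz₁
    obtain ⟨c', hc', hw⟩ := ray_of_mk_eq _ y w hz₂
    exact ⟨toPair e₀, Finset.mem_image_of_mem _ he₀, y, c, c', hc, hc', hv, hw⟩
  · rintro ⟨e, he, y, c, c', hc, hc', hv, hw⟩
    exact mk_eq_of_common ξ ξ' v w e.2.1 e.2.2 y c c' (hcomm e he) hc hc' hv hw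

end QSep

end Groth.Agent.Lib.Helper97.FanLib
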