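import Mathlib
import Groth.Prelude.Def_W4c6instabfans3Fan
import Groth.Agent.Lib.Helper97.FanLib3

/-!
# Formal fans: closedness of sub-simplices and density of rational points
(helper97; S19367, S19364)
-/

set_option autoImplicit false
set_option linter.unusedSectionVars false
set_option linter.style.haveILetI false
set_option linter.unusedSimpArgs false

namespace Groth.Agent.Lib.Helper97.FanLib

open CategoryTheory Opposite Instab Instab.Fan Limits

universe u

section Par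

/-- Proportionality of two real vectors, as a closed condition. -/
def Par {n : ℕ} (a u : Fin n → ℝ) : Prop := ∀ i j, a i * u j = a j * u i

lemma par_iff {n : ℕ} (a u : Fin n → ℝ) (ha : ∀ i, 0 ≤ a i) (ha0 : a ≠ 0)
    (hu : ∀ i, 0 ≤ u i) (hu0 : u ≠ 0) :
    Par a u ↔ ∃ c : ℝ, 0 < c ∧ a = c • u := by
  constructor
  · intro h
    obtain ⟨j, hj⟩ := Function.ne_iff.mp hu0
    have huj : 0 < u j := lt_of_le_of_ne (hu j) (Ne.symm hj)
    have hc : a = (a j / u j) • u := by
      funext i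
      simp only [Pi.smul_apply, smul_eq_mul]
      have := h i j
      field_simp
      linarith
    have hcpos : 0 < a j / u j := by
      rcases (div_nonneg (ha j) huj.le).lt_or_eq with h1 | h1
      · exact h1
      · exfalso; apply ha0; rw [hc, ← h1, zero_smul]
    exact ⟨_, hcpos, hc⟩
  · rintro ⟨c, _, rfl⟩ i j
    simp only [Pi.smul_apply, smul_eq_mul]; ring

lemma isClosed_par {X : Type*} [TopologicalSpace X] {n : ℕ} (f g : X → (Fin n → ℝ))
    (hf : Continuous f) (hg : Continuous g) :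
    IsClosed {x | Par (f x) (g x)} := by
  have : {x | Par (f x) (g x)} = ⋂ i, ⋂ j, {x | f x i * g x j = f x j * g x i} := by
    ext x; simp [Par]
  rw [this]
  exact isClosed_iInter fun i => isClosed_iInter fun j =>
    isClosed_eq (((continuous_apply i).comp hf).mul ((continuous_apply j).comp hg))
      (((continuous_apply j).comp hf).mul ((continuous_apply i).comp hg))

end Par

section Closed

variable {m k k' : ICone}

lemma orth_isEmbedding (k : ICone) : Topology.IsEmbedding (fun v : Orth k => v.1) :=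
  Topology.IsEmbedding.subtypeVal

lemma continuous_realMap (φ : m ⟶ k) : Continuous φ.realMap := by
  unfold ICone.Hom.realMap
  exact continuous_pi fun j => continuous_finset_sum _ fun i _ =>
    continuous_const.mul (continuous_apply i)

/-- **Closedness of diagonally embedded sub-simplices.** -/
lemma isClosed_pairs (φ : m ⟶ k) (φ' : m ⟶ k') :
    IsClosed {p : Orth k × Orth k' | ∃ (y : Orth m) (c c' : ℝ), 0 < c ∧ 0 < c' ∧
      p.1.1 = c • φ.realMap y.1 ∧ p.2.1 = c' • φ'.realMap y.1} := by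
  let T : Set (((Fin k.dim → ℝ) × (Fin k'.dim → ℝ)) × stdSimplex ℝ (Fin m.dim)) :=
    {p | Par p.1.1 (φ.realMap p.2.1)} ∩ {p | Par p.1.2 (φ'.realMap p.2.1)}
  have hT : IsClosed T := by
    apply IsClosed.inter
    · exact isClosed_par _ _ (continuous_fst.comp continuous_fst)
        ((continuous_realMap φ).comp (continuous_subtype_val.comp continuous_snd))
    · exact isClosed_par _ _ (continuous_snd.comp continuous_fst)
        ((continuous_realMap φ').comp (continuous_subtype_val.comp continuous_snd))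
  have hQ : IsClosed (Prod.fst '' T) := isClosedMap_fst_of_compactSpace _ hT
  have hcont : Continuous (fun p : Orth k × Orth k' =>
      ((p.1.1, p.2.1) : (Fin k.dim → ℝ) × (Fin k'.dim → ℝ))) :=
    ((orth_isEmbedding k).continuous.comp continuous_fst).prodMk
      ((orth_isEmbedding k').continuous.comp continuous_snd)
  convert hQ.preimage hcont using 1
  ext ⟨v, w⟩
  simp only [Set.mem_setOf_eq, Set.mem_preimage, Set.mem_image]
  constructor
  · rintro ⟨y, c, c', hc, hc', hv, hw⟩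
    have hSpos : 0 < ∑ i, y.1 i := by
      obtain ⟨i, hi⟩ := Function.ne_iff.mp y.2.2
      have h1 : 0 < y.1 i := lt_of_le_of_ne (y.2.1 i) (Ne.symm hi)
      exact lt_of_lt_of_le h1
        (Finset.single_le_sum (f := fun i => y.1 i) (fun i _ => y.2.1 i) (Finset.mem_univ i))
    have hz : (∑ i, y.1 i)⁻¹ • y.1 ∈ stdSimplex ℝ (Fin m.dim) := by
      refine ⟨fun i => ?_, ?_⟩
      · simp only [Pi.smul_apply, smul_eq_mul]
        exact mul_nonneg (inv_nonneg.mpr hSpos.le) (y.2.1 i)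
      · simp only [Pi.smul_apply, smul_eq_mul]
        rw [← Finset.mul_sum, inv_mul_cancel₀ hSpos.ne']
    refine ⟨((v.1, w.1), ⟨_, hz⟩), ⟨?_, ?_⟩, rfl⟩
    · change Par v.1 (φ.realMap ((∑ i, y.1 i)⁻¹ • y.1))
      rw [realMap_smul, hv]
      intro i j
      simp only [Pi.smul_apply, smul_eq_mul]; ring
    · change Par w.1 (φ'.realMap ((∑ i, y.1 i)⁻¹ • y.1))
      rw [realMap_smul, hw]
      intro i j
      simp only [Pi.smul_apply, smul_eq_mul]; ring
  · rintro ⟨⟨⟨a, b⟩, z⟩, ⟨h1, h2⟩, heq⟩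
    obtain ⟨rfl, rfl⟩ := Prod.mk.inj heq
    have hz : (∀ i, 0 ≤ z.1 i) ∧ z.1 ≠ 0 := ⟨z.2.1, fun h0 => by
      have := z.2.2; rw [h0] at this; simp at this⟩
    let y : Orth m := ⟨z.1, hz⟩
    obtain ⟨c, hc, hv⟩ := (par_iff _ _ v.2.1 v.2.2 (realMap_nonneg φ _ hz.1)
      (realMap_ne_zero φ y)).mp h1
    obtain ⟨c', hc', hw⟩ := (par_iff _ _ w.2.1 w.2.2 (realMap_nonneg φ' _ hz.1)
      (realMap_ne_zero φ' y)).mp h2
    exact ⟨y, c, c', hc, hc', hv, hw⟩

/-- Closedness of a single sub-simplex. -/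
lemma isClosed_single (φ : m ⟶ k) :
    IsClosed {v : Orth k | ∃ (y : Orth m) (c : ℝ), 0 < c ∧ v.1 = c • φ.realMap y.1} := by
  have h := (isClosed_pairs φ φ).preimage
    (f := fun v : Orth k => ((v, v) : Orth k × Orth k)) (continuous_id.prodMk continuous_id)
  convert h using 1
  ext v
  simp only [Set.mem_setOf_eq, Set.mem_preimage]
  constructor
  · rintro ⟨y, c, hc, hv⟩
    exact ⟨y, c, c, hc, hc, hv, hv⟩
  · rintro ⟨y, c, c', hc, hc', hv, hw⟩
    exact ⟨y, c, hc, hv⟩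

/-- Closedness of the diagonal part of a sub-simplex. -/
lemma isClosed_diag (φ φ' : m ⟶ k) :
    IsClosed {v : Orth k | ∃ (y : Orth m) (c c' : ℝ), 0 < c ∧ 0 < c' ∧
      v.1 = c • φ.realMap y.1 ∧ v.1 = c' • φ'.realMap y.1} :=
  (isClosed_pairs φ φ').preimage
    (f := fun v : Orth k => ((v, v) : Orth k × Orth k)) (continuous_id.prodMk continuous_id)

/-- **Density of integral points.** -/
lemma forall_mem_of_closed_of_integral (S : Set (Orth k)) (hS : IsClosed S)
    (hscale : ∀ v ∈ S, ∀ (c : ℝ) (w : Orth k), 0 < c → w.1 = c • v.1 → w ∈ S)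
    (hint : ∀ (N : Fin k.dim → ℕ) (r : Orth k), (∀ i, r.1 i = (N i : ℝ)) → r ∈ S) :
    ∀ y : Orth k, y ∈ S := by
  intro y
  have hpos : ∀ j : ℕ, (0:ℝ) < (j:ℝ) + 1 := fun j => by positivity
  let N : ℕ → Fin k.dim → ℕ := fun j i => ⌈y.1 i * ((j:ℝ) + 1)⌉₊
  obtain ⟨i₀, hi₀⟩ := Function.ne_iff.mp y.2.2
  have hyi₀ : 0 < y.1 i₀ := lt_of_le_of_ne (y.2.1 i₀) (Ne.symm hi₀)
  have hN0 : ∀ j, (fun i => (N j i : ℝ)) ≠ 0 := by
    intro j h0
    have h1 : (N j i₀ : ℝ) = 0 := congr_fun h0 i₀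
    have h2 : 0 < N j i₀ := Nat.ceil_pos.mpr (mul_pos hyi₀ (hpos j))
    have : (0:ℝ) < N j i₀ := by exact_mod_cast h2
    linarith
  let r : ℕ → Orth k := fun j => ⟨fun i => (N j i : ℝ), fun i => Nat.cast_nonneg _, hN0 j⟩
  have hu0 : ∀ j : ℕ, ((j:ℝ)+1)⁻¹ • (r j).1 ≠ 0 := by
    intro j h0
    apply hN0 j
    have := congrArg (fun t => ((j:ℝ)+1) • t) h0
    simpa [smul_smul, (hpos j).ne'] using this
  let w : ℕ → Orth k := fun j => ⟨((j:ℝ)+1)⁻¹ • (r j).1, fun i => by
      simp only [Pi.smul_apply, smul_eq_mul]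
      exact mul_nonneg (inv_nonneg.mpr (hpos j).le) (Nat.cast_nonneg _), hu0 j⟩
  have hwS : ∀ j, w j ∈ S := fun j =>
    hscale (r j) (hint (N j) (r j) (fun i => rfl)) _ (w j) (inv_pos.mpr (hpos j)) rfl
  have hlim : Filter.Tendsto w Filter.atTop (nhds y) := by
    rw [(orth_isEmbedding k).tendsto_nhds_iff, tendsto_pi_nhds]
    intro i
    have h1 := tendsto_nat_ceil_mul_div_atTop (R := ℝ) (y.2.1 i)
    have h2 : Filter.Tendsto (fun j : ℕ => (j:ℝ) + 1) Filter.atTop Filter.atTop :=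
      Filter.tendsto_atTop_add_const_right _ _ tendsto_natCast_atTop_atTop
    have h3 := h1.comp h2
    refine h3.congr fun j => ?_
    simp only [Function.comp, w, r, N, Pi.smul_apply, smul_eq_mul]
    rw [div_eq_inv_mul]
  exact hS.mem_of_tendsto hlim (Filter.Eventually.of_forall hwS)

end Closed

section Rational

variable {k : ICone}

lemma exists_ray (N : Fin k.dim → ℕ) (hN : N ≠ 0) :
    ∃ ρ : Fan.one ⟶ k, ρ.realMap (Orth.ones Fan.one).1 = fun i => (N i : ℝ) := by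
  let L : (Fin Fan.one.dim → ℤ) →ₗ[ℤ] (Fin k.dim → ℤ) := matLin fun i _ => N i
  have h1 : ((Fan.one.dim : ℕ+) : ℕ) = 1 := rfl
  have huniq : ∀ l : Fin Fan.one.dim, l = ⟨0, by rw [h1]; exact Nat.one_pos⟩ := by
    intro l
    apply Fin.ext
    have := l.2
    change (l : ℕ) = 0
    omega
  have hL : ∀ (w : Fin Fan.one.dim → ℤ) (i : Fin k.dim),
      L w i = (N i : ℤ) * w ⟨0, by rw [h1]; exact Nat.one_pos⟩ := by
    intro w i
    change ∑ l, (N i : ℤ) * w l = _
    rw [Fintype.sum_eq_single ⟨0, by rw [h1]; exact Nat.one_pos⟩]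
    intro l hl
    exact absurd (huniq l) hl
  have hinj : Function.Injective L := by
    rw [injective_iff_map_eq_zero]
    intro w hw
    obtain ⟨i, hi⟩ := Function.ne_iff.mp hN
    have h2 : L w i = 0 := congr_fun hw i
    rw [hL] at h2
    have hNi : (N i : ℤ) ≠ 0 := by exact_mod_cast hi
    have h3 := (mul_eq_zero.mp h2).resolve_left hNi
    funext l
    rw [huniq l]
    exact h3
  refine ⟨⟨L, hinj, fun w hw i => matLin_nonneg _ w hw i⟩, ?_⟩
  change realMapL L (Orth.ones Fan.one).1 = _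
  funext j
  rw [realMapL_matLin, Fintype.sum_eq_single ⟨0, by rw [h1]; exact Nat.one_pos⟩]
  · simp [Orth.ones]
  · intro l hl
    exact absurd (huniq l) hl

variable {F G : Fan.{u}}

lemma exists_ray' (r : Orth k) (N : Fin k.dim → ℕ) (hr : ∀ i, r.1 i = (N i : ℝ)) :
    ∃ ρ : Fan.one ⟶ k, r.1 = (1 : ℝ) • ρ.realMap (Orth.ones Fan.one).1 := by
  have hN : N ≠ 0 := by
    intro h0
    apply r.2.2
    funext i
    rw [hr i, h0]
    simp
  obtain ⟨ρ, hρ⟩ := exists_ray N hN
  refine ⟨ρ, ?_⟩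
  rw [one_smul, hρ]
  funext i
  exact hr i

lemma mk_smul_eq {n : ICone} (ξ : F.obj (op n)) (v w : Orth n) (c : ℝ) (hc : 0 < c)
    (hw : w.1 = c • v.1) : Fan.P.mk ξ v = Fan.P.mk ξ w := by
  have hr := Fan.Rel.glue (F := F) (𝟙 n) ξ v w c hc (by rw [realMap_id]; exact hw)
  have e : F.map (𝟙 n).op ξ = ξ := by simp
  rw [e] at hr
  exact Quot.sound hr

/-- **S19367.** -/
theorem injective_iff_rational (ψ : F ⟶ G) (hF : F.IsQuasiSeparated) :
    Function.Injective (Fan.P.map ψ) ↔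
      ∀ x y : Fan.P F, x.IsRational → y.IsRational → Fan.P.map ψ x = Fan.P.map ψ y → x = y := by
  constructor
  · intro h x y _ _ hxy
    exact h hxy
  · intro H x x' hxx'
    obtain ⟨n₁, ξ, v, rfl⟩ := P_exists_rep x
    obtain ⟨n₂, ξ', w, rfl⟩ := P_exists_rep x'
    rw [P_map_mk, P_map_mk] at hxx'
    obtain ⟨k, φ₁, φ₂, y₀, c₁, c₂, he, hc₁, hc₂, h₁, h₂⟩ := common_subcone _ _ _ _ hxx'
    rw [← app_map, ← app_map] at he
    rw [← mk_map_eq φ₁ ξ y₀ v c₁ hc₁ h₁, ← mk_map_eq φ₂ ξ' y₀ w c₂ hc₂ h₂]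
    generalize F.map φ₁.op ξ = a at he ⊢
    generalize F.map φ₂.op ξ' = a' at he ⊢
    -- the set of points where the two cells agree
    obtain ⟨s, -, hs⟩ := qsep_finite_pairs hF a a'
    have hD : {y : Orth k | Fan.P.mk a y = Fan.P.mk a' y} =
        ⋃ e ∈ s, {v : Orth k | ∃ (y : Orth e.1) (c c' : ℝ), 0 < c ∧ 0 < c' ∧
          v.1 = c • e.2.1.realMap y.1 ∧ v.1 = c' • e.2.2.realMap y.1} := by
      ext y
      simp only [Set.mem_setOf_eq, Set.mem_iUnion, exists_prop]
      exact hs y y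
    have hclosed : IsClosed {y : Orth k | Fan.P.mk a y = Fan.P.mk a' y} := by
      rw [hD]
      exact s.finite_toSet.isClosed_biUnion fun e _ => isClosed_diag e.2.1 e.2.2
    refine forall_mem_of_closed_of_integral _ hclosed ?_ ?_ y₀
    · intro v hv c w hc hw
      change Fan.P.mk a w = Fan.P.mk a' w
      rw [← mk_smul_eq a v w c hc hw, ← mk_smul_eq a' v w c hc hw]
      exact hv
    · intro N r hr
      obtain ⟨ρ, hρ⟩ := exists_ray' r N hr
      change Fan.P.mk a r = Fan.P.mk a' r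
      rw [← mk_map_eq ρ a (Orth.ones Fan.one) r 1 one_pos hρ,
        ← mk_map_eq ρ a' (Orth.ones Fan.one) r 1 one_pos hρ]
      apply H _ _ ⟨_, rfl⟩ ⟨_, rfl⟩
      rw [P_map_mk, P_map_mk, app_map, app_map, he]

/-- For a bounded map, the part of the image lying in a rational simplex is a finite union of
sub-simplices (third clause of S19363). -/
theorem image_cell_eq (ψ : F ⟶ G) (hψ : Fan.IsBoundedMap ψ) (n : ICone) (ξ : G.obj (op n)) :
    ∃ s : Finset (Σ k : ICone, k ⟶ n),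
      {v : Fan.Orth n | Fan.P.mk ξ v ∈ Set.range (Fan.P.map ψ)} =
        ⋃ e ∈ s, {v : Fan.Orth n | ∃ (y : Fan.Orth e.1) (c : ℝ), 0 < c ∧
          v.1 = c • e.2.realMap y.1} := by
  classical
  obtain ⟨s₀, hs₀⟩ := hψ n ξ
  let toHom : (Σ k : ICone, (pullback ψ (coneMap ξ)).obj (op k)) → Σ k : ICone, k ⟶ n :=
    fun e => ⟨e.1, yDown ((pullback.snd ψ (coneMap ξ)).app _ e.2)⟩
  refine ⟨s₀.image toHom, ?_⟩
  ext v
  simp only [Set.mem_setOf_eq, Set.mem_iUnion, exists_prop]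
  constructor
  · rintro ⟨x, hx⟩
    have hx' : Fan.P.map (coneMap ξ) (Fan.P.mk (yUp (𝟙 n)) v) = Fan.P.mk ξ v := by
      rw [P_map_mk, coneMap_app, yDown_yUp]; simp
    obtain ⟨z, -, hz₂⟩ := exists_pullback_point ψ (coneMap ξ) x _ (hx.trans hx'.symm)
    obtain ⟨e₀, he₀, y, rfl⟩ := hs₀ z
    rw [P_map_mk, ← yUp_yDown ((pullback.snd ψ (coneMap ξ)).app _ e₀.2)] at hz₂
    obtain ⟨c, hc, hv⟩ := ray_of_mk_eq _ y v hz₂
    exact ⟨toHom e₀, Finset.mem_image_of_mem _ he₀, y, c, hc, hv⟩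
  · rintro ⟨e, he, y, c, hc, hv⟩
    obtain ⟨e₀, -, rfl⟩ := Finset.mem_image.mp he
    refine ⟨Fan.P.mk ((pullback.fst ψ (coneMap ξ)).app _ e₀.2) y, ?_⟩
    rw [P_map_mk, pullback_condition_apply, coneMap_app]
    exact mk_map_eq _ ξ y v c hc hv

/-- **S19364.** -/
theorem surjective_iff_rational (ψ : F ⟶ G) (hψ : Fan.IsBoundedMap ψ) :
    Function.Surjective (Fan.P.map ψ) ↔
      ∀ y : Fan.P G, y.IsRational → y ∈ Set.range (Fan.P.map ψ) := by
  constructor
  · intro h y _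
    exact h y
  · intro H x
    obtain ⟨n, ξ, v, rfl⟩ := P_exists_rep x
    obtain ⟨s, hs⟩ := image_cell_eq ψ hψ n ξ
    have hclosed : IsClosed {v : Fan.Orth n | Fan.P.mk ξ v ∈ Set.range (Fan.P.map ψ)} := by
      rw [hs]
      exact s.finite_toSet.isClosed_biUnion fun e _ => isClosed_single e.2
    refine forall_mem_of_closed_of_integral _ hclosed ?_ ?_ v
    · intro v hv c w hc hw
      change Fan.P.mk ξ w ∈ Set.range (Fan.P.map ψ)
      rw [← mk_smul_eq ξ v w c hc hw]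
      exact hv
    · intro N r hr
      obtain ⟨ρ, hρ⟩ := exists_ray' r N hr
      change Fan.P.mk ξ r ∈ Set.range (Fan.P.map ψ)
      rw [← mk_map_eq ρ ξ (Orth.ones Fan.one) r 1 one_pos hρ]
      exact H _ ⟨_, rfl⟩

end Rational

end Groth.Agent.Lib.Helper97.FanLib
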