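import Mathlib
import Groth.Prelude.Def_W4c6instabfans3Fan
import Groth.Agent.Lib.Helper97.FanLib4

/-!
# Formal fans: topology of the projective realization
(helper97; S19363, S19365, S19366)
-/

set_option autoImplicit false
set_option linter.unusedSectionVars false
set_option linter.style.haveILetI false
set_option linter.unusedSimpArgs false

namespace Groth.Agent.Lib.Helper97.FanLib

open CategoryTheory Opposite Instab Instab.Fan Limits

universe u

section Topology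

variable {F G : Fan.{u}}

lemma continuous_mk {n : ICone} (ξ : F.obj (op n)) : Continuous (Fan.P.mk ξ) :=
  (continuous_quot_mk (r := Rel F)).comp
    (continuous_sigmaMk (σ := fun e : (Σ n : ICone, F.obj (op n)) => Orth e.1) (i := ⟨n, ξ⟩))

lemma isClosed_iff_cells (S : Set (Fan.P F)) :
    IsClosed S ↔ ∀ (n : ICone) (ξ : F.obj (op n)), IsClosed (Fan.P.mk ξ ⁻¹' S) := by
  constructor
  · intro h n ξ
    exact h.preimage (continuous_mk ξ)
  · intro h
    have h1 : IsClosed ((fun p : Pt F => (Quot.mk (Rel F) p : Fan.P F)) ⁻¹' S) := by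
      refine (isClosed_sigma_iff
        (σ := fun e : (Σ n : ICone, F.obj (op n)) => Orth e.1)).mpr ?_
      rintro ⟨n, ξ⟩
      exact h n ξ
    exact (show Topology.IsQuotientMap (fun p : Pt F => (Quot.mk (Rel F) p : Fan.P F)) from
      isQuotientMap_quot_mk).isClosed_preimage.mp h1

lemma continuous_P_map (f : F ⟶ G) : Continuous (Fan.P.map f) := by
  rw [continuous_iff_isClosed]
  intro S hS
  rw [isClosed_iff_cells]
  intro n ξ
  exact (isClosed_iff_cells S).mp hS n (f.app _ ξ)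

/-- The simplex as a subset of the punctured orthant. -/
def simplexToOrth (m : ICone) (z : stdSimplex ℝ (Fin m.dim)) : Orth m :=
  ⟨z.1, z.2.1, fun h0 => by have := z.2.2; rw [h0] at this; simp at this⟩

lemma continuous_simplexToOrth (m : ICone) : Continuous (simplexToOrth m) := by
  rw [(orth_isEmbedding m).continuous_iff]
  exact continuous_subtype_val

lemma sum_pos_of_orth {m : ICone} (y : Orth m) : 0 < ∑ i, y.1 i := by
  obtain ⟨i, hi⟩ := Function.ne_iff.mp y.2.2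
  have h1 : 0 < y.1 i := lt_of_le_of_ne (y.2.1 i) (Ne.symm hi)
  exact lt_of_lt_of_le h1
    (Finset.single_le_sum (f := fun i => y.1 i) (fun i _ => y.2.1 i) (Finset.mem_univ i))

lemma normalize_mem {m : ICone} (y : Orth m) :
    (∑ i, y.1 i)⁻¹ • y.1 ∈ stdSimplex ℝ (Fin m.dim) := by
  have hSpos := sum_pos_of_orth y
  refine ⟨fun i => ?_, ?_⟩
  · simp only [Pi.smul_apply, smul_eq_mul]
    exact mul_nonneg (inv_nonneg.mpr hSpos.le) (y.2.1 i)
  · simp only [Pi.smul_apply, smul_eq_mul]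
    rw [← Finset.mul_sum, inv_mul_cancel₀ hSpos.ne']

/-- **The cone over the image of a closed scale-invariant set is closed.** -/
lemma isClosed_cone_image {m n : ICone} (φ : m ⟶ n) (C : Set (Orth m)) (hC : IsClosed C)
    (hscale : ∀ v ∈ C, ∀ (c : ℝ) (w : Orth m), 0 < c → w.1 = c • v.1 → w ∈ C) :
    IsClosed {v : Orth n | ∃ y ∈ C, ∃ c : ℝ, 0 < c ∧ v.1 = c • φ.realMap y.1} := by
  let T : Set ((Fin n.dim → ℝ) × stdSimplex ℝ (Fin m.dim)) :=
    {p | simplexToOrth m p.2 ∈ C} ∩ {p | Par p.1 (φ.realMap p.2.1)}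
  have hT : IsClosed T :=
    IsClosed.inter (hC.preimage ((continuous_simplexToOrth m).comp continuous_snd))
      (isClosed_par _ _ continuous_fst
        ((continuous_realMap φ).comp (continuous_subtype_val.comp continuous_snd)))
  have hQ : IsClosed (Prod.fst '' T) := isClosedMap_fst_of_compactSpace _ hT
  convert hQ.preimage (orth_isEmbedding n).continuous using 1
  ext v
  simp only [Set.mem_setOf_eq, Set.mem_preimage, Set.mem_image]
  constructor
  · rintro ⟨y, hy, c, hc, hv⟩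
    have hSpos := sum_pos_of_orth y
    refine ⟨(v.1, ⟨_, normalize_mem y⟩), ⟨?_, ?_⟩, rfl⟩
    · exact hscale y hy (∑ i, y.1 i)⁻¹ _ (inv_pos.mpr hSpos) rfl
    · change Par v.1 (φ.realMap ((∑ i, y.1 i)⁻¹ • y.1))
      rw [realMap_smul, hv]
      intro i j
      simp only [Pi.smul_apply, smul_eq_mul]; ring
  · rintro ⟨⟨a, z⟩, ⟨h1, h2⟩, heq⟩
    change a = v.1 at heq
    subst heq
    obtain ⟨c, hc, hv⟩ := (par_iff _ _ v.2.1 v.2.2
      (realMap_nonneg φ _ (simplexToOrth m z).2.1)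
      (realMap_ne_zero φ (simplexToOrth m z))).mp h2
    exact ⟨simplexToOrth m z, h1, c, hc, hv⟩

lemma continuous_pushOrth {m n : ICone} (φ : m ⟶ n) : Continuous (pushOrth φ) := by
  rw [(orth_isEmbedding n).continuous_iff]
  exact (continuous_realMap φ).comp (orth_isEmbedding m).continuous

/-- Cone morphisms are injective on real points of the orthant. -/
lemma realMap_injOn {m n : ICone} (φ : m ⟶ n) (y₁ y₂ : Orth m)
    (h : φ.realMap y₁.1 = φ.realMap y₂.1) : y₁.1 = y₂.1 := by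
  obtain ⟨M, α, β, z, hαβ, hα, hβ⟩ := exists_common_refinement φ φ y₁ y₂ h
  have hab : α = β := by
    apply ICone.Hom.ext
    apply LinearMap.ext
    intro w
    apply φ.injective
    exact congrArg (fun f => f.toLin w) hαβ
  rw [← hα, ← hβ, hab]

/-- **S19363 (a).** -/
theorem isClosedMap_of_bounded (ψ : F ⟶ G) (hψ : Fan.IsBoundedMap ψ) :
    IsClosedMap (Fan.P.map ψ) := by
  intro C hC
  rw [isClosed_iff_cells]
  intro n ξ
  obtain ⟨s₀, hs₀⟩ := hψ n ξ
  have hpre : Fan.P.mk ξ ⁻¹' (Fan.P.map ψ '' C) = ⋃ e ∈ s₀, {v : Orth n |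
      ∃ y ∈ {y : Orth e.1 | Fan.P.mk ((pullback.fst ψ (coneMap ξ)).app _ e.2) y ∈ C},
        ∃ c : ℝ, 0 < c ∧
          v.1 = c • (yDown ((pullback.snd ψ (coneMap ξ)).app _ e.2)).realMap y.1} := by
    ext v
    simp only [Set.mem_preimage, Set.mem_image, Set.mem_iUnion, Set.mem_setOf_eq, exists_prop]
    constructor
    · rintro ⟨x, hxC, hx⟩
      have hx' : Fan.P.map (coneMap ξ) (Fan.P.mk (yUp (𝟙 n)) v) = Fan.P.mk ξ v := by
        rw [P_map_mk, coneMap_app, yDown_yUp]; simp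
      obtain ⟨z, hz₁, hz₂⟩ := exists_pullback_point ψ (coneMap ξ) x _ (hx.trans hx'.symm)
      obtain ⟨e₀, he₀, y, rfl⟩ := hs₀ z
      rw [P_map_mk] at hz₁
      rw [P_map_mk, ← yUp_yDown ((pullback.snd ψ (coneMap ξ)).app _ e₀.2)] at hz₂
      obtain ⟨c, hc, hv⟩ := ray_of_mk_eq _ y v hz₂
      exact ⟨e₀, he₀, y, by rw [hz₁]; exact hxC, c, hc, hv⟩
    · rintro ⟨e₀, he₀, y, hy, c, hc, hv⟩
      refine ⟨_, hy, ?_⟩
      rw [P_map_mk, pullback_condition_apply, coneMap_app]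
      exact mk_map_eq _ ξ y v c hc hv
  rw [hpre]
  refine s₀.finite_toSet.isClosed_biUnion fun e _ =>
    isClosed_cone_image _ _ (hC.preimage (continuous_mk _)) ?_
  intro v hv c w hc hw
  change Fan.P.mk _ w ∈ C
  rw [← mk_smul_eq _ v w c hc hw]
  exact hv

/-- **S19363 (b).** -/
theorem finite_fibre_of_bounded (ψ : F ⟶ G) (hψ : Fan.IsBoundedMap ψ) (y : Fan.P G) :
    (Fan.P.map ψ ⁻¹' {y}).Finite := by
  classical
  obtain ⟨n, ξ, v, rfl⟩ := P_exists_rep y
  obtain ⟨s₀, hs₀⟩ := hψ n ξ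
  let g : (Σ k : ICone, (pullback ψ (coneMap ξ)).obj (op k)) → Fan.P F := fun e =>
    if h : ∃ (y' : Orth e.1) (c : ℝ), 0 < c ∧
        v.1 = c • (yDown ((pullback.snd ψ (coneMap ξ)).app _ e.2)).realMap y'.1 then
      Fan.P.mk ((pullback.fst ψ (coneMap ξ)).app _ e.2) h.choose
    else Fan.P.mk ((pullback.fst ψ (coneMap ξ)).app _ e.2) (Orth.ones e.1)
  refine (s₀.finite_toSet.image g).subset ?_
  intro x hx
  have hx : Fan.P.map ψ x = Fan.P.mk ξ v := hx
  have hx' : Fan.P.map (coneMap ξ) (Fan.P.mk (yUp (𝟙 n)) v) = Fan.P.mk ξ v := by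
    rw [P_map_mk, coneMap_app, yDown_yUp]; simp
  obtain ⟨z, hz₁, hz₂⟩ := exists_pullback_point ψ (coneMap ξ) x _ (hx.trans hx'.symm)
  obtain ⟨e₀, he₀, y₂, rfl⟩ := hs₀ z
  rw [P_map_mk] at hz₁
  rw [P_map_mk, ← yUp_yDown ((pullback.snd ψ (coneMap ξ)).app _ e₀.2)] at hz₂
  obtain ⟨c₂, hc₂, hv₂⟩ := ray_of_mk_eq _ y₂ v hz₂
  refine ⟨e₀, he₀, ?_⟩
  have hex : ∃ (y' : Orth e₀.1) (c : ℝ), 0 < c ∧
      v.1 = c • (yDown ((pullback.snd ψ (coneMap ξ)).app _ e₀.2)).realMap y'.1 :=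
    ⟨y₂, c₂, hc₂, hv₂⟩
  change (if h : ∃ (y' : Orth e₀.1) (c : ℝ), 0 < c ∧
        v.1 = c • (yDown ((pullback.snd ψ (coneMap ξ)).app _ e₀.2)).realMap y'.1 then
      Fan.P.mk ((pullback.fst ψ (coneMap ξ)).app _ e₀.2) h.choose
    else Fan.P.mk ((pullback.fst ψ (coneMap ξ)).app _ e₀.2) (Orth.ones e₀.1)) = x
  rw [dif_pos hex, ← hz₁]
  obtain ⟨c₁, hc₁, hv₁⟩ := hex.choose_spec
  set y₁ := hex.choose
  set φ := yDown ((pullback.snd ψ (coneMap ξ)).app _ e₀.2)
  -- `y₂ = (c₁ / c₂) • y₁`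
  have hne : (c₁ / c₂) • y₁.1 ≠ 0 := by
    intro h0
    apply y₁.2.2
    have := congrArg (fun t => (c₂ / c₁) • t) h0
    simpa [smul_smul, hc₁.ne', hc₂.ne'] using this
  let w : Orth e₀.1 := ⟨(c₁ / c₂) • y₁.1, fun i => by
    simp only [Pi.smul_apply, smul_eq_mul]
    exact mul_nonneg (div_pos hc₁ hc₂).le (y₁.2.1 i), hne⟩
  have hw : φ.realMap w.1 = φ.realMap y₂.1 := by
    change φ.realMap ((c₁ / c₂) • y₁.1) = _
    rw [realMap_smul]
    have h3 : c₁ • φ.realMap y₁.1 = c₂ • φ.realMap y₂.1 := hv₁.symm.trans hv₂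
    have h4 := congrArg (fun t => c₂⁻¹ • t) h3
    simp only [smul_smul, inv_mul_cancel₀ hc₂.ne', one_smul] at h4
    rw [← h4, div_eq_inv_mul]
  have hwy : w.1 = y₂.1 := realMap_injOn φ w y₂ hw
  exact mk_smul_eq _ y₁ y₂ (c₁ / c₂) (div_pos hc₁ hc₂) hwy.symm

/-- **S19365.** -/
theorem isClosedEmbedding_of_bounded_injective (ψ : F ⟶ G) (hψ : Fan.IsBoundedMap ψ)
    (hinj : ∀ n : ICone, Function.Injective (ψ.app (op n))) :
    Topology.IsClosedEmbedding (Fan.P.map ψ) :=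
  Topology.IsClosedEmbedding.of_continuous_injective_isClosedMap (continuous_P_map ψ)
    ((P_map_injective_surjective ψ).1 hinj) (isClosedMap_of_bounded ψ hψ)

/-- **S19366.** -/
theorem qsep_closed_cells (hF : F.IsQuasiSeparated) :
    (∀ (n : ICone) (ξ : F.obj (op n)) (S : Set (Fan.Orth n)), IsClosed S →
      (∀ v w : Fan.Orth n, v ∈ S → ∀ c : ℝ, 0 < c → w.1 = c • v.1 → w ∈ S) →
        IsClosed (Fan.P.mk ξ '' S)) ∧
    ∀ S : Set (Fan.P F), IsClosed S ↔
      ∀ (n : ICone) (ξ : F.obj (op n)), IsClosed (S ∩ Fan.P.cell ξ) := by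
  have part1 : ∀ (n : ICone) (ξ : F.obj (op n)) (S : Set (Fan.Orth n)), IsClosed S →
      (∀ v w : Fan.Orth n, v ∈ S → ∀ c : ℝ, 0 < c → w.1 = c • v.1 → w ∈ S) →
        IsClosed (Fan.P.mk ξ '' S) := by
    intro n ξ S hS hscale
    rw [isClosed_iff_cells]
    intro n' ξ'
    obtain ⟨s, -, hs⟩ := qsep_finite_pairs hF ξ ξ'
    have hpre : Fan.P.mk ξ' ⁻¹' (Fan.P.mk ξ '' S) = ⋃ e ∈ s, {w : Orth n' |
        ∃ y ∈ {y : Orth e.1 | pushOrth e.2.1 y ∈ S},
          ∃ c : ℝ, 0 < c ∧ w.1 = c • e.2.2.realMap y.1} := by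
      ext w
      simp only [Set.mem_preimage, Set.mem_image, Set.mem_iUnion, Set.mem_setOf_eq, exists_prop]
      constructor
      · rintro ⟨v, hvS, hvw⟩
        obtain ⟨e, he, y, c, c', hc, hc', hv, hw⟩ := (hs v w).mp hvw
        refine ⟨e, he, y, ?_, c', hc', hw⟩
        refine hscale v _ hvS c⁻¹ (inv_pos.mpr hc) ?_
        change e.2.1.realMap y.1 = c⁻¹ • v.1
        rw [hv, smul_smul, inv_mul_cancel₀ hc.ne', one_smul]
      · rintro ⟨e, he, y, hy, c', hc', hw⟩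
        refine ⟨pushOrth e.2.1 y, hy, ?_⟩
        exact (hs _ w).mpr ⟨e, he, y, 1, c', one_pos, hc', (one_smul _ _).symm, hw⟩
    rw [hpre]
    refine s.finite_toSet.isClosed_biUnion fun e _ =>
      isClosed_cone_image _ _ (hS.preimage (continuous_pushOrth _)) ?_
    intro v hv c w hc hw
    refine hscale _ _ hv c hc ?_
    change e.2.1.realMap w.1 = c • e.2.1.realMap v.1
    rw [hw, realMap_smul]
  refine ⟨part1, fun S => ⟨fun hS n ξ => ?_, fun h => ?_⟩⟩
  · refine hS.inter ?_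
    have := part1 n ξ Set.univ isClosed_univ (fun _ _ _ _ _ _ => Set.mem_univ _)
    rwa [Set.image_univ] at this
  · rw [isClosed_iff_cells]
    intro n ξ
    have h1 := (h n ξ).preimage (continuous_mk ξ)
    convert h1 using 1
    ext v
    simp only [Set.mem_preimage, Set.mem_inter_iff, Fan.P.cell, Set.mem_range, exists_apply_eq_apply,
      and_true]

end Topology

end Groth.Agent.Lib.Helper97.FanLib
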