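import Mathlib
import Groth.Prelude.Def_W4c6instabfans3Fan
import Groth.Agent.Lib.Helper97.FanLib5

/-!
# Formal fans: quasi-separated fans and bounded maps (helper97; S19359)
-/

set_option autoImplicit false
set_option linter.unusedSectionVars false
set_option linter.style.haveILetI false
set_option linter.unusedSimpArgs false

namespace Groth.Agent.Lib.Helper97.FanLib

open CategoryTheory Opposite Instab Instab.Fan Limits

universe u

section BoundedMaps

variable {F F' G : Fan.{u}}

lemma pullback_elt_ext (f : F ⟶ G) (g : F' ⟶ G) {k : ICone} (p q : (pullback f g).obj (op k))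
    (h1 : (pullback.fst f g).app _ p = (pullback.fst f g).app _ q)
    (h2 : (pullback.snd f g).app _ p = (pullback.snd f g).app _ q) : p = q := by
  apply uliftYonedaEquiv.{u}.symm.injective
  apply pullback.hom_ext
  · rw [uliftYonedaEquiv_symm_comp, uliftYonedaEquiv_symm_comp, h1]
  · rw [uliftYonedaEquiv_symm_comp, uliftYonedaEquiv_symm_comp, h2]

lemma lift_app_fst {H : Fan.{u}} (f : F ⟶ G) (g : F' ⟶ G) (a : H ⟶ F) (b : H ⟶ F')
    (h : a ≫ f = b ≫ g) {k : ICone} (x : H.obj (op k)) :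
    (pullback.fst f g).app _ ((pullback.lift a b h).app _ x) = a.app _ x := by
  have := congr_fun (congrArg (fun τ => (ConcreteCategory.hom (τ.app (op k)) : _ → _))
    (pullback.lift_fst a b h)) x
  simpa using this

lemma lift_app_snd {H : Fan.{u}} (f : F ⟶ G) (g : F' ⟶ G) (a : H ⟶ F) (b : H ⟶ F')
    (h : a ≫ f = b ≫ g) {k : ICone} (x : H.obj (op k)) :
    (pullback.snd f g).app _ ((pullback.lift a b h).app _ x) = b.app _ x := by
  have := congr_fun (congrArg (fun τ => (ConcreteCategory.hom (τ.app (op k)) : _ → _))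
    (pullback.lift_snd a b h)) x
  simpa using this

lemma comp_app_apply {H : Fan.{u}} (a : H ⟶ F) (b : F ⟶ G) {k : ICone} (x : H.obj (op k)) :
    (a ≫ b).app _ x = b.app _ (a.app _ x) := by
  simp

lemma isBounded_yoneda (n : ICone) : Fan.IsBounded (uliftYoneda.{u}.obj n) := by
  refine ⟨{⟨n, yUp (𝟙 n)⟩}, fun x => ?_⟩
  obtain ⟨k, σ, v, rfl⟩ := P_exists_rep x
  refine ⟨_, Finset.mem_singleton_self _, pushOrth (yDown σ) v, ?_⟩
  have := mk_map_eq (F := uliftYoneda.{u}.obj n) (yDown σ) (yUp (𝟙 n)) v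
    (pushOrth (yDown σ) v) 1 one_pos (by rw [one_smul]; rfl)
  rw [yoneda_map_up, Category.comp_id, yUp_yDown] at this
  exact this.symm

/-- **S19359.** -/
theorem qsep_iff_bounded_maps (G : Fan.{u}) :
    G.IsQuasiSeparated ↔
      ∀ (F : Fan.{u}) (f : F ⟶ G), F.IsBounded → Fan.IsBoundedMap f := by
  classical
  constructor
  · intro hG F f hF n σ
    obtain ⟨s, hs⟩ := hF
    -- base change of each covering cone
    let S : (e : Σ m : ICone, F.obj (op m)) →
        Finset (Σ k : ICone, (pullback (coneMap (f.app _ e.2)) (coneMap σ)).obj (op k)) :=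
      fun e => (hG e.1 n (f.app _ e.2) σ).choose
    have hS : ∀ (e : Σ m : ICone, F.obj (op m))
        (x : Fan.P (pullback (coneMap (f.app _ e.2)) (coneMap σ))),
        ∃ r ∈ S e, x ∈ Fan.P.cell r.2 := fun e => (hG e.1 n (f.app _ e.2) σ).choose_spec
    have hcond : ∀ e : Σ m : ICone, F.obj (op m),
        (pullback.fst (coneMap (f.app _ e.2)) (coneMap σ) ≫ coneMap e.2) ≫ f =
          pullback.snd (coneMap (f.app _ e.2)) (coneMap σ) ≫ coneMap σ := by
      intro e
      rw [Category.assoc, ← pullback.condition]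
      congr 1
      exact uliftYonedaEquiv_symm_comp.{u} (C := ICone) e.2 f
    let Φ : (e : Σ m : ICone, F.obj (op m)) →
        (pullback (coneMap (f.app _ e.2)) (coneMap σ) ⟶ pullback f (coneMap σ)) := fun e =>
      pullback.lift (pullback.fst _ _ ≫ coneMap e.2) (pullback.snd _ _) (hcond e)
    refine ⟨s.biUnion fun e => (S e).image fun r => ⟨r.1, (Φ e).app _ r.2⟩, ?_⟩
    intro z
    obtain ⟨k, p, y, rfl⟩ := P_exists_rep z
    obtain ⟨e, he, u, hu⟩ := hs (Fan.P.mk ((pullback.fst f (coneMap σ)).app _ p) y)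
    obtain ⟨k', φ₂, φ₁, y', c₂, c₁, hφ, hc₂, hc₁, hu', hy⟩ := common_subcone _ _ _ _ hu
    -- restrict `p` along `φ₁`
    have hz : Fan.P.mk ((pullback f (coneMap σ)).map φ₁.op p) y' = Fan.P.mk p y :=
      mk_map_eq φ₁ p y' y c₁ hc₁ hy
    have hfst : (pullback.fst f (coneMap σ)).app _ ((pullback f (coneMap σ)).map φ₁.op p) =
        F.map φ₂.op e.2 := by
      rw [app_map, hφ]
    have hq : (coneMap (f.app _ e.2)).app _ (yUp φ₂) =
        (coneMap σ).app _ ((pullback.snd f (coneMap σ)).app _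
          ((pullback f (coneMap σ)).map φ₁.op p)) := by
      rw [← pullback_condition_apply, hfst, coneMap_app, yDown_yUp, app_map]
    obtain ⟨r, hr, t, ht⟩ := hS e (Fan.P.mk (pullbackElt _ _ _ _ hq) y')
    have hΦq : (Φ e).app _ (pullbackElt _ _ _ _ hq) = (pullback f (coneMap σ)).map φ₁.op p := by
      apply pullback_elt_ext
      · rw [lift_app_fst, comp_app_apply, pullbackElt_fst, hfst, coneMap_app, yDown_yUp]
      · rw [lift_app_snd, pullbackElt_snd]
    have hfin := congrArg (Fan.P.map (Φ e)) ht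
    rw [P_map_mk, P_map_mk, hΦq, hz] at hfin
    refine ⟨⟨r.1, (Φ e).app _ r.2⟩, ?_, t, hfin⟩
    exact Finset.mem_biUnion.mpr ⟨e, he, Finset.mem_image_of_mem _ hr⟩
  · intro H n₀ n₁ σ₀ σ₁
    exact H _ (coneMap σ₀) (isBounded_yoneda n₀) n₁ σ₁

end BoundedMaps

end Groth.Agent.Lib.Helper97.FanLib
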