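import Mathlib
import Groth.Prelude.Def_W4c6instabfans3Fan
import Groth.Prelude.Def_W4c6instabfans3FanCvx
import Groth.Agent.Lib.Helper97.FanLib5

/-!
# Formal fans: rational local maxima of quasi-concave functions (helper97; S19370)
-/

set_option autoImplicit false
set_option linter.unusedSectionVars false
set_option linter.style.haveILetI false
set_option linter.unusedSimpArgs false

namespace Groth.Agent.Lib.Helper97.FanLib

open CategoryTheory Opposite Instab Instab.Fan Limits

universe u v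

section Convex

variable {F : Fan.{u}}

/-- Positive combinations of two points of the punctured orthant. -/
def combo {n : ICone} (a b : ℝ) (ha : 0 < a) (hb : 0 < b) (v₀ v₂ : Orth n) : Orth n :=
  ⟨a • v₀.1 + b • v₂.1, fun i => by
    simp only [Pi.add_apply, Pi.smul_apply, smul_eq_mul]
    exact add_nonneg (mul_nonneg ha.le (v₀.2.1 i)) (mul_nonneg hb.le (v₂.2.1 i)), fun h0 => by
    obtain ⟨i, hi⟩ := Function.ne_iff.mp v₀.2.2
    have h1 : 0 < v₀.1 i := lt_of_le_of_ne (v₀.2.1 i) (Ne.symm hi)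
    have h2 := congr_fun h0 i
    simp only [Pi.add_apply, Pi.smul_apply, smul_eq_mul, Pi.zero_apply] at h2
    have h3 : 0 < a * v₀.1 i := mul_pos ha h1
    have h4 : 0 ≤ b * v₂.1 i := mul_nonneg hb.le (v₂.2.1 i)
    linarith⟩

lemma basis_not_prop : ¬ ∃ c : ℝ, (Orth.basis two 1).1 = c • (Orth.basis two 0).1 := by
  rintro ⟨c, hc⟩
  have h := congr_fun hc 1
  unfold Orth.basis at h
  simp only [Pi.smul_apply, smul_eq_mul] at h
  have h10 : ¬ ((1 : Fin two.dim) = 0) := by decide
  rw [if_neg h10] at h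
  simp at h

/-- **S19370.** -/
theorem rational_localMax (U : Set (Fan.P F))
    (hU : Fan.IsConvex U) {Γ : Type v} [LinearOrder Γ] (Φ : U → Γ)
    (hΦ : Fan.IsQuasiConcaveOn U Φ)
    (hlsc : ∀ c : Γ, IsClosed {x : U | Φ x ≤ c}) :
    (∀ x : U, (x : Fan.P F).IsRational → IsLocalMax Φ x → ∀ y : U, Φ y ≤ Φ x) ∧
    (Fan.IsStrictQuasiConcaveOn U Φ → ∀ x y : U, (x : Fan.P F).IsRational →
      (y : Fan.P F).IsRational → IsLocalMax Φ x → IsLocalMax Φ y → x = y) := by
  obtain ⟨hlc, ⟨S, rfl⟩, hconn⟩ := hU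
  have part1 : ∀ x : Set.range (Fan.P.map S.ι), (x : Fan.P F).IsRational → IsLocalMax Φ x →
      ∀ y : Set.range (Fan.P.map S.ι), Φ y ≤ Φ x := by
    intro x hxrat hxmax y
    by_contra hlt
    rw [not_le] at hlt
    -- Step A: a rational point with larger value
    obtain ⟨p, hp⟩ := y.2
    obtain ⟨n, σ, v, rfl⟩ := P_exists_rep p
    have hcell : ∀ w : Orth n, Fan.P.mk σ.1 w ∈ Set.range (Fan.P.map S.ι) := by
      intro w
      exact ⟨Fan.P.mk σ w, rfl⟩
    let g : Orth n → Set.range (Fan.P.map S.ι) := fun w => ⟨Fan.P.mk σ.1 w, hcell w⟩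
    have hg : Continuous g := (continuous_mk σ.1).subtype_mk _
    have hgv : g v = y := Subtype.ext hp
    have hW : IsClosed {w : Orth n | Φ (g w) ≤ Φ x} := (hlsc (Φ x)).preimage hg
    have hex : ∃ (N : Fin n.dim → ℕ) (r : Orth n), (∀ i, r.1 i = (N i : ℝ)) ∧ Φ x < Φ (g r) := by
      by_contra hno
      push Not at hno
      have hall := forall_mem_of_closed_of_integral _ hW ?_ (fun N r hr => hno N r hr) v
      · have : Φ (g v) ≤ Φ x := hall
        rw [hgv] at this
        exact absurd this (not_le.mpr hlt)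
      · intro w hw c w' hc hw'
        have : g w' = g w := Subtype.ext (mk_smul_eq σ.1 w w' c hc hw').symm
        change Φ (g w') ≤ Φ x
        rw [this]
        exact hw
    obtain ⟨N, r, hr, hlt'⟩ := hex
    obtain ⟨ρ, hρ⟩ := exists_ray' r N hr
    have hrat : ((g r : Set.range (Fan.P.map S.ι)) : Fan.P F).IsRational :=
      ⟨F.map ρ.op σ.1, (mk_map_eq ρ σ.1 (Orth.ones Fan.one) r 1 one_pos hρ).symm⟩
    -- Step B: the segment from `x` to `g r`
    have hne : (x : Fan.P F) ≠ (g r : Set.range (Fan.P.map S.ι)) := by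
      intro h
      have : x = g r := Subtype.ext h
      rw [this] at hlt'
      exact lt_irrefl _ hlt'
    obtain ⟨τ, hτ, hτ0, hτ1⟩ := hconn _ _ x.2 (g r).2 hxrat hrat hne
    have hτU : ∀ w : Orth two, Fan.P.mk τ w ∈ Set.range (Fan.P.map S.ι) := fun w => hτ ⟨w, rfl⟩
    let h : Orth two → Set.range (Fan.P.map S.ι) := fun w => ⟨Fan.P.mk τ w, hτU w⟩
    have hh : Continuous h := (continuous_mk τ).subtype_mk _
    have hh0 : h (Orth.basis two 0) = x := Subtype.ext hτ0
    have hh1 : h (Orth.basis two 1) = g r := Subtype.ext hτ1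
    have htpos : ∀ j : ℕ, (0:ℝ) < 1 / ((j:ℝ) + 1) := fun j => by positivity
    let w : ℕ → Orth two := fun j =>
      combo 1 (1 / ((j:ℝ) + 1)) one_pos (htpos j) (Orth.basis two 0) (Orth.basis two 1)
    have hbig : ∀ j, Φ x < Φ (h (w j)) := by
      intro j
      obtain ⟨h1, h2⟩ := hΦ two τ (Orth.basis two 0) (w j) (Orth.basis two 1) (hτU _) (hτU _)
        (hτU _) basis_not_prop ⟨1, 1 / ((j:ℝ) + 1), one_pos, htpos j, rfl⟩
      change min (Φ (h (Orth.basis two 0))) (Φ (h (Orth.basis two 1))) ≤ Φ (h (w j)) at h1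
      change Φ (h (w j)) = min (Φ (h (Orth.basis two 0))) (Φ (h (Orth.basis two 1))) →
        Φ (h (Orth.basis two 0)) = Φ (h (Orth.basis two 1)) at h2
      rw [hh0, hh1, min_eq_left hlt'.le] at h1 h2
      rcases h1.lt_or_eq with h3 | h3
      · exact h3
      · exact absurd (h2 h3.symm) hlt'.ne
    have hlim : Filter.Tendsto (fun j => h (w j)) Filter.atTop (nhds x) := by
      rw [← hh0]
      refine (hh.tendsto _).comp ?_
      rw [(orth_isEmbedding two).tendsto_nhds_iff]
      have hc : Continuous (fun t : ℝ => (1:ℝ) • (Orth.basis two 0).1 + t • (Orth.basis two 1).1) :=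
        continuous_const.add (continuous_id.smul continuous_const)
      have h0 := hc.tendsto' 0 (Orth.basis two 0).1 (by rw [one_smul, zero_smul, add_zero])
      exact h0.comp tendsto_one_div_add_atTop_nhds_zero_nat
    have hev : ∀ᶠ j in Filter.atTop, Φ (h (w j)) ≤ Φ x := hlim.eventually hxmax
    obtain ⟨j, hj⟩ := hev.exists
    exact absurd hj (not_le.mpr (hbig j))
  refine ⟨part1, ?_⟩
  intro hstrict x y hxrat hyrat hxmax hymax
  by_contra hne
  have hne' : (x : Fan.P F) ≠ y := fun h => hne (Subtype.ext h)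
  have hxy : Φ x = Φ y := le_antisymm (part1 y hyrat hymax x) (part1 x hxrat hxmax y)
  obtain ⟨τ, hτ, hτ0, hτ1⟩ := hconn _ _ x.2 y.2 hxrat hyrat hne'
  have hτU : ∀ w : Orth two, Fan.P.mk τ w ∈ Set.range (Fan.P.map S.ι) := fun w => hτ ⟨w, rfl⟩
  let h : Orth two → Set.range (Fan.P.map S.ι) := fun w => ⟨Fan.P.mk τ w, hτU w⟩
  have hh0 : h (Orth.basis two 0) = x := Subtype.ext hτ0
  have hh1 : h (Orth.basis two 1) = y := Subtype.ext hτ1
  have h1 := hstrict two τ (Orth.basis two 0)
    (combo 1 1 one_pos one_pos (Orth.basis two 0) (Orth.basis two 1)) (Orth.basis two 1)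
    (hτU _) (hτU _) (hτU _) basis_not_prop ⟨1, 1, one_pos, one_pos, rfl⟩
  change min (Φ (h (Orth.basis two 0))) (Φ (h (Orth.basis two 1))) < Φ (h _) at h1
  rw [hh0, hh1, ← hxy, min_self] at h1
  exact absurd (part1 x hxrat hxmax _) (not_le.mpr h1)

end Convex

end Groth.Agent.Lib.Helper97.FanLib
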