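import Mathlib
import Groth.Prelude.Def_W4c6instabfans3Fan
import Groth.Agent.Lib.Helper97.FanLib5

/-!
# Formal fans: lifting convergent sequences to a rational simplex (helper97; S19369)
-/

set_option autoImplicit false
set_option linter.unusedSectionVars false
set_option linter.style.haveILetI false
set_option linter.unusedSimpArgs false

namespace Groth.Agent.Lib.Helper97.FanLib

open CategoryTheory Opposite Instab Instab.Fan Limits Filter

universe u

section Sequences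

variable {F : Fan.{u}}

/-- The cone over a compact subset of the punctured orthant is closed. -/
lemma isClosed_cone_of_compact {n : ICone} (K : Set (Orth n)) (hK : IsCompact K) :
    IsClosed {w : Orth n | ∃ z ∈ K, ∃ c : ℝ, 0 < c ∧ w.1 = c • z.1} := by
  haveI : CompactSpace K := isCompact_iff_compactSpace.mp hK
  let T : Set (Orth n × K) := {p | Par p.1.1 p.2.1.1}
  have hT : IsClosed T :=
    isClosed_par _ _ ((orth_isEmbedding n).continuous.comp continuous_fst)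
      ((orth_isEmbedding n).continuous.comp (continuous_subtype_val.comp continuous_snd))
  have hQ : IsClosed (Prod.fst '' T) := isClosedMap_fst_of_compactSpace _ hT
  convert hQ using 1
  ext w
  simp only [Set.mem_setOf_eq, Set.mem_image]
  constructor
  · rintro ⟨z, hz, c, hc, hw⟩
    refine ⟨(w, ⟨z, hz⟩), ?_, rfl⟩
    exact (par_iff _ _ w.2.1 w.2.2 z.2.1 z.2.2).mpr ⟨c, hc, hw⟩
  · rintro ⟨⟨w', z⟩, hp, rfl⟩
    obtain ⟨c, hc, hw⟩ := (par_iff _ _ w'.2.1 w'.2.2 z.1.2.1 z.1.2.2).mp hp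
    exact ⟨z.1, z.2, c, hc, hw⟩

/-- Points of the realization of a quasi-separated fan are closed. -/
lemma isClosed_singleton_P (hF : F.IsQuasiSeparated) (x : Fan.P F) : IsClosed ({x} : Set (Fan.P F)) := by
  obtain ⟨n, ξ, v, rfl⟩ := P_exists_rep x
  have hray := isClosed_cone_of_compact ({v} : Set (Orth n)) isCompact_singleton
  have h := (qsep_closed_cells hF).1 n ξ _ hray (by
    rintro w w' ⟨z, hz, c, hc, hw⟩ c' hc' hw'
    refine ⟨z, hz, c' * c, mul_pos hc' hc, ?_⟩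
    rw [hw', hw, smul_smul])
  convert h using 1
  ext y
  simp only [Set.mem_singleton_iff, Set.mem_image, Set.mem_setOf_eq]
  constructor
  · rintro rfl
    exact ⟨v, ⟨v, rfl, 1, one_pos, (one_smul _ _).symm⟩, rfl⟩
  · rintro ⟨w, ⟨z, rfl, c, hc, hw⟩, rfl⟩
    exact (mk_smul_eq ξ z w c hc hw).symm

/-- **S19369.** -/
theorem seq_lift (hF : F.IsQuasiSeparated) (x : ℕ → Fan.P F) (x₀ : Fan.P F)
    (hx : Filter.Tendsto x Filter.atTop (nhds x₀)) :
    ∃ (n : ICone) (σ : F.obj (op n)) (r : ℕ → ℕ) (v : ℕ → Fan.Orth n) (v₀ : Fan.Orth n),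
      StrictMono r ∧ (∀ j, Fan.P.mk σ (v j) = x (r j)) ∧ Fan.P.mk σ v₀ = x₀ ∧
        Filter.Tendsto v Filter.atTop (nhds v₀) := by
  obtain ⟨hcl1, hcl2⟩ := qsep_closed_cells hF
  haveI : T1Space (Fan.P F) := ⟨fun y => isClosed_singleton_P hF y⟩
  -- Step 1: some cell contains infinitely many terms
  have step1 : ∃ (n : ICone) (ξ : F.obj (op n)), {i | x i ∈ Fan.P.cell ξ}.Infinite := by
    by_contra hno
    push Not at hno
    have hfin : ∀ (n : ICone) (ξ : F.obj (op n)), {i | x i ∈ Fan.P.cell ξ}.Finite :=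
      fun n ξ => hno n ξ
    let B : Set (Fan.P F) := {y | y ≠ x₀ ∧ ∃ i, x i = y}
    have hB : IsClosed B := by
      rw [hcl2]
      intro n ξ
      have hsub : B ∩ Fan.P.cell ξ ⊆ x '' {i | x i ∈ Fan.P.cell ξ} := by
        rintro y ⟨⟨_, i, rfl⟩, hy⟩
        exact ⟨i, hy, rfl⟩
      exact (((hfin n ξ).image x).subset hsub).isClosed
    have hx₀ : x₀ ∉ B := fun h => h.1 rfl
    have hev : ∀ᶠ i in Filter.atTop, x i ∈ Bᶜ := hx (hB.isOpen_compl.mem_nhds hx₀)
    have hev' : ∀ᶠ i in Filter.atTop, x i = x₀ := hev.mono fun i hi => by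
      by_contra hne
      exact hi ⟨hne, i, rfl⟩
    obtain ⟨n₀, ξ₀, w₀, rfl⟩ := P_exists_rep x₀
    obtain ⟨N, hN⟩ := Filter.eventually_atTop.mp hev'
    refine (hfin n₀ ξ₀).not_infinite ((Set.Ici_infinite N).mono fun i hi => ?_)
    change x i ∈ Fan.P.cell ξ₀
    rw [hN i hi]
    exact ⟨w₀, rfl⟩
  obtain ⟨n, ξ, hinf⟩ := step1
  -- Step 2: a subsequence in the cell, with convergent lifts
  have hr : StrictMono (Nat.nth fun i => x i ∈ Fan.P.cell ξ) := Nat.nth_strictMono hinf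
  have hrmem : ∀ j, x (Nat.nth (fun i => x i ∈ Fan.P.cell ξ) j) ∈ Fan.P.cell ξ :=
    fun j => Nat.nth_mem_of_infinite hinf j
  generalize Nat.nth (fun i => x i ∈ Fan.P.cell ξ) = r at hr hrmem
  choose u hu using hrmem
  let z : ℕ → stdSimplex ℝ (Fin n.dim) := fun j => ⟨_, normalize_mem (u j)⟩
  obtain ⟨z₀, φ, hφ, hz⟩ := CompactSpace.tendsto_subseq z
  obtain ⟨v₀, hv₀⟩ : ∃ v₀ : Orth n, v₀ = simplexToOrth n z₀ := ⟨_, rfl⟩
  obtain ⟨v, hvdef⟩ : ∃ v : ℕ → Orth n, v = fun j => simplexToOrth n (z (φ j)) := ⟨_, rfl⟩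
  have hv : Tendsto v atTop (nhds v₀) := by
    rw [hvdef, hv₀]
    exact ((continuous_simplexToOrth n).tendsto z₀).comp hz
  have hvx : ∀ j, Fan.P.mk ξ (v j) = x (r (φ j)) := fun j => by
    rw [← hu (φ j), hvdef]
    exact (mk_smul_eq ξ (u (φ j)) _ _ (inv_pos.mpr (sum_pos_of_orth _)) rfl).symm
  -- Step 3: the limit of the lifts lifts the limit
  have hlim' : Tendsto (fun j => x (r (φ j))) atTop (nhds x₀) :=
    hx.comp ((hr.comp hφ).tendsto_atTop)
  have hcell_closed : IsClosed (Fan.P.cell ξ) := by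
    have := hcl1 n ξ Set.univ isClosed_univ (fun _ _ _ _ _ _ => Set.mem_univ _)
    rwa [Set.image_univ] at this
  obtain ⟨w₀, hw₀⟩ : x₀ ∈ Fan.P.cell ξ :=
    hcell_closed.mem_of_tendsto hlim' (Eventually.of_forall fun j => ⟨v j, hvx j⟩)
  obtain ⟨s, -, hs⟩ := qsep_finite_pairs hF ξ ξ
  have hR : IsClosed {p : Orth n × Orth n | Fan.P.mk ξ p.1 = Fan.P.mk ξ p.2} := by
    have : {p : Orth n × Orth n | Fan.P.mk ξ p.1 = Fan.P.mk ξ p.2} =
        ⋃ e ∈ s, {p : Orth n × Orth n | ∃ (y : Orth e.1) (c c' : ℝ), 0 < c ∧ 0 < c' ∧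
          p.1.1 = c • e.2.1.realMap y.1 ∧ p.2.1 = c' • e.2.2.realMap y.1} := by
      ext p
      simp only [Set.mem_setOf_eq, Set.mem_iUnion, exists_prop]
      exact hs p.1 p.2
    rw [this]
    exact s.finite_toSet.isClosed_biUnion fun e _ => isClosed_pairs e.2.1 e.2.2
  by_cases hcase : ∃ᶠ j in atTop, Fan.P.mk ξ (v j) = x₀
  · have hfreq : ∃ᶠ j in atTop, ((v j, w₀) : Orth n × Orth n) ∈
        {p : Orth n × Orth n | Fan.P.mk ξ p.1 = Fan.P.mk ξ p.2} :=
      hcase.mono fun j hj => by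
        change Fan.P.mk ξ (v j) = Fan.P.mk ξ w₀
        rw [hj, hw₀]
    have htend : Tendsto (fun j => ((v j, w₀) : Orth n × Orth n)) atTop (nhds (v₀, w₀)) :=
      hv.prodMk_nhds tendsto_const_nhds
    have hmem := hR.mem_of_frequently_of_tendsto hfreq htend
    have hmem' : Fan.P.mk ξ v₀ = Fan.P.mk ξ w₀ := hmem
    exact ⟨n, ξ, r ∘ φ, v, v₀, hr.comp hφ, hvx, hmem'.trans hw₀, hv⟩
  · rw [Filter.not_frequently] at hcase
    obtain ⟨J, hJ⟩ := Filter.eventually_atTop.mp hcase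
    have hvJ : Tendsto (fun j => v (j + J)) atTop (nhds v₀) := hv.comp (tendsto_add_atTop_nat J)
    have hK : IsCompact (insert v₀ (Set.range fun j => v (j + J))) := hvJ.isCompact_insert_range
    have hCclosed := isClosed_cone_of_compact _ hK
    have hA := hcl1 n ξ _ hCclosed (by
      rintro w w' ⟨z', hz', c, hc, hw⟩ c' hc' hw'
      refine ⟨z', hz', c' * c, mul_pos hc' hc, ?_⟩
      rw [hw', hw, smul_smul])
    have hlimJ : Tendsto (fun j => x (r (φ (j + J)))) atTop (nhds x₀) :=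
      hlim'.comp (tendsto_add_atTop_nat J)
    have hx₀A := hA.mem_of_tendsto hlimJ (Eventually.of_forall fun j =>
      ⟨v (j + J), ⟨v (j + J), Set.mem_insert_of_mem _ ⟨j, rfl⟩, 1, one_pos,
        (one_smul _ _).symm⟩, hvx (j + J)⟩)
    obtain ⟨w, ⟨z', hz', c, hc, hwz⟩, hwx⟩ := hx₀A
    have hz'x : Fan.P.mk ξ z' = x₀ := by
      rw [← hwx]
      exact mk_smul_eq ξ z' w c hc hwz
    rcases hz' with h | ⟨j, rfl⟩
    · rw [h] at hz'x
      exact ⟨n, ξ, r ∘ φ, v, v₀, hr.comp hφ, hvx, hz'x, hv⟩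
    · exact absurd hz'x (hJ (j + J) (Nat.le_add_left J j))

end Sequences

end Groth.Agent.Lib.Helper97.FanLib
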