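import Groth.Agent.Lib.Helper58.Kos6
import Groth.Agent.Lib.Helper87.KzLimA
import Groth.Agent.Lib.Helper2.GorHull

/-!
# `R_t / Σ_i R_{t/x_i}` is the top local cohomology `H^d_{(x)}(R)`

For `x : Fin d → R` over a Noetherian ring and `t = ∏ x i`, the quotient of `R_t` by the
`R`-span of the fractions `x_i^n / t^n` is `R`-linearly isomorphic to
`H^d_{(x_1, …, x_d)}(R)`; the proof goes through the direct limit of the top Koszul cohomology of
the powers `colim_n R/(x_1^n, …, x_d^n)` (transition maps multiplication by `t`).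
As a consequence, for a Gorenstein local ring and a system of parameters this quotient is an
injective hull of the residue field.
-/

set_option autoImplicit false
set_option linter.style.haveILetI false
universe u
open CategoryTheory CategoryTheory.Limits CochainComplex HomologicalComplex
open CohIII LocCoh

namespace Groth.Agent.Lib.Helper97.GH1

section Alg

theorem inv_pow_cancel {S : Type*} [CommRing S] (T v : S) (h : T * v = 1) (a : S) (n k : ℕ) :
    a * v ^ n * T ^ (n + k) = a * T ^ k := by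
  rw [pow_add]
  calc a * v ^ n * (T ^ n * T ^ k) = a * (T * v) ^ n * T ^ k := by rw [mul_pow]; ring
    _ = a * T ^ k := by rw [h, one_pow, mul_one]

variable {R : Type u} [CommRing R] {d : ℕ} (x : Fin d → R)

/-- The ideal generated by the `k`-th powers. -/
def J (k : ℕ) : Ideal R := Ideal.span (Set.range fun i => x i ^ k)

theorem mul_prod_pow_mem (a b : ℕ) (c : R) (hc : c ∈ J x a) :
    c * (∏ i, x i) ^ b ∈ J x (a + b) := by
  unfold J at hc ⊢
  induction hc using Submodule.span_induction with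
  | mem y hy =>
    obtain ⟨i, rfl⟩ := hy
    have ht : (∏ j, x j) = x i * ∏ j ∈ Finset.univ.erase i, x j :=
      (Finset.mul_prod_erase _ _ (Finset.mem_univ i)).symm
    have h2 : x i ^ a * (∏ j, x j) ^ b =
        (∏ j ∈ Finset.univ.erase i, x j) ^ b * x i ^ (a + b) := by
      rw [ht, mul_pow, pow_add]; ring
    change x i ^ a * (∏ j, x j) ^ b ∈ _
    rw [h2]
    exact Ideal.mul_mem_left _ _ (Ideal.subset_span ⟨i, rfl⟩)
  | zero => rw [zero_mul]; exact Ideal.zero_mem _
  | add y z _ _ hy hz => rw [add_mul]; exact Ideal.add_mem _ hy hz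
  | smul r y _ hy => rw [smul_eq_mul, mul_assoc]; exact Ideal.mul_mem_left _ _ hy

/-- The submodule `Σ_i R_{t/x_i}` of `R_t`. -/
abbrev N : Submodule R (Localization.Away (∏ i, x i)) :=
  Submodule.span R {y : Localization.Away (∏ i, x i) | ∃ (i : Fin d) (n : ℕ),
    y = algebraMap R (Localization.Away (∏ i, x i)) (x i ^ n) *
      IsLocalization.Away.invSelf (∏ i, x i) ^ n}

theorem T_mul_inv : algebraMap R (Localization.Away (∏ i, x i)) (∏ i, x i) *
    IsLocalization.Away.invSelf (∏ i, x i) = 1 :=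
  IsLocalization.Away.mul_invSelf _

theorem mem_N_of_mem_J (k : ℕ) (c : R) (hc : c ∈ J x k) :
    algebraMap R (Localization.Away (∏ i, x i)) c *
      IsLocalization.Away.invSelf (∏ i, x i) ^ k ∈ N x := by
  unfold J at hc
  induction hc using Submodule.span_induction with
  | mem y hy =>
    obtain ⟨i, rfl⟩ := hy
    exact Submodule.subset_span ⟨i, k, rfl⟩
  | zero => rw [map_zero, zero_mul]; exact Submodule.zero_mem _
  | add y z _ _ hy hz => rw [map_add, add_mul]; exact Submodule.add_mem _ hy hz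
  | smul r y _ hy =>
    rw [smul_eq_mul, map_mul, mul_assoc, ← Algebra.smul_def]
    exact Submodule.smul_mem _ _ hy

theorem mem_N_imp (y : Localization.Away (∏ i, x i)) (hy : y ∈ N x) :
    ∃ (k : ℕ) (c : R), c ∈ J x k ∧
      y = algebraMap R (Localization.Away (∏ i, x i)) c *
        IsLocalization.Away.invSelf (∏ i, x i) ^ k := by
  induction hy using Submodule.span_induction with
  | mem y hy =>
    obtain ⟨i, n, rfl⟩ := hy
    exact ⟨n, x i ^ n, Ideal.subset_span ⟨i, rfl⟩, rfl⟩
  | zero => exact ⟨0, 0, Ideal.zero_mem _, by rw [map_zero, zero_mul]⟩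
  | add y z _ _ hy hz =>
    obtain ⟨k1, c1, hc1, rfl⟩ := hy
    obtain ⟨k2, c2, hc2, rfl⟩ := hz
    refine ⟨k1 + k2, c1 * (∏ i, x i) ^ k2 + c2 * (∏ i, x i) ^ k1,
      Ideal.add_mem _ (mul_prod_pow_mem x k1 k2 c1 hc1)
        (by rw [add_comm k1 k2]; exact mul_prod_pow_mem x k2 k1 c2 hc2), ?_⟩
    have h1 := T_mul_inv x
    set T := algebraMap R (Localization.Away (∏ i, x i)) (∏ i, x i) with hT
    set v : Localization.Away (∏ i, x i) := IsLocalization.Away.invSelf (∏ i, x i) with hv
    rw [map_add, map_mul, map_mul, map_pow, map_pow, ← hT, add_mul]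
    have e1 : algebraMap R (Localization.Away (∏ i, x i)) c1 * T ^ k2 * v ^ (k1 + k2) =
        algebraMap R (Localization.Away (∏ i, x i)) c1 * v ^ k1 := by
      rw [pow_add]
      calc algebraMap R (Localization.Away (∏ i, x i)) c1 * T ^ k2 * (v ^ k1 * v ^ k2)
          = algebraMap R (Localization.Away (∏ i, x i)) c1 * v ^ k1 * (T * v) ^ k2 := by
            rw [mul_pow]; ring
        _ = _ := by rw [h1, one_pow, mul_one]
    have e2 : algebraMap R (Localization.Away (∏ i, x i)) c2 * T ^ k1 * v ^ (k1 + k2) =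
        algebraMap R (Localization.Away (∏ i, x i)) c2 * v ^ k2 := by
      rw [pow_add]
      calc algebraMap R (Localization.Away (∏ i, x i)) c2 * T ^ k1 * (v ^ k1 * v ^ k2)
          = algebraMap R (Localization.Away (∏ i, x i)) c2 * v ^ k2 * (T * v) ^ k1 := by
            rw [mul_pow]; ring
        _ = _ := by rw [h1, one_pow, mul_one]
    rw [e1, e2]
  | smul r y _ hy =>
    obtain ⟨k, c, hc, rfl⟩ := hy
    exact ⟨k, r * c, Ideal.mul_mem_left _ _ hc, by rw [Algebra.smul_def, map_mul, mul_assoc]⟩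

/-- The key algebraic fact: if `m / t^n` lies in `Σ_i R_{t/x_i}` then some `t^(K-n) m` lies in the ideal
of `K`-th powers. -/
theorem core (m : R) (n : ℕ)
    (h : algebraMap R (Localization.Away (∏ i, x i)) m *
      IsLocalization.Away.invSelf (∏ i, x i) ^ n ∈ N x) :
    ∃ K, n ≤ K ∧ (∏ i, x i) ^ (K - n) * m ∈ J x K := by
  obtain ⟨k, c, hc, hy⟩ := mem_N_imp x _ h
  have h1 := T_mul_inv x
  have h2 : algebraMap R (Localization.Away (∏ i, x i)) (m * (∏ i, x i) ^ k) =
      algebraMap R (Localization.Away (∏ i, x i)) (c * (∏ i, x i) ^ n) := by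
    rw [map_mul, map_mul, map_pow, map_pow]
    rw [← inv_pow_cancel _ _ h1 (algebraMap R (Localization.Away (∏ i, x i)) m) n k,
      ← inv_pow_cancel _ _ h1 (algebraMap R (Localization.Away (∏ i, x i)) c) k n, hy,
      add_comm n k]
  obtain ⟨j, hj⟩ := IsLocalization.Away.exists_of_eq (∏ i, x i) h2
  refine ⟨k + n + j, by omega, ?_⟩
  have h3 : (∏ i, x i) ^ (k + n + j - n) * m = c * (∏ i, x i) ^ (n + j) := by
    have h4 : k + n + j - n = j + k := by omega
    rw [h4, pow_add, pow_add]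
    linear_combination hj
  rw [h3]
  have h5 := mul_prod_pow_mem x k (n + j) c hc
  rwa [← add_assoc] at h5

theorem exists_rep (y : Localization.Away (∏ i, x i)) :
    ∃ (n : ℕ) (a : R), y = algebraMap R (Localization.Away (∏ i, x i)) a *
      IsLocalization.Away.invSelf (∏ i, x i) ^ n := by
  obtain ⟨n, a, h⟩ := IsLocalization.Away.surj (∏ i, x i) y
  refine ⟨n, a, ?_⟩
  have h1 := T_mul_inv x
  rw [← h]
  calc y = y * (algebraMap R (Localization.Away (∏ i, x i)) (∏ i, x i) *
        IsLocalization.Away.invSelf (∏ i, x i)) ^ n := by rw [h1, one_pow, mul_one]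
    _ = _ := by rw [mul_pow]; ring

/-- `r ↦ [r / t^n]`. -/
noncomputable def ψ (n : ℕ) : R →ₗ[R] (Localization.Away (∏ i, x i) ⧸ N x) :=
  LinearMap.toSpanSingleton R _
    (Submodule.Quotient.mk (IsLocalization.Away.invSelf (∏ i, x i) ^ n))

theorem ψ_apply (n : ℕ) (r : R) :
    ψ x n r = Submodule.Quotient.mk (algebraMap R (Localization.Away (∏ i, x i)) r *
      IsLocalization.Away.invSelf (∏ i, x i) ^ n) := by
  unfold ψ
  rw [LinearMap.toSpanSingleton_apply, ← Submodule.Quotient.mk_smul, Algebra.smul_def]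

theorem ψ_eq_zero_of_mem_J (n : ℕ) (r : R) (hr : r ∈ J x n) : ψ x n r = 0 := by
  rw [ψ_apply, Submodule.Quotient.mk_eq_zero]
  exact mem_N_of_mem_J x n r hr

theorem ψ_eq_zero_iff (n : ℕ) (r : R) :
    ψ x n r = 0 ↔ algebraMap R (Localization.Away (∏ i, x i)) r *
      IsLocalization.Away.invSelf (∏ i, x i) ^ n ∈ N x := by
  rw [ψ_apply, Submodule.Quotient.mk_eq_zero]

theorem ψ_trans (n m : ℕ) (h : n ≤ m) (r : R) :
    ψ x m ((∏ i, x i) ^ (m - n) * r) = ψ x n r := by
  rw [ψ_apply, ψ_apply]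
  congr 1
  have h1 := T_mul_inv x
  obtain ⟨k, rfl⟩ := Nat.exists_eq_add_of_le h
  rw [Nat.add_sub_cancel_left, map_mul, map_pow, pow_add]
  calc algebraMap R (Localization.Away (∏ i, x i)) (∏ i, x i) ^ k *
        algebraMap R (Localization.Away (∏ i, x i)) r *
        (IsLocalization.Away.invSelf (∏ i, x i) ^ n * IsLocalization.Away.invSelf (∏ i, x i) ^ k)
      = algebraMap R (Localization.Away (∏ i, x i)) r * IsLocalization.Away.invSelf (∏ i, x i) ^ n *
        (algebraMap R (Localization.Away (∏ i, x i)) (∏ i, x i) *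
          IsLocalization.Away.invSelf (∏ i, x i)) ^ k := by rw [mul_pow]; ring
    _ = _ := by rw [h1, one_pow, mul_one]

theorem ofList_le_J (n : ℕ) : Ideal.ofList ((List.ofFn x).map (· ^ n)) ≤ J x n := by
  unfold J
  refine Ideal.span_le.mpr ?_
  intro r hr
  obtain ⟨a, ha, rfl⟩ := List.mem_map.mp hr
  obtain ⟨i, rfl⟩ := (List.mem_ofFn' x a).mp ha
  exact Ideal.subset_span ⟨i, rfl⟩

theorem J_le_ofList (n : ℕ) : J x n ≤ Ideal.ofList ((List.ofFn x).map (· ^ n)) := by
  unfold J
  refine Ideal.span_le.mpr ?_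
  rintro _ ⟨i, rfl⟩
  refine Ideal.subset_span ?_
  exact List.mem_map.mpr ⟨x i, (List.mem_ofFn' x (x i)).mpr ⟨i, rfl⟩, rfl⟩

theorem ψ_eq_zero_of_mem_smul_top (n : ℕ) (r : R)
    (hr : r ∈ Ideal.ofList ((List.ofFn x).map (· ^ n)) • (⊤ : Submodule R R)) :
    ψ x n r = 0 := by
  refine Submodule.smul_induction_on hr (fun a ha y _ => ?_) (fun y z hy hz => ?_)
  · have h1 : a • y = y • a := by rw [smul_eq_mul, smul_eq_mul, mul_comm]
    rw [h1, map_smul, ψ_eq_zero_of_mem_J x n a (ofList_le_J x n ha), smul_zero]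
  · rw [map_add, hy, hz, add_zero]

theorem mem_smul_top_of_mem_J (n : ℕ) (r : R) (hr : r ∈ J x n) :
    r ∈ Ideal.ofList ((List.ofFn x).map (· ^ n)) • (⊤ : Submodule R R) := by
  have h1 : r = r • (1 : R) := by rw [smul_eq_mul, mul_one]
  rw [h1]
  exact Submodule.smul_mem_smul (J_le_ofList x n hr) Submodule.mem_top

open Groth.Agent.Lib.Helper87.KzLimA in
theorem pw_eq (l : List R) (k : ℕ) : pw l k = l.prod ^ k := by
  induction l with
  | nil => rw [pw_nil, List.prod_nil, one_pow]
  | cons a l ih => rw [pw_cons, ih, List.prod_cons, mul_pow]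

open Groth.Agent.Lib.Helper87.KzLimA in
theorem pw_ofFn (k : ℕ) : pw (List.ofFn x) k = (∏ i, x i) ^ k := by
  rw [pw_eq, List.prod_ofFn]

end Alg

section Main

open Groth.Agent.Lib.Helper87.KzLimA Groth.Agent.Lib.Helper58.Kos

variable {R : Type u} [CommRing R] {d : ℕ} (x : Fin d → R)

/-- The direct limit of the top Koszul cohomology of the powers is `R_t / Σ_i R_{t/x_i}`. -/
theorem nonempty_equiv_KLim :
    Nonempty (KLim (List.ofFn x) (ModuleCat.of R R) 0 ≃ₗ[R]
      (Localization.Away (∏ i, x i) ⧸ N x)) := by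
  obtain ⟨q, hq1, hq2, hq3⟩ := present (ModuleCat.of R R) (List.ofFn x)
  -- the level maps
  have hle : ∀ n, LinearMap.ker (q n) ≤ LinearMap.ker (ψ x n) := by
    intro n r hr
    rw [hq2 n] at hr
    rw [LinearMap.mem_ker]
    exact ψ_eq_zero_of_mem_smul_top x n r hr
  let g : ∀ n : ℕ, (KH (List.ofFn x) (ModuleCat.of R R) 0 n : Type u) →ₗ[R]
      (Localization.Away (∏ i, x i) ⧸ N x) := fun n =>
    (Submodule.liftQ (LinearMap.ker (q n)) (ψ x n) (hle n)).comp
      ((q n).quotKerEquivOfSurjective (hq1 n)).symm.toLinearMap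
  have hg : ∀ n (r : R), g n (q n r) = ψ x n r := by
    intro n r
    have h1 : ((q n).quotKerEquivOfSurjective (hq1 n)).symm (q n r) =
        Submodule.Quotient.mk r := by
      rw [LinearEquiv.symm_apply_eq]
      rfl
    change (Submodule.liftQ (LinearMap.ker (q n)) (ψ x n) (hle n))
      (((q n).quotKerEquivOfSurjective (hq1 n)).symm (q n r)) = _
    rw [h1, Submodule.liftQ_apply]
  have hcompat : ∀ (n m : ℕ) (h : n ≤ m) (z : KH (List.ofFn x) (ModuleCat.of R R) 0 n),
      g m (KT (List.ofFn x) (ModuleCat.of R R) 0 n m h z) = g n z := by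
    intro n m h z
    obtain ⟨r, rfl⟩ := hq1 n z
    have h3 := hq3 n m h r
    change g m ((homologyMap (koszulTrans (ModuleCat.of R R) n m h (List.ofFn x)) 0).hom
      (q n r)) = _
    rw [h3, hg, hg, pw_ofFn]
    exact ψ_trans x n m h r
  let Φ : KLim (List.ofFn x) (ModuleCat.of R R) 0 →ₗ[R]
      (Localization.Away (∏ i, x i) ⧸ N x) :=
    Module.DirectLimit.lift R ℕ _ _ g hcompat
  have hΦ : ∀ n (r : R), Φ (Module.DirectLimit.of R ℕ _ (KT (List.ofFn x) (ModuleCat.of R R) 0) n
      (q n r)) = ψ x n r := by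
    intro n r
    change Module.DirectLimit.lift R ℕ _ _ g hcompat _ = _
    rw [Module.DirectLimit.lift_of, hg]
  have hinj : Function.Injective Φ := by
    rw [injective_iff_map_eq_zero]
    intro z hz
    obtain ⟨n, w, rfl⟩ := Module.DirectLimit.exists_of z
    obtain ⟨r, rfl⟩ := hq1 n w
    rw [hΦ, ψ_eq_zero_iff] at hz
    obtain ⟨K, hK, hmem⟩ := core x r n hz
    rw [← Module.DirectLimit.of_f (hij := hK)]
    have h3 := hq3 n K hK r
    change Module.DirectLimit.of R ℕ _ (KT (List.ofFn x) (ModuleCat.of R R) 0) K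
      ((homologyMap (koszulTrans (ModuleCat.of R R) n K hK (List.ofFn x)) 0).hom (q n r)) = 0
    rw [h3, pw_ofFn]
    have h4 : q K ((∏ i, x i) ^ (K - n) • r) = 0 := by
      have h5 : ((∏ i, x i) ^ (K - n) • r : R) ∈ LinearMap.ker (q K) := by
        rw [hq2 K, smul_eq_mul]
        exact mem_smul_top_of_mem_J x K _ hmem
      exact h5
    rw [h4, map_zero]
  have hsurj : Function.Surjective Φ := by
    intro z
    obtain ⟨y, rfl⟩ := Submodule.Quotient.mk_surjective _ z
    obtain ⟨n, a, rfl⟩ := exists_rep x y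
    exact ⟨_, (hΦ n a).trans (ψ_apply x n a)⟩
  exact ⟨LinearEquiv.ofBijective Φ ⟨hinj, hsurj⟩⟩

/-- `R_t / Σ_i R_{t/x_i} ≃ H^d_{(x)}(R)`. -/
theorem nonempty_equiv_lc [IsNoetherianRing R] :
    Nonempty ((Localization.Away (∏ i, x i) ⧸ N x) ≃ₗ[R]
      (localCohomology (Ideal.span (Set.range x)) d).obj (ModuleCat.of R R)) := by
  obtain ⟨e1⟩ := nonempty_equiv_KLim x
  obtain ⟨e2⟩ := Groth.Agent.Lib.Helper58.Kos.nonempty_equiv (List.ofFn x) d (ModuleCat.of R R)
  have hq0 : ((d : ℕ) : ℤ) - ((List.ofFn x).length : ℤ) = 0 := by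
    rw [List.length_ofFn, sub_self]
  have hspan : Ideal.span {y | y ∈ List.ofFn x} = Ideal.span (Set.range x) := by
    congr 1
    ext y
    exact List.mem_ofFn' x y
  rw [hq0, hspan] at e2
  exact ⟨e1.symm.trans e2⟩

/-- For a Gorenstein local ring of dimension `d` and a system of parameters `x`,
`R_t / Σ_i R_{t/x_i}` is an injective hull of the residue field. -/
theorem main (R : Type u) [CommRing R] [LocCoh.IsGorensteinLocalRing R] (d : ℕ)
    (hd : ringKrullDim R = d) (x : Fin d → R)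
    (hx : (Ideal.span (Set.range x)).radical = IsLocalRing.maximalIdeal R) :
    ∃ f : IsLocalRing.ResidueField R →ₗ[R] (Localization.Away (∏ i, x i) ⧸ N x),
      InjHull.IsInjectiveHull f := by
  obtain ⟨g, hg⟩ := Groth.Agent.Lib.Helper2.exists_isInjectiveHull_of_gorenstein d R hd
  obtain ⟨e1⟩ := nonempty_equiv_lc x
  have hrad : (Ideal.span (Set.range x)).radical = (IsLocalRing.maximalIdeal R).radical := by
    rw [hx, (IsLocalRing.maximalIdeal.isMaximal R).isPrime.radical]
  let e2 : (localCohomology (Ideal.span (Set.range x)) d).obj (ModuleCat.of R R) ≃ₗ[R]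
      LocCoh.H (IsLocalRing.maximalIdeal R) d R :=
    ((localCohomology.isoOfSameRadical hrad d).app (ModuleCat.of R R)).toLinearEquiv
  let E := e1.trans e2
  exact ⟨E.symm.toLinearMap ∘ₗ g,
    Groth.Agent.Lib.Helper2.isInjectiveHull_equiv_comp E.symm g hg⟩

end Main

end Groth.Agent.Lib.Helper97.GH1
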