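import Mathlib
import Groth.Prelude.Def_W4c5flasquetoriphsGLat

/-!
# Flasque / coflasque resolutions of `G`-modules (helper97; S18675, S18685, S18686, S18687)
-/

set_option autoImplicit false
set_option linter.unusedSectionVars false
set_option linter.unusedVariables false
set_option linter.style.haveILetI false
set_option linter.unusedSimpArgs false

namespace Groth.Agent.Lib.Helper97.GLatLib

open GLat

variable {G : Type} [Group G]

/-! ## Basic constructions -/

section Basic

variable {M : Type} [AddCommGroup M] (ρ : Representation ℤ G M)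

/-- Invariants of a subgroup. -/
def inv (H : Subgroup G) : Submodule ℤ M where
  carrier := {m | ∀ h : H, ρ (h : G) m = m}
  zero_mem' := by intro h; simp
  add_mem' := by intro a b ha hb h; simp [ha h, hb h]
  smul_mem' := by intro c a ha h; simp [ha h]

lemma mem_inv {H : Subgroup G} {m : M} : m ∈ inv ρ H ↔ ∀ h : H, ρ (h : G) m = m := Iff.rfl

/-- Restriction of a representation to a stable submodule. -/
def subRep (Q : Submodule ℤ M) (hQ : ∀ g, ∀ q ∈ Q, ρ g q ∈ Q) : Representation ℤ G ↥Q where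
  toFun g := (ρ g).restrict (hQ g)
  map_one' := by ext; simp
  map_mul' g h := by ext; simp

@[simp] lemma subRep_coe (Q : Submodule ℤ M) (hQ : ∀ g, ∀ q ∈ Q, ρ g q ∈ Q) (g : G) (q : ↥Q) :
    ((subRep ρ Q hQ g q : ↥Q) : M) = ρ g (q : M) := rfl

/-- The representation induced on a quotient by a stable submodule. -/
def quotRep (N : Submodule ℤ M) (hN : ∀ g, ∀ n ∈ N, ρ g n ∈ N) : Representation ℤ G (M ⧸ N) where
  toFun g := N.mapQ N (ρ g) (fun n hn => hN g n hn)
  map_one' := by
    apply Submodule.linearMap_qext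
    ext m
    simp
  map_mul' g h := by
    apply Submodule.linearMap_qext
    ext m
    simp

@[simp] lemma quotRep_mk (N : Submodule ℤ M) (hN : ∀ g, ∀ n ∈ N, ρ g n ∈ N) (g : G) (m : M) :
    quotRep ρ N hN g (Submodule.Quotient.mk m) = Submodule.Quotient.mk (ρ g m) := rfl

/-- The norm of a finite subgroup, as a finite sum. -/
lemma finsum_eq_sum (H : Subgroup G) [Fintype H] (m : M) :
    (∑ᶠ h : H, ρ (h : G) m) = ∑ h : H, ρ (h : G) m := finsum_eq_sum_of_fintype _

lemma norm_comp (H : Subgroup G) [Fintype H] (a : H) (m : M) :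
    (∑ h : H, ρ (h : G) (ρ (a : G) m)) = ∑ h : H, ρ (h : G) m := by
  have : ∀ h : H, ρ (h : G) (ρ (a : G) m) = ρ ((h * a : H) : G) m := by
    intro h
    simp [map_mul]
  simp only [this]
  exact Fintype.sum_equiv (Equiv.mulRight a) _ _ (fun _ => rfl)

lemma comp_norm (H : Subgroup G) [Fintype H] (a : H) (m : M) :
    ρ (a : G) (∑ h : H, ρ (h : G) m) = ∑ h : H, ρ (h : G) m := by
  rw [map_sum]
  have : ∀ h : H, ρ (a : G) (ρ (h : G) m) = ρ ((a * h : H) : G) m := by
    intro h
    simp [map_mul]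
  simp only [this]
  exact Fintype.sum_equiv (Equiv.mulLeft a) _ _ (fun _ => rfl)

/-- The augmentation submodule. -/
def aug (H : Subgroup G) : Submodule ℤ M :=
  Submodule.span ℤ {x : M | ∃ (h : H) (y : M), x = ρ (h : G) y - y}

lemma norm_aug (H : Subgroup G) [Fintype H] {m : M} (hm : m ∈ aug ρ H) :
    (∑ h : H, ρ (h : G) m) = 0 := by
  induction hm using Submodule.span_induction with
  | mem x hx =>
    obtain ⟨a, y, rfl⟩ := hx
    simp only [map_sub, Finset.sum_sub_distrib]
    rw [norm_comp, sub_self]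
  | zero => simp
  | add x y _ _ hx hy => simp only [map_add, Finset.sum_add_distrib, hx, hy, add_zero]
  | smul c x _ hx =>
    simp only [map_smul]
    rw [← Finset.smul_sum, hx, smul_zero]

end Basic

/-! ## Permutation modules -/

section Perm

variable (G) (Y : Type) [MulAction G Y]

/-- The permutation representation on `Y →₀ ℤ`. -/
noncomputable def permRep : Representation ℤ G (Y →₀ ℤ) where
  toFun g := Finsupp.lmapDomain ℤ ℤ (fun y => g • y)
  map_one' := by ext; simp
  map_mul' g h := by ext; simp [mul_smul]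

variable {G Y}

@[simp] lemma permRep_single (g : G) (y : Y) (r : ℤ) :
    permRep G Y g (Finsupp.single y r) = Finsupp.single (g • y) r := by
  simp [permRep]

lemma permRep_apply (g : G) (m : Y →₀ ℤ) (y : Y) : permRep G Y g m y = m (g⁻¹ • y) := by
  have h1 : permRep G Y g m = Finsupp.mapDomain (fun y => g • y) m := rfl
  rw [h1]
  conv_lhs => rw [← smul_inv_smul g y]
  exact Finsupp.mapDomain_apply (MulAction.injective g) m (g⁻¹ • y)

lemma isPermutation_permRep : IsPermutation (permRep G Y) := by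
  refine ⟨Y, Finsupp.basisSingleOne, fun g i => ⟨g • i, ?_⟩⟩
  simp

variable [Finite G]

/-- `H¹(H, ℤ[Y]) = 0`. -/
theorem isCoflasque_permRep : IsCoflasque (permRep G Y) := by
  intro H f hf
  classical
  haveI : Fintype H := Fintype.ofFinite H
  set n : ℤ := (Fintype.card H : ℤ) with hn
  have hn0 : n ≠ 0 := by
    rw [hn]
    exact_mod_cast Fintype.card_ne_zero
  set s : Y →₀ ℤ := ∑ b : H, f b with hs
  have key : ∀ a : H, n • f a = s - permRep G Y (a : G) s := by
    intro a
    have h1 : ∑ b : H, f (a * b) = s := Fintype.sum_equiv (Equiv.mulLeft a) _ _ (fun _ => rfl)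
    have h2 : ∑ b : H, f (a * b) = n • f a + permRep G Y (a : G) s := by
      simp only [hf, Finset.sum_add_distrib, Finset.sum_const, Finset.card_univ, map_sum, hs, hn]
      simp
    exact eq_sub_of_add_eq (h2.symm.trans h1)
  refine ⟨(-s).mapRange (fun z => z / n) (by simp), fun a => ?_⟩
  ext y
  have hk := DFunLike.congr_fun (key a) y
  simp only [Finsupp.coe_smul, Pi.smul_apply, Finsupp.coe_sub, Pi.sub_apply, smul_eq_mul,
    permRep_apply] at hk
  simp only [Finsupp.coe_sub, Pi.sub_apply, permRep_apply, Finsupp.mapRange_apply,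
    Finsupp.coe_neg, Pi.neg_apply]
  have e : -s ((a : G)⁻¹ • y) = -s y + n * f a y := by linarith
  rw [e, Int.add_mul_ediv_left _ _ hn0]
  ring

variable [Finite Y]

/-- `Ĥ⁻¹(H, ℤ[Y]) = 0`. -/
theorem isFlasque_permRep : IsFlasque (permRep G Y) := by
  intro H
  classical
  haveI : Fintype H := Fintype.ofFinite H
  haveI : Fintype Y := Fintype.ofFinite Y
  suffices hmain : ∀ k : ℕ, ∀ m : Y →₀ ℤ, (∑ y : Y, (m y).natAbs) = k →
      (∑ h : H, permRep G Y (h : G) m) = 0 → m ∈ aug (permRep G Y) H by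
    intro m hm
    rw [finsum_eq_sum] at hm
    exact hmain _ m rfl hm
  intro k
  induction k using Nat.strong_induction_on with
  | _ k ih =>
    intro m hk hm
    by_cases hm0 : m = 0
    · rw [hm0]; exact Submodule.zero_mem _
    obtain ⟨y₀, hy₀⟩ : ∃ y₀, m y₀ ≠ 0 := by
      by_contra hcon
      push Not at hcon
      exact hm0 (Finsupp.ext hcon)
    have hcoef : ∑ h : H, m ((h : G)⁻¹ • y₀) = 0 := by
      have := DFunLike.congr_fun hm y₀
      simpa [Finsupp.finset_sum_apply, permRep_apply] using this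
    -- there are terms of both signs
    obtain ⟨h₁, hh₁⟩ : ∃ h₁ : H, 0 < m ((h₁ : G)⁻¹ • y₀) := by
      by_contra hcon
      push Not at hcon
      rcases lt_or_gt_of_ne hy₀ with hlt | hgt
      · have : ∑ h : H, m ((h : G)⁻¹ • y₀) < 0 := by
          apply Finset.sum_neg' (fun h _ => hcon h)
          exact ⟨1, Finset.mem_univ _, by simpa using hlt⟩
        omega
      · exact absurd (by simpa using hgt) (not_lt.mpr (hcon 1))
    obtain ⟨h₂, hh₂⟩ : ∃ h₂ : H, m ((h₂ : G)⁻¹ • y₀) < 0 := by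
      by_contra hcon
      push Not at hcon
      have : 0 < ∑ h : H, m ((h : G)⁻¹ • y₀) := by
        apply Finset.sum_pos' (fun h _ => hcon h)
        exact ⟨h₁, Finset.mem_univ _, hh₁⟩
      omega
    set u := (h₁ : G)⁻¹ • y₀ with hu
    set v := (h₂ : G)⁻¹ • y₀ with hv
    have huv : u ≠ v := by
      intro h
      rw [h] at hh₁
      omega
    set a : H := h₂⁻¹ * h₁ with ha
    have hav : ((a : H) : G) • u = v := by
      simp [ha, hu, hv, mul_smul]
    set d : Y →₀ ℤ := permRep G Y (a : G) (Finsupp.single u 1) - Finsupp.single u 1 with hd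
    have hd' : d = Finsupp.single v 1 - Finsupp.single u 1 := by
      rw [hd, permRep_single, hav]
    have hdaug : d ∈ aug (permRep G Y) H := Submodule.subset_span ⟨a, Finsupp.single u 1, rfl⟩
    have hm' : m + d ∈ aug (permRep G Y) H := by
      apply ih (∑ y : Y, ((m + d) y).natAbs) _ (m + d) rfl
      · simp only [map_add, Finset.sum_add_distrib, hm, zero_add]
        exact norm_aug (permRep G Y) H hdaug
      · rw [← hk]
        apply Finset.sum_lt_sum
        · intro y _
          rw [hd']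
          simp only [Finsupp.coe_add, Finsupp.coe_sub, Pi.add_apply, Pi.sub_apply,
            Finsupp.single_apply]
          by_cases h1 : v = y
          · have h2 : ¬ u = y := fun h => huv (h.trans h1.symm)
            subst h1
            simp only [if_true, h2, if_false]
            omega
          · by_cases h2 : u = y
            · subst h2
              simp only [h1, if_false, if_true]
              omega
            · simp [h1, h2]
        · refine ⟨u, Finset.mem_univ _, ?_⟩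
          rw [hd']
          simp only [Finsupp.coe_add, Finsupp.coe_sub, Pi.add_apply, Pi.sub_apply,
            Finsupp.single_apply, huv.symm, if_false, if_true]
          omega
    have : m = (m + d) - d := by abel
    rw [this]
    exact Submodule.sub_mem _ hm' hdaug

end Perm

/-! ## General lemmas on kernels, quotients, extensions -/

section General

variable {P B : Type} [AddCommGroup P] [AddCommGroup B]
  (τ : Representation ℤ G P) (ρ : Representation ℤ G B)

/-- If `ε : P → B` is equivariant, surjective on `H`-invariants for every `H`, and `P` is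
coflasque, then `ker ε` is coflasque. -/
theorem ker_isCoflasque (ε : P →ₗ[ℤ] B) (hε : IsEquivariant τ ρ ε) (hτ : IsCoflasque τ)
    (hinv : ∀ H : Subgroup G, ∀ b ∈ inv ρ H, ∃ p ∈ inv τ H, ε p = b)
    (hQ : ∀ g, ∀ q ∈ LinearMap.ker ε, τ g q ∈ LinearMap.ker ε) :
    IsCoflasque (subRep τ (LinearMap.ker ε) hQ) := by
  intro H f hf
  obtain ⟨p, hp⟩ := hτ H (fun a => (f a : P)) (fun a b => by
    have := congrArg Subtype.val (hf a b)
    simpa using this)
  have hεp : ε p ∈ inv ρ H := by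
    intro a
    have h1 : ε (τ (a : G) p - p) = 0 := by
      rw [← hp a]
      exact (f a).2
    rw [map_sub, hε] at h1
    exact sub_eq_zero.mp h1
  obtain ⟨p₀, hp₀, hp₀ε⟩ := hinv H _ hεp
  have hq : p - p₀ ∈ LinearMap.ker ε := by
    rw [LinearMap.mem_ker, map_sub, hp₀ε, sub_self]
  refine ⟨⟨p - p₀, hq⟩, fun a => ?_⟩
  apply Subtype.ext
  have h2 : τ (a : G) p₀ = p₀ := hp₀ a
  simp only [Submodule.coe_sub, subRep_coe, map_sub, h2]
  rw [hp a]
  abel

/-- Quotient of a flasque module by a stable submodule `N` with `N ∩ N_H(P) ⊆ N_H(N)`. -/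
theorem quot_isFlasque [Finite G] (N : Submodule ℤ P) (hN : ∀ g, ∀ n ∈ N, τ g n ∈ N)
    (hτ : IsFlasque τ)
    (hC : ∀ (H : Subgroup G) [Fintype H], ∀ f : P, (∑ h : H, τ (h : G) f) ∈ N →
      ∃ p₀ ∈ N, (∑ h : H, τ (h : G) p₀) = ∑ h : H, τ (h : G) f) :
    IsFlasque (quotRep τ N hN) := by
  intro H mbar hm
  classical
  haveI : Fintype H := Fintype.ofFinite H
  obtain ⟨m, rfl⟩ := Submodule.Quotient.mk_surjective N mbar
  rw [finsum_eq_sum] at hm
  have h1 : (∑ h : H, τ (h : G) m) ∈ N := by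
    rw [← Submodule.Quotient.mk_eq_zero, ← hm]
    simp only [quotRep_mk]
    rw [← Submodule.mkQ_apply, map_sum]
    rfl
  obtain ⟨p₀, hp₀N, hp₀⟩ := hC H m h1
  have h2 : (∑ᶠ h : H, τ (h : G) (m - p₀)) = 0 := by
    rw [finsum_eq_sum]
    simp only [map_sub, Finset.sum_sub_distrib, hp₀, sub_self]
  have h3 := hτ H (m - p₀) h2
  have h4 : (Submodule.Quotient.mk m : P ⧸ N) = N.mkQ (m - p₀) := by
    rw [Submodule.mkQ_apply, Submodule.Quotient.mk_sub, (Submodule.Quotient.mk_eq_zero N).mpr hp₀N,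
      sub_zero]
  rw [h4]
  have h5 : N.mkQ (m - p₀) ∈ Submodule.map N.mkQ
      (Submodule.span ℤ {x : P | ∃ (h : H) (y : P), x = τ (h : G) y - y}) :=
    Submodule.mem_map_of_mem h3
  rw [Submodule.map_span] at h5
  refine Submodule.span_mono ?_ h5
  rintro _ ⟨x, ⟨h, y, rfl⟩, rfl⟩
  exact ⟨h, Submodule.Quotient.mk y, by simp [Submodule.mkQ_apply]⟩

/-- An extension of a flasque module by a flasque module is flasque. -/
theorem ext_isFlasque [Finite G] {P₁ F₂ : Type} [AddCommGroup P₁] [AddCommGroup F₂]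
    (τ₁ : Representation ℤ G P₁) (τ₂ : Representation ℤ G F₂)
    (i : P₁ →ₗ[ℤ] P) (π : P →ₗ[ℤ] F₂) (hi : IsEquivariant τ₁ τ i) (hπ : IsEquivariant τ τ₂ π)
    (hinj : Function.Injective i)
    (hsurj : Function.Surjective π) (hex : LinearMap.range i = LinearMap.ker π)
    (h₁ : IsFlasque τ₁) (h₂ : IsFlasque τ₂) : IsFlasque τ := by
  intro H f hf
  classical
  haveI : Fintype H := Fintype.ofFinite H
  rw [finsum_eq_sum] at hf
  have hf2 : (∑ᶠ h : H, τ₂ (h : G) (π f)) = 0 := by
    rw [finsum_eq_sum]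
    have : ∀ h : H, τ₂ (h : G) (π f) = π (τ (h : G) f) := fun h => (hπ _ _).symm
    simp only [this]
    rw [← map_sum, hf, map_zero]
  have h3 := h₂ H (π f) hf2
  -- lift the augmentation element
  have hlift : ∀ z ∈ Submodule.span ℤ {x : F₂ | ∃ (h : H) (y : F₂), x = τ₂ (h : G) y - y},
      ∃ w ∈ Submodule.span ℤ {x : P | ∃ (h : H) (y : P), x = τ (h : G) y - y}, π w = z := by
    intro z hz
    induction hz using Submodule.span_induction with
    | mem x hx =>
      obtain ⟨h, y, rfl⟩ := hx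
      obtain ⟨y', rfl⟩ := hsurj y
      exact ⟨τ (h : G) y' - y', Submodule.subset_span ⟨h, y', rfl⟩, by rw [map_sub, hπ]⟩
    | zero => exact ⟨0, Submodule.zero_mem _, map_zero _⟩
    | add x y _ _ hx hy =>
      obtain ⟨w₁, hw₁, rfl⟩ := hx
      obtain ⟨w₂, hw₂, rfl⟩ := hy
      exact ⟨w₁ + w₂, Submodule.add_mem _ hw₁ hw₂, map_add _ _ _⟩
    | smul c x _ hx =>
      obtain ⟨w₁, hw₁, rfl⟩ := hx
      exact ⟨c • w₁, Submodule.smul_mem _ c hw₁, map_smul _ _ _⟩
  obtain ⟨w, hw, hwf⟩ := hlift _ h3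
  have h4 : f - w ∈ LinearMap.ker π := by
    rw [LinearMap.mem_ker, map_sub, hwf, sub_self]
  rw [← hex] at h4
  obtain ⟨p, hp⟩ := h4
  have hNw : (∑ h : H, τ (h : G) w) = 0 := norm_aug τ H hw
  have h5 : (∑ᶠ h : H, τ₁ (h : G) p) = 0 := by
    rw [finsum_eq_sum]
    apply hinj
    rw [map_zero, map_sum]
    have : ∀ h : H, i (τ₁ (h : G) p) = τ (h : G) (f - w) := by
      intro h
      rw [hi, hp]
    simp only [this, map_sub, Finset.sum_sub_distrib, hf, hNw, sub_zero]
  have h6 := h₁ H p h5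
  have h7 : i p ∈ Submodule.span ℤ {x : P | ∃ (h : H) (y : P), x = τ (h : G) y - y} := by
    have : i p ∈ Submodule.map i
        (Submodule.span ℤ {x : P₁ | ∃ (h : H) (y : P₁), x = τ₁ (h : G) y - y}) :=
      Submodule.mem_map_of_mem h6
    rw [Submodule.map_span] at this
    refine Submodule.span_mono ?_ this
    rintro _ ⟨x, ⟨h, y, rfl⟩, rfl⟩
    exact ⟨h, i y, by rw [map_sub, hi]⟩
  have : f = w + i p := by rw [hp]; abel
  rw [this]
  exact Submodule.add_mem _ hw h7

end General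

/-! ## Generating sets of invariants and the associated permutation cover -/

section Cover

variable [Finite G] {B : Type} [AddCommGroup B] (ρ : Representation ℤ G B)

theorem exists_gen_set [Module.Finite ℤ B] :
    ∃ X : Set B, X.Finite ∧ (∀ g, ∀ x ∈ X, ρ g x ∈ X) ∧
      ∀ H : Subgroup G, inv ρ H ≤ Submodule.span ℤ (X ∩ (inv ρ H : Set B)) := by
  classical
  have hfg : ∀ H : Subgroup G, ∃ S : Finset B, Submodule.span ℤ (S : Set B) = inv ρ H :=
    fun H => (IsNoetherian.noetherian (inv ρ H))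
  choose S hS using hfg
  refine ⟨⋃ H : Subgroup G, ⋃ g : G, (ρ g) '' (S H : Set B), ?_, ?_, ?_⟩
  · exact Set.finite_iUnion fun H => Set.finite_iUnion fun g => (S H).finite_toSet.image _
  · intro g x hx
    simp only [Set.mem_iUnion, Set.mem_image] at hx ⊢
    obtain ⟨H, g', s, hs, rfl⟩ := hx
    exact ⟨H, g * g', s, hs, by simp [map_mul]⟩
  · intro H
    rw [← hS H]
    apply Submodule.span_mono
    intro s hs
    refine ⟨?_, ?_⟩
    · simp only [Set.mem_iUnion, Set.mem_image]
      exact ⟨H, 1, s, hs, by simp⟩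
    · exact Submodule.subset_span hs

variable (X : Set B) (hX : ∀ g, ∀ x ∈ X, ρ g x ∈ X)

/-- The action of `G` on a stable subset. -/
@[reducible] def stableAction : MulAction G ↥X where
  smul g x := ⟨ρ g x.1, hX g x.1 x.2⟩
  one_smul x := Subtype.ext (by show ρ 1 x.1 = x.1; simp)
  mul_smul g h x := Subtype.ext (by show ρ (g * h) x.1 = ρ g (ρ h x.1); simp)

/-- The evaluation map `ℤ[X] → B`. -/
noncomputable def genMap : (↥X →₀ ℤ) →ₗ[ℤ] B :=
  Finsupp.linearCombination ℤ (Subtype.val : ↥X → B)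

lemma genMap_single (x : ↥X) (r : ℤ) : genMap X (Finsupp.single x r) = r • (x : B) := by
  simp [genMap, Finsupp.linearCombination_single]

lemma genMap_equivariant :
    letI := stableAction ρ X hX
    IsEquivariant (permRep G ↥X) ρ (genMap X) := by
  letI := stableAction ρ X hX
  intro g p
  induction p using Finsupp.induction_linear with
  | zero => simp
  | add p q hp hq => simp only [map_add, hp, hq]
  | single x r =>
    rw [permRep_single, genMap_single, genMap_single, map_smul]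
    rfl

lemma genMap_inv (hgen : ∀ H : Subgroup G, inv ρ H ≤ Submodule.span ℤ (X ∩ (inv ρ H : Set B)))
    (H : Subgroup G) (b : B) (hb : b ∈ inv ρ H) :
    letI := stableAction ρ X hX
    ∃ p ∈ inv (permRep G ↥X) H, genMap X p = b := by
  letI := stableAction ρ X hX
  have h1 : Submodule.span ℤ (X ∩ (inv ρ H : Set B)) ≤
      Submodule.map (genMap X) (inv (permRep G ↥X) H) := by
    rw [Submodule.span_le]
    rintro x ⟨hxX, hxH⟩
    refine ⟨Finsupp.single ⟨x, hxX⟩ 1, ?_, by simp [genMap_single]⟩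
    intro h
    rw [permRep_single]
    congr 1
    exact Subtype.ext (hxH h)
  obtain ⟨p, hp, hpb⟩ := h1 (hgen H hb)
  exact ⟨p, hp, hpb⟩

include hX in
lemma genMap_surjective
    (hgen : ∀ H : Subgroup G, inv ρ H ≤ Submodule.span ℤ (X ∩ (inv ρ H : Set B))) :
    Function.Surjective (genMap X) := by
  intro b
  have hb : b ∈ inv ρ ⊥ := by
    rintro ⟨h, hh⟩
    rw [Subgroup.mem_bot] at hh
    subst hh
    simp
  obtain ⟨p, _, hp⟩ := genMap_inv ρ X hX hgen ⊥ b hb
  exact ⟨p, hp⟩

end Cover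

/-! ## Statement (I): coflasque resolution of the first type -/

theorem thm_I (G : Type) [Group G] [Finite G]
    (A : Type) [AddCommGroup A] [Module.Finite ℤ A] (ρ : Representation ℤ G A) :
    ∃ (Q : Type) (_ : AddCommGroup Q) (P : Type) (_ : AddCommGroup P)
      (_ : Module.Finite ℤ Q) (_ : Module.Free ℤ Q) (_ : Module.Finite ℤ P) (_ : Module.Free ℤ P)
      (σ : Representation ℤ G Q) (τ : Representation ℤ G P) (i : Q →ₗ[ℤ] P) (π : P →ₗ[ℤ] A),
      GLat.IsEquivariant σ τ i ∧ GLat.IsEquivariant τ ρ π ∧ Function.Injective i ∧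
      Function.Surjective π ∧
      LinearMap.range i = LinearMap.ker π ∧ GLat.IsPermutation τ ∧ GLat.IsCoflasque σ ∧
      GLat.IsFlasque τ ∧ GLat.IsCoflasque τ := by
  obtain ⟨X, hXfin, hX, hgen⟩ := exists_gen_set ρ
  letI := stableAction ρ X hX
  haveI : Finite ↥X := hXfin.to_subtype
  have heq := genMap_equivariant ρ X hX
  have hQ : ∀ g, ∀ q ∈ LinearMap.ker (genMap X), permRep G ↥X g q ∈ LinearMap.ker (genMap X) := by
    intro g q hq
    rw [LinearMap.mem_ker] at hq ⊢
    rw [heq, hq, map_zero]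
  refine ⟨↥(LinearMap.ker (genMap X)), inferInstance, ↥X →₀ ℤ, inferInstance, inferInstance,
    inferInstance, inferInstance, inferInstance,
    subRep (permRep G ↥X) (LinearMap.ker (genMap X)) hQ, permRep G ↥X,
    (LinearMap.ker (genMap X)).subtype, genMap X, ?_, heq, ?_, ?_, ?_, ?_, ?_, ?_, ?_⟩
  · intro g q
    rfl
  · exact Subtype.val_injective
  · exact genMap_surjective ρ X hX hgen
  · exact Submodule.range_subtype _
  · exact isPermutation_permRep
  · exact ker_isCoflasque (permRep G ↥X) ρ (genMap X) heq isCoflasque_permRep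
      (fun H b hb => genMap_inv ρ X hX hgen H b hb) hQ
  · exact isFlasque_permRep
  · exact isCoflasque_permRep

/-! ## Statement (IV): coflasque resolution of the second type -/

section Coind

/-- The free `G`-set `G × ι`. -/
def GI (G ι : Type) : Type := G × ι

/-- Constructor. -/
def GI.mk {G ι : Type} (g : G) (k : ι) : GI G ι := ((g, k) : G × ι)

instance (ι : Type) : MulAction G (GI G ι) where
  smul g y := ((g * y.1, y.2) : G × ι)
  one_smul y := by
    show ((1 * y.1, y.2) : G × ι) = y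
    rw [one_mul]
    rfl
  mul_smul g h y := by
    show (((g * h) * y.1, y.2) : G × ι) = (g * (h * y.1), y.2)
    rw [mul_assoc]

lemma GI.smul_fst {ι : Type} (g : G) (y : GI G ι) : (g • y).1 = g * y.1 := rfl
lemma GI.smul_snd {ι : Type} (g : G) (y : GI G ι) : (g • y).2 = y.2 := rfl

instance {ι : Type} [Finite G] [Finite ι] : Finite (GI G ι) := inferInstanceAs (Finite (G × ι))

variable [Finite G] {A : Type} [AddCommGroup A] (ρ : Representation ℤ G A)
  {ι : Type} [Finite ι] (b : Module.Basis ι ℤ A)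

/-- The coinduction embedding `A → ℤ[G × ι]`. -/
noncomputable def coindEmb : A →ₗ[ℤ] (GI G ι →₀ ℤ) where
  toFun a := Finsupp.equivFunOnFinite.symm (fun y : GI G ι => b.repr (ρ y.1⁻¹ a) y.2)
  map_add' a a' := by
    ext y
    simp [Finsupp.coe_equivFunOnFinite_symm]
  map_smul' c a := by
    ext y
    simp [Finsupp.coe_equivFunOnFinite_symm]

lemma coindEmb_apply (a : A) (y : GI G ι) : coindEmb ρ b a y = b.repr (ρ y.1⁻¹ a) y.2 := rfl

lemma coindEmb_equivariant : IsEquivariant ρ (permRep G (GI G ι)) (coindEmb ρ b) := by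
  intro g a
  ext y
  rw [permRep_apply, coindEmb_apply, coindEmb_apply]
  have h1 : (g⁻¹ • y).1⁻¹ = y.1⁻¹ * g := by
    rw [GI.smul_fst]
    simp [mul_inv_rev]
  rw [h1, GI.smul_snd, map_mul]
  rfl

lemma coindEmb_injective : Function.Injective (coindEmb ρ b) := by
  rw [injective_iff_map_eq_zero]
  intro a ha
  apply b.repr.injective
  rw [map_zero]
  ext k
  have := DFunLike.congr_fun ha (GI.mk 1 k)
  rw [coindEmb_apply] at this
  have h0 : (0 : GI G ι →₀ ℤ) (GI.mk 1 k) = 0 := rfl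
  rw [h0] at this
  simpa [GI.mk] using this

end Coind

theorem prod_isCoflasque {P₁ P₂ : Type} [AddCommGroup P₁] [AddCommGroup P₂]
    (τ₁ : Representation ℤ G P₁) (τ₂ : Representation ℤ G P₂)
    (h₁ : IsCoflasque τ₁) (h₂ : IsCoflasque τ₂) : IsCoflasque (τ₁.prod τ₂) := by
  intro H f hf
  obtain ⟨m₁, hm₁⟩ := h₁ H (fun a => (f a).1) (fun a b => by
    have := congrArg Prod.fst (hf a b)
    simpa using this)
  obtain ⟨m₂, hm₂⟩ := h₂ H (fun a => (f a).2) (fun a b => by
    have := congrArg Prod.snd (hf a b)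
    simpa using this)
  exact ⟨(m₁, m₂), fun a => Prod.ext (by simpa using hm₁ a) (by simpa using hm₂ a)⟩

theorem thm_IV (G : Type) [Group G] [Finite G]
    (A : Type) [AddCommGroup A] [Module.Finite ℤ A] [Module.Free ℤ A] (ρ : Representation ℤ G A) :
    ∃ (Q : Type) (_ : AddCommGroup Q) (P : Type) (_ : AddCommGroup P)
      (_ : Module.Finite ℤ Q) (_ : Module.Free ℤ Q) (_ : Module.Finite ℤ P) (_ : Module.Free ℤ P)
      (σ : Representation ℤ G Q) (τ : Representation ℤ G P) (i : A →ₗ[ℤ] Q) (π : Q →ₗ[ℤ] P),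
      GLat.IsEquivariant ρ σ i ∧ GLat.IsEquivariant σ τ π ∧ Function.Injective i ∧
      Function.Surjective π ∧
      LinearMap.range i = LinearMap.ker π ∧ GLat.IsCoflasque σ ∧ GLat.IsPermutation τ := by
  classical
  let ι := Module.Free.ChooseBasisIndex ℤ A
  let b : Module.Basis ι ℤ A := Module.Free.chooseBasis ℤ A
  let M := GI G ι →₀ ℤ
  let τM : Representation ℤ G M := permRep G (GI G ι)
  let j : A →ₗ[ℤ] M := coindEmb ρ b
  have hj : IsEquivariant ρ τM j := coindEmb_equivariant ρ b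
  have hjinj : Function.Injective j := coindEmb_injective ρ b
  let N : Submodule ℤ M := LinearMap.range j
  have hN : ∀ g, ∀ n ∈ N, τM g n ∈ N := by
    rintro g _ ⟨a, rfl⟩
    exact ⟨ρ g a, hj g a⟩
  let ρB : Representation ℤ G (M ⧸ N) := quotRep τM N hN
  obtain ⟨X, hXfin, hX, hgen⟩ := exists_gen_set ρB
  letI := stableAction ρB X hX
  haveI : Finite ↥X := hXfin.to_subtype
  let P := ↥X →₀ ℤ
  let τP : Representation ℤ G P := permRep G ↥X
  have hgm : IsEquivariant τP ρB (genMap X) := genMap_equivariant ρB X hX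
  let ε : M × P →ₗ[ℤ] (M ⧸ N) := (N.mkQ).coprod (genMap X)
  have hε_apply : ∀ m p, ε (m, p) = Submodule.Quotient.mk m + genMap X p := by
    intro m p
    simp [ε, LinearMap.coprod_apply]
  let τ : Representation ℤ G (M × P) := τM.prod τP
  have hτ_apply : ∀ g (x : M × P), τ g x = (τM g x.1, τP g x.2) := fun g x => rfl
  have hε : IsEquivariant τ ρB ε := by
    rintro g ⟨m, p⟩
    rw [hτ_apply, hε_apply, hε_apply, map_add, hgm]
    rfl
  have hQ : ∀ g, ∀ q ∈ LinearMap.ker ε, τ g q ∈ LinearMap.ker ε := by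
    intro g q hq
    rw [LinearMap.mem_ker] at hq ⊢
    rw [hε, hq, map_zero]
  let Q : Submodule ℤ (M × P) := LinearMap.ker ε
  let σ : Representation ℤ G ↥Q := subRep τ Q hQ
  have hσ : IsCoflasque σ := by
    apply ker_isCoflasque τ ρB ε hε (prod_isCoflasque τM τP isCoflasque_permRep isCoflasque_permRep)
    intro H bb hbb
    obtain ⟨p, hp, hpb⟩ := genMap_inv ρB X hX hgen H bb hbb
    refine ⟨(0, p), ?_, ?_⟩
    · intro h
      rw [hτ_apply]
      exact Prod.ext (map_zero _) (hp h)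
    · rw [hε_apply, hpb]
      simp
  have hi_mem : ∀ a : A, (LinearMap.inl ℤ M P).comp j a ∈ Q := by
    intro a
    show ε (j a, 0) = 0
    rw [hε_apply, map_zero, add_zero, Submodule.Quotient.mk_eq_zero]
    exact ⟨a, rfl⟩
  let i : A →ₗ[ℤ] ↥Q := LinearMap.codRestrict Q ((LinearMap.inl ℤ M P).comp j) hi_mem
  let π : ↥Q →ₗ[ℤ] P := (LinearMap.snd ℤ M P).comp Q.subtype
  refine ⟨↥Q, inferInstance, P, inferInstance, inferInstance, inferInstance, inferInstance,
    inferInstance, σ, τP, i, π, ?_, ?_, ?_, ?_, ?_, hσ, isPermutation_permRep⟩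
  · intro g a
    apply Subtype.ext
    show ((j (ρ g a), 0) : M × P) = τ g (j a, 0)
    rw [hτ_apply]
    exact Prod.ext (hj g a) (map_zero _).symm
  · intro g q
    rfl
  · intro a a' h
    have := congrArg (fun q : ↥Q => (q : M × P).1) h
    exact hjinj this
  · intro p
    obtain ⟨m, hm⟩ := N.mkQ_surjective (genMap X p)
    refine ⟨⟨(-m, p), ?_⟩, rfl⟩
    show ε (-m, p) = 0
    rw [hε_apply, Submodule.Quotient.mk_neg, ← Submodule.mkQ_apply, hm]
    simp
  · ext q
    constructor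
    · rintro ⟨a, rfl⟩
      rfl
    · intro hq
      have hq2 : (q : M × P).2 = 0 := hq
      have hq1 : ε ((q : M × P).1, (q : M × P).2) = 0 := q.2
      rw [hε_apply, hq2, map_zero, add_zero, Submodule.Quotient.mk_eq_zero] at hq1
      obtain ⟨a, ha⟩ := hq1
      refine ⟨a, Subtype.ext ?_⟩
      exact Prod.ext ha hq2.symm

/-! ## Statement (III): flasque resolution of a lattice -/

section Dual

variable [Finite G] {A : Type} [AddCommGroup A] [Module.Finite ℤ A] [Module.Free ℤ A]
  (ρ : Representation ℤ G A)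

lemma dual_apply' (g : G) (φ : Module.Dual ℤ A) (a : A) : (ρ.dual g φ) a = φ (ρ g⁻¹ a) := by
  rw [Representation.dual_apply]
  rfl

/-- Every functional on a saturated submodule of the dual is evaluation at an element. -/
theorem exists_eval' (N' : Submodule ℤ (Module.Dual ℤ A))
    (hsat : ∀ k : ℤ, k ≠ 0 → ∀ φ : Module.Dual ℤ A, k • φ ∈ N' → φ ∈ N') (l : ↥N' →ₗ[ℤ] ℤ) :
    ∃ a' : A, ∀ (ψ : Module.Dual ℤ A) (hψ : ψ ∈ N'), ψ a' = l ⟨ψ, hψ⟩ := by
  classical
  haveI : Module.IsTorsionFree ℤ (Module.Dual ℤ A ⧸ N') := by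
    apply Module.IsTorsionFree.of_smul_eq_zero
    intro k x hx
    by_cases hk : k = 0
    · exact Or.inl hk
    right
    obtain ⟨φ, rfl⟩ := Submodule.Quotient.mk_surjective N' x
    rw [← Submodule.Quotient.mk_smul, Submodule.Quotient.mk_eq_zero] at hx
    rw [Submodule.Quotient.mk_eq_zero]
    exact hsat k hk φ hx
  obtain ⟨s, hs⟩ := Module.projective_lifting_property N'.mkQ LinearMap.id N'.mkQ_surjective
  have hmem : ∀ φ : Module.Dual ℤ A,
      ((LinearMap.id : Module.Dual ℤ A →ₗ[ℤ] Module.Dual ℤ A) - s ∘ₗ N'.mkQ) φ ∈ N' := by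
    intro φ
    rw [← Submodule.Quotient.mk_eq_zero]
    have := LinearMap.congr_fun hs (N'.mkQ φ)
    simp only [LinearMap.coe_comp, Function.comp_apply, LinearMap.id_coe, id_eq,
      Submodule.mkQ_apply] at this
    simp only [LinearMap.sub_apply, LinearMap.id_coe, id_eq, LinearMap.coe_comp,
      Function.comp_apply, Submodule.mkQ_apply, Submodule.Quotient.mk_sub, this, sub_self]
  let proj : Module.Dual ℤ A →ₗ[ℤ] ↥N' := LinearMap.codRestrict N'
    ((LinearMap.id : Module.Dual ℤ A →ₗ[ℤ] Module.Dual ℤ A) - s ∘ₗ N'.mkQ) hmem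
  have hproj : ∀ (ψ : Module.Dual ℤ A) (hψ : ψ ∈ N'), proj ψ = ⟨ψ, hψ⟩ := by
    intro ψ hψ
    apply Subtype.ext
    show ψ - s (N'.mkQ ψ) = ψ
    rw [Submodule.mkQ_apply, (Submodule.Quotient.mk_eq_zero N').mpr hψ, map_zero, sub_zero]
  refine ⟨(Module.evalEquiv ℤ A).symm (l ∘ₗ proj), fun ψ hψ => ?_⟩
  rw [Module.apply_evalEquiv_symm_apply]
  show l (proj ψ) = _
  rw [hproj ψ hψ]

/-- Every functional on the `H`-invariant forms is evaluation at an element of the lattice. -/
theorem exists_eval (H : Subgroup G) (l : ↥(inv ρ.dual H) →ₗ[ℤ] ℤ) :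
    ∃ a' : A, ∀ (ψ : Module.Dual ℤ A) (hψ : ψ ∈ inv ρ.dual H), ψ a' = l ⟨ψ, hψ⟩ := by
  apply exists_eval'
  intro k hk φ hφ h
  have h1 := hφ h
  rw [map_smul] at h1
  exact smul_right_injective _ hk h1

variable (X : Set (Module.Dual ℤ A)) [Finite ↥X]

/-- The evaluation embedding `A → ℤ[X]` for a set of forms `X`. -/
noncomputable def evalEmb : A →ₗ[ℤ] (↥X →₀ ℤ) where
  toFun a := Finsupp.equivFunOnFinite.symm (fun φ : ↥X => φ.1 a)
  map_add' a a' := by
    ext y
    simp [Finsupp.coe_equivFunOnFinite_symm]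
  map_smul' c a := by
    ext y
    simp [Finsupp.coe_equivFunOnFinite_symm]

lemma evalEmb_apply (a : A) (φ : ↥X) : evalEmb X a φ = φ.1 a := rfl

variable (hX : ∀ g, ∀ x ∈ X, ρ.dual g x ∈ X)

lemma evalEmb_equivariant :
    letI := stableAction ρ.dual X hX
    IsEquivariant ρ (permRep G ↥X) (evalEmb X) := by
  letI := stableAction ρ.dual X hX
  intro g a
  ext φ
  rw [permRep_apply, evalEmb_apply, evalEmb_apply]
  show φ.1 (ρ g a) = (ρ.dual g⁻¹ φ.1) a
  rw [dual_apply', inv_inv]

variable (hgen : ∀ H : Subgroup G, inv ρ.dual H ≤ Submodule.span ℤ (X ∩ (inv ρ.dual H : Set _)))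

include hgen in
lemma span_X_eq_top (φ : Module.Dual ℤ A) : φ ∈ Submodule.span ℤ X := by
  have hb : φ ∈ inv ρ.dual ⊥ := by
    rintro ⟨h, hh⟩
    rw [Subgroup.mem_bot] at hh
    subst hh
    show ρ.dual 1 φ = φ
    rw [map_one]
    rfl
  exact Submodule.span_mono Set.inter_subset_left (hgen ⊥ hb)

include hgen in
lemma evalEmb_injective : Function.Injective (evalEmb X) := by
  rw [injective_iff_map_eq_zero]
  intro a ha
  rw [← Module.forall_dual_apply_eq_zero_iff ℤ a]
  intro φ
  have h1 : Submodule.span ℤ X ≤ LinearMap.ker (Module.Dual.eval ℤ A a) := by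
    rw [Submodule.span_le]
    intro ψ hψ
    have := DFunLike.congr_fun ha ⟨ψ, hψ⟩
    rw [evalEmb_apply] at this
    exact this
  exact h1 (span_X_eq_top ρ X hgen φ)

/-- Divisibility of all values of forms implies divisibility of the vector. -/
lemma exists_div (k : ℤ) (a : A) (h : ∀ φ : Module.Dual ℤ A, k ∣ φ a) : ∃ a', a = k • a' := by
  classical
  let b := Module.Free.chooseBasis ℤ A
  refine ⟨∑ j, (b.repr a j / k) • b j, ?_⟩
  rw [Finset.smul_sum]
  conv_lhs => rw [← b.sum_repr a]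
  apply Finset.sum_congr rfl
  intro j _
  have hj := h (b.coord j)
  rw [Module.Basis.coord_apply] at hj
  rw [smul_smul, Int.mul_ediv_cancel' hj]

include hgen in
lemma evalEmb_saturated (k : ℤ) (hk : k ≠ 0) (p : ↥X →₀ ℤ)
    (hp : k • p ∈ LinearMap.range (evalEmb X)) : p ∈ LinearMap.range (evalEmb X) := by
  obtain ⟨a, ha⟩ := hp
  have h1 : ∀ φ : Module.Dual ℤ A, k ∣ φ a := by
    intro φ
    have := span_X_eq_top ρ X hgen φ
    induction this using Submodule.span_induction with
    | mem ψ hψ =>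
      have := DFunLike.congr_fun ha ⟨ψ, hψ⟩
      rw [evalEmb_apply] at this
      exact ⟨p ⟨ψ, hψ⟩, by rw [this]; simp⟩
    | zero => simp
    | add x y _ _ hx hy => exact dvd_add hx hy
    | smul c x _ hx => exact Dvd.dvd.mul_left hx c
  obtain ⟨a', rfl⟩ := exists_div k a h1
  refine ⟨a', ?_⟩
  rw [map_smul] at ha
  exact smul_right_injective _ hk ha

include hX hgen in
/-- Condition `(C_H)` for the evaluation embedding. -/
lemma evalEmb_norm (H : Subgroup G) [Fintype H] (f : ↥X →₀ ℤ) :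
    letI := stableAction ρ.dual X hX
    (∑ h : H, permRep G ↥X (h : G) f) ∈ LinearMap.range (evalEmb X) →
    ∃ p₀ ∈ LinearMap.range (evalEmb X),
      (∑ h : H, permRep G ↥X (h : G) p₀) = ∑ h : H, permRep G ↥X (h : G) f := by
  letI := stableAction ρ.dual X hX
  rintro ⟨a, ha⟩
  have heq := evalEmb_equivariant ρ X hX
  have hinj := evalEmb_injective ρ X hgen
  set n : ℤ := (Fintype.card H : ℤ) with hn
  have hn0 : n ≠ 0 := by
    rw [hn]
    exact_mod_cast Fintype.card_ne_zero
  -- `a` is invariant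
  have haH : a ∈ inv ρ H := by
    intro h
    apply hinj
    rw [heq, ha, comp_norm]
  -- divisibility on invariant forms
  have hdiv : ∀ ψ ∈ inv ρ.dual H, n ∣ ψ a := by
    intro ψ hψ
    have := hgen H hψ
    clear hψ
    induction this using Submodule.span_induction with
    | mem ψ hψ' =>
      obtain ⟨hψX, hψH⟩ := hψ'
      have h1 := DFunLike.congr_fun ha ⟨ψ, hψX⟩
      rw [evalEmb_apply, Finsupp.finset_sum_apply] at h1
      have h2 : ∀ h : H, permRep G ↥X (h : G) f ⟨ψ, hψX⟩ = f ⟨ψ, hψX⟩ := by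
        intro h
        rw [permRep_apply]
        congr 1
        apply Subtype.ext
        show ρ.dual ((h : G)⁻¹) ψ = ψ
        exact hψH h⁻¹
      simp only [h2, Finset.sum_const, Finset.card_univ, nsmul_eq_mul] at h1
      exact ⟨f ⟨ψ, hψX⟩, by rw [h1, hn]⟩
    | zero => simp
    | add x y _ _ hx hy => exact dvd_add hx hy
    | smul c x _ hx => exact Dvd.dvd.mul_left hx c
  -- the functional ψ ↦ ψ a / n
  let l : ↥(inv ρ.dual H) →ₗ[ℤ] ℤ :=
    { toFun := fun ψ => ψ.1 a / n
      map_add' := by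
        intro x y
        show (x.1 + y.1) a / n = x.1 a / n + y.1 a / n
        rw [LinearMap.add_apply]
        obtain ⟨u, hu⟩ := hdiv x.1 x.2
        obtain ⟨v, hv⟩ := hdiv y.1 y.2
        rw [hu, hv, ← mul_add, Int.mul_ediv_cancel_left _ hn0, Int.mul_ediv_cancel_left _ hn0,
          Int.mul_ediv_cancel_left _ hn0]
      map_smul' := by
        intro c x
        show (c • x.1) a / n = c • (x.1 a / n)
        rw [LinearMap.smul_apply]
        obtain ⟨u, hu⟩ := hdiv x.1 x.2
        rw [hu, smul_eq_mul, smul_eq_mul, mul_left_comm, Int.mul_ediv_cancel_left _ hn0,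
          Int.mul_ediv_cancel_left _ hn0] }
  obtain ⟨a', ha'⟩ := exists_eval ρ H l
  have ha'' : ∀ ψ ∈ inv ρ.dual H, n * ψ a' = ψ a := by
    intro ψ hψ
    rw [ha' ψ hψ]
    show n * (ψ a / n) = ψ a
    exact Int.mul_ediv_cancel' (hdiv ψ hψ)
  -- the norm of a' is a
  have hnorm : (∑ h : H, ρ (h : G) a') = a := by
    rw [← sub_eq_zero, ← Module.forall_dual_apply_eq_zero_iff ℤ]
    intro φ
    set b' := (∑ h : H, ρ (h : G) a') - a with hb'
    have hb'H : b' ∈ inv ρ H := by
      intro h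
      rw [hb', map_sub, comp_norm, haH h]
    set ψ : Module.Dual ℤ A := ∑ h : H, ρ.dual (h : G) φ with hψ
    have hψH : ψ ∈ inv ρ.dual H := fun h => comp_norm ρ.dual H h φ
    have e1 : ψ b' = n * φ b' := by
      rw [hψ, LinearMap.sum_apply]
      have : ∀ h : H, (ρ.dual (h : G) φ) b' = φ b' := by
        intro h
        rw [dual_apply']
        congr 1
        exact hb'H h⁻¹
      simp only [this, Finset.sum_const, Finset.card_univ, nsmul_eq_mul, hn]
    have e2 : ψ b' = 0 := by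
      rw [hb', map_sub, map_sum]
      have : ∀ h : H, ψ (ρ (h : G) a') = ψ a' := by
        intro h
        have := hψH h⁻¹
        have h3 := dual_apply' ρ ((h⁻¹ : H) : G) ψ a'
        rw [this] at h3
        rw [h3]
        simp
      simp only [this, Finset.sum_const, Finset.card_univ, nsmul_eq_mul]
      rw [← ha'' ψ hψH, hn]
      simp
    rw [e2] at e1
    have := mul_eq_zero.mp e1.symm
    exact this.resolve_left hn0
  refine ⟨evalEmb X a', ⟨a', rfl⟩, ?_⟩
  rw [← ha, ← hnorm, map_sum]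
  apply Finset.sum_congr rfl
  intro h _
  exact (heq _ _).symm

end Dual

theorem thm_III (G : Type) [Group G] [Finite G]
    (A : Type) [AddCommGroup A] [Module.Finite ℤ A] [Module.Free ℤ A] (ρ : Representation ℤ G A) :
    ∃ (P : Type) (_ : AddCommGroup P) (F : Type) (_ : AddCommGroup F)
      (_ : Module.Finite ℤ P) (_ : Module.Free ℤ P) (_ : Module.Finite ℤ F) (_ : Module.Free ℤ F)
      (σ : Representation ℤ G P) (τ : Representation ℤ G F) (i : A →ₗ[ℤ] P) (π : P →ₗ[ℤ] F),
      GLat.IsEquivariant ρ σ i ∧ GLat.IsEquivariant σ τ π ∧ Function.Injective i ∧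
      Function.Surjective π ∧
      LinearMap.range i = LinearMap.ker π ∧ GLat.IsPermutation σ ∧ GLat.IsFlasque τ ∧
      GLat.IsFlasque σ := by
  classical
  obtain ⟨X, hXfin, hX, hgen⟩ := exists_gen_set ρ.dual
  letI := stableAction ρ.dual X hX
  haveI : Finite ↥X := hXfin.to_subtype
  let P := ↥X →₀ ℤ
  let τP : Representation ℤ G P := permRep G ↥X
  let j : A →ₗ[ℤ] P := evalEmb X
  have hj : IsEquivariant ρ τP j := evalEmb_equivariant ρ X hX
  have hjinj : Function.Injective j := evalEmb_injective ρ X hgen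
  let N : Submodule ℤ P := LinearMap.range j
  have hN : ∀ g, ∀ n ∈ N, τP g n ∈ N := by
    rintro g _ ⟨a, rfl⟩
    exact ⟨ρ g a, hj g a⟩
  let τF : Representation ℤ G (P ⧸ N) := quotRep τP N hN
  haveI : Module.IsTorsionFree ℤ (P ⧸ N) := by
    apply Module.IsTorsionFree.of_smul_eq_zero
    intro k x hx
    by_cases hk : k = 0
    · exact Or.inl hk
    right
    obtain ⟨p, rfl⟩ := Submodule.Quotient.mk_surjective N x
    rw [← Submodule.Quotient.mk_smul, Submodule.Quotient.mk_eq_zero] at hx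
    rw [Submodule.Quotient.mk_eq_zero]
    exact evalEmb_saturated ρ X hgen k hk p hx
  refine ⟨P, inferInstance, P ⧸ N, inferInstance, inferInstance, inferInstance, inferInstance,
    inferInstance, τP, τF, j, N.mkQ, hj, ?_, hjinj, N.mkQ_surjective, ?_, isPermutation_permRep,
    ?_, isFlasque_permRep⟩
  · intro g p
    rfl
  · rw [Submodule.ker_mkQ]
  · apply quot_isFlasque τP N hN isFlasque_permRep
    intro H _ f hf
    exact evalEmb_norm ρ X hX hgen H f hf

/-! ## Statement (II): flasque resolution of a finitely generated module -/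

theorem thm_II (G : Type) [Group G] [Finite G]
    (A : Type) [AddCommGroup A] [Module.Finite ℤ A] (ρ : Representation ℤ G A) :
    ∃ (P : Type) (_ : AddCommGroup P) (F : Type) (_ : AddCommGroup F)
      (_ : Module.Finite ℤ P) (_ : Module.Free ℤ P) (_ : Module.Finite ℤ F) (_ : Module.Free ℤ F)
      (σ : Representation ℤ G P) (τ : Representation ℤ G F) (i : P →ₗ[ℤ] F) (π : F →ₗ[ℤ] A),
      GLat.IsEquivariant σ τ i ∧ GLat.IsEquivariant τ ρ π ∧ Function.Injective i ∧
      Function.Surjective π ∧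
      LinearMap.range i = LinearMap.ker π ∧ GLat.IsPermutation σ ∧ GLat.IsFlasque τ := by
  classical
  obtain ⟨Q, _, P₁, _, _, _, _, _, σQ, τ₁, i₁, π₁, hi₁, hπ₁, hi₁inj, hπ₁surj, hex₁, hperm₁, _,
    hfl₁, _⟩ := thm_I G A ρ
  obtain ⟨P₂, _, F₂, _, _, _, _, _, τ₂, τF₂, i₂, π₂, hi₂, hπ₂, hi₂inj, hπ₂surj, hex₂, hperm₂,
    hflF₂, _⟩ := thm_III G Q σQ
  let δ : Q →ₗ[ℤ] P₁ × P₂ := i₁.prod i₂
  have hδ : ∀ q, δ q = (i₁ q, i₂ q) := fun q => rfl
  let R : Submodule ℤ (P₁ × P₂) := LinearMap.range δ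
  let τ₁₂ : Representation ℤ G (P₁ × P₂) := τ₁.prod τ₂
  have hτ₁₂ : ∀ g (x : P₁ × P₂), τ₁₂ g x = (τ₁ g x.1, τ₂ g x.2) := fun g x => rfl
  have hR : ∀ g, ∀ x ∈ R, τ₁₂ g x ∈ R := by
    rintro g _ ⟨q, rfl⟩
    refine ⟨σQ g q, ?_⟩
    rw [hδ, hδ, hτ₁₂, hi₁, hi₂]
  let τF : Representation ℤ G ((P₁ × P₂) ⧸ R) := quotRep τ₁₂ R hR
  have hmemR : ∀ x : P₁ × P₂, x ∈ R ↔ ∃ q, i₁ q = x.1 ∧ i₂ q = x.2 := by
    intro x
    constructor
    · rintro ⟨q, rfl⟩
      exact ⟨q, rfl, rfl⟩
    · rintro ⟨q, h1, h2⟩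
      exact ⟨q, Prod.ext h1 h2⟩
  have hπ₁i₁ : ∀ q, π₁ (i₁ q) = 0 := by
    intro q
    have : i₁ q ∈ LinearMap.ker π₁ := by rw [← hex₁]; exact ⟨q, rfl⟩
    exact this
  have hπ₂i₂ : ∀ q, π₂ (i₂ q) = 0 := by
    intro q
    have : i₂ q ∈ LinearMap.ker π₂ := by rw [← hex₂]; exact ⟨q, rfl⟩
    exact this
  let i : P₂ →ₗ[ℤ] (P₁ × P₂) ⧸ R := R.mkQ ∘ₗ LinearMap.inr ℤ P₁ P₂
  have hi_apply : ∀ p₂, i p₂ = Submodule.Quotient.mk ((0, p₂) : P₁ × P₂) := fun p₂ => rfl
  let π : (P₁ × P₂) ⧸ R →ₗ[ℤ] A := R.liftQ (π₁ ∘ₗ LinearMap.fst ℤ P₁ P₂) (by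
    rintro _ ⟨q, rfl⟩
    show π₁ (i₁ q) = 0
    exact hπ₁i₁ q)
  have hπ_apply : ∀ x : P₁ × P₂, π (Submodule.Quotient.mk x) = π₁ x.1 := fun x => rfl
  let i' : P₁ →ₗ[ℤ] (P₁ × P₂) ⧸ R := R.mkQ ∘ₗ LinearMap.inl ℤ P₁ P₂
  have hi'_apply : ∀ p₁, i' p₁ = Submodule.Quotient.mk ((p₁, 0) : P₁ × P₂) := fun p₁ => rfl
  let π' : (P₁ × P₂) ⧸ R →ₗ[ℤ] F₂ := R.liftQ (π₂ ∘ₗ LinearMap.snd ℤ P₁ P₂) (by
    rintro _ ⟨q, rfl⟩
    show π₂ (i₂ q) = 0
    exact hπ₂i₂ q)
  have hπ'_apply : ∀ x : P₁ × P₂, π' (Submodule.Quotient.mk x) = π₂ x.2 := fun x => rfl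
  have hi'inj : Function.Injective i' := by
    rw [injective_iff_map_eq_zero]
    intro p₁ hp
    rw [hi'_apply, Submodule.Quotient.mk_eq_zero, hmemR] at hp
    obtain ⟨q, h1, h2⟩ := hp
    have : q = 0 := hi₂inj (by rw [h2, map_zero])
    have h1' : i₁ q = p₁ := h1
    rw [← h1', this, map_zero]
  have hex' : LinearMap.range i' = LinearMap.ker π' := by
    ext x
    constructor
    · rintro ⟨p₁, rfl⟩
      show π' (i' p₁) = 0
      rw [hi'_apply, hπ'_apply, map_zero]
    · intro hx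
      obtain ⟨⟨p₁, p₂⟩, rfl⟩ := Submodule.Quotient.mk_surjective R x
      have h1 : π₂ p₂ = 0 := hx
      have h2 : p₂ ∈ LinearMap.range i₂ := by rw [hex₂]; exact h1
      obtain ⟨q, rfl⟩ := h2
      refine ⟨p₁ - i₁ q, ?_⟩
      rw [hi'_apply]
      rw [Submodule.Quotient.eq, hmemR]
      refine ⟨-q, ?_, ?_⟩ <;> simp
  have hπ'surj : Function.Surjective π' := by
    intro y
    obtain ⟨p₂, rfl⟩ := hπ₂surj y
    exact ⟨Submodule.Quotient.mk (0, p₂), rfl⟩
  have hi'eq : IsEquivariant τ₁ τF i' := by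
    intro g p₁
    rw [hi'_apply, hi'_apply, quotRep_mk, hτ₁₂]
    simp
  have hπ'eq : IsEquivariant τF τF₂ π' := by
    intro g x
    obtain ⟨x, rfl⟩ := Submodule.Quotient.mk_surjective R x
    rw [quotRep_mk, hπ'_apply, hπ'_apply, hτ₁₂, hπ₂]
  have hflF : IsFlasque τF :=
    ext_isFlasque τF τ₁ τF₂ i' π' hi'eq hπ'eq hi'inj hπ'surj hex' hfl₁ hflF₂
  haveI : Module.IsTorsionFree ℤ ((P₁ × P₂) ⧸ R) := by
    apply Module.IsTorsionFree.of_smul_eq_zero
    intro k x hx
    by_cases hk : k = 0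
    · exact Or.inl hk
    right
    have h1 : π' x = 0 := by
      have : k • π' x = 0 := by rw [← map_smul, hx, map_zero]
      exact (smul_eq_zero.mp this).resolve_left hk
    have h2 : x ∈ LinearMap.range i' := by rw [hex']; exact h1
    obtain ⟨p, rfl⟩ := h2
    have h3 : i' (k • p) = 0 := by rw [map_smul, hx]
    have h4 : k • p = 0 := hi'inj (by rw [h3, map_zero])
    rw [(smul_eq_zero.mp h4).resolve_left hk, map_zero]
  refine ⟨P₂, inferInstance, (P₁ × P₂) ⧸ R, inferInstance, inferInstance, inferInstance,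
    inferInstance, inferInstance, τ₂, τF, i, π, ?_, ?_, ?_, ?_, ?_, hperm₂, hflF⟩
  · intro g p₂
    rw [hi_apply, hi_apply, quotRep_mk, hτ₁₂]
    simp
  · intro g x
    obtain ⟨x, rfl⟩ := Submodule.Quotient.mk_surjective R x
    rw [quotRep_mk, hπ_apply, hπ_apply, hτ₁₂, hπ₁]
  · rw [injective_iff_map_eq_zero]
    intro p₂ hp
    rw [hi_apply, Submodule.Quotient.mk_eq_zero, hmemR] at hp
    obtain ⟨q, h1, h2⟩ := hp
    have : q = 0 := hi₁inj (by rw [h1, map_zero])
    have h2' : i₂ q = p₂ := h2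
    rw [← h2', this, map_zero]
  · intro a
    obtain ⟨p₁, rfl⟩ := hπ₁surj a
    exact ⟨Submodule.Quotient.mk (p₁, 0), rfl⟩
  · ext x
    constructor
    · rintro ⟨p₂, rfl⟩
      show π (i p₂) = 0
      rw [hi_apply, hπ_apply, map_zero]
    · intro hx
      obtain ⟨⟨p₁, p₂⟩, rfl⟩ := Submodule.Quotient.mk_surjective R x
      have h1 : π₁ p₁ = 0 := hx
      have h2 : p₁ ∈ LinearMap.range i₁ := by rw [hex₁]; exact h1
      obtain ⟨q, rfl⟩ := h2
      refine ⟨p₂ - i₂ q, ?_⟩
      rw [hi_apply]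
      rw [Submodule.Quotient.eq, hmemR]
      refine ⟨-q, ?_, ?_⟩ <;> simp

end Groth.Agent.Lib.Helper97.GLatLib
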