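import Mathlib
import Groth.Prelude.Def_GrMod3
import Groth.Agent.Lib.Proj.Helper66_GrModSections

/-!
# The graded module `Γ_*(M~) = ⊕_n Γ(Proj, M(n)~)` as an `A`-module (helper97, for S15550)
-/

set_option autoImplicit false
set_option linter.unusedSectionVars false
set_option linter.style.haveILetI false
universe u

namespace Groth.Agent.Lib.Helper97.GS1

open CategoryTheory AlgebraicGeometry Opposite TopologicalSpace DirectSum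

variable {A σ : Type u} [CommRing A] [SetLike σ A] [AddSubgroupClass σ A] (𝒜 : ℕ → σ) [GradedRing 𝒜]
variable {M τ : Type u} [AddCommGroup M] [Module A M] [SetLike τ M] [AddSubgroupClass τ M]
  (ℳ : ℕ → τ) [SetLike.GradedSMul 𝒜 ℳ]

/-- global sections of `M(n)~` -/
def S (n : ℤ) : Type u := GrMod.sect 𝒜 ℳ n (op (⊤ : Opens (ProjectiveSpectrum.top 𝒜)))

instance instS (n : ℤ) : AddCommGroup (S 𝒜 ℳ n) :=
  inferInstanceAs (AddCommGroup ↥(GrMod.sect 𝒜 ℳ n (op (⊤ : Opens (ProjectiveSpectrum.top 𝒜)))))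

/-- value of a global section at a point -/
def vl {n : ℤ} (s : S 𝒜 ℳ n) (x : ProjectiveSpectrum 𝒜) : GrMod.LocMod 𝒜 (M := M) x :=
  ((s.1 ⟨x, trivial⟩ : GrMod.tildeAt 𝒜 ℳ n x) : GrMod.LocMod 𝒜 (M := M) x)

variable {𝒜 ℳ} in
theorem vl_ext {n : ℤ} {s s' : S 𝒜 ℳ n} (h : ∀ x, vl 𝒜 ℳ s x = vl 𝒜 ℳ s' x) : s = s' :=
  Subtype.ext (funext fun x => Subtype.ext (h x.1))

@[simp] theorem vl_add {n : ℤ} (s s' : S 𝒜 ℳ n) (x : ProjectiveSpectrum 𝒜) :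
    vl 𝒜 ℳ (s + s') x = vl 𝒜 ℳ s x + vl 𝒜 ℳ s' x := rfl

@[simp] theorem vl_zero {n : ℤ} (x : ProjectiveSpectrum 𝒜) :
    vl 𝒜 ℳ (0 : S 𝒜 ℳ n) x = 0 := rfl

@[simp] theorem vl_neg {n : ℤ} (s : S 𝒜 ℳ n) (x : ProjectiveSpectrum 𝒜) :
    vl 𝒜 ℳ (-s) x = -vl 𝒜 ℳ s x := rfl

@[simp] theorem vl_sub {n : ℤ} (s s' : S 𝒜 ℳ n) (x : ProjectiveSpectrum 𝒜) :
    vl 𝒜 ℳ (s - s') x = vl 𝒜 ℳ s x - vl 𝒜 ℳ s' x := rfl

theorem vl_smulSect {d : ℕ} (a : 𝒜 d) {n : ℤ} (s : S 𝒜 ℳ n) (x : ProjectiveSpectrum 𝒜) :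
    vl 𝒜 ℳ (GrMod.smulSect 𝒜 ℳ a n _ s) x =
      (Localization.mk (a : A) 1 : GrTwist.Loc 𝒜 x) • vl 𝒜 ℳ s x := rfl

theorem vl_globalOf {i : ℕ} (m : ℳ i) (x : ProjectiveSpectrum 𝒜) :
    vl 𝒜 ℳ (GrMod.globalOf 𝒜 ℳ m) x = LocalizedModule.mk (m : M) 1 := rfl

/-- `ℕ` acts on `ℤ` by translation (index bookkeeping for the graded action) -/
@[reducible] def vaddNatInt : VAdd ℕ ℤ := ⟨fun d n => n + (d : ℤ)⟩

attribute [local instance] vaddNatInt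

instance gsmul : GradedMonoid.GSMul (fun i : ℕ => 𝒜 i) (fun n : ℤ => S 𝒜 ℳ n) where
  smul {_ n} a s := GrMod.smulSect 𝒜 ℳ a n _ s

theorem gm_ext {n n' : ℤ} (h : n = n') (s : S 𝒜 ℳ n) (s' : S 𝒜 ℳ n')
    (hv : ∀ x, vl 𝒜 ℳ s x = vl 𝒜 ℳ s' x) :
    (GradedMonoid.mk n s : GradedMonoid (fun n : ℤ => S 𝒜 ℳ n)) = GradedMonoid.mk n' s' := by
  subst h
  rw [vl_ext hv]

instance gmulAction : GradedMonoid.GMulAction (fun i : ℕ => 𝒜 i) (fun n : ℤ => S 𝒜 ℳ n) where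
  one_smul := by
    rintro ⟨n, s⟩
    refine gm_ext 𝒜 ℳ ?_ _ _ fun x => ?_
    · change n + ((0 : ℕ) : ℤ) = n
      simp
    · change (Localization.mk (1 : A) 1 : GrTwist.Loc 𝒜 x) • vl 𝒜 ℳ s x = vl 𝒜 ℳ s x
      rw [Localization.mk_one, one_smul]
  mul_smul := by
    rintro ⟨i, a⟩ ⟨j, a'⟩ ⟨n, s⟩
    refine gm_ext 𝒜 ℳ ?_ _ _ fun x => ?_
    · change n + ((i + j : ℕ) : ℤ) = n + (j : ℤ) + (i : ℤ)
      push_cast
      ring
    · change (Localization.mk ((a : A) * (a' : A)) 1 : GrTwist.Loc 𝒜 x) • vl 𝒜 ℳ s x =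
        (Localization.mk (a : A) 1 : GrTwist.Loc 𝒜 x) •
          ((Localization.mk (a' : A) 1 : GrTwist.Loc 𝒜 x) • vl 𝒜 ℳ s x)
      rw [← mul_smul, Localization.mk_mul, one_mul]

instance gdistrib : DirectSum.GdistribMulAction (fun i : ℕ => 𝒜 i) (fun n : ℤ => S 𝒜 ℳ n) where
  smul_add a b c := map_add (GrMod.smulSect 𝒜 ℳ a _ _) b c
  smul_zero a := map_zero (GrMod.smulSect 𝒜 ℳ a _ _)

instance gmodule : DirectSum.Gmodule (fun i : ℕ => 𝒜 i) (fun n : ℤ => S 𝒜 ℳ n) where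
  add_smul a a' b := by
    refine vl_ext fun x => ?_
    change (Localization.mk ((a : A) + (a' : A)) 1 : GrTwist.Loc 𝒜 x) • vl 𝒜 ℳ b x =
      (Localization.mk (a : A) 1 : GrTwist.Loc 𝒜 x) • vl 𝒜 ℳ b x +
        (Localization.mk (a' : A) 1 : GrTwist.Loc 𝒜 x) • vl 𝒜 ℳ b x
    rw [← add_smul, Localization.add_mk_self]
  zero_smul b := by
    refine vl_ext fun x => ?_
    change (Localization.mk (0 : A) 1 : GrTwist.Loc 𝒜 x) • vl 𝒜 ℳ b x = 0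
    rw [Localization.mk_zero, zero_smul]

/-- `Γ_*` -/
abbrev Gam : Type u := ⨁ n : ℤ, S 𝒜 ℳ n

instance modDS : Module (⨁ i, 𝒜 i) (Gam 𝒜 ℳ) :=
  DirectSum.Gmodule.module (fun i : ℕ => 𝒜 i) (fun n : ℤ => S 𝒜 ℳ n)

instance modN : Module A (Gam 𝒜 ℳ) :=
  Module.compHom _ (DirectSum.decomposeRingEquiv 𝒜 : A ≃+* ⨁ i, 𝒜 i).toRingHom

theorem smul_of {d : ℕ} (a : 𝒜 d) (n : ℤ) (s : S 𝒜 ℳ n) :
    ((a : A) • (DirectSum.of (fun n : ℤ => S 𝒜 ℳ n) n s) : Gam 𝒜 ℳ) =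
      DirectSum.of (fun n : ℤ => S 𝒜 ℳ n) (n + (d : ℤ)) (GrMod.smulSect 𝒜 ℳ a n _ s) := by
  change ((DirectSum.decomposeRingEquiv 𝒜 (a : A)) •
    (DirectSum.of (fun n : ℤ => S 𝒜 ℳ n) n s : Gam 𝒜 ℳ) : Gam 𝒜 ℳ) = _
  have : DirectSum.decomposeRingEquiv 𝒜 (a : A) = DirectSum.of (fun i => 𝒜 i) d a :=
    DirectSum.decompose_coe 𝒜 a
  rw [this]
  have key := DirectSum.Gmodule.of_smul_of (fun i : ℕ => 𝒜 i) (fun n : ℤ => S 𝒜 ℳ n) a s
  exact key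

/-- value at `x` of the degree `n` component -/
def cv (y : Gam 𝒜 ℳ) (n : ℤ) (x : ProjectiveSpectrum 𝒜) : GrMod.LocMod 𝒜 (M := M) x :=
  vl 𝒜 ℳ (y n) x

@[simp] theorem cv_add (y y' : Gam 𝒜 ℳ) (n : ℤ) (x : ProjectiveSpectrum 𝒜) :
    cv 𝒜 ℳ (y + y') n x = cv 𝒜 ℳ y n x + cv 𝒜 ℳ y' n x := by
  unfold cv
  rw [DirectSum.add_apply, vl_add]

@[simp] theorem cv_zero (n : ℤ) (x : ProjectiveSpectrum 𝒜) :
    cv 𝒜 ℳ (0 : Gam 𝒜 ℳ) n x = 0 := by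
  unfold cv
  rw [DirectSum.zero_apply, vl_zero]

@[simp] theorem cv_sub (y y' : Gam 𝒜 ℳ) (n : ℤ) (x : ProjectiveSpectrum 𝒜) :
    cv 𝒜 ℳ (y - y') n x = cv 𝒜 ℳ y n x - cv 𝒜 ℳ y' n x := by
  unfold cv
  rw [DirectSum.sub_apply, vl_sub]

theorem cv_of (n n' : ℤ) (s : S 𝒜 ℳ n) (x : ProjectiveSpectrum 𝒜) :
    cv 𝒜 ℳ (DirectSum.of (fun n : ℤ => S 𝒜 ℳ n) n s) n' x = if n = n' then vl 𝒜 ℳ s x else 0 := by
  unfold cv
  by_cases h : n = n'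
  · subst h
    rw [DirectSum.of_eq_same, if_pos rfl]
  · rw [DirectSum.of_eq_of_ne _ _ _ (fun hh => h hh.symm), if_neg h, vl_zero]

variable {𝒜 ℳ} in
theorem cv_ext {y y' : Gam 𝒜 ℳ} (h : ∀ n x, cv 𝒜 ℳ y n x = cv 𝒜 ℳ y' n x) : y = y' :=
  DFinsupp.ext fun n => vl_ext fun x => h n x

theorem cv_smul {d : ℕ} (a : 𝒜 d) (y : Gam 𝒜 ℳ) (n : ℤ) (x : ProjectiveSpectrum 𝒜) :
    cv 𝒜 ℳ ((a : A) • y) (n + (d : ℤ)) x =
      (Localization.mk (a : A) 1 : GrTwist.Loc 𝒜 x) • cv 𝒜 ℳ y n x := by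
  induction y using DirectSum.induction_on with
  | zero => rw [smul_zero, cv_zero, cv_zero, smul_zero]
  | of n' s =>
    rw [smul_of, cv_of, cv_of]
    by_cases h : n' = n
    · subst h
      rw [if_pos rfl, if_pos rfl, vl_smulSect]
    · have h' : ¬ (n' + (d : ℤ) = n + (d : ℤ)) := fun hh => h (by omega)
      rw [if_neg h, if_neg h', smul_zero]
  | add y y' hy hy' => rw [smul_add, cv_add, cv_add, hy, hy', smul_add]

/-- multiplication by a unit is injective -/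
theorem eq_zero_of_mk_smul_eq_zero (x : ProjectiveSpectrum 𝒜) (u : A)
    (hu : u ∉ x.asHomogeneousIdeal) (q : GrMod.LocMod 𝒜 (M := M) x)
    (h : (Localization.mk u 1 : GrTwist.Loc 𝒜 x) • q = 0) : q = 0 := by
  have h1 : (Localization.mk 1 ⟨u, hu⟩ : GrTwist.Loc 𝒜 x) * Localization.mk u 1 = 1 := by
    rw [Localization.mk_mul, one_mul, mul_one]
    exact Localization.mk_self (⟨u, hu⟩ : x.asHomogeneousIdeal.toIdeal.primeCompl)
  rw [← one_smul (GrTwist.Loc 𝒜 x) q, ← h1, mul_smul, h, smul_zero]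

section withDecomposition

variable [DirectSum.Decomposition ℳ]

/-- `m ↦ m/1` as a map to `S i` -/
def alphaS (i : ℕ) : ℳ i →+ S 𝒜 ℳ (i : ℤ) where
  toFun m := GrMod.globalOf 𝒜 ℳ m
  map_zero' := by
    refine vl_ext fun x => ?_
    change LocalizedModule.mk ((0 : ℳ i) : M) 1 = (0 : GrMod.LocMod 𝒜 (M := M) x)
    rw [ZeroMemClass.coe_zero, LocalizedModule.zero_mk]
  map_add' m m' := by
    refine vl_ext fun x => ?_
    change LocalizedModule.mk ((m : M) + m') 1 =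
      LocalizedModule.mk (m : M) 1 + LocalizedModule.mk (m' : M) 1
    exact (LocalizedModule.mkLinearMap _ M).map_add (m : M) m'

theorem vl_alphaS {i : ℕ} (m : ℳ i) (x : ProjectiveSpectrum 𝒜) :
    vl 𝒜 ℳ (alphaS 𝒜 ℳ i m) x = LocalizedModule.mk (m : M) 1 := rfl

/-- the canonical map `M → Γ_*`, additively -/
def e₀ : M →+ Gam 𝒜 ℳ :=
  (DirectSum.toAddMonoid (fun i : ℕ =>
    (DirectSum.of (fun n : ℤ => S 𝒜 ℳ n) (i : ℤ)).comp (alphaS 𝒜 ℳ i))).comp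
    (DirectSum.decomposeAddEquiv ℳ).toAddMonoidHom

theorem e₀_of_mem {i : ℕ} {m : M} (hm : m ∈ ℳ i) :
    e₀ 𝒜 ℳ m = DirectSum.of (fun n : ℤ => S 𝒜 ℳ n) (i : ℤ) (alphaS 𝒜 ℳ i ⟨m, hm⟩) := by
  change (DirectSum.toAddMonoid _) (DirectSum.decompose ℳ m) = _
  rw [DirectSum.decompose_of_mem ℳ hm, DirectSum.toAddMonoid_of]
  rfl

theorem e₀_smul (a : A) (m : M) : e₀ 𝒜 ℳ (a • m) = a • e₀ 𝒜 ℳ m := by
  classical
  induction a using DirectSum.Decomposition.inductionOn 𝒜 with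
  | zero => rw [zero_smul, zero_smul, map_zero]
  | add a a' ha ha' => rw [add_smul, add_smul, map_add, ha, ha']
  | @homogeneous d a =>
    induction m using DirectSum.Decomposition.inductionOn ℳ with
    | zero => rw [smul_zero, map_zero, smul_zero]
    | add m m' hm hm' => rw [smul_add, map_add, hm, hm', map_add, smul_add]
    | @homogeneous i m =>
      have hmem : (a : A) • (m : M) ∈ ℳ (d + i) := SetLike.GradedSMul.smul_mem a.2 m.2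
      rw [e₀_of_mem 𝒜 ℳ hmem, e₀_of_mem 𝒜 ℳ m.2, smul_of]
      refine DirectSum.of_eq_of_gradedMonoid_eq (gm_ext 𝒜 ℳ ?_ _ _ fun x => ?_)
      · push_cast
        ring
      · rw [vl_smulSect, vl_alphaS, vl_alphaS, LocalizedModule.mk_smul_mk, one_mul]

/-- the canonical map `M → Γ_*` -/
def e : M →ₗ[A] Gam 𝒜 ℳ where
  toFun := e₀ 𝒜 ℳ
  map_add' := (e₀ 𝒜 ℳ).map_add
  map_smul' := e₀_smul 𝒜 ℳ

theorem e_of_mem {i : ℕ} {m : M} (hm : m ∈ ℳ i) :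
    e 𝒜 ℳ m = DirectSum.of (fun n : ℤ => S 𝒜 ℳ n) (i : ℤ) (alphaS 𝒜 ℳ i ⟨m, hm⟩) :=
  e₀_of_mem 𝒜 ℳ hm

theorem cv_e (m : M) (i : ℕ) (x : ProjectiveSpectrum 𝒜) :
    cv 𝒜 ℳ (e 𝒜 ℳ m) (i : ℤ) x = LocalizedModule.mk (DirectSum.decompose ℳ m i : M) 1 := by
  classical
  induction m using DirectSum.Decomposition.inductionOn ℳ with
  | zero =>
    rw [map_zero, cv_zero, DirectSum.decompose_zero, DirectSum.zero_apply, ZeroMemClass.coe_zero,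
      LocalizedModule.zero_mk]
  | add m m' hm hm' =>
    rw [map_add, cv_add, hm, hm', DirectSum.decompose_add, DirectSum.add_apply,
      AddMemClass.coe_add]
    exact ((LocalizedModule.mkLinearMap _ M).map_add _ _).symm
  | @homogeneous i' m =>
    rw [e_of_mem 𝒜 ℳ m.2, cv_of, DirectSum.decompose_coe]
    by_cases h : i' = i
    · subst h
      rw [if_pos rfl, DirectSum.of_eq_same]
      rfl
    · have h' : ¬ ((i' : ℤ) = (i : ℤ)) := fun hh => h (by exact_mod_cast hh)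
      rw [if_neg h', DirectSum.of_eq_of_ne _ _ _ (fun hh => h hh.symm), ZeroMemClass.coe_zero,
        LocalizedModule.zero_mk]

theorem range_e_eq :
    (LinearMap.range (e 𝒜 ℳ)).toAddSubgroup =
      AddSubgroup.closure (⋃ i : ℕ, Set.range (fun m : ℳ i =>
        DirectSum.of (fun n : ℤ => S 𝒜 ℳ n) (i : ℤ) (alphaS 𝒜 ℳ i m))) := by
  classical
  apply le_antisymm
  · rintro _ ⟨m, rfl⟩
    induction m using DirectSum.Decomposition.inductionOn ℳ with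
    | zero => rw [map_zero]; exact zero_mem _
    | add m m' hm hm' => rw [map_add]; exact add_mem hm hm'
    | @homogeneous i m =>
      rw [e_of_mem 𝒜 ℳ m.2]
      exact AddSubgroup.subset_closure (Set.mem_iUnion.mpr ⟨i, ⟨m, rfl⟩⟩)
  · rw [AddSubgroup.closure_le]
    intro z hz
    obtain ⟨i, m, rfl⟩ := Set.mem_iUnion.mp hz
    exact ⟨(m : M), e_of_mem 𝒜 ℳ m.2⟩

end withDecomposition

end Groth.Agent.Lib.Helper97.GS1
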