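import Mathlib
import Groth.Prelude.Def_GrMod3
import Groth.Agent.Lib.Helper97.GS1
import Groth.Agent.Lib.Proj.Helper66_GrModSections

/-!
# `Γ_*(M~)`: torsion kernel / cokernel of `M → Γ_*`, no torsion in `Γ_*` (helper97, for S15550)
-/

set_option autoImplicit false
set_option linter.unusedSectionVars false
set_option linter.style.haveILetI false
universe u

namespace Groth.Agent.Lib.Helper97.GS2

open CategoryTheory AlgebraicGeometry Opposite TopologicalSpace DirectSum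
open Groth.Agent.Lib.Helper97.GS1

variable {A σ : Type u} [CommRing A] [SetLike σ A] [AddSubgroupClass σ A] (𝒜 : ℕ → σ) [GradedRing 𝒜]
variable {M τ : Type u} [AddCommGroup M] [Module A M] [SetLike τ M] [AddSubgroupClass τ M]
  (ℳ : ℕ → τ) [SetLike.GradedSMul 𝒜 ℳ]

theorem exists_uniform (ts : List A) (P : A → ℕ → Prop)
    (hmono : ∀ t k k', k ≤ k' → P t k → P t k') (h : ∀ t ∈ ts, ∃ k, P t k) :
    ∃ K, ∀ t ∈ ts, P t K := by
  induction ts with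
  | nil => exact ⟨0, fun t ht => by simp at ht⟩
  | cons t ts ih =>
    obtain ⟨K, hK⟩ := ih (fun t' ht' => h t' (List.mem_cons_of_mem _ ht'))
    obtain ⟨k, hk⟩ := h t (by simp)
    refine ⟨max K k, fun t' ht' => ?_⟩
    rcases List.mem_cons.mp ht' with rfl | ht''
    · exact hmono _ _ _ (le_max_right _ _) hk
    · exact hmono _ _ _ (le_max_left _ _) (hK t' ht'')

theorem cv_pow_smul {d : ℕ} {t : A} (ht : t ∈ 𝒜 d) (k : ℕ) (y : Gam 𝒜 ℳ) (n : ℤ)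
    (x : ProjectiveSpectrum 𝒜) :
    cv 𝒜 ℳ (t ^ k • y) (n + ((k • d : ℕ) : ℤ)) x =
      (Localization.mk (t ^ k) 1 : GrTwist.Loc 𝒜 x) • cv 𝒜 ℳ y n x :=
  cv_smul 𝒜 ℳ (⟨t ^ k, SetLike.pow_mem_graded k ht⟩ : 𝒜 (k • d)) y n x

theorem cv_pow_smul' {d : ℕ} {t : A} (ht : t ∈ 𝒜 d) (k : ℕ) (y : Gam 𝒜 ℳ) (n n' : ℤ)
    (hn : n' = n + ((k • d : ℕ) : ℤ)) (x : ProjectiveSpectrum 𝒜) :
    cv 𝒜 ℳ (t ^ k • y) n' x =
      (Localization.mk (t ^ k) 1 : GrTwist.Loc 𝒜 x) • cv 𝒜 ℳ y n x := by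
  subst hn
  exact cv_pow_smul 𝒜 ℳ ht k y n x

theorem pow_smul_of {d : ℕ} {t : A} (ht : t ∈ 𝒜 d) (k : ℕ) (n : ℤ) (s : S 𝒜 ℳ n) :
    (t ^ k • (DirectSum.of (fun n : ℤ => S 𝒜 ℳ n) n s) : Gam 𝒜 ℳ) =
      DirectSum.of (fun n : ℤ => S 𝒜 ℳ n) (n + ((k • d : ℕ) : ℤ))
        (GrMod.smulSect 𝒜 ℳ (⟨t ^ k, SetLike.pow_mem_graded k ht⟩ : 𝒜 (k • d)) n _ s) :=
  smul_of 𝒜 ℳ (⟨t ^ k, SetLike.pow_mem_graded k ht⟩ : 𝒜 (k • d)) n s

theorem mk_pow_smul_eq_zero_of_le (x : ProjectiveSpectrum 𝒜) (t : A) {k k' : ℕ} (hkk' : k ≤ k')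
    (q : GrMod.LocMod 𝒜 (M := M) x)
    (h : (Localization.mk (t ^ k) 1 : GrTwist.Loc 𝒜 x) • q = 0) :
    (Localization.mk (t ^ k') 1 : GrTwist.Loc 𝒜 x) • q = 0 := by
  obtain ⟨j, rfl⟩ := Nat.exists_eq_add_of_le hkk'
  have h1 : (Localization.mk (t ^ (k + j)) 1 : GrTwist.Loc 𝒜 x) =
      Localization.mk (t ^ j) 1 * Localization.mk (t ^ k) 1 := by
    rw [Localization.mk_mul, one_mul, ← pow_add, add_comm]
  rw [h1, mul_smul, h, smul_zero]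

theorem mk_eq_zero_of_smul_eq_zero (x : ProjectiveSpectrum 𝒜) (m : M)
    (s : x.asHomogeneousIdeal.toIdeal.primeCompl) (u : A) (hu : u ∉ x.asHomogeneousIdeal)
    (h : u • m = 0) : (LocalizedModule.mk m s : GrMod.LocMod 𝒜 (M := M) x) = 0 := by
  rw [← LocalizedModule.zero_mk s, LocalizedModule.mk_eq]
  refine ⟨⟨u, hu⟩, ?_⟩
  show u • ((s : A) • m) = u • ((s : A) • (0 : M))
  rw [smul_zero, smul_zero, smul_comm, h, smul_zero]

variable [DirectSum.Decomposition ℳ]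
variable (ts : List A)

theorem h3 (hts : ∀ t ∈ ts, ∃ d, 0 < d ∧ t ∈ 𝒜 d)
    (hcov : ∀ x : ProjectiveSpectrum 𝒜, ∃ t ∈ ts, t ∉ x.asHomogeneousIdeal)
    (s : Gam 𝒜 ℳ) (h : ∀ t ∈ ts, ∃ k : ℕ, t ^ k • s = 0) : s = 0 := by
  refine cv_ext fun n x => ?_
  rw [cv_zero]
  obtain ⟨t, htts, htx⟩ := hcov x
  obtain ⟨d, hd, htd⟩ := hts t htts
  obtain ⟨k, hk⟩ := h t htts
  have h1 := cv_pow_smul 𝒜 ℳ htd k s n x
  rw [hk, cv_zero] at h1
  exact eq_zero_of_mk_smul_eq_zero 𝒜 x (t ^ k)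
    (fun hh => htx (x.isPrime.mem_of_pow_mem k hh)) _ h1.symm

theorem h1 (hts : ∀ t ∈ ts, ∃ d, 0 < d ∧ t ∈ 𝒜 d) (m : M) (hm : e 𝒜 ℳ m = 0) :
    ∀ t ∈ ts, ∃ k : ℕ, t ^ k • m = 0 := by
  classical
  intro t htts
  obtain ⟨d, hd, htd⟩ := hts t htts
  have hcomp : ∀ i : ℕ, ∃ k : ℕ, t ^ k • (DirectSum.decompose ℳ m i : M) = 0 := by
    intro i
    refine Groth.Agent.Lib.Proj.GrGlue.exists_pow_smul_eq_zero 𝒜 ℳ hd htd i _ (Subtype.prop _) ?_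
    intro x _
    have h2 := cv_e 𝒜 ℳ m i x
    rw [hm, cv_zero] at h2
    exact Groth.Agent.Lib.Proj.GrModSections.exists_smul_eq_zero_of_mk_eq_zero 𝒜 x _ 1 h2.symm
  choose kk hkk using hcomp
  refine ⟨(DirectSum.decompose ℳ m).support.sup kk, ?_⟩
  have hsum : t ^ ((DirectSum.decompose ℳ m).support.sup kk) •
      (∑ i ∈ (DirectSum.decompose ℳ m).support, (DirectSum.decompose ℳ m i : M)) = 0 := by
    rw [Finset.smul_sum]
    refine Finset.sum_eq_zero fun i hi => ?_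
    obtain ⟨j, hj⟩ := Nat.exists_eq_add_of_le (Finset.le_sup (f := kk) hi)
    rw [hj, pow_add, mul_comm, mul_smul, hkk i, smul_zero]
  rwa [DirectSum.sum_support_decompose ℳ m] at hsum

/-- a global section vanishing on `D₊(t)` is killed by a power of `t` -/
theorem exists_pow_kill (hts : ∀ t ∈ ts, ∃ d, 0 < d ∧ t ∈ 𝒜 d)
    (hcov : ∀ x : ProjectiveSpectrum 𝒜, ∃ t ∈ ts, t ∉ x.asHomogeneousIdeal)
    {d : ℕ} {t : A} (hd : 0 < d) (ht : t ∈ 𝒜 d) (n : ℤ) (σ' : S 𝒜 ℳ n)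
    (hvan : ∀ x : ProjectiveSpectrum 𝒜, t ∉ x.asHomogeneousIdeal → vl 𝒜 ℳ σ' x = 0) :
    ∃ k : ℕ, ∀ x : ProjectiveSpectrum 𝒜,
      (Localization.mk (t ^ k) 1 : GrTwist.Loc 𝒜 x) • vl 𝒜 ℳ σ' x = 0 := by
  have hloc : ∀ t' ∈ ts, ∃ k : ℕ, ∀ x : ProjectiveSpectrum 𝒜, t' ∉ x.asHomogeneousIdeal →
      (Localization.mk (t ^ k) 1 : GrTwist.Loc 𝒜 x) • vl 𝒜 ℳ σ' x = 0 := by
    intro t' ht'
    obtain ⟨d', hd', ht'd⟩ := hts t' ht'
    obtain ⟨j, i, mi, hi, hval⟩ := Groth.Agent.Lib.Proj.GrModSections.exists_frac 𝒜 ℳ n hd' ht'd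
      (GrMod.res 𝒜 ℳ n (homOfLE le_top).op σ')
    have hval' : ∀ (x : ProjectiveSpectrum 𝒜) (hx : t' ∉ x.asHomogeneousIdeal),
        vl 𝒜 ℳ σ' x = LocalizedModule.mk (mi : M)
          (⟨t' ^ j, fun h => hx (x.isPrime.mem_of_pow_mem j h)⟩ :
            x.asHomogeneousIdeal.toIdeal.primeCompl) := fun x hx => hval ⟨x, hx⟩
    obtain ⟨K, hK⟩ := Groth.Agent.Lib.Proj.GrGlue.exists_pow_smul_eq_zero 𝒜 ℳ (d := d + d')
      (by omega) (SetLike.mul_mem_graded ht ht'd) i (mi : M) mi.2 (fun x hx => by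
        have hxt : t ∉ x.asHomogeneousIdeal := fun hh => hx (Ideal.mul_mem_right _ _ hh)
        have hxt' : t' ∉ x.asHomogeneousIdeal := fun hh => hx (Ideal.mul_mem_left _ _ hh)
        have h1 := hval' x hxt'
        rw [hvan x hxt] at h1
        exact Groth.Agent.Lib.Proj.GrModSections.exists_smul_eq_zero_of_mk_eq_zero 𝒜 x _ _
          h1.symm)
    refine ⟨K, fun x hxt' => ?_⟩
    rw [hval' x hxt', LocalizedModule.mk_smul_mk, one_mul]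
    refine mk_eq_zero_of_smul_eq_zero 𝒜 x _ _ (t' ^ K)
      (fun hh => hxt' (x.isPrime.mem_of_pow_mem K hh)) ?_
    rw [← mul_smul, ← mul_pow, mul_comm t' t, hK]
  obtain ⟨K, hK⟩ := exists_uniform ts
    (fun t' k => ∀ x : ProjectiveSpectrum 𝒜, t' ∉ x.asHomogeneousIdeal →
      (Localization.mk (t ^ k) 1 : GrTwist.Loc 𝒜 x) • vl 𝒜 ℳ σ' x = 0)
    (fun t' k k' hkk' h x hx => mk_pow_smul_eq_zero_of_le 𝒜 x t hkk' _ (h x hx)) hloc
  refine ⟨K, fun x => ?_⟩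
  obtain ⟨t', ht', hx⟩ := hcov x
  exact hK t' ht' x hx

theorem h2 (hts : ∀ t ∈ ts, ∃ d, 0 < d ∧ t ∈ 𝒜 d)
    (hcov : ∀ x : ProjectiveSpectrum 𝒜, ∃ t ∈ ts, t ∉ x.asHomogeneousIdeal)
    (s : Gam 𝒜 ℳ) : ∀ t ∈ ts, ∃ k : ℕ, t ^ k • s ∈ LinearMap.range (e 𝒜 ℳ) := by
  intro t htts
  obtain ⟨d, hd, htd⟩ := hts t htts
  induction s using DirectSum.induction_on with
  | zero => exact ⟨0, by rw [smul_zero]; exact zero_mem _⟩
  | add y y' hy hy' =>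
    obtain ⟨k, hk⟩ := hy
    obtain ⟨k', hk'⟩ := hy'
    refine ⟨k + k', ?_⟩
    rw [smul_add]
    refine add_mem ?_ ?_
    · rw [pow_add, mul_comm, mul_smul]
      exact Submodule.smul_mem _ _ hk
    · rw [pow_add, mul_smul]
      exact Submodule.smul_mem _ _ hk'
  | of n σ' =>
    obtain ⟨j, i, mi, hi, hval⟩ := Groth.Agent.Lib.Proj.GrModSections.exists_frac 𝒜 ℳ n hd htd
      (GrMod.res 𝒜 ℳ n (homOfLE le_top).op σ')
    have hval' : ∀ (x : ProjectiveSpectrum 𝒜) (hx : t ∉ x.asHomogeneousIdeal),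
        vl 𝒜 ℳ σ' x = LocalizedModule.mk (mi : M)
          (⟨t ^ j, fun h => hx (x.isPrime.mem_of_pow_mem j h)⟩ :
            x.asHomogeneousIdeal.toIdeal.primeCompl) := fun x hx => hval ⟨x, hx⟩
    have hidx : n + ((j • d : ℕ) : ℤ) = (i : ℤ) := by
      rw [hi]; push_cast [smul_eq_mul]; ring
    have hz1 := pow_smul_of 𝒜 ℳ htd j n σ'
    set z : Gam 𝒜 ℳ := t ^ j • DirectSum.of (fun n : ℤ => S 𝒜 ℳ n) n σ' - e 𝒜 ℳ (mi : M) with hz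
    have hcvz : ∀ (n'' : ℤ) (x : ProjectiveSpectrum 𝒜), cv 𝒜 ℳ z n'' x =
        if (i : ℤ) = n'' then ((Localization.mk (t ^ j) 1 : GrTwist.Loc 𝒜 x) • vl 𝒜 ℳ σ' x -
          LocalizedModule.mk (mi : M) 1) else 0 := by
      intro n'' x
      rw [hz, cv_sub, hz1, e_of_mem 𝒜 ℳ mi.2, cv_of, cv_of]
      by_cases h : (i : ℤ) = n''
      · have h' : n + ((j • d : ℕ) : ℤ) = n'' := hidx.trans h
        rw [if_pos h', if_pos h, if_pos h, vl_smulSect]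
        rfl
      · have h' : ¬ (n + ((j • d : ℕ) : ℤ) = n'') := fun hh => h (hidx.symm.trans hh)
        rw [if_neg h', if_neg h, if_neg h, sub_zero]
    obtain ⟨k, hk⟩ := exists_pow_kill 𝒜 ℳ ts hts hcov hd htd (i : ℤ) (z (i : ℤ)) (fun x hx => by
      change cv 𝒜 ℳ z (i : ℤ) x = 0
      rw [hcvz, if_pos rfl, hval' x hx, LocalizedModule.mk_smul_mk, one_mul, sub_eq_zero]
      exact LocalizedModule.mk_cancel
        (⟨t ^ j, fun h => hx (x.isPrime.mem_of_pow_mem j h)⟩ :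
          x.asHomogeneousIdeal.toIdeal.primeCompl) (mi : M))
    have hkz : t ^ k • z = 0 := by
      refine cv_ext fun n' x => ?_
      rw [cv_zero, cv_pow_smul' 𝒜 ℳ htd k z (n' - ((k • d : ℕ) : ℤ)) n' (by ring) x]
      by_cases h : (i : ℤ) = n' - ((k • d : ℕ) : ℤ)
      · rw [← h]
        exact hk x
      · rw [hcvz, if_neg h, smul_zero]
    refine ⟨k + j, ?_⟩
    have hfin : t ^ (k + j) • DirectSum.of (fun n : ℤ => S 𝒜 ℳ n) n σ' =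
        e 𝒜 ℳ (t ^ k • (mi : M)) := by
      rw [map_smul, pow_add, mul_smul]
      have h5 := hkz
      rw [hz, smul_sub, sub_eq_zero] at h5
      exact h5
    rw [hfin]
    exact ⟨_, rfl⟩

end Groth.Agent.Lib.Helper97.GS2
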