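import Mathlib
import Groth.Prelude.Def_GrMod3
import Groth.Prelude.Def_Wider
import Groth.Agent.Lib.Helper97.GS2
import Groth.Agent.Lib.Helper97.PG3
import Groth.Agent.Lib.Helper58.DTCoker

/-!
# `coker (M → Γ_*(M~)) ≃ H^1_{A_+}(M)` (helper97, S15550)
-/

set_option autoImplicit false
set_option linter.unusedSectionVars false
set_option linter.style.haveILetI false
universe u

namespace Groth.Agent.Lib.Helper97.GS3

open CategoryTheory AlgebraicGeometry Opposite TopologicalSpace DirectSum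
open Groth.Agent.Lib.Helper97.GS1 Groth.Agent.Lib.Helper97.GS2

variable {A σ : Type u} [CommRing A] [SetLike σ A] [AddSubgroupClass σ A] (𝒜 : ℕ → σ) [GradedRing 𝒜]
variable {M τ : Type u} [AddCommGroup M] [Module A M] [SetLike τ M] [AddSubgroupClass τ M]
  (ℳ : ℕ → τ) [SetLike.GradedSMul 𝒜 ℳ]

theorem mk_smul_inv_smul (x : ProjectiveSpectrum 𝒜) (u : A) (hu : u ∉ x.asHomogeneousIdeal)
    (q : GrMod.LocMod 𝒜 (M := M) x) :
    (Localization.mk u 1 : GrTwist.Loc 𝒜 x) •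
      ((Localization.mk 1 (⟨u, hu⟩ : x.asHomogeneousIdeal.toIdeal.primeCompl) :
        GrTwist.Loc 𝒜 x) • q) = q := by
  rw [← mul_smul, Localization.mk_mul, mul_one, one_mul]
  have h1 : (Localization.mk u (⟨u, hu⟩ : x.asHomogeneousIdeal.toIdeal.primeCompl) :
      GrTwist.Loc 𝒜 x) = 1 :=
    Localization.mk_self (⟨u, hu⟩ : x.asHomogeneousIdeal.toIdeal.primeCompl)
  rw [h1, one_smul]

theorem mk_smul_injective (x : ProjectiveSpectrum 𝒜) (u : A) (hu : u ∉ x.asHomogeneousIdeal)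
    {q q' : GrMod.LocMod 𝒜 (M := M) x}
    (h : (Localization.mk u 1 : GrTwist.Loc 𝒜 x) • q =
      (Localization.mk u 1 : GrTwist.Loc 𝒜 x) • q') : q = q' := by
  rw [← sub_eq_zero]
  apply eq_zero_of_mk_smul_eq_zero 𝒜 x u hu
  rw [smul_sub, h, sub_self]

theorem inv_smul_mem_tildeAt {d : ℕ} {t : A} (ht : t ∈ 𝒜 d) (k : ℕ) (n : ℤ)
    (x : ProjectiveSpectrum 𝒜) (hx : t ^ k ∉ x.asHomogeneousIdeal)
    {q : GrMod.LocMod 𝒜 (M := M) x}
    (hq : q ∈ GrMod.tildeAt 𝒜 ℳ (n + ((k • d : ℕ) : ℤ)) x) :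
    (Localization.mk 1 (⟨t ^ k, hx⟩ : x.asHomogeneousIdeal.toIdeal.primeCompl) :
      GrTwist.Loc 𝒜 x) • q ∈ GrMod.tildeAt 𝒜 ℳ n x := by
  induction hq using Submodule.span_induction with
  | mem q h =>
    obtain ⟨i, j, m, s, hs, hij, rfl⟩ := h
    rw [LocalizedModule.mk_smul_mk, one_smul]
    exact Submodule.subset_span ⟨i, k • d + j, m,
      ⟨t ^ k * (s : A), SetLike.mul_mem_graded (SetLike.pow_mem_graded k ht) s.2⟩,
      fun hh => (x.isPrime.mem_or_mem hh).elim hx hs, by rw [hij]; push_cast; ring, rfl⟩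
  | zero => rw [smul_zero]; exact zero_mem _
  | add q q' _ _ h h' => rw [smul_add]; exact add_mem h h'
  | smul c q _ h =>
    rw [GrMod.a0_smul_def, smul_comm]
    exact Submodule.smul_mem _ c h

variable [DirectSum.Decomposition ℳ]
variable (ts : List A)

set_option maxHeartbeats 1600000 in
theorem h4 (hts : ∀ t ∈ ts, ∃ d, 0 < d ∧ t ∈ 𝒜 d)
    (hcov : ∀ x : ProjectiveSpectrum 𝒜, ∃ t ∈ ts, t ∉ x.asHomogeneousIdeal)
    (k : ℕ) (y : Fin ts.length → Gam 𝒜 ℳ)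
    (hy : ∀ i j, ts.get j ^ k • y i = ts.get i ^ k • y j) :
    ∃ (s : Gam 𝒜 ℳ) (k' : ℕ), ∀ i, ts.get i ^ (k + k') • s = ts.get i ^ k' • y i := by
  classical
  have hdeg : ∀ i : Fin ts.length, ∃ d, 0 < d ∧ ts.get i ∈ 𝒜 d :=
    fun i => hts _ (List.get_mem ts i)
  choose dd hdpos hdd using hdeg
  have hcov' : ∀ x : ProjectiveSpectrum 𝒜, ∃ i : Fin ts.length,
      ts.get i ∉ x.asHomogeneousIdeal := by
    intro x
    obtain ⟨t, ht, hx⟩ := hcov x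
    obtain ⟨i, rfl⟩ := List.mem_iff_get.mp ht
    exact ⟨i, hx⟩
  choose idx hidx using hcov'
  have hpow : ∀ (i : Fin ts.length) (x : ProjectiveSpectrum 𝒜),
      ts.get i ∉ x.asHomogeneousIdeal → ts.get i ^ k ∉ x.asHomogeneousIdeal :=
    fun i x hx hh => hx (x.isPrime.mem_of_pow_mem k hh)
  -- pointwise compatibility
  have hP : ∀ (i j : Fin ts.length) (n : ℤ) (x : ProjectiveSpectrum 𝒜),
      (Localization.mk (ts.get j ^ k) 1 : GrTwist.Loc 𝒜 x) •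
        cv 𝒜 ℳ (y i) (n + ((k • dd i : ℕ) : ℤ)) x =
      (Localization.mk (ts.get i ^ k) 1 : GrTwist.Loc 𝒜 x) •
        cv 𝒜 ℳ (y j) (n + ((k • dd j : ℕ) : ℤ)) x := by
    intro i j n x
    have h1 := cv_pow_smul' 𝒜 ℳ (hdd j) k (y i) (n + ((k • dd i : ℕ) : ℤ))
      (n + ((k • dd i : ℕ) : ℤ) + ((k • dd j : ℕ) : ℤ)) rfl x
    have h2 := cv_pow_smul' 𝒜 ℳ (hdd i) k (y j) (n + ((k • dd j : ℕ) : ℤ))
      (n + ((k • dd i : ℕ) : ℤ) + ((k • dd j : ℕ) : ℤ)) (by ring) x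
    rw [← h1, ← h2, hy i j]
  -- local values
  let g : ∀ (i : Fin ts.length) (n : ℤ) (x : ProjectiveSpectrum 𝒜),
      ts.get i ∉ x.asHomogeneousIdeal → GrMod.LocMod 𝒜 (M := M) x :=
    fun i n x hx => (Localization.mk 1 (⟨ts.get i ^ k, hpow i x hx⟩ :
      x.asHomogeneousIdeal.toIdeal.primeCompl) : GrTwist.Loc 𝒜 x) •
        cv 𝒜 ℳ (y i) (n + ((k • dd i : ℕ) : ℤ)) x
  have hg_smul : ∀ (i : Fin ts.length) (n : ℤ) (x : ProjectiveSpectrum 𝒜)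
      (hx : ts.get i ∉ x.asHomogeneousIdeal),
      (Localization.mk (ts.get i ^ k) 1 : GrTwist.Loc 𝒜 x) • g i n x hx =
        cv 𝒜 ℳ (y i) (n + ((k • dd i : ℕ) : ℤ)) x :=
    fun i n x hx => mk_smul_inv_smul 𝒜 x _ (hpow i x hx) _
  have hg_indep : ∀ (i j : Fin ts.length) (n : ℤ) (x : ProjectiveSpectrum 𝒜)
      (hxi : ts.get i ∉ x.asHomogeneousIdeal) (hxj : ts.get j ∉ x.asHomogeneousIdeal),
      g i n x hxi = g j n x hxj := by
    intro i j n x hxi hxj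
    apply mk_smul_injective 𝒜 x _ (hpow j x hxj)
    apply mk_smul_injective 𝒜 x _ (hpow i x hxi)
    calc (Localization.mk (ts.get i ^ k) 1 : GrTwist.Loc 𝒜 x) •
          ((Localization.mk (ts.get j ^ k) 1 : GrTwist.Loc 𝒜 x) • g i n x hxi)
        = (Localization.mk (ts.get j ^ k) 1 : GrTwist.Loc 𝒜 x) •
          ((Localization.mk (ts.get i ^ k) 1 : GrTwist.Loc 𝒜 x) • g i n x hxi) :=
            smul_comm _ _ _
      _ = (Localization.mk (ts.get j ^ k) 1 : GrTwist.Loc 𝒜 x) •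
          cv 𝒜 ℳ (y i) (n + ((k • dd i : ℕ) : ℤ)) x := by rw [hg_smul i n x hxi]
      _ = (Localization.mk (ts.get i ^ k) 1 : GrTwist.Loc 𝒜 x) •
          cv 𝒜 ℳ (y j) (n + ((k • dd j : ℕ) : ℤ)) x := hP i j n x
      _ = (Localization.mk (ts.get i ^ k) 1 : GrTwist.Loc 𝒜 x) •
          ((Localization.mk (ts.get j ^ k) 1 : GrTwist.Loc 𝒜 x) • g j n x hxj) := by
            rw [hg_smul j n x hxj]
  have hmem : ∀ (n : ℤ) (x : ProjectiveSpectrum 𝒜),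
      g (idx x) n x (hidx x) ∈ GrMod.tildeAt 𝒜 ℳ n x := fun n x =>
    inv_smul_mem_tildeAt 𝒜 ℳ (hdd (idx x)) k n x (hpow _ x (hidx x))
      (((y (idx x)) (n + ((k • dd (idx x) : ℕ) : ℤ))).1 ⟨x, trivial⟩).2
  have hloc : ∀ n : ℤ, (GrMod.isLocFrac 𝒜 ℳ n).pred
      (fun x : ((op (⊤ : Opens (ProjectiveSpectrum.top 𝒜))).unop) =>
        (⟨g (idx x.1) n x.1 (hidx x.1), hmem n x.1⟩ : GrMod.tildeAt 𝒜 ℳ n x.1)) := by
    intro n x0
    obtain ⟨V, hx0V, iV, i, j, m, s, nin, hc, hw⟩ :=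
      ((y (idx x0.1)) (n + ((k • dd (idx x0.1) : ℕ) : ℤ))).2 x0
    refine ⟨V ⊓ ProjectiveSpectrum.basicOpen 𝒜 (ts.get (idx x0.1)), ⟨hx0V, hidx x0.1⟩,
      homOfLE le_top, i, k • dd (idx x0.1) + j, m,
      ⟨ts.get (idx x0.1) ^ k * (s : A),
        SetLike.mul_mem_graded (SetLike.pow_mem_graded k (hdd (idx x0.1))) s.2⟩,
      fun z => fun hh => (z.1.isPrime.mem_or_mem hh).elim (hpow (idx x0.1) z.1 z.2.2)
        (nin ⟨z.1, z.2.1⟩), ?_, fun z => ?_⟩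
    · rcases hc with hc | hc
      · exact Or.inl (by rw [hc]; push_cast; ring)
      · exact Or.inr hc
    · change g (idx z.1) n z.1 (hidx z.1) = _
      rw [hg_indep (idx z.1) (idx x0.1) n z.1 (hidx z.1) z.2.2]
      have h2 : cv 𝒜 ℳ (y (idx x0.1)) (n + ((k • dd (idx x0.1) : ℕ) : ℤ)) z.1 =
          LocalizedModule.mk (m : M) ⟨(s : A), nin ⟨z.1, z.2.1⟩⟩ := hw ⟨z.1, z.2.1⟩
      change (Localization.mk 1 (⟨ts.get (idx x0.1) ^ k, hpow (idx x0.1) z.1 z.2.2⟩ :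
        z.1.asHomogeneousIdeal.toIdeal.primeCompl) : GrTwist.Loc 𝒜 z.1) •
          cv 𝒜 ℳ (y (idx x0.1)) (n + ((k • dd (idx x0.1) : ℕ) : ℤ)) z.1 = _
      rw [h2, LocalizedModule.mk_smul_mk, one_smul]
      rfl
  let sN : ∀ n : ℤ, S 𝒜 ℳ n := fun n =>
    ⟨fun x => ⟨g (idx x.1) n x.1 (hidx x.1), hmem n x.1⟩, hloc n⟩
  have hvl : ∀ (n : ℤ) (x : ProjectiveSpectrum 𝒜), vl 𝒜 ℳ (sN n) x = g (idx x) n x (hidx x) :=
    fun n x => rfl
  have hkey : ∀ (i : Fin ts.length) (n : ℤ) (x : ProjectiveSpectrum 𝒜),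
      (Localization.mk (ts.get i ^ k) 1 : GrTwist.Loc 𝒜 x) • vl 𝒜 ℳ (sN n) x =
        cv 𝒜 ℳ (y i) (n + ((k • dd i : ℕ) : ℤ)) x := by
    intro i n x
    rw [hvl]
    apply mk_smul_injective 𝒜 x _ (hpow (idx x) x (hidx x))
    calc (Localization.mk (ts.get (idx x) ^ k) 1 : GrTwist.Loc 𝒜 x) •
          ((Localization.mk (ts.get i ^ k) 1 : GrTwist.Loc 𝒜 x) • g (idx x) n x (hidx x))
        = (Localization.mk (ts.get i ^ k) 1 : GrTwist.Loc 𝒜 x) •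
          ((Localization.mk (ts.get (idx x) ^ k) 1 : GrTwist.Loc 𝒜 x) •
            g (idx x) n x (hidx x)) := smul_comm _ _ _
      _ = (Localization.mk (ts.get i ^ k) 1 : GrTwist.Loc 𝒜 x) •
          cv 𝒜 ℳ (y (idx x)) (n + ((k • dd (idx x) : ℕ) : ℤ)) x := by
            rw [hg_smul (idx x) n x (hidx x)]
      _ = (Localization.mk (ts.get (idx x) ^ k) 1 : GrTwist.Loc 𝒜 x) •
          cv 𝒜 ℳ (y i) (n + ((k • dd i : ℕ) : ℤ)) x := (hP i (idx x) n x).symm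
  let F : Finset ℤ := Finset.univ.biUnion (fun i : Fin ts.length =>
    (y i).support.image (fun n' => n' - ((k • dd i : ℕ) : ℤ)))
  have hF : ∀ n, n ∉ F → sN n = 0 := by
    intro n hn
    refine vl_ext fun x => ?_
    rw [hvl, vl_zero]
    have h0 : (y (idx x)) (n + ((k • dd (idx x) : ℕ) : ℤ)) = 0 := by
      by_contra hne
      apply hn
      exact Finset.mem_biUnion.mpr ⟨idx x, Finset.mem_univ _, Finset.mem_image.mpr
        ⟨n + ((k • dd (idx x) : ℕ) : ℤ), DFinsupp.mem_support_iff.mpr hne, by ring⟩⟩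
    change (Localization.mk 1 (⟨ts.get (idx x) ^ k, hpow (idx x) x (hidx x)⟩ :
        x.asHomogeneousIdeal.toIdeal.primeCompl) : GrTwist.Loc 𝒜 x) •
          vl 𝒜 ℳ ((y (idx x)) (n + ((k • dd (idx x) : ℕ) : ℤ))) x = 0
    rw [h0, vl_zero, smul_zero]
  let s : Gam 𝒜 ℳ := DirectSum.mk (fun n : ℤ => S 𝒜 ℳ n) F (fun n => sN n.1)
  have hs : ∀ n, s n = sN n := by
    intro n
    by_cases hn : n ∈ F
    · exact DirectSum.mk_apply_of_mem hn
    · rw [hF n hn]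
      exact DirectSum.mk_apply_of_notMem hn
  refine ⟨s, 0, fun i => ?_⟩
  rw [add_zero, pow_zero, one_smul]
  refine cv_ext fun n' x => ?_
  rw [cv_pow_smul' 𝒜 ℳ (hdd i) k s (n' - ((k • dd i : ℕ) : ℤ)) n' (by ring) x]
  have h5 : cv 𝒜 ℳ s (n' - ((k • dd i : ℕ) : ℤ)) x =
      vl 𝒜 ℳ (sN (n' - ((k • dd i : ℕ) : ℤ))) x := by
    unfold cv
    rw [hs]
  rw [h5, hkey i, sub_add_cancel]

theorem main [IsNoetherianRing A] :
    Nonempty ((DirectSum ℤ (fun n : ℤ => ((GrMod.tilde 𝒜 ℳ n).val.obj (op ⊤) : Type u)) ⧸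
        AddSubgroup.closure (⋃ i : ℕ, Set.range (fun m : ℳ i =>
          DirectSum.of (fun n : ℤ => ((GrMod.tilde 𝒜 ℳ n).val.obj (op ⊤) : Type u)) (i : ℤ)
            (GrMod.alpha 𝒜 ℳ i m)))) ≃+
      LocCoh.H (HomogeneousIdeal.irrelevant 𝒜).toIdeal 1 M) := by
  classical
  obtain ⟨T, hT, h, ee, hh, hepos, hspan⟩ := Groth.Agent.Lib.Helper97.PG3.exists_generators 𝒜
  let ts : List A := (Finset.univ : Finset T).toList.map h
  have hts : ∀ t ∈ ts, ∃ d, 0 < d ∧ t ∈ 𝒜 d := by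
    intro t ht
    obtain ⟨a, _, rfl⟩ := List.mem_map.mp ht
    exact ⟨ee a, hepos a, hh a⟩
  have hset : {x | x ∈ ts} = Set.range h := by
    ext x
    constructor
    · intro hx
      obtain ⟨a, _, rfl⟩ := List.mem_map.mp hx
      exact ⟨a, rfl⟩
    · rintro ⟨a, rfl⟩
      exact List.mem_map.mpr ⟨a, Finset.mem_toList.mpr (Finset.mem_univ a), rfl⟩
  have hI : (HomogeneousIdeal.irrelevant 𝒜).toIdeal = Ideal.span {x | x ∈ ts} := by
    rw [hset]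
    apply le_antisymm hspan
    rw [Ideal.span_le]
    rintro _ ⟨a, rfl⟩
    exact HomogeneousIdeal.mem_irrelevant_of_mem 𝒜 (hepos a) (hh a)
  have hcov : ∀ x : ProjectiveSpectrum 𝒜, ∃ t ∈ ts, t ∉ x.asHomogeneousIdeal := by
    intro x
    by_contra hcon
    push Not at hcon
    apply x.not_irrelevant_le
    rw [HomogeneousIdeal.irrelevant_le]
    intro i hi f hf
    have h1 : f ∈ (HomogeneousIdeal.irrelevant 𝒜).toIdeal :=
      HomogeneousIdeal.mem_irrelevant_of_mem 𝒜 hi hf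
    rw [hI] at h1
    exact (Ideal.span_le.mpr (fun t ht => hcon t ht)) h1
  obtain ⟨E⟩ := Groth.Agent.Lib.Helper58.DTCoker.nonempty_coker_equiv ts (e 𝒜 ℳ)
    (fun m hm => h1 𝒜 ℳ ts hts m hm) (fun s => h2 𝒜 ℳ ts hts hcov s)
    (fun s hs => h3 𝒜 ℳ ts hts hcov s hs)
    (fun k y hy => h4 𝒜 ℳ ts hts hcov k y hy)
  rw [hI]
  have hsub := range_e_eq 𝒜 ℳ
  have key : Nonempty ((Gam 𝒜 ℳ ⧸ AddSubgroup.closure (⋃ i : ℕ, Set.range (fun m : ℳ i =>
      DirectSum.of (fun n : ℤ => S 𝒜 ℳ n) (i : ℤ) (alphaS 𝒜 ℳ i m)))) ≃+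
      LocCoh.H (Ideal.span {x | x ∈ ts}) 1 M) :=
    ⟨(QuotientAddGroup.quotientAddEquivOfEq hsub.symm).trans E.toAddEquiv⟩
  exact key

end Groth.Agent.Lib.Helper97.GS3
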