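import Groth.Agent.Lib.Helper97.NormRed

/-!
# Geometric branches: transfer of residue-field embeddings along `A → A ⧸ p`
(helper97; for S9811 / S9236)
-/

set_option autoImplicit false
set_option linter.unusedSectionVars false
set_option linter.style.haveILetI false

namespace Groth.Agent.Lib.Helper97.GeomBr

open Groth.Agent.Lib.Helper97.NormRed

universe u

section General

/-- Transport of "embeddings over a base" along isomorphisms of source and target. -/
def embTransport {A A' Q Q' Ω Ω' : Type*} [Semiring A] [Semiring A'] [Semiring Q] [Semiring Q']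
    [Semiring Ω] [Semiring Ω'] (g : A →+* A') (hg : Function.Surjective g)
    (ψ : Q ≃+* Q') (τ : Ω ≃+* Ω') (r : A →+* Q) (r' : A' →+* Q') (c : A →+* Ω) (c' : A' →+* Ω')
    (hr : (ψ : Q →+* Q').comp r = r'.comp g) (hc : (τ : Ω →+* Ω').comp c = c'.comp g) :
    {σ : Q →+* Ω // σ.comp r = c} ≃ {σ' : Q' →+* Ω' // σ'.comp r' = c'} where
  toFun σ := ⟨(τ : Ω →+* Ω').comp (σ.1.comp (ψ.symm : Q' →+* Q)), by
    apply (RingHom.cancel_right hg).mp
    rw [RingHom.comp_assoc, RingHom.comp_assoc, ← hr, ← hc]
    ext a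
    have h2 := RingHom.congr_fun σ.2 a
    simp only [RingHom.comp_apply, RingHom.coe_coe] at h2 ⊢
    rw [RingEquiv.symm_apply_apply, h2]⟩
  invFun σ' := ⟨(τ.symm : Ω' →+* Ω).comp (σ'.1.comp (ψ : Q →+* Q')), by
    have h1 : σ'.1.comp ((ψ : Q →+* Q').comp r) = (τ : Ω →+* Ω').comp c := by
      rw [hr, hc, ← RingHom.comp_assoc, σ'.2]
    ext a
    have h2 := RingHom.congr_fun h1 a
    simp only [RingHom.comp_apply, RingHom.coe_coe] at h2 ⊢
    rw [h2, RingEquiv.symm_apply_apply]⟩
  left_inv σ := by
    apply Subtype.ext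
    ext x
    simp
  right_inv σ' := by
    apply Subtype.ext
    ext x
    simp

/-- Quotient isomorphism induced by a surjection `φ` with `M = φ⁻¹(m)`. -/
noncomputable def quotEquivOfComap {N N' : Type*} [CommRing N] [CommRing N'] (φ : N →+* N')
    (hφ : Function.Surjective φ) (M : Ideal N) (m : Ideal N') (hM : M = m.comap φ) :
    N ⧸ M ≃+* N' ⧸ m :=
  RingEquiv.ofBijective (Ideal.quotientMap m φ hM.le)
    ⟨Ideal.quotientMap_injective' hM.ge, Ideal.quotientMap_surjective hφ⟩

lemma quotEquivOfComap_mk {N N' : Type*} [CommRing N] [CommRing N'] (φ : N →+* N')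
    (hφ : Function.Surjective φ) (M : Ideal N) (m : Ideal N') (hM : M = m.comap φ) (x : N) :
    quotEquivOfComap φ hφ M m hM (Ideal.Quotient.mk M x) = Ideal.Quotient.mk m (φ x) := rfl

/-- Projection of a ring isomorphic to a product to one factor. -/
def piProj {R : Type*} [CommRing R] {ι : Type*} {B : ι → Type*} [∀ i, CommRing (B i)]
    (e : R ≃+* ∀ i, B i) (i : ι) : R →+* B i :=
  (Pi.evalRingHom B i).comp (e : R →+* ∀ i, B i)

lemma piProj_apply {R : Type*} [CommRing R] {ι : Type*} {B : ι → Type*} [∀ i, CommRing (B i)]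
    (e : R ≃+* ∀ i, B i) (i : ι) (x : R) : piProj e i x = e x i := rfl

lemma piProj_surjective {R : Type*} [CommRing R] {ι : Type*} {B : ι → Type*}
    [∀ i, CommRing (B i)] (e : R ≃+* ∀ i, B i) (i : ι) : Function.Surjective (piProj e i) :=
  (Function.surjective_eval i).comp e.surjective

lemma maxSpecEquivOfPi_asIdeal' {R : Type*} [CommRing R] {ι : Type*} [Finite ι]
    {B : ι → Type*} [∀ i, CommRing (B i)] (e : R ≃+* ∀ i, B i) (M : MaximalSpectrum R) :
    M.asIdeal = ((maxSpecEquivOfPi e) M).2.asIdeal.comap (piProj e ((maxSpecEquivOfPi e) M).1) :=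
  maxSpecEquivOfPi_asIdeal e M

end General

section Residue

variable (A : Type u) [CommRing A] [IsLocalRing A] (p : Ideal A) [p.IsPrime]

instance isLocalHom_mk : IsLocalHom (Ideal.Quotient.mk p) :=
  IsLocalHom.of_surjective _ Ideal.Quotient.mk_surjective

/-- The residue fields of `A` and `A ⧸ p` agree. -/
noncomputable def residueEquiv :
    IsLocalRing.ResidueField A ≃+* IsLocalRing.ResidueField (A ⧸ p) :=
  RingEquiv.ofBijective (IsLocalRing.ResidueField.map (Ideal.Quotient.mk p))
    ⟨(IsLocalRing.ResidueField.map (Ideal.Quotient.mk p)).injective, by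
      intro y
      obtain ⟨b, rfl⟩ := IsLocalRing.residue_surjective y
      obtain ⟨a, rfl⟩ := Ideal.Quotient.mk_surjective b
      exact ⟨IsLocalRing.residue A a, IsLocalRing.ResidueField.map_residue _ a⟩⟩

lemma residueEquiv_residue (a : A) :
    residueEquiv A p (IsLocalRing.residue A a) =
      IsLocalRing.residue (A ⧸ p) (Ideal.Quotient.mk p a) :=
  IsLocalRing.ResidueField.map_residue _ a

/-- The algebraic closures of the residue fields of `A` and `A ⧸ p` agree. -/
noncomputable def closureEquiv :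
    AlgebraicClosure (IsLocalRing.ResidueField A) ≃+*
      AlgebraicClosure (IsLocalRing.ResidueField (A ⧸ p)) :=
  IsAlgClosure.equivOfEquiv _ _ (residueEquiv A p)

lemma closureEquiv_comp_toClosure :
    (closureEquiv A p : AlgebraicClosure (IsLocalRing.ResidueField A) →+*
      AlgebraicClosure (IsLocalRing.ResidueField (A ⧸ p))).comp (Brnch.toClosure A) =
      (Brnch.toClosure (A ⧸ p)).comp (Ideal.Quotient.mk p) := by
  ext a
  simp only [RingHom.comp_apply, Brnch.toClosure, RingHom.coe_coe]
  rw [closureEquiv, IsAlgClosure.equivOfEquiv_algebraMap, residueEquiv_residue]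

end Residue

section Emb

variable {A : Type u} [CommRing A] [IsLocalRing A]

attribute [local instance] isPrime_of_mem_minimalPrimes

/-- The projection `normRed A → normRed (A ⧸ p)`. -/
noncomputable def normRedProj (h : (minimalPrimes A).Finite) (p : minimalPrimes A) :
    CAlg2.normRed A →+* CAlg2.normRed (A ⧸ p.1) :=
  piProj (B := fun p : minimalPrimes A => CAlg2.normRed (A ⧸ p.1)) (normRedEquiv h) p

lemma normRedProj_surjective (h : (minimalPrimes A).Finite) (p : minimalPrimes A) :
    Function.Surjective (normRedProj h p) :=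
  piProj_surjective (B := fun p : minimalPrimes A => CAlg2.normRed (A ⧸ p.1)) (normRedEquiv h) p

lemma normRedProj_algebraMap (h : (minimalPrimes A).Finite) (p : minimalPrimes A)
    (r : CAlg2.red A) :
    normRedProj h p (algebraMap (CAlg2.red A) (CAlg2.normRed A) r) =
      algebraMap (CAlg2.red (A ⧸ p.1)) (CAlg2.normRed (A ⧸ p.1)) (redProj A p.1 r) :=
  normRedEquiv_algebraMap h r p

lemma maxSpecNormRedEquiv_asIdeal (h : (minimalPrimes A).Finite)
    (M : MaximalSpectrum (CAlg2.normRed A)) :
    M.asIdeal = (maxSpecNormRedEquiv h M).2.asIdeal.comap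
      (normRedProj h (maxSpecNormRedEquiv h M).1) :=
  haveI : Finite (minimalPrimes A) := h.to_subtype
  maxSpecEquivOfPi_asIdeal' (B := fun p : minimalPrimes A => CAlg2.normRed (A ⧸ p.1))
    (normRedEquiv h) M

/-- Residue-field embeddings transfer along `A → A ⧸ p`. -/
noncomputable def embEquiv (h : (minimalPrimes A).Finite)
    (M : MaximalSpectrum (CAlg2.normRed A)) (p : minimalPrimes A)
    (m : MaximalSpectrum (CAlg2.normRed (A ⧸ p.1)))
    (hM : M.asIdeal = m.asIdeal.comap (normRedProj h p)) :
    Brnch.Emb A M ≃ Brnch.Emb (A ⧸ p.1) m :=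
  embTransport (Ideal.Quotient.mk p.1) Ideal.Quotient.mk_surjective
    (quotEquivOfComap (normRedProj h p) (normRedProj_surjective h p) M.asIdeal m.asIdeal hM)
    (closureEquiv A p.1) (Brnch.toResidue A M) (Brnch.toResidue (A ⧸ p.1) m)
    (Brnch.toClosure A) (Brnch.toClosure (A ⧸ p.1))
    (by
      ext a
      simp only [RingHom.comp_apply, Brnch.toResidue, RingHom.coe_coe]
      rw [quotEquivOfComap_mk, normRedProj_algebraMap, redProj_mk])
    (closureEquiv_comp_toClosure A p.1)

lemma numGeomBranches_of_finite (h : (minimalPrimes A).Finite) :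
    Brnch.numGeomBranches A =
      ENat.card (Σ m' : MaximalSpectrum (CAlg2.normRed A), Brnch.Emb A m') := by
  unfold Brnch.numGeomBranches
  rw [if_pos h]

lemma numGeomBranches_of_not_finite (h : ¬ (minimalPrimes A).Finite) :
    Brnch.numGeomBranches A = ⊤ := by
  unfold Brnch.numGeomBranches
  rw [if_neg h]

theorem numGeomBranches_eq_finsum (h : (minimalPrimes A).Finite) :
    Brnch.numGeomBranches A =
      ∑ᶠ p : minimalPrimes A, Brnch.numGeomBranches (A ⧸ p.1) := by
  haveI : Finite (minimalPrimes A) := h.to_subtype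
  rw [numGeomBranches_of_finite h]
  have e1 : (Σ M : MaximalSpectrum (CAlg2.normRed A), Brnch.Emb A M) ≃
      Σ x : (Σ p : minimalPrimes A, MaximalSpectrum (CAlg2.normRed (A ⧸ p.1))),
        Brnch.Emb (A ⧸ x.1.1) x.2 :=
    Equiv.sigmaCongr (maxSpecNormRedEquiv h)
      (fun M => embEquiv h M _ _ (maxSpecNormRedEquiv_asIdeal h M))
  have e2 := Equiv.sigmaAssoc (fun (p : minimalPrimes A)
    (m : MaximalSpectrum (CAlg2.normRed (A ⧸ p.1))) => Brnch.Emb (A ⧸ p.1) m)
  rw [ENat.card_congr (e1.trans e2), ENat.card_sigma_finite]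
  refine finsum_congr fun p => ?_
  exact (numGeomBranches_of_finite (minimalPrimes_finite_of_isDomain _)).symm

end Emb

end Groth.Agent.Lib.Helper97.GeomBr
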