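import Mathlib

set_option autoImplicit false

namespace Groth.Agent.Lib.Helper97.HaarCocycle

open MeasureTheory Topology Filter

universe u

section Analysis

variable {G : Type u} [TopologicalSpace G] [CompactSpace G] [T2Space G]
  [MeasurableSpace G] [BorelSpace G]

/-- Continuous real functions on a finite power of a compact Hausdorff space are measurable for
the product σ-algebra (Stone–Weierstrass). -/
theorem measurable_of_continuous_pi (k : ℕ) (F : (Fin k → G) → ℝ) (hF : Continuous F) :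
    Measurable F := by
  classical
  obtain ⟨A, hA⟩ : ∃ A : Subalgebra ℝ C(Fin k → G, ℝ), A = Algebra.adjoin ℝ
      {f | ∃ (i : Fin k) (h : C(G, ℝ)), f = h.comp ⟨fun x => x i, continuous_apply i⟩} := ⟨_, rfl⟩
  have hsep : A.SeparatesPoints := by
    intro x y hxy
    obtain ⟨i, hi⟩ : ∃ i, x i ≠ y i := Function.ne_iff.mp hxy
    obtain ⟨h, h0, h1, -⟩ := exists_continuous_zero_one_of_isClosed
      (isClosed_singleton (x := x i)) (isClosed_singleton (x := y i))
      (Set.disjoint_singleton.mpr hi)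
    refine ⟨_, ⟨h.comp ⟨fun x => x i, continuous_apply i⟩, ?_, rfl⟩, ?_⟩
    · rw [hA]
      exact Algebra.subset_adjoin ⟨i, h, rfl⟩
    · have e0 : h (x i) = 0 := h0 (Set.mem_singleton _)
      have e1 : h (y i) = 1 := h1 (Set.mem_singleton _)
      simp [e0, e1]
  have hclosure := ContinuousMap.subalgebra_topologicalClosure_eq_top_of_separatesPoints A hsep
  have hmeas : ∀ f ∈ A, Measurable (f : (Fin k → G) → ℝ) := by
    intro f hf
    rw [hA] at hf
    induction hf using Algebra.adjoin_induction with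
    | mem f hf =>
      obtain ⟨i, h, rfl⟩ := hf
      exact h.continuous.measurable.comp (measurable_pi_apply i)
    | algebraMap r => exact measurable_const
    | add f g _ _ hf hg => exact hf.add hg
    | mul f g _ _ hf hg => exact hf.mul hg
  have hFmem : (⟨F, hF⟩ : C(Fin k → G, ℝ)) ∈ closure (A : Set C(Fin k → G, ℝ)) := by
    have : (⟨F, hF⟩ : C(Fin k → G, ℝ)) ∈ A.topologicalClosure := by rw [hclosure]; trivial
    exact this
  obtain ⟨u, hu, hlim⟩ := mem_closure_iff_seq_limit.mp hFmem
  refine measurable_of_tendsto_metrizable (f := fun n => (u n : (Fin k → G) → ℝ))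
    (fun n => hmeas _ (hu n)) ?_
  rw [tendsto_pi_nhds]
  intro x
  exact ((continuous_eval_const (F := C(Fin k → G, ℝ)) x).tendsto _).comp hlim

theorem integrable_of_continuous_pi (μ : Measure G) [IsProbabilityMeasure μ] (k : ℕ)
    (F : (Fin k → G) → ℝ) (hF : Continuous F) :
    Integrable F (Measure.pi fun _ : Fin k => μ) := by
  refine Integrable.of_bound (measurable_of_continuous_pi k F hF).aestronglyMeasurable
    ‖(⟨F, hF⟩ : C(Fin k → G, ℝ))‖ (ae_of_all _ fun x => ?_)
  exact ContinuousMap.norm_coe_le_norm (⟨F, hF⟩ : C(Fin k → G, ℝ)) x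

omit [T2Space G] [BorelSpace G] [CompactSpace G] [TopologicalSpace G] [MeasurableSpace G] in
/-- parametric integrals over a compact probability space are continuous -/
theorem continuous_param_integral {X Y : Type*} [TopologicalSpace X] [TopologicalSpace Y]
    [CompactSpace Y] [MeasurableSpace Y] (ν : Measure Y) [IsProbabilityMeasure ν]
    (hint : ∀ f : C(Y, ℝ), Integrable f ν) (F : X → Y → ℝ)
    (hF : Continuous (Function.uncurry F)) : Continuous fun x => ∫ y, F x y ∂ν := by
  have hΛ : Continuous fun f : C(Y, ℝ) => ∫ y, f y ∂ν := by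
    refine LipschitzWith.continuous (K := 1) (LipschitzWith.of_dist_le_mul fun f g => ?_)
    rw [Real.dist_eq, ← integral_sub (hint f) (hint g), NNReal.coe_one, one_mul]
    have := norm_integral_le_of_norm_le_const (μ := ν) (f := fun y => f y - g y) (C := dist f g)
      (ae_of_all _ fun y => by
        rw [Real.norm_eq_abs, ← Real.dist_eq]
        exact ContinuousMap.dist_apply_le_dist y)
    simpa using this
  have hcurry : Continuous fun x => (⟨Function.uncurry F, hF⟩ : C(X × Y, ℝ)).curry x :=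
    (⟨Function.uncurry F, hF⟩ : C(X × Y, ℝ)).curry.continuous
  exact hΛ.comp hcurry

theorem integral_pi_snoc (μ : Measure G) [IsProbabilityMeasure μ] (k : ℕ)
    (F : (Fin (k + 1) → G) → ℝ) (hF : Continuous F) :
    ∫ v, F v ∂(Measure.pi fun _ : Fin (k + 1) => μ) =
      ∫ u, ∫ c, F (Fin.snoc u c) ∂μ ∂(Measure.pi fun _ : Fin k => μ) := by
  have mp := measurePreserving_piFinSuccAbove (fun _ : Fin (k + 1) => μ) (Fin.last k)
  have h1 : ∫ v, F v ∂(Measure.pi fun _ : Fin (k + 1) => μ) =
      ∫ y, F ((MeasurableEquiv.piFinSuccAbove (fun _ : Fin (k + 1) => G) (Fin.last k)).symm y)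
        ∂(μ.prod (Measure.pi fun _ : Fin k => μ)) := by
    rw [← mp.integral_comp']
    simp only [MeasurableEquiv.symm_apply_apply]
  have hint : Integrable (fun y => F ((MeasurableEquiv.piFinSuccAbove
      (fun _ : Fin (k + 1) => G) (Fin.last k)).symm y)) (μ.prod (Measure.pi fun _ : Fin k => μ)) := by
    have h2 := (mp.integrable_comp_emb (MeasurableEquiv.measurableEmbedding _)
      (g := fun y => F ((MeasurableEquiv.piFinSuccAbove
        (fun _ : Fin (k + 1) => G) (Fin.last k)).symm y))).mp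
    apply h2
    have : ((fun y => F ((MeasurableEquiv.piFinSuccAbove
        (fun _ : Fin (k + 1) => G) (Fin.last k)).symm y)) ∘
        (MeasurableEquiv.piFinSuccAbove (fun _ : Fin (k + 1) => G) (Fin.last k))) = F := by
      funext x
      simp only [Function.comp_apply, MeasurableEquiv.symm_apply_apply]
    rw [this]
    exact integrable_of_continuous_pi μ (k + 1) F hF
  rw [h1, integral_prod_symm _ hint]
  refine integral_congr_ae (ae_of_all _ fun u => ?_)
  refine integral_congr_ae (ae_of_all _ fun c => ?_)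
  show F ((MeasurableEquiv.piFinSuccAbove (fun _ : Fin (k + 1) => G) (Fin.last k)).symm (c, u)) = _
  congr 1
  simp [MeasurableEquiv.piFinSuccAbove, Fin.insertNthEquiv, Fin.insertNth_last']

end Analysis

section Comb

variable {G : Type u} [AddCommGroup G]

/-- full finite difference -/
noncomputable def Dfull (n : ℕ) (φ : G → ℝ) (x : Fin n → G) : ℝ :=
  ∑ I ∈ (Finset.univ : Finset (Fin n)).powerset, (-1 : ℝ) ^ (n + I.card) * φ (∑ i ∈ I, x i)

theorem Dfull_zero (φ : G → ℝ) (y : Fin 0 → G) : Dfull 0 φ y = φ 0 := by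
  simp [Dfull]

theorem Dfull_snoc (n : ℕ) (φ : G → ℝ) (x : Fin n → G) (a : G) :
    Dfull (n + 1) φ (Fin.snoc x a) = Dfull n (fun g => φ (g + a)) x - Dfull n φ x := by
  classical
  unfold Dfull
  have hconv : ∀ f : Finset (Fin (n + 1)) → ℝ,
      ∑ t ∈ Finset.image (fun s : Finset (Fin n) => Finset.image (⇑Fin.castSuccEmb) s)
        Finset.univ.powerset, f t =
      ∑ t ∈ (Finset.univ : Finset (Fin n)).powerset, f (t.image (⇑Fin.castSuccEmb)) :=
    fun f => Finset.sum_image
      (fun s _ t _ h => Finset.image_injective Fin.castSuccEmb.injective h)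
  rw [Fin.univ_castSuccEmb, Finset.cons_eq_insert, Finset.sum_powerset_insert (by simp),
    Finset.map_eq_image, Finset.powerset_image, hconv, hconv,
    ← Finset.sum_sub_distrib, ← Finset.sum_add_distrib]
  refine Finset.sum_congr rfl fun t _ => ?_
  have hnot : Fin.last n ∉ t.image (⇑Fin.castSuccEmb) := by
    simp [Finset.mem_image]
  have hc : (t.image (⇑Fin.castSuccEmb)).card = t.card :=
    Finset.card_image_of_injective _ Fin.castSuccEmb.injective
  have hs : ∑ i ∈ t.image (⇑Fin.castSuccEmb), (Fin.snoc x a : Fin (n + 1) → G) i =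
      ∑ i ∈ t, x i := by
    rw [Finset.sum_image (fun i _ j _ h => Fin.castSuccEmb.injective h)]
    exact Finset.sum_congr rfl fun i _ => by simp
  rw [Finset.card_insert_of_notMem hnot, Finset.sum_insert hnot, hc, hs, Fin.snoc_last,
    add_comm a]
  ring

theorem Dfull_merge (n : ℕ) (φ : G → ℝ) (x : Fin n → G) (a b : G) :
    Dfull (n + 1 + 1) φ (Fin.snoc (Fin.snoc x a) b) =
      Dfull (n + 1) φ (Fin.snoc x (a + b)) - Dfull (n + 1) φ (Fin.snoc x a) -
        Dfull (n + 1) φ (Fin.snoc x b) := by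
  simp only [Dfull_snoc, add_assoc]
  ring

theorem dev_eq (n : ℕ) (φ : G → ℝ) (x : Fin n → G) :
    ∑ I ∈ ((Finset.univ : Finset (Fin n)).powerset.erase ∅),
      (-1 : ℝ) ^ (n + I.card) * φ (∑ i ∈ I, x i) = Dfull n φ x - (-1) ^ n * φ 0 := by
  classical
  rw [Dfull, ← Finset.add_sum_erase _ _ (Finset.empty_mem_powerset _)]
  simp

theorem Dfull_sub (n : ℕ) (φ φ' : G → ℝ) (x : Fin n → G) :
    Dfull n (fun g => φ g - φ' g) x = Dfull n φ x - Dfull n φ' x := by
  unfold Dfull
  rw [← Finset.sum_sub_distrib]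
  exact Finset.sum_congr rfl fun I _ => by ring

end Comb

section Main

variable {G : Type u} [AddCommGroup G] [TopologicalSpace G] [IsTopologicalAddGroup G]
  [CompactSpace G] [T2Space G] [MeasurableSpace G] [BorelSpace G]

def IsMC (n : ℕ) (ψ : (Fin n → G) → ℝ) : Prop :=
  ∀ (i j : Fin n), i ≠ j → ∀ (x : Fin n → G) (a b c : G),
    ψ (Function.update (Function.update x i (a + b)) j c) +
        ψ (Function.update (Function.update x i a) j b) =
      ψ (Function.update (Function.update x i a) j (b + c)) +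
        ψ (Function.update (Function.update x i b) j c)

noncomputable def phiOf (μ : Measure G) (m : ℕ) (ψ : (Fin (m + 1) → G) → ℝ) (g : G) : ℝ :=
  (-1 : ℝ) ^ m * ∫ u, ψ (Fin.cons g u) ∂(Measure.pi fun _ : Fin m => μ)

noncomputable def avgLast (μ : Measure G) (m : ℕ) (ψ : (Fin (m + 1 + 1) → G) → ℝ)
    (y : Fin (m + 1) → G) : ℝ :=
  - ∫ c, ψ (Fin.snoc y c) ∂μ

omit [AddCommGroup G] [IsTopologicalAddGroup G] [T2Space G] in
theorem integrable_cont (μ : Measure G) [IsProbabilityMeasure μ] (f : G → ℝ) (hf : Continuous f) :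
    Integrable f μ := by
  refine Integrable.of_bound hf.aestronglyMeasurable ‖(⟨f, hf⟩ : C(G, ℝ))‖
    (ae_of_all _ fun x => ?_)
  exact ContinuousMap.norm_coe_le_norm (⟨f, hf⟩ : C(G, ℝ)) x

omit [AddCommGroup G] [IsTopologicalAddGroup G] [T2Space G] in
theorem continuous_avgLast (μ : Measure G) [IsProbabilityMeasure μ] (m : ℕ)
    (ψ : (Fin (m + 1 + 1) → G) → ℝ) (hψc : Continuous ψ) : Continuous (avgLast μ m ψ) := by
  unfold avgLast
  refine Continuous.neg ?_
  refine continuous_param_integral μ (fun f => integrable_cont μ f f.continuous)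
    (fun (y : Fin (m + 1) → G) (c : G) => ψ (Fin.snoc y c)) ?_
  exact hψc.comp (Continuous.finSnoc continuous_fst continuous_snd)

omit [IsTopologicalAddGroup G] [T2Space G] in
theorem isMC_avgLast (μ : Measure G) [IsProbabilityMeasure μ] (m : ℕ)
    (ψ : (Fin (m + 1 + 1) → G) → ℝ) (hψc : Continuous ψ) (hψ : IsMC (m + 1 + 1) ψ) :
    IsMC (m + 1) (avgLast μ m ψ) := by
  intro i j hij x a b c
  have hne : Fin.castSucc i ≠ Fin.castSucc j := fun h => hij (Fin.castSucc_injective _ h)
  have hsn : ∀ (A C d : G), (Fin.snoc (Function.update (Function.update x i A) j C) d :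
      Fin (m + 1 + 1) → G) =
      Function.update (Function.update (Fin.snoc x d) (Fin.castSucc i) A) (Fin.castSucc j) C := by
    intro A C d
    rw [Fin.snoc_update, Fin.snoc_update]
  have hint : ∀ (A C : G), Integrable
      (fun d => ψ (Fin.snoc (Function.update (Function.update x i A) j C) d)) μ := fun A C =>
    integrable_cont μ _ (hψc.comp (Continuous.finSnoc continuous_const continuous_id))
  unfold avgLast
  rw [← neg_add, ← neg_add, ← integral_add (hint _ _) (hint _ _),
    ← integral_add (hint _ _) (hint _ _)]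
  congr 1
  refine integral_congr_ae (ae_of_all _ fun d => ?_)
  simp only [hsn]
  exact hψ _ _ hne (Fin.snoc x d) a b c

omit [T2Space G] in
theorem key_identity (μ : Measure G) [μ.IsAddHaarMeasure] [IsProbabilityMeasure μ] (m : ℕ)
    (ψ : (Fin (m + 1 + 1) → G) → ℝ) (hψc : Continuous ψ) (hψ : IsMC (m + 1 + 1) ψ)
    (x : Fin m → G) (a b : G) :
    ψ (Fin.snoc (Fin.snoc x a) b) =
      avgLast μ m ψ (Fin.snoc x (a + b)) - avgLast μ m ψ (Fin.snoc x a) -
        avgLast μ m ψ (Fin.snoc x b) := by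
  have hupd : ∀ (A C : G), Function.update (Function.update
      (Fin.snoc (Fin.snoc x 0 : Fin (m + 1) → G) 0 : Fin (m + 1 + 1) → G)
      (Fin.castSucc (Fin.last m)) A) (Fin.last (m + 1)) C = Fin.snoc (Fin.snoc x A) C := by
    intro A C
    rw [← Fin.snoc_update, Fin.update_snoc_last, Fin.update_snoc_last]
  have hpt : ∀ c, ψ (Fin.snoc (Fin.snoc x a) b) =
      ψ (Fin.snoc (Fin.snoc x a) (b + c)) + ψ (Fin.snoc (Fin.snoc x b) c) -
        ψ (Fin.snoc (Fin.snoc x (a + b)) c) := by
    intro c
    have h := hψ (Fin.castSucc (Fin.last m)) (Fin.last (m + 1))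
      (Fin.castSucc_lt_last (Fin.last m)).ne
      (Fin.snoc (Fin.snoc x 0 : Fin (m + 1) → G) 0) a b c
    simp only [hupd] at h
    linarith
  have hc : ∀ (A : G), Continuous fun c => ψ (Fin.snoc (Fin.snoc x A : Fin (m + 1) → G) c) :=
    fun A => hψc.comp (Continuous.finSnoc continuous_const continuous_id)
  have hi1 : Integrable (fun c => ψ (Fin.snoc (Fin.snoc x a : Fin (m + 1) → G) (b + c))) μ :=
    integrable_cont μ _ ((hc a).comp (continuous_const.add continuous_id))
  have hi2 := integrable_cont μ _ (hc b)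
  have hi3 := integrable_cont μ _ (hc (a + b))
  have hint : ∫ c, ψ (Fin.snoc (Fin.snoc x a) b) ∂μ =
      ∫ c, (ψ (Fin.snoc (Fin.snoc x a : Fin (m + 1) → G) (b + c)) +
        ψ (Fin.snoc (Fin.snoc x b : Fin (m + 1) → G) c) -
        ψ (Fin.snoc (Fin.snoc x (a + b) : Fin (m + 1) → G) c)) ∂μ :=
    integral_congr_ae (ae_of_all _ hpt)
  have hi12 : Integrable (fun c => ψ (Fin.snoc (Fin.snoc x a : Fin (m + 1) → G) (b + c)) +
      ψ (Fin.snoc (Fin.snoc x b : Fin (m + 1) → G) c)) μ := hi1.add hi2
  rw [integral_const, integral_sub hi12 hi3, integral_add hi1 hi2,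
    integral_add_left_eq_self (fun c => ψ (Fin.snoc (Fin.snoc x a : Fin (m + 1) → G) c)) b] at hint
  simp only [probReal_univ, one_smul] at hint
  unfold avgLast
  linarith

omit [AddCommGroup G] [IsTopologicalAddGroup G] in
theorem phiOf_avgLast (μ : Measure G) [IsProbabilityMeasure μ] (m : ℕ)
    (ψ : (Fin (m + 1 + 1) → G) → ℝ) (hψc : Continuous ψ) :
    phiOf μ m (avgLast μ m ψ) = phiOf μ (m + 1) ψ := by
  funext g
  unfold phiOf avgLast
  rw [integral_pi_snoc μ m (fun v => ψ (Fin.cons g v))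
    (hψc.comp (Continuous.finCons continuous_const continuous_id)), integral_neg, pow_succ]
  simp only [Fin.cons_snoc_eq_snoc_cons]
  ring

theorem main_ind (μ : Measure G) [μ.IsAddHaarMeasure] [IsProbabilityMeasure μ] :
    ∀ (m : ℕ) (ψ : (Fin (m + 1) → G) → ℝ), Continuous ψ → IsMC (m + 1) ψ →
      ∀ x, ψ x = Dfull (m + 1) (phiOf μ m ψ) x - (-1) ^ (m + 1) * phiOf μ m ψ 0 := by
  intro m
  induction m with
  | zero =>
    intro ψ hψc _ x
    have hcons : ∀ (g : G) (u : Fin 0 → G), (Fin.cons g u : Fin 1 → G) = fun _ => g := by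
      intro g u
      funext i
      rw [Fin.eq_zero i]
      rfl
    have hφ : ∀ g, phiOf μ 0 ψ g = ψ (fun _ => g) := by
      intro g
      simp [phiOf, hcons, integral_const]
    have hx : x = Fin.snoc (Fin.init x) (x (Fin.last 0)) := (Fin.snoc_init_self x).symm
    have hx' : x = fun _ => x (Fin.last 0) := by
      funext i
      rw [Fin.eq_zero i]
      rfl
    rw [hx, Dfull_snoc, Dfull_zero, Dfull_zero, hφ, hφ, ← hx]
    conv_lhs => rw [hx']
    simp
  | succ m ih =>
    intro ψ hψc hψ z
    obtain ⟨x, a, b, rfl⟩ : ∃ (x : Fin m → G) (a b : G), z = Fin.snoc (Fin.snoc x a) b :=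
      ⟨Fin.init (Fin.init z), Fin.init z (Fin.last m), z (Fin.last (m + 1)), by
        rw [Fin.snoc_init_self, Fin.snoc_init_self]⟩
    have hh := ih (avgLast μ m ψ) (continuous_avgLast μ m ψ hψc) (isMC_avgLast μ m ψ hψc hψ)
    rw [key_identity μ m ψ hψc hψ, hh, hh, hh, phiOf_avgLast μ m ψ hψc, Dfull_merge]
    ring

omit [AddCommGroup G] [IsTopologicalAddGroup G] in
theorem continuous_phiOf (μ : Measure G) [IsProbabilityMeasure μ] (m : ℕ)
    (ψ : (Fin (m + 1) → G) → ℝ) (hψc : Continuous ψ) : Continuous (phiOf μ m ψ) := by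
  unfold phiOf
  refine continuous_const.mul ?_
  refine continuous_param_integral (Measure.pi fun _ : Fin m => μ)
    (fun f => integrable_of_continuous_pi μ m f f.continuous)
    (fun (g : G) (u : Fin m → G) => ψ (Fin.cons g u)) ?_
  exact hψc.comp (Continuous.finCons continuous_fst continuous_snd)

omit [T2Space G] [MeasurableSpace G] [BorelSpace G] [IsTopologicalAddGroup G] in
theorem additive_zero (A : G → ℝ) (hA : Continuous A) (hadd : ∀ a b, A (a + b) = A a + A b) :
    A = 0 := by
  funext g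
  by_contra hne
  have hne' : A g ≠ 0 := hne
  have hbd : ∀ x, |A x| ≤ ‖(⟨A, hA⟩ : C(G, ℝ))‖ := fun x => by
    rw [← Real.norm_eq_abs]
    exact ContinuousMap.norm_coe_le_norm (⟨A, hA⟩ : C(G, ℝ)) x
  have hn : ∀ n : ℕ, A (n • g) = n * A g := by
    intro n
    have := map_nsmul (AddMonoidHom.mk' A hadd) n g
    simpa using this
  obtain ⟨n, hn'⟩ := exists_nat_gt (‖(⟨A, hA⟩ : C(G, ℝ))‖ / |A g|)
  have hpos : 0 < |A g| := abs_pos.mpr hne'
  have h1 := hbd (n • g)
  rw [hn n, abs_mul, Nat.abs_cast] at h1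
  rw [div_lt_iff₀ hpos] at hn'
  linarith

omit [T2Space G] [MeasurableSpace G] [BorelSpace G] [CompactSpace G] in
theorem continuous_Dfull_snoc (n : ℕ) (χ : G → ℝ) (hχ : Continuous χ) (x : Fin n → G) :
    Continuous fun a => Dfull (n + 1) χ (Fin.snoc x a) := by
  unfold Dfull
  refine continuous_finset_sum _ fun I _ => continuous_const.mul (hχ.comp ?_)
  refine continuous_finset_sum _ fun i _ => ?_
  have hsn : Continuous fun a : G => (Fin.snoc x a : Fin (n + 1) → G) :=
    Continuous.finSnoc continuous_const continuous_id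
  exact (continuous_apply i).comp hsn

omit [T2Space G] [MeasurableSpace G] [BorelSpace G] in
theorem dev_unique : ∀ (n : ℕ) (χ : G → ℝ), Continuous χ →
    (∀ x : Fin (n + 1) → G, Dfull (n + 1) χ x - (-1) ^ (n + 1) * χ 0 = 0) → χ = 0 := by
  intro n
  induction n with
  | zero =>
    intro χ _ h
    funext g
    have h1 := h (Fin.snoc (Fin.elim0 : Fin 0 → G) g)
    rw [Dfull_snoc, Dfull_zero, Dfull_zero] at h1
    simp at h1
    simpa using h1
  | succ n ih =>
    intro χ hχ h
    apply ih χ hχ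
    intro y
    obtain ⟨x, a, rfl⟩ : ∃ (x : Fin n → G) (a : G), y = Fin.snoc x a :=
      ⟨Fin.init y, y (Fin.last n), (Fin.snoc_init_self y).symm⟩
    have hA := additive_zero
      (fun a => Dfull (n + 1) χ (Fin.snoc x a) - (-1) ^ (n + 1) * χ 0)
      ((continuous_Dfull_snoc n χ hχ x).sub continuous_const)
      (fun a b => by
        have h2 := h (Fin.snoc (Fin.snoc x a) b)
        rw [Dfull_merge] at h2
        simp only [pow_succ] at h2 ⊢
        linarith)
    exact congrFun hA a

theorem thm_S14297 {G : Type u} [AddCommGroup G] [TopologicalSpace G] [IsTopologicalAddGroup G]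
    [CompactSpace G] [T2Space G]
    [MeasurableSpace G] [BorelSpace G] (μ : MeasureTheory.Measure G) [μ.IsAddHaarMeasure]
    [MeasureTheory.IsProbabilityMeasure μ]
    (m : ℕ) (hm : 1 ≤ m) (ψ : (Fin (m + 1) → G) → ℝ) (hψc : Continuous ψ)
    (hψ : ∀ (i j : Fin (m + 1)), i ≠ j → ∀ (x : Fin (m + 1) → G) (a b c : G),
      ψ (Function.update (Function.update x i (a + b)) j c) + ψ (Function.update (Function.update x i a) j b) =
        ψ (Function.update (Function.update x i a) j (b + c)) + ψ (Function.update (Function.update x i b) j c)) :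
    (∀ x : Fin (m + 1) → G,
      ψ x = ∑ I ∈ ((Finset.univ : Finset (Fin (m + 1))).powerset.erase ∅),
        (-1 : ℝ) ^ (m + 1 + I.card) * ((-1 : ℝ) ^ m *
          ∫ u, ψ (Fin.cons (∑ i ∈ I, x i) u) ∂(MeasureTheory.Measure.pi (fun _ : Fin m => μ)))) ∧
    Continuous (fun g : G => (-1 : ℝ) ^ m * ∫ u, ψ (Fin.cons g u) ∂(MeasureTheory.Measure.pi (fun _ : Fin m => μ))) ∧
    (∀ φ : G → ℝ, Continuous φ → (∀ x : Fin (m + 1) → G,
      ψ x = ∑ I ∈ ((Finset.univ : Finset (Fin (m + 1))).powerset.erase ∅), (-1 : ℝ) ^ (m + 1 + I.card) * φ (∑ i ∈ I, x i)) →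
      φ = fun g => (-1 : ℝ) ^ m * ∫ u, ψ (Fin.cons g u) ∂(MeasureTheory.Measure.pi (fun _ : Fin m => μ))) := by
  have hmain := main_ind μ m ψ hψc hψ
  refine ⟨fun x => ?_, continuous_phiOf μ m ψ hψc, fun φ hφ hφψ => ?_⟩
  · rw [hmain x, ← dev_eq (m + 1) (phiOf μ m ψ) x]
    rfl
  · have hχ : (fun g => φ g - phiOf μ m ψ g) = 0 := by
      apply dev_unique m _ (hφ.sub (continuous_phiOf μ m ψ hψc))
      intro x
      have h1 := hφψ x
      rw [dev_eq (m + 1) φ x] at h1
      have h2 := hmain x
      show Dfull (m + 1) (fun g => φ g - phiOf μ m ψ g) x -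
        (-1) ^ (m + 1) * (φ 0 - phiOf μ m ψ 0) = 0
      rw [Dfull_sub]
      linarith
    funext g
    have := congrFun hχ g
    simp only [Pi.zero_apply, sub_eq_zero] at this
    exact this

end Main

end Groth.Agent.Lib.Helper97.HaarCocycle
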