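import Mathlib

set_option autoImplicit false
set_option linter.unusedSectionVars false
set_option linter.unusedSimpArgs false

/-! Hermite (row-reduced) normal forms of square matrices over `k⟦X⟧` (helper97). -/

namespace Groth.Agent.Lib.Helper97.Hermite

open Matrix PowerSeries

section Blk
variable {R : Type*} [CommRing R] {r : ℕ}

/-- block matrix `[[a, v],[w, A]]` indexed by `Fin (r+1)`. -/
def blk (a : R) (v w : Fin r → R) (A : Matrix (Fin r) (Fin r) R) :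
    Matrix (Fin (r+1)) (Fin (r+1)) R :=
  fun i j => Fin.cases (Fin.cases a v j) (fun i' => Fin.cases (w i') (A i') j) i

@[simp] theorem blk_zero_zero (a : R) (v w : Fin r → R) (A : Matrix (Fin r) (Fin r) R) :
    blk a v w A 0 0 = a := rfl
@[simp] theorem blk_zero_succ (a : R) (v w : Fin r → R) (A : Matrix (Fin r) (Fin r) R)
    (j : Fin r) : blk a v w A 0 j.succ = v j := by simp [blk]
@[simp] theorem blk_succ_zero (a : R) (v w : Fin r → R) (A : Matrix (Fin r) (Fin r) R)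
    (i : Fin r) : blk a v w A i.succ 0 = w i := by simp [blk]
@[simp] theorem blk_succ_succ (a : R) (v w : Fin r → R) (A : Matrix (Fin r) (Fin r) R)
    (i j : Fin r) : blk a v w A i.succ j.succ = A i j := by simp [blk]

theorem eq_blk (M : Matrix (Fin (r+1)) (Fin (r+1)) R) :
    M = blk (M 0 0) (fun j => M 0 j.succ) (fun i => M i.succ 0) (M.submatrix Fin.succ Fin.succ) := by
  ext i j
  refine Fin.cases ?_ (fun i' => ?_) i <;> refine Fin.cases ?_ (fun j' => ?_) j <;> simp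

theorem blk_inj {a a' : R} {v v' w w' : Fin r → R} {A A' : Matrix (Fin r) (Fin r) R} :
    blk a v w A = blk a' v' w' A' ↔ a = a' ∧ v = v' ∧ w = w' ∧ A = A' := by
  constructor
  · intro h
    refine ⟨?_, ?_, ?_, ?_⟩
    · simpa using congrFun (congrFun h 0) 0
    · funext j; simpa using congrFun (congrFun h 0) j.succ
    · funext i; simpa using congrFun (congrFun h i.succ) 0
    · ext i j; simpa using congrFun (congrFun h i.succ) j.succ
  · rintro ⟨rfl, rfl, rfl, rfl⟩; rfl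

theorem blk_mul_blk (a a' : R) (v v' w w' : Fin r → R) (A A' : Matrix (Fin r) (Fin r) R) :
    blk a v w A * blk a' v' w' A' =
      blk (a * a' + v ⬝ᵥ w') (a • v' + v ᵥ* A') (a' • w + A *ᵥ w') (vecMulVec w v' + A * A') := by
  ext i j
  refine Fin.cases ?_ (fun i' => ?_) i <;> refine Fin.cases ?_ (fun j' => ?_) j <;>
    simp [Matrix.mul_apply, Fin.sum_univ_succ, dotProduct, vecMul, mulVec, vecMulVec_apply, mul_comm]

theorem vecMul_blk (c0 : R) (c : Fin r → R) (a : R) (v w : Fin r → R)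
    (A : Matrix (Fin r) (Fin r) R) :
    (Fin.cons c0 c : Fin (r+1) → R) ᵥ* blk a v w A =
      Fin.cons (c0 * a + c ⬝ᵥ w) (c0 • v + c ᵥ* A) := by
  funext j
  refine Fin.cases ?_ (fun j' => ?_) j <;>
    simp [vecMul, dotProduct, Fin.sum_univ_succ]

theorem det_blk_upper (a : R) (v : Fin r → R) (A : Matrix (Fin r) (Fin r) R) :
    (blk a v 0 A).det = a * A.det := by
  rw [Matrix.det_succ_column_zero, Fin.sum_univ_succ]
  have hsub : (blk a v 0 A).submatrix Fin.succ Fin.succ = A := by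
    ext i j; simp
  simp [hsub]

theorem isUnit_blk_upper {a : R} {v : Fin r → R} {A : Matrix (Fin r) (Fin r) R}
    (ha : IsUnit a) (hA : IsUnit A) : IsUnit (blk a v 0 A) := by
  rw [Matrix.isUnit_iff_isUnit_det, det_blk_upper]
  exact ha.mul ((Matrix.isUnit_iff_isUnit_det _).mp hA)

theorem isUnit_of_blk_upper {a : R} {v : Fin r → R} {A : Matrix (Fin r) (Fin r) R}
    (h : IsUnit (blk a v 0 A)) : IsUnit a ∧ IsUnit A := by
  rw [Matrix.isUnit_iff_isUnit_det, det_blk_upper, IsUnit.mul_iff] at h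
  exact ⟨h.1, (Matrix.isUnit_iff_isUnit_det _).mpr h.2⟩

theorem blk_lower_transpose (a : R) (w : Fin r → R) (A : Matrix (Fin r) (Fin r) R) :
    (blk a 0 w A)ᵀ = blk a w 0 Aᵀ := by
  ext i j
  refine Fin.cases ?_ (fun i' => ?_) i <;> refine Fin.cases ?_ (fun j' => ?_) j <;>
    simp [Matrix.transpose_apply]

theorem isUnit_blk_lower {a : R} {w : Fin r → R} {A : Matrix (Fin r) (Fin r) R}
    (ha : IsUnit a) (hA : IsUnit A) : IsUnit (blk a 0 w A) := by
  rw [Matrix.isUnit_iff_isUnit_det, ← Matrix.det_transpose, blk_lower_transpose, det_blk_upper,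
    Matrix.det_transpose]
  exact ha.mul ((Matrix.isUnit_iff_isUnit_det _).mp hA)

theorem clear_mul (u ui t : R) (hu : ui * u = 1) (v q : Fin r → R)
    (A : Matrix (Fin r) (Fin r) R) :
    blk ui 0 (fun i => -(ui * q i)) 1 * blk (t * u) v (fun i => t * q i) A =
      blk t (ui • v) 0 (vecMulVec (fun i => -(ui * q i)) v + A) := by
  rw [blk_mul_blk, blk_inj]
  refine ⟨?_, ?_, ?_, ?_⟩
  · simp only [zero_dotProduct, add_zero]; linear_combination t * hu
  · simp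
  · funext i
    simp only [Pi.add_apply, Pi.smul_apply, smul_eq_mul, Matrix.one_mulVec, Pi.zero_apply]
    linear_combination (-t * q i) * hu
  · simp

end Blk

section PS
variable {k : Type*} [Field k]

theorem exists_quot_rem (e : ℕ) (a : k⟦X⟧) :
    ∃ q ρ : k⟦X⟧, a = X ^ e * q + ρ ∧ ∀ n, e ≤ n → coeff n ρ = 0 := by
  refine ⟨PowerSeries.mk (fun n => coeff (n + e) a),
    a - X ^ e * PowerSeries.mk (fun n => coeff (n + e) a), by ring, ?_⟩
  intro n hn
  rw [map_sub, coeff_X_pow_mul', if_pos hn, coeff_mk, Nat.sub_add_cancel hn, sub_self]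

theorem eq_zero_of_red_of_dvd {e : ℕ} {a : k⟦X⟧} (hd : X ^ e ∣ a)
    (hr : ∀ n, e ≤ n → coeff n a = 0) : a = 0 := by
  ext n
  rcases lt_or_ge n e with h | h
  · simpa using X_pow_dvd_iff.mp hd n h
  · simpa using hr n h

/-- row-reduced (Hermite) form with exponents `e`. -/
def IsRR {r : ℕ} (H : Matrix (Fin r) (Fin r) k⟦X⟧) (e : Fin r → ℕ) : Prop :=
  (∀ i, H i i = X ^ e i) ∧ (∀ i j, j < i → H i j = 0) ∧
    (∀ i j, i < j → ∀ n, e j ≤ n → coeff n (H i j) = 0)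

/-- a row vector reduced with respect to exponents `e`. -/
def IsRed {r : ℕ} (v : Fin r → k⟦X⟧) (e : Fin r → ℕ) : Prop :=
  ∀ j n, e j ≤ n → coeff n (v j) = 0

theorem isRR_blk {r : ℕ} {H : Matrix (Fin r) (Fin r) k⟦X⟧} {e : Fin r → ℕ} (hH : IsRR H e)
    (e0 : ℕ) {v : Fin r → k⟦X⟧} (hv : IsRed v e) :
    IsRR (blk (X ^ e0) v 0 H) (Fin.cons e0 e) := by
  refine ⟨?_, ?_, ?_⟩
  · intro i
    refine Fin.cases ?_ (fun i' => ?_) i
    · simp
    · simp [hH.1 i']
  · intro i j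
    refine Fin.cases ?_ (fun i' => ?_) i <;> refine Fin.cases ?_ (fun j' => ?_) j <;> intro hji
    · exact absurd hji (lt_irrefl _)
    · exact absurd hji (Fin.not_lt_zero _)
    · simp
    · simpa using hH.2.1 i' j' (Fin.succ_lt_succ_iff.mp hji)
  · intro i j
    refine Fin.cases ?_ (fun i' => ?_) i <;> refine Fin.cases ?_ (fun j' => ?_) j <;> intro hij
    · exact absurd hij (lt_irrefl _)
    · intro n hn
      simp only [Fin.cons_succ] at hn
      simpa using hv j' n hn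
    · exact absurd hij (Fin.not_lt_zero _)
    · intro n hn
      simp only [Fin.cons_succ] at hn
      simpa using hH.2.2 i' j' (Fin.succ_lt_succ_iff.mp hij) n hn

theorem IsRR.exists_decomp {r : ℕ} {H : Matrix (Fin (r+1)) (Fin (r+1)) k⟦X⟧} {e : Fin (r+1) → ℕ}
    (h : IsRR H e) :
    ∃ (v : Fin r → k⟦X⟧) (H0 : Matrix (Fin r) (Fin r) k⟦X⟧),
      H = blk (X ^ e 0) v 0 H0 ∧ IsRR H0 (Fin.tail e) ∧ IsRed v (Fin.tail e) := by
  refine ⟨fun j => H 0 j.succ, H.submatrix Fin.succ Fin.succ, ?_, ⟨?_, ?_, ?_⟩, ?_⟩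
  · conv_lhs => rw [eq_blk H]
    rw [blk_inj]
    refine ⟨h.1 0, rfl, ?_, rfl⟩
    funext i
    exact h.2.1 i.succ 0 (Fin.succ_pos i)
  · intro i; simpa [Fin.tail] using h.1 i.succ
  · intro i j hji
    simpa using h.2.1 i.succ j.succ (Fin.succ_lt_succ_iff.mpr hji)
  · intro i j hij n hn
    simpa using h.2.2 i.succ j.succ (Fin.succ_lt_succ_iff.mpr hij) n hn
  · intro j n hn
    exact h.2.2 0 j.succ (Fin.succ_pos j) n hn

theorem IsRR.induction {motive : ∀ r : ℕ, Matrix (Fin r) (Fin r) k⟦X⟧ → (Fin r → ℕ) → Prop}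
    (h0 : ∀ H e, motive 0 H e)
    (hstep : ∀ (r : ℕ) (H : Matrix (Fin r) (Fin r) k⟦X⟧) (e : Fin r → ℕ), IsRR H e →
      ∀ (e0 : ℕ) (v : Fin r → k⟦X⟧), IsRed v e → motive r H e →
        motive (r+1) (blk (X ^ e0) v 0 H) (Fin.cons e0 e)) :
    ∀ (r : ℕ) (H : Matrix (Fin r) (Fin r) k⟦X⟧) (e : Fin r → ℕ), IsRR H e → motive r H e := by
  intro r
  induction r with
  | zero => intro H e _; exact h0 H e
  | succ r ih =>
    intro H e h
    obtain ⟨v, H0, rfl, hH0, hv⟩ := h.exists_decomp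
    have := hstep r H0 (Fin.tail e) hH0 (e 0) v hv (ih H0 _ hH0)
    rwa [Fin.cons_self_tail] at this

theorem IsRR.exp_unique {r : ℕ} {H : Matrix (Fin r) (Fin r) k⟦X⟧} {e e' : Fin r → ℕ}
    (h : IsRR H e) (h' : IsRR H e') : e = e' := by
  funext i
  have := (h.1 i).symm.trans (h'.1 i)
  have h2 := congrArg PowerSeries.order this
  rw [order_X_pow, order_X_pow] at h2
  exact_mod_cast h2

theorem exists_red : ∀ (r : ℕ) (H : Matrix (Fin r) (Fin r) k⟦X⟧) (e : Fin r → ℕ), IsRR H e →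
    ∀ v : Fin r → k⟦X⟧, ∃ c : Fin r → k⟦X⟧, IsRed (v - c ᵥ* H) e := by
  refine IsRR.induction (fun H e v => ⟨0, fun j => j.elim0⟩) ?_
  intro r H e hH e0 y hy ih v
  obtain ⟨q, ρ, hq, hρ⟩ := exists_quot_rem e0 (v 0)
  obtain ⟨c', hc'⟩ := ih (fun j => v j.succ - q * y j)
  refine ⟨Fin.cons q c', ?_⟩
  rw [vecMul_blk]
  intro j
  refine Fin.cases ?_ (fun j' => ?_) j
  · intro n hn
    simp only [Fin.cons_zero] at hn
    have : v 0 - (q * X ^ e0 + c' ⬝ᵥ 0) = ρ := by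
      rw [dotProduct_zero, add_zero, hq]; ring
    simp only [Pi.sub_apply, Fin.cons_zero]
    rw [this]; exact hρ n hn
  · intro n hn
    simp only [Fin.cons_succ] at hn
    have : v j'.succ - (q • y + c' ᵥ* H) j' =
        ((fun j => v j.succ - q * y j) - c' ᵥ* H) j' := by
      simp only [Pi.sub_apply, Pi.add_apply, Pi.smul_apply, smul_eq_mul]
      ring
    simp only [Pi.sub_apply, Fin.cons_succ]
    rw [this]; exact hc' j' n hn

theorem red_unique : ∀ (r : ℕ) (H : Matrix (Fin r) (Fin r) k⟦X⟧) (e : Fin r → ℕ), IsRR H e →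
    ∀ b : Fin r → k⟦X⟧, IsRed (b ᵥ* H) e → b ᵥ* H = 0 := by
  refine IsRR.induction (fun H e b _ => funext fun j => j.elim0) ?_
  intro r H e hH e0 y hy ih b hb
  rw [← Fin.cons_self_tail b, vecMul_blk] at hb ⊢
  have h0 : b 0 * X ^ e0 = 0 := by
    apply eq_zero_of_red_of_dvd (e := e0) (Dvd.intro_left _ rfl)
    intro n hn
    have := hb 0 n (by simpa using hn)
    simpa using this
  have hb0 : b 0 = 0 := by
    rcases mul_eq_zero.mp h0 with h | h
    · exact h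
    · exact absurd h (pow_ne_zero _ X_ne_zero)
  have h1 : Fin.tail b ᵥ* H = 0 := by
    apply ih
    intro j n hn
    have := hb j.succ n (by simpa using hn)
    simpa [hb0] using this
  funext j
  refine Fin.cases ?_ (fun j' => ?_) j
  · simp [hb0]
  · simp [hb0, h1]

/-- uniqueness of the Hermite form in a left-unit orbit. -/
theorem hermite_unique : ∀ (r : ℕ) (H : Matrix (Fin r) (Fin r) k⟦X⟧) (e : Fin r → ℕ), IsRR H e →
    ∀ (H' : Matrix (Fin r) (Fin r) k⟦X⟧) (e' : Fin r → ℕ), IsRR H' e' →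
      ∀ U : Matrix (Fin r) (Fin r) k⟦X⟧, IsUnit U → U * H = H' → H = H' := by
  refine IsRR.induction (fun H e H' e' _ U _ _ => by ext i; exact i.elim0) ?_
  intro r H e hH e0 v hv ih H' e' hH' U hU hUH
  obtain ⟨v', H0', rfl, hH0', hv'⟩ := hH'.exists_decomp
  obtain ⟨a, b, w, D, rfl⟩ : ∃ a b w D, U = blk a b w D := ⟨_, _, _, _, eq_blk U⟩
  rw [blk_mul_blk, blk_inj] at hUH
  obtain ⟨h1, h2, h3, h4⟩ := hUH
  simp only [dotProduct_zero, add_zero, mulVec_zero] at h1 h3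
  have hw : w = 0 := by
    funext i
    have := congrFun h3 i
    simp only [Pi.smul_apply, smul_eq_mul, Pi.zero_apply] at this
    rcases mul_eq_zero.mp this with h | h
    · exact absurd h (pow_ne_zero _ X_ne_zero)
    · exact h
  subst hw
  simp only [zero_vecMulVec, zero_add] at h4
  obtain ⟨ha, hD⟩ := isUnit_of_blk_upper hU
  have he : e0 = e' 0 := by
    have h5 := congrArg PowerSeries.order h1
    rw [order_mul, order_X_pow, order_X_pow, order_zero_of_unit ha, zero_add] at h5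
    exact_mod_cast h5
  have ha1 : a = 1 := by
    apply mul_X_pow_cancel (k := e0)
    rw [h1, one_mul, he]
  have hHH : H = H0' := ih H0' _ hH0' D hD h4
  subst hHH
  have hee : e = Fin.tail e' := hH.exp_unique hH0'
  have hbz : b ᵥ* H = 0 := by
    apply red_unique r H e hH
    have : b ᵥ* H = v' - v := by
      rw [← h2, ha1, one_smul]; abel
    rw [this]
    intro j n hn
    have h6 := hv j n hn
    have h7 := hv' j n (by rw [← hee]; exact hn)
    simp [h6, h7]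
  rw [blk_inj]
  refine ⟨by rw [he], ?_, rfl, rfl⟩
  rw [← h2, ha1, one_smul, hbz, add_zero]

theorem isUnit_swapMatrix {n : Type*} [Fintype n] [DecidableEq n] (σ : Equiv.Perm n) :
    IsUnit ((1 : Matrix n n k⟦X⟧).submatrix σ id) := by
  rw [Matrix.isUnit_iff_isUnit_det, Matrix.det_permute, Matrix.det_one, mul_one]
  rcases Int.units_eq_one_or (Equiv.Perm.sign σ) with h | h <;> simp [h]

theorem swapMatrix_mul {n : Type*} [Fintype n] [DecidableEq n] (σ : Equiv.Perm n)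
    (M : Matrix n n k⟦X⟧) : (1 : Matrix n n k⟦X⟧).submatrix σ id * M = M.submatrix σ id := by
  ext i j
  simp [Matrix.mul_apply, Matrix.one_apply]

/-- clearing the first column. -/
theorem exists_clear {r : ℕ} (M : Matrix (Fin (r+1)) (Fin (r+1)) k⟦X⟧) (hM : M.det ≠ 0) :
    ∃ N : Matrix (Fin (r+1)) (Fin (r+1)) k⟦X⟧, IsUnit N ∧
      ∃ (e0 : ℕ) (v : Fin r → k⟦X⟧) (M' : Matrix (Fin r) (Fin r) k⟦X⟧),
        N * M = blk (X ^ e0) v 0 M' ∧ M'.det ≠ 0 := by
  have hcol : ∃ i, M i 0 ≠ 0 := by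
    by_contra h
    push Not at h
    exact hM (Matrix.det_eq_zero_of_column_eq_zero 0 h)
  obtain ⟨i0, -, hmin⟩ := Finset.exists_min_image Finset.univ (fun i => (M i 0).order)
    ⟨0, Finset.mem_univ _⟩
  have hi0 : M i0 0 ≠ 0 := by
    intro h0
    obtain ⟨i, hi⟩ := hcol
    have := hmin i (Finset.mem_univ _)
    simp only [h0, order_zero, top_le_iff, order_eq_top] at this
    exact hi this
  obtain ⟨M1, hM1⟩ : ∃ M1, M1 = M.submatrix (Equiv.swap 0 i0) id := ⟨_, rfl⟩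
  have h00 : M1 0 0 = M i0 0 := by simp [hM1]
  have hmin1 : ∀ i, (M1 0 0).order ≤ (M1 i 0).order := by
    intro i
    rw [h00, hM1]
    exact hmin _ (Finset.mem_univ _)
  have hne : M1 0 0 ≠ 0 := by rw [h00]; exact hi0
  obtain ⟨e0, he0⟩ : ∃ e0 : ℕ, (e0 : ℕ∞) = (M1 0 0).order :=
    ⟨(M1 0 0).order.toNat, ENat.natCast_toNat (fun h => hne (order_eq_top.mp h))⟩
  have hdvd : ∀ i, X ^ e0 ∣ M1 i 0 := by
    intro i
    rw [X_pow_dvd_iff]
    intro m hm
    apply coeff_of_lt_order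
    refine lt_of_lt_of_le ?_ (hmin1 i)
    rw [← he0]
    exact_mod_cast hm
  have hu : IsUnit (divXPowOrder (M1 0 0)) := isUnit_divided_by_X_pow_order hne
  obtain ⟨uu, huu⟩ := hu
  have h00' : M1 0 0 = X ^ e0 * (uu : k⟦X⟧) := by
    rw [huu]
    have := X_pow_order_mul_divXPowOrder (f := M1 0 0)
    rw [← he0] at this
    simpa using this.symm
  choose q hq using fun i : Fin r => hdvd i.succ
  have hM1blk : M1 = blk (X ^ e0 * (uu : k⟦X⟧)) (fun j => M1 0 j.succ) (fun i => X ^ e0 * q i)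
      (M1.submatrix Fin.succ Fin.succ) := by
    conv_lhs => rw [eq_blk M1]
    rw [blk_inj]
    exact ⟨h00', rfl, funext fun i => hq i, rfl⟩
  have hN2 : IsUnit (blk ((uu⁻¹ : k⟦X⟧ˣ) : k⟦X⟧) 0 (fun i => -(((uu⁻¹ : k⟦X⟧ˣ) : k⟦X⟧) * q i))
      (1 : Matrix (Fin r) (Fin r) k⟦X⟧)) :=
    isUnit_blk_lower (Units.isUnit _) isUnit_one
  have hprod := clear_mul (uu : k⟦X⟧) ((uu⁻¹ : k⟦X⟧ˣ) : k⟦X⟧) (X ^ e0) (by simp)
    (fun j => M1 0 j.succ) q (M1.submatrix Fin.succ Fin.succ)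
  rw [← hM1blk] at hprod
  obtain ⟨v2, hv2⟩ : ∃ v2, v2 = ((uu⁻¹ : k⟦X⟧ˣ) : k⟦X⟧) • fun j : Fin r => M1 0 j.succ := ⟨_, rfl⟩
  obtain ⟨M2, hM2⟩ : ∃ M2, M2 = (vecMulVec (fun i => -(((uu⁻¹ : k⟦X⟧ˣ) : k⟦X⟧) * q i))
    fun j : Fin r => M1 0 j.succ) + M1.submatrix Fin.succ Fin.succ := ⟨_, rfl⟩
  rw [← hv2, ← hM2] at hprod
  have hN : IsUnit (blk ((uu⁻¹ : k⟦X⟧ˣ) : k⟦X⟧) 0 (fun i => -(((uu⁻¹ : k⟦X⟧ˣ) : k⟦X⟧) * q i))
      (1 : Matrix (Fin r) (Fin r) k⟦X⟧) * (1 : Matrix _ _ k⟦X⟧).submatrix (Equiv.swap 0 i0) id) :=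
    hN2.mul (isUnit_swapMatrix _)
  refine ⟨_, hN, e0, v2, M2, ?_, ?_⟩
  · rw [Matrix.mul_assoc, swapMatrix_mul, ← hM1, hprod]
  · intro hdet
    have h1 : (blk ((uu⁻¹ : k⟦X⟧ˣ) : k⟦X⟧) 0 (fun i => -(((uu⁻¹ : k⟦X⟧ˣ) : k⟦X⟧) * q i))
      (1 : Matrix (Fin r) (Fin r) k⟦X⟧) * (1 : Matrix _ _ k⟦X⟧).submatrix (Equiv.swap 0 i0) id
        * M).det ≠ 0 := by
      rw [Matrix.det_mul]
      exact mul_ne_zero ((Matrix.isUnit_iff_isUnit_det _).mp hN).ne_zero hM
    rw [Matrix.mul_assoc, swapMatrix_mul, ← hM1, hprod, det_blk_upper, hdet, mul_zero] at h1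
    exact h1 rfl

/-- existence of the Hermite form. -/
theorem exists_hermite : ∀ (r : ℕ) (M : Matrix (Fin r) (Fin r) k⟦X⟧), M.det ≠ 0 →
    ∃ (N : Matrix (Fin r) (Fin r) k⟦X⟧) (e : Fin r → ℕ), IsUnit N ∧ IsRR (N * M) e := by
  intro r
  induction r with
  | zero =>
    intro M _
    exact ⟨1, Fin.elim0, isUnit_one, fun i => i.elim0, fun i => i.elim0, fun i => i.elim0⟩
  | succ r ih =>
    intro M hM
    obtain ⟨N1, hN1, e0, v, M', hNM, hM'⟩ := exists_clear M hM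
    obtain ⟨N', e', hN', hRR⟩ := ih M' hM'
    obtain ⟨c, hc⟩ := exists_red r (N' * M') e' hRR v
    refine ⟨blk 1 (-c) 0 1 * (blk 1 0 0 N' * N1), Fin.cons e0 e',
      (isUnit_blk_upper isUnit_one isUnit_one).mul ((isUnit_blk_upper isUnit_one hN').mul hN1), ?_⟩
    have : blk 1 (-c) 0 1 * (blk 1 0 0 N' * N1) * M = blk (X ^ e0) (v - c ᵥ* (N' * M')) 0 (N' * M') := by
      rw [Matrix.mul_assoc, Matrix.mul_assoc, hNM, blk_mul_blk, blk_mul_blk, blk_inj]
      refine ⟨by simp, ?_, by simp, by simp⟩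
      simp only [one_mul, dotProduct_zero, add_zero, one_smul, zero_vecMul, neg_vecMul,
        zero_vecMulVec, zero_add]
      abel
    rw [this]
    exact isRR_blk hRR e0 hc

/-- `a ∈ k⟦X^p⟧`. -/
def InSub (p : ℕ) (a : k⟦X⟧) : Prop := ∀ n, ¬ p ∣ n → coeff n a = 0

/-- extra reducedness for the `p`-version. -/
def IsRRp (p : ℕ) {r : ℕ} (H : Matrix (Fin r) (Fin r) k⟦X⟧) (e : Fin r → ℕ) : Prop :=
  IsRR H e ∧ ∀ i j, i < j → ∀ n, e i ≤ n → n % p = e i % p → coeff n (H i j) = 0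

theorem isRRp_blk (p : ℕ) {r : ℕ} {H : Matrix (Fin r) (Fin r) k⟦X⟧} {e : Fin r → ℕ}
    (hH : IsRRp p H e) (e0 : ℕ) {v : Fin r → k⟦X⟧} (hv : IsRed v e)
    (hv' : ∀ j n, e0 ≤ n → n % p = e0 % p → coeff n (v j) = 0) :
    IsRRp p (blk (X ^ e0) v 0 H) (Fin.cons e0 e) := by
  refine ⟨isRR_blk hH.1 e0 hv, ?_⟩
  intro i j
  refine Fin.cases ?_ (fun i' => ?_) i <;> refine Fin.cases ?_ (fun j' => ?_) j <;> intro hij
  · exact absurd hij (lt_irrefl _)
  · intro n hn hn'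
    simp only [Fin.cons_zero] at hn hn'
    simpa using hv' j' n hn hn'
  · exact absurd hij (Fin.not_lt_zero _)
  · intro n hn hn'
    simp only [Fin.cons_succ] at hn hn'
    simpa using hH.2 i' j' (Fin.succ_lt_succ_iff.mp hij) n hn hn'

theorem exists_hermite_p (p : ℕ) : ∀ (r : ℕ) (M : Matrix (Fin r) (Fin r) k⟦X⟧), M.det ≠ 0 →
    ∃ (N P : Matrix (Fin r) (Fin r) k⟦X⟧) (e : Fin r → ℕ), IsUnit N ∧ IsUnit P ∧
      (∀ i j, InSub p (P i j)) ∧ IsRRp p (N * M * P) e := by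
  intro r
  induction r with
  | zero =>
    intro M _
    exact ⟨1, 1, Fin.elim0, isUnit_one, isUnit_one, fun i => i.elim0,
      ⟨fun i => i.elim0, fun i => i.elim0, fun i => i.elim0⟩, fun i => i.elim0⟩
  | succ r ih =>
    intro M hM
    obtain ⟨N1, hN1, e0, v, M', hNM, hM'⟩ := exists_clear M hM
    obtain ⟨N', P', e', hN', hP', hsub, hRR⟩ := ih M' hM'
    obtain ⟨c, hc⟩ := exists_red r (N' * M' * P') e' hRR.1 (v ᵥ* P')
    obtain ⟨w, hw⟩ : ∃ w, w = v ᵥ* P' - c ᵥ* (N' * M' * P') := ⟨_, rfl⟩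
    rw [← hw] at hc
    obtain ⟨u, hu⟩ : ∃ u : Fin r → k⟦X⟧, u = fun j =>
      PowerSeries.mk (fun n => if p ∣ n then -coeff (n + e0) (w j) else 0) := ⟨_, rfl⟩
    have hcoef : ∀ (j : Fin r) (n : ℕ), coeff n ((((X : k⟦X⟧) ^ e0) • u + w) j) =
        (if e0 ≤ n then (if p ∣ n - e0 then -coeff n (w j) else 0) else 0) + coeff n (w j) := by
      intro j n
      simp only [Pi.add_apply, Pi.smul_apply, smul_eq_mul, map_add, coeff_X_pow_mul']
      congr 1
      split_ifs with h1 h2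
      · rw [hu, coeff_mk, if_pos h2, Nat.sub_add_cancel h1]
      · rw [hu, coeff_mk, if_neg h2]
      · rfl
    refine ⟨blk 1 (-c) 0 1 * (blk 1 0 0 N' * N1), blk 1 u 0 P', Fin.cons e0 e',
      (isUnit_blk_upper isUnit_one isUnit_one).mul ((isUnit_blk_upper isUnit_one hN').mul hN1),
      isUnit_blk_upper isUnit_one hP', ?_, ?_⟩
    · intro i j
      refine Fin.cases ?_ (fun i' => ?_) i <;> refine Fin.cases ?_ (fun j' => ?_) j
      · intro n hn
        have : n ≠ 0 := fun h => hn (h ▸ dvd_zero p)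
        simp [coeff_one, this]
      · intro n hn
        simp [hu, coeff_mk, hn]
      · intro n hn; simp
      · simpa using hsub i' j'
    · have : blk 1 (-c) 0 1 * (blk 1 0 0 N' * N1) * M * blk 1 u 0 P' =
          blk ((X : k⟦X⟧) ^ e0) (((X : k⟦X⟧) ^ e0) • u + w) 0 (N' * M' * P') := by
        rw [Matrix.mul_assoc (blk 1 (-c) 0 1), Matrix.mul_assoc (blk 1 0 0 N'), hNM, blk_mul_blk,
          blk_mul_blk, blk_mul_blk, blk_inj]
        refine ⟨by simp, ?_, by simp, by simp [Matrix.mul_assoc]⟩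
        rw [hw]
        simp only [one_mul, mul_one, dotProduct_zero, add_zero, one_smul, zero_vecMul, neg_vecMul,
          Matrix.add_vecMul, Matrix.vecMul_vecMul, Matrix.mul_assoc, smul_zero, mulVec_zero,
          zero_add, zero_vecMulVec, neg_dotProduct, neg_zero]
        abel
      rw [this]
      refine isRRp_blk p hRR e0 ?_ ?_
      · intro j n hn
        rw [hcoef, hc j n hn]
        split_ifs <;> simp
      · intro j n hn hn'
        have hdvd : p ∣ n - e0 := (Nat.modEq_iff_dvd' hn).mp hn'.symm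
        rw [hcoef, if_pos hn, if_pos hdvd]
        ring

theorem thm_S14038 (r : ℕ) (M : Matrix (Fin r) (Fin r) (PowerSeries k)) (hM : M.det ≠ 0) :
    ∃! H : Matrix (Fin r) (Fin r) (PowerSeries k),
      (∃ e : Fin r → ℕ, (∀ i, H i i = PowerSeries.X ^ e i) ∧ (∀ i j, j < i → H i j = 0) ∧
        (∀ i j, i < j → ∀ n, e j ≤ n → PowerSeries.coeff n (H i j) = 0)) ∧
      ∃ N : Matrix (Fin r) (Fin r) (PowerSeries k), IsUnit N ∧ N * M = H := by
  obtain ⟨N, e, hN, hRR⟩ := exists_hermite r M hM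
  refine ⟨N * M, ⟨⟨e, hRR⟩, N, hN, rfl⟩, ?_⟩
  rintro H' ⟨⟨e', hRR'⟩, N', hN', rfl⟩
  obtain ⟨u, rfl⟩ := hN
  refine (hermite_unique r _ e hRR _ e' hRR'
    (N' * ((u⁻¹ : (Matrix (Fin r) (Fin r) (PowerSeries k))ˣ) : Matrix (Fin r) (Fin r) (PowerSeries k)))
    (hN'.mul (Units.isUnit _)) ?_).symm
  rw [Matrix.mul_assoc, ← Matrix.mul_assoc _ (u : Matrix (Fin r) (Fin r) (PowerSeries k)) M]
  simp

theorem thm_S14044 (p : ℕ) (r : ℕ) (M : Matrix (Fin r) (Fin r) (PowerSeries k))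
    (hM : M.det ≠ 0) :
    ∃ (N P : Matrix (Fin r) (Fin r) (PowerSeries k)) (e : Fin r → ℕ), IsUnit N ∧ IsUnit P ∧
      (∀ i j n, ¬ p ∣ n → PowerSeries.coeff n (P i j) = 0) ∧
      (∀ i, (N * M * P) i i = PowerSeries.X ^ e i) ∧ (∀ i j, j < i → (N * M * P) i j = 0) ∧
      (∀ i j, i < j → ∀ n, (e j ≤ n ∨ (e i ≤ n ∧ n % p = e i % p)) →
        PowerSeries.coeff n ((N * M * P) i j) = 0) := by
  obtain ⟨N, P, e, hN, hP, hsub, hRR⟩ := exists_hermite_p p r M hM
  refine ⟨N, P, e, hN, hP, fun i j n hn => hsub i j n hn, hRR.1.1, hRR.1.2.1, ?_⟩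
  rintro i j hij n (hn | ⟨hn, hn'⟩)
  · exact hRR.1.2.2 i j hij n hn
  · exact hRR.2 i j hij n hn hn'

end PS

end Groth.Agent.Lib.Helper97.Hermite
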