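import Groth.Prelude.Def_LefPen
import Mathlib

set_option autoImplicit false

namespace Groth.Agent.Lib.Helper97.LefPenPts

open MvPolynomial Module

universe u

section PolyFun

variable {k : Type u} [Field k] {V : Type u} [AddCommGroup V] [Module k V]

theorem isPolyFun_dual (l : Module.Dual k V) : LefPen.IsPolyFun k (fun v => l v) :=
  Algebra.subset_adjoin ⟨l, rfl⟩

theorem isPolyFun_const (a : k) : LefPen.IsPolyFun k (fun _ : V => a) :=
  Subalgebra.algebraMap_mem
    (Algebra.adjoin k (Set.range (fun l : Module.Dual k V => (l : V → k)))) a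

theorem isPolyFun_add {f g : V → k} (hf : LefPen.IsPolyFun k f) (hg : LefPen.IsPolyFun k g) :
    LefPen.IsPolyFun k (fun v => f v + g v) :=
  Subalgebra.add_mem _ hf hg

theorem isPolyFun_mul {f g : V → k} (hf : LefPen.IsPolyFun k f) (hg : LefPen.IsPolyFun k g) :
    LefPen.IsPolyFun k (fun v => f v * g v) :=
  Subalgebra.mul_mem _ hf hg

theorem isPolyFun_sum {ι : Type*} (s : Finset ι) (f : ι → V → k)
    (h : ∀ i ∈ s, LefPen.IsPolyFun k (f i)) :
    LefPen.IsPolyFun k (fun v => ∑ i ∈ s, f i v) := by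
  have := Subalgebra.sum_mem
    (Algebra.adjoin k (Set.range (fun l : Module.Dual k V => (l : V → k)))) h
  unfold LefPen.IsPolyFun
  convert this using 1
  ext v
  simp [Finset.sum_apply]

theorem isPolyFun_prod {ι : Type*} (s : Finset ι) (f : ι → V → k)
    (h : ∀ i ∈ s, LefPen.IsPolyFun k (f i)) :
    LefPen.IsPolyFun k (fun v => ∏ i ∈ s, f i v) := by
  have := Subalgebra.prod_mem
    (Algebra.adjoin k (Set.range (fun l : Module.Dual k V => (l : V → k)))) h
  unfold LefPen.IsPolyFun
  convert this using 1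
  ext v
  simp [Finset.prod_apply]

theorem isPolyFun_det {n : Type*} [Fintype n] [DecidableEq n] (M : V → Matrix n n k)
    (h : ∀ i j, LefPen.IsPolyFun k (fun v => M v i j)) :
    LefPen.IsPolyFun k (fun v => (M v).det) := by
  simp only [Matrix.det_apply']
  refine isPolyFun_sum _ _ fun σ _ => ?_
  refine isPolyFun_mul (isPolyFun_const _) ?_
  exact isPolyFun_prod _ _ fun i _ => h (σ i) i

theorem isZOpen_injective {W : Type u} [AddCommGroup W] [Module k W] [FiniteDimensional k W]
    {m : ℕ} (E : V → (W →ₗ[k] (Fin m → k)))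
    (hE : ∀ w i, LefPen.IsPolyFun k (fun v => E v w i)) :
    LefPen.IsZOpen k {v | Function.Injective (E v)} := by
  intro v₀ hv₀
  obtain ⟨L, hL⟩ := (E v₀).exists_leftInverse_of_injective (LinearMap.ker_eq_bot.2 hv₀)
  refine ⟨fun v => LinearMap.det (L ∘ₗ E v), ?_, ?_, ?_⟩
  · have h1 : ∀ v, LinearMap.det (L ∘ₗ E v) =
        Matrix.det (LinearMap.toMatrix (Module.finBasis k W) (Module.finBasis k W) (L ∘ₗ E v)) :=
      fun v => (LinearMap.det_toMatrix (Module.finBasis k W) _).symm
    simp only [h1]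
    apply isPolyFun_det
    intro i j
    have h2 : ∀ v, LinearMap.toMatrix (Module.finBasis k W) (Module.finBasis k W) (L ∘ₗ E v) i j =
        ∑ l, E v (Module.finBasis k W j) l *
          (Module.finBasis k W).repr (L (fun j' => if l = j' then 1 else 0)) i := by
      intro v
      rw [LinearMap.toMatrix_apply, LinearMap.comp_apply,
        LinearMap.pi_apply_eq_sum_univ L (E v (Module.finBasis k W j))]
      simp
    simp only [h2]
    refine isPolyFun_sum _ _ fun l _ => ?_
    exact isPolyFun_mul (hE _ _) (isPolyFun_const _)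
  · simp [hL]
  · intro w hw
    have hker : LinearMap.ker (L ∘ₗ E w) = ⊥ := by
      by_contra hne
      exact hw (LinearMap.det_eq_zero_iff_ker_ne_bot.mpr hne)
    have hinj : Function.Injective (L ∘ₗ E w) := LinearMap.ker_eq_bot.mp hker
    exact Function.Injective.of_comp (f := L) (by simpa using hinj)

theorem isGeneric_of_isZOpen {S : Set V} (hS : LefPen.IsZOpen k S) (hne : S.Nonempty) :
    LefPen.IsGeneric k S := by
  obtain ⟨v, hv⟩ := hne
  obtain ⟨f, hf, hfv, hsub⟩ := hS v hv
  exact ⟨f, hf, ⟨v, hfv⟩, hsub⟩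

end PolyFun

section Points

variable {k : Type u} [Field k]

theorem isPolyFun_aeval {r m : ℕ} (i : Fin m) (G : MvPolynomial (Fin (r + 1)) k) :
    LefPen.IsPolyFun k (fun x : Fin m → (Fin (r + 1) → k) => aeval (x i) G) := by
  induction G using MvPolynomial.induction_on with
  | C a => simpa using isPolyFun_const (V := Fin m → (Fin (r + 1) → k)) a
  | add p q hp hq => simpa using isPolyFun_add hp hq
  | mul_X p j hp =>
    simp only [map_mul, aeval_X]
    exact isPolyFun_mul hp
      (isPolyFun_dual ((LinearMap.proj j : (Fin (r + 1) → k) →ₗ[k] k) ∘ₗ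
        (LinearMap.proj i : (Fin m → (Fin (r + 1) → k)) →ₗ[k] (Fin (r + 1) → k))))

theorem exists_points {σ : Type*} [Infinite k] : ∀ (n : ℕ) (U : Submodule k (MvPolynomial σ k)),
    FiniteDimensional k U → finrank k U ≤ n →
    ∃ p : Fin n → (σ → k), ∀ G ∈ U, (∀ j, aeval (p j) G = 0) → G = 0 := by
  intro n
  induction n with
  | zero =>
    intro U hU hn
    refine ⟨Fin.elim0, fun G hG _ => ?_⟩
    have : U = ⊥ := Submodule.finrank_eq_zero.mp (Nat.le_zero.mp hn)
    rw [this] at hG
    exact (Submodule.mem_bot k).mp hG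
  | succ n ih =>
    intro U hU hn
    by_cases hbot : U = ⊥
    · refine ⟨fun _ _ => 0, fun G hG _ => ?_⟩
      rw [hbot] at hG
      exact (Submodule.mem_bot k).mp hG
    · obtain ⟨G₀, hG₀, hne⟩ := Submodule.exists_mem_ne_zero_of_ne_bot hbot
      have hex : ∃ pt : σ → k, eval pt G₀ ≠ 0 := by
        by_contra h
        push Not at h
        exact hne (MvPolynomial.funext (fun x => by simpa using h x))
      obtain ⟨pt, hpt⟩ := hex
      have hlt : U ⊓ LinearMap.ker (aeval (R := k) (S₁ := k) pt).toLinearMap < U := by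
        refine lt_of_le_of_ne inf_le_left fun h => ?_
        have hmem : G₀ ∈ U ⊓ LinearMap.ker (aeval (R := k) (S₁ := k) pt).toLinearMap := by
          rw [h]; exact hG₀
        apply hpt
        have := hmem.2
        simpa [aeval_eq_eval] using this
      have hfin : finrank k ↥(U ⊓ LinearMap.ker (aeval (R := k) (S₁ := k) pt).toLinearMap) <
          finrank k U := Submodule.finrank_lt_finrank_of_lt hlt
      obtain ⟨p', hp'⟩ := ih (U ⊓ LinearMap.ker (aeval (R := k) (S₁ := k) pt).toLinearMap)
        inferInstance (by omega)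
      refine ⟨Fin.cons pt p', fun G hG hz => ?_⟩
      refine hp' G ⟨hG, ?_⟩ (fun j => by simpa using hz j.succ)
      simpa using hz 0

theorem finrank_form (r d : ℕ) : finrank k (LefPen.Form r k d) = (r + d).choose d := by
  have hs : {e : Fin (r + 1) →₀ ℕ | e.degree = d} =
      ↑(Finset.univ.finsuppAntidiag d : Finset (Fin (r + 1) →₀ ℕ)) := by
    ext e
    simp [Finsupp.degree_eq_sum]
  have hfin : Finite ↥{e : Fin (r + 1) →₀ ℕ | e.degree = d} := by
    rw [hs]
    exact Finset.finite_toSet _
  let _ := Fintype.ofFinite ↥{e : Fin (r + 1) →₀ ℕ | e.degree = d}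
  have e1 := (LinearEquiv.ofEq _ _
    (homogeneousSubmodule_eq_finsupp_supported (Fin (r + 1)) k d)).finrank_eq
  have e2 := (AddMonoidAlgebra.supportedEquivFinsupp (R := k) (S := k)
    {e : Fin (r + 1) →₀ ℕ | e.degree = d}).finrank_eq
  show finrank k ↥(homogeneousSubmodule (Fin (r + 1)) k d) = _
  rw [e1, e2, Module.finrank_finsupp_self, ← Nat.card_eq_fintype_card, Nat.card_coe_set_eq, hs,
    Set.ncard_coe_finset, Finset.card_finsuppAntidiag_nat_eq_choose]
  simp only [Finset.card_univ, Fintype.card_fin]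
  congr 1
  omega

instance finite_form (r d : ℕ) : Module.Finite k (LefPen.Form r k d) :=
  Module.Finite.iff_fg.mpr (homogeneousSubmodule_fg (Fin (r + 1)) k d)

theorem thm_S18464 (k : Type u) [Field k] [Infinite k]
    (r d m : ℕ) (hd : 1 ≤ d) (hm : Nat.choose (r + d) d ≤ m) :
    LefPen.IsZOpen k {x : Fin m → (Fin (r + 1) → k) |
      ∀ G : LefPen.Form r k d, (∀ i : Fin m, MvPolynomial.aeval (x i) G.1 = 0) → G = 0} ∧
    LefPen.IsGeneric k {x : Fin m → (Fin (r + 1) → k) |
      ∀ G : LefPen.Form r k d, (∀ i : Fin m, MvPolynomial.aeval (x i) G.1 = 0) → G = 0} := by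
  obtain ⟨E, hE⟩ : ∃ E : (Fin m → (Fin (r + 1) → k)) → (LefPen.Form r k d →ₗ[k] (Fin m → k)),
      ∀ x G i, E x G i = aeval (x i) G.1 :=
    ⟨fun x => LinearMap.pi fun i => (aeval (R := k) (S₁ := k) (x i)).toLinearMap ∘ₗ
      (CohB1.polyGrading r k d).subtype, fun x G i => rfl⟩
  have hset : {x : Fin m → (Fin (r + 1) → k) |
      ∀ G : LefPen.Form r k d, (∀ i : Fin m, MvPolynomial.aeval (x i) G.1 = 0) → G = 0} =
      {x | Function.Injective (E x)} := by
    ext x
    simp only [Set.mem_setOf_eq]
    rw [injective_iff_map_eq_zero]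
    refine forall_congr' fun G => ?_
    constructor
    · intro h hG
      exact h fun i => by rw [← hE, hG]; rfl
    · intro h hG
      exact h (funext fun i => by rw [hE]; exact hG i)
  have hopen : LefPen.IsZOpen k {x | Function.Injective (E x)} := by
    apply isZOpen_injective
    intro G i
    simp only [hE]
    exact isPolyFun_aeval i G.1
  rw [hset]
  refine ⟨hopen, isGeneric_of_isZOpen hopen ?_⟩
  obtain ⟨p, hp⟩ := exists_points (k := k) m (CohB1.polyGrading r k d)
    (finite_form r d) (by rw [← finrank_form (k := k)] at hm; exact hm)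
  refine ⟨p, ?_⟩
  rw [← hset]
  intro G hG
  exact Subtype.ext (hp G.1 G.2 hG)

end Points

end Groth.Agent.Lib.Helper97.LefPenPts
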