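import Groth.Prelude.Def_LefPen
import Groth.Agent.Lib.Helper97.LefPenPts
import Mathlib

set_option autoImplicit false

namespace Groth.Agent.Lib.Helper97.LefPenTang

open MvPolynomial Module Matrix

universe u

variable {k : Type u} [Field k] {r : ℕ}

/-- directional derivative of `G` at `v` in direction `w`. -/
noncomputable def dd (v w : Fin (r + 1) → k) (G : MvPolynomial (Fin (r + 1)) k) : k :=
  ∑ i, w i * aeval v (pderiv i G)

noncomputable def lin (c : Fin (r + 1) → k) : MvPolynomial (Fin (r + 1)) k := ∑ i, c i • X i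

theorem aeval_lin (c v : Fin (r + 1) → k) : aeval v (lin c) = c ⬝ᵥ v := by
  simp [lin, dotProduct, map_sum, smul_eq_mul]

@[simp] theorem eval_lin (c v : Fin (r + 1) → k) : eval v (lin c) = c ⬝ᵥ v := by
  rw [← aeval_lin]
  simp

theorem pderiv_lin (c : Fin (r + 1) → k) (j : Fin (r + 1)) : pderiv j (lin c) = C (c j) := by
  simp only [lin, map_sum, Derivation.map_smul, pderiv_X, Pi.single_apply]
  rw [Finset.sum_eq_single j]
  · simp [MvPolynomial.smul_eq_C_mul]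
  · intro b _ hb
    simp [hb]
  · intro h
    exact absurd (Finset.mem_univ j) h

theorem lin_isHomogeneous (c : Fin (r + 1) → k) : (lin c).IsHomogeneous 1 := by
  have : lin c ∈ homogeneousSubmodule (Fin (r + 1)) k 1 := by
    unfold lin
    exact Submodule.sum_mem _ fun i _ => Submodule.smul_mem _ _ (isHomogeneous_X k i)
  exact this

theorem dd_add (v w : Fin (r + 1) → k) (G H : MvPolynomial (Fin (r + 1)) k) :
    dd v w (G + H) = dd v w G + dd v w H := by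
  simp [dd, mul_add, Finset.sum_add_distrib]

theorem dd_add_w (v w w' : Fin (r + 1) → k) (G : MvPolynomial (Fin (r + 1)) k) :
    dd v (w + w') G = dd v w G + dd v w' G := by
  simp [dd, add_mul, Finset.sum_add_distrib]

theorem dd_smul_w (v : Fin (r + 1) → k) (a : k) (w : Fin (r + 1) → k)
    (G : MvPolynomial (Fin (r + 1)) k) :
    dd v (a • w) G = a * dd v w G := by
  simp [dd, Finset.mul_sum, mul_assoc]

theorem dd_mul (v w : Fin (r + 1) → k) (F H : MvPolynomial (Fin (r + 1)) k) :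
    dd v w (F * H) = aeval v F * dd v w H + aeval v H * dd v w F := by
  simp only [dd, Derivation.leibniz, smul_eq_mul, map_add, map_mul, Finset.mul_sum,
    ← Finset.sum_add_distrib]
  exact Finset.sum_congr rfl fun i _ => by ring

theorem dd_pow (v w : Fin (r + 1) → k) (F : MvPolynomial (Fin (r + 1)) k) (n : ℕ) :
    dd v w (F ^ n) = n * (aeval v F) ^ (n - 1) * dd v w F := by
  simp only [dd, Derivation.leibniz_pow, smul_eq_mul, nsmul_eq_mul, map_mul, map_pow,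
    map_natCast, Finset.mul_sum]
  exact Finset.sum_congr rfl fun i _ => by ring

theorem dd_lin (c v w : Fin (r + 1) → k) : dd v w (lin c) = c ⬝ᵥ w := by
  simp only [dd, pderiv_lin, dotProduct, aeval_C]
  exact Finset.sum_congr rfl fun i _ => by simp [mul_comm]

theorem dd_self {G : MvPolynomial (Fin (r + 1)) k} {d : ℕ} (hG : G.IsHomogeneous d)
    (v : Fin (r + 1) → k) : dd v v G = d * aeval v G := by
  have := congrArg (aeval v) hG.sum_X_mul_pderiv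
  simpa [dd, map_sum, nsmul_eq_mul] using this

theorem exists_lin_of_isHomogeneous_one {p : MvPolynomial (Fin (r + 1)) k}
    (hp : p.IsHomogeneous 1) : ∃ c, p = lin c := by
  have : p ∈ homogeneousSubmodule (Fin (r + 1)) k 1 := hp
  rw [homogeneousSubmodule_one_eq_span_X, Submodule.mem_span_range_iff_exists_fun] at this
  obtain ⟨c, hc⟩ := this
  exact ⟨c, hc.symm⟩

theorem dd_symm {G : MvPolynomial (Fin (r + 1)) k} (hG : G.IsHomogeneous 2)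
    (v w : Fin (r + 1) → k) : dd v w G = dd w v G := by
  have hmem : G ∈ homogeneousSubmodule (Fin (r + 1)) k 1 * homogeneousSubmodule (Fin (r + 1)) k 1 := by
    rw [← pow_two, homogeneousSubmodule_one_pow]
    exact hG
  refine Submodule.mul_induction_on hmem ?_ ?_
  · intro p hp q hq
    obtain ⟨a, rfl⟩ := exists_lin_of_isHomogeneous_one hp
    obtain ⟨b, rfl⟩ := exists_lin_of_isHomogeneous_one hq
    rw [dd_mul, dd_mul, dd_lin, dd_lin, aeval_lin, aeval_lin, dd_lin, dd_lin, aeval_lin, aeval_lin]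
    ring
  · intro x y hx hy
    rw [dd_add, dd_add, hx, hy]

theorem dd_F (c b v w : Fin (r + 1) → k) (e : ℕ) :
    dd v w (lin c ^ e * lin b) =
      (c ⬝ᵥ v) ^ e * (b ⬝ᵥ w) + (b ⬝ᵥ v) * (e * (c ⬝ᵥ v) ^ (e - 1) * (c ⬝ᵥ w)) := by
  rw [dd_mul, dd_pow, dd_lin, dd_lin, map_pow, aeval_lin, aeval_lin]

/-- `G ↦ (w ↦ dd v w G)` as a linear map. -/
noncomputable def ddL (v : Fin (r + 1) → k) :
    MvPolynomial (Fin (r + 1)) k →ₗ[k] Module.Dual k (Fin (r + 1) → k) :=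
  ∑ i, LinearMap.smulRight ((aeval (R := k) (S₁ := k) v).toLinearMap ∘ₗ (pderiv i).toLinearMap)
    (LinearMap.proj i : (Fin (r + 1) → k) →ₗ[k] k)

theorem ddL_apply (v : Fin (r + 1) → k) (G : MvPolynomial (Fin (r + 1)) k)
    (w : Fin (r + 1) → k) : ddL v G w = dd v w G := by
  simp [ddL, dd, LinearMap.sum_apply, mul_comm]

noncomputable def dotL (c : Fin (r + 1) → k) : (Fin (r + 1) → k) →ₗ[k] k where
  toFun v := c ⬝ᵥ v
  map_add' := dotProduct_add c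
  map_smul' a v := by simp [dotProduct_smul]

@[simp] theorem dotL_apply (c v : Fin (r + 1) → k) : dotL c v = c ⬝ᵥ v := rfl

noncomputable def res {U : Type u} [AddCommGroup U] [Module k U]
    (ι : U →ₗ[k] (Fin (r + 1) → k)) (c : Fin (r + 1) → k) : Module.Dual k U := dotL c ∘ₗ ι

@[simp] theorem res_apply {U : Type u} [AddCommGroup U] [Module k U]
    (ι : U →ₗ[k] (Fin (r + 1) → k)) (c : Fin (r + 1) → k) (u : U) : res ι c u = c ⬝ᵥ ι u := rfl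

noncomputable def compT {U : Type u} [AddCommGroup U] [Module k U] (d : ℕ)
    (v : Fin (r + 1) → k) (ι : U →ₗ[k] (Fin (r + 1) → k)) :
    LefPen.Form r k d →ₗ[k] k × Module.Dual k U :=
  LinearMap.prod ((aeval (R := k) (S₁ := k) v).toLinearMap ∘ₗ (CohB1.polyGrading r k d).subtype)
    (ι.dualMap ∘ₗ ddL v ∘ₗ (CohB1.polyGrading r k d).subtype)

theorem compT_fst {U : Type u} [AddCommGroup U] [Module k U] (d : ℕ)
    (v : Fin (r + 1) → k) (ι : U →ₗ[k] (Fin (r + 1) → k)) (G : LefPen.Form r k d) :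
    (compT d v ι G).1 = aeval v G.1 := rfl

theorem compT_snd {U : Type u} [AddCommGroup U] [Module k U] (d : ℕ)
    (v : Fin (r + 1) → k) (ι : U →ₗ[k] (Fin (r + 1) → k)) (G : LefPen.Form r k d) (u : U) :
    (compT d v ι G).2 u = dd v (ι u) G.1 := by
  simp [compT, ddL_apply]

theorem tangLin_fst {d : ℕ} (W : Submodule k (Fin (r + 1) → k)) (v : Fin (r + 1) → k)
    (G : LefPen.Form r k d) : (LefPen.tangLin k W v G).1 = aeval v G.1 := rfl

theorem tangLin_snd {d : ℕ} (W : Submodule k (Fin (r + 1) → k)) (v : Fin (r + 1) → k)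
    (G : LefPen.Form r k d) (w : W) : (LefPen.tangLin k W v G).2 w = dd v w.1 G.1 := by
  simp [LefPen.tangLin, dd]

noncomputable def mkF {d : ℕ} (hd : 1 ≤ d) (c b : Fin (r + 1) → k) : LefPen.Form r k d :=
  ⟨lin c ^ (d - 1) * lin b, by
    have h := ((lin_isHomogeneous c).pow (d - 1)).mul (lin_isHomogeneous b)
    have e : 1 * (d - 1) + 1 = d := by omega
    rw [e] at h
    exact h⟩

theorem compT_same {U : Type u} [AddCommGroup U] [Module k U] {d : ℕ} (hd : 2 ≤ d)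
    (v c b : Fin (r + 1) → k) (ι : U →ₗ[k] (Fin (r + 1) → k)) (hcv : c ⬝ᵥ v = 1)
    (hc : ∀ u, c ⬝ᵥ ι u = 0) :
    compT d v ι (mkF (by omega) c b) = (b ⬝ᵥ v, res ι b) := by
  refine Prod.ext ?_ (LinearMap.ext fun u => ?_)
  · rw [compT_fst]
    simp [mkF, hcv]
  · rw [compT_snd]
    simp only [mkF]
    rw [dd_F]
    simp [hcv, hc u]

theorem compT_cross {U : Type u} [AddCommGroup U] [Module k U] {d : ℕ} (hd : 2 ≤ d)
    (v c b : Fin (r + 1) → k) (ι : U →ₗ[k] (Fin (r + 1) → k)) (hcv : c ⬝ᵥ v = 0) :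
    compT d v ι (mkF (by omega) c b) =
      (0, ((((d - 1 : ℕ) : k) * 0 ^ (d - 1 - 1)) * (b ⬝ᵥ v)) • res ι c) := by
  refine Prod.ext ?_ (LinearMap.ext fun u => ?_)
  · rw [compT_fst]
    simp [mkF, hcv, zero_pow (by omega : d - 1 ≠ 0)]
  · rw [compT_snd]
    simp only [mkF]
    rw [dd_F, hcv, zero_pow (by omega : d - 1 ≠ 0)]
    simp only [zero_mul, zero_add, LinearMap.smul_apply, res_apply, smul_eq_mul]
    ring

theorem ker_compT {U : Type u} [AddCommGroup U] [Module k U] (d : ℕ)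
    (W : Submodule k (Fin (r + 1) → k)) (v : Fin (r + 1) → k) (hv : v ∈ W)
    (c : Fin (r + 1) → k) (hcv : c ⬝ᵥ v = 1) (ι : U →ₗ[k] (Fin (r + 1) → k))
    (ha : ∀ u, ι u ∈ W ∧ c ⬝ᵥ ι u = 0) (hb : ∀ w ∈ W, c ⬝ᵥ w = 0 → ∃ u, ι u = w) :
    LinearMap.ker (compT d v ι) = LinearMap.ker (LefPen.tangLin k W v (d := d)) := by
  ext G
  simp only [LinearMap.mem_ker]
  constructor
  · intro h
    have h1 : aeval v G.1 = 0 := by rw [← compT_fst d v ι G, h]; rfl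
    have h2 : ∀ u, dd v (ι u) G.1 = 0 := fun u => by rw [← compT_snd d v ι G u, h]; rfl
    refine Prod.ext (by rw [tangLin_fst]; exact h1) (funext fun w => ?_)
    rw [tangLin_snd]
    show dd v w.1 G.1 = 0
    obtain ⟨u, hu⟩ := hb (w.1 - (c ⬝ᵥ w.1) • v) (W.sub_mem w.2 (W.smul_mem _ hv))
      (by rw [dotProduct_sub, dotProduct_smul, hcv]; simp)
    have hw : w.1 = ι u + (c ⬝ᵥ w.1) • v := by rw [hu]; abel
    rw [hw, dd_add_w, dd_smul_w, h2 u, dd_self G.2, h1]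
    simp
  · intro h
    have h1 : aeval v G.1 = 0 := by rw [← tangLin_fst W v G, h]; rfl
    refine Prod.ext (by rw [compT_fst]; exact h1) (LinearMap.ext fun u => ?_)
    rw [compT_snd]
    have := tangLin_snd W v G ⟨ι u, (ha u).1⟩
    rw [h] at this
    exact this.symm

theorem dual_vec (φ : (Fin (r + 1) → k) →ₗ[k] k) : ∃ c : Fin (r + 1) → k, ∀ v, c ⬝ᵥ v = φ v := by
  refine ⟨fun i => φ (fun j => if i = j then 1 else 0), fun v => ?_⟩
  rw [LinearMap.pi_apply_eq_sum_univ φ v]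
  simp [dotProduct, mul_comm]

theorem sep (U : Submodule k (Fin (r + 1) → k)) (x : Fin (r + 1) → k) (hx : x ∉ U) :
    ∃ c : Fin (r + 1) → k, c ⬝ᵥ x = 1 ∧ ∀ u ∈ U, c ⬝ᵥ u = 0 := by
  obtain ⟨g, hg, hgx⟩ := LinearMap.exists_extend_of_notMem (0 : U →ₗ[k] k) hx 1
  obtain ⟨c, hc⟩ := dual_vec g
  refine ⟨c, by rw [hc, hgx], fun u hu => ?_⟩
  rw [hc]
  exact LinearMap.congr_fun hg ⟨u, hu⟩

theorem pick {U : Type u} [AddCommGroup U] [Module k U] (ι : U →ₗ[k] (Fin (r + 1) → k))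
    (hι : Function.Injective ι) (φ : Module.Dual k U) (a : k) (c v : Fin (r + 1) → k)
    (hcv : c ⬝ᵥ v = 1) (hc : ∀ u, c ⬝ᵥ ι u = 0) :
    ∃ b : Fin (r + 1) → k, b ⬝ᵥ v = a ∧ res ι b = φ := by
  obtain ⟨g, hg⟩ := ι.exists_leftInverse_of_injective (LinearMap.ker_eq_bot.2 hι)
  obtain ⟨c₀, hc₀⟩ := dual_vec (φ ∘ₗ g)
  refine ⟨c₀ + (a - c₀ ⬝ᵥ v) • c, ?_, LinearMap.ext fun u => ?_⟩
  · rw [add_dotProduct, smul_dotProduct, hcv]
    simp
  · rw [res_apply, add_dotProduct, smul_dotProduct, hc u, hc₀]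
    have := LinearMap.congr_fun hg u
    simp only [LinearMap.comp_apply, LinearMap.id_apply] at this
    simp [this]

theorem notMem_span_of_li {v₁ v₂ : Fin (r + 1) → k} (hv : LinearIndependent k ![v₁, v₂]) :
    v₁ ∉ Submodule.span k {v₂} ∧ v₂ ∉ Submodule.span k {v₁} := by
  have h := LinearIndependent.pair_iff.mp hv
  constructor
  · intro hm
    obtain ⟨a, ha⟩ := Submodule.mem_span_singleton.mp hm
    have := h 1 (-a) (by rw [← ha]; simp)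
    exact one_ne_zero this.1
  · intro hm
    obtain ⟨a, ha⟩ := Submodule.mem_span_singleton.mp hm
    have := h (-a) 1 (by rw [← ha]; simp)
    exact one_ne_zero this.2

theorem lprod_apply {M M₂ M₃ : Type*} [AddCommGroup M] [Module k M] [AddCommGroup M₂] [Module k M₂]
    [AddCommGroup M₃] [Module k M₃] (f : M →ₗ[k] M₂) (g : M →ₗ[k] M₃) (x : M) :
    (f.prod g) x = (f x, g x) := rfl

theorem core {U₁ U₂ : Type u} [AddCommGroup U₁] [Module k U₁] [FiniteDimensional k U₁]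
    [AddCommGroup U₂] [Module k U₂] [FiniteDimensional k U₂]
    (d : ℕ) (hd : 2 ≤ d) (W₁ W₂ : Submodule k (Fin (r + 1) → k)) (v₁ v₂ : Fin (r + 1) → k)
    (h₁ : v₁ ∈ W₁) (h₂ : v₂ ∈ W₂) (c₁ c₂ : Fin (r + 1) → k)
    (h11 : c₁ ⬝ᵥ v₁ = 1) (h12 : c₁ ⬝ᵥ v₂ = 0) (h21 : c₂ ⬝ᵥ v₁ = 0) (h22 : c₂ ⬝ᵥ v₂ = 1)
    (ι₁ : U₁ →ₗ[k] (Fin (r + 1) → k)) (hι₁ : Function.Injective ι₁)
    (ha₁ : ∀ u, ι₁ u ∈ W₁ ∧ c₁ ⬝ᵥ ι₁ u = 0) (hb₁ : ∀ w ∈ W₁, c₁ ⬝ᵥ w = 0 → ∃ u, ι₁ u = w)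
    (hc₁ : finrank k U₁ + 1 = finrank k W₁)
    (ι₂ : U₂ →ₗ[k] (Fin (r + 1) → k)) (hι₂ : Function.Injective ι₂)
    (ha₂ : ∀ u, ι₂ u ∈ W₂ ∧ c₂ ⬝ᵥ ι₂ u = 0) (hb₂ : ∀ w ∈ W₂, c₂ ⬝ᵥ w = 0 → ∃ u, ι₂ u = w)
    (hc₂ : finrank k U₂ + 1 = finrank k W₂) :
    ((3 ≤ d ∨ ∀ w ∈ W₁, c₂ ⬝ᵥ w = 0) →
      finrank k (LefPen.Form r k d) =
        finrank k ↥(LefPen.tangentForms k d W₁ v₁ W₂ v₂) + (finrank k ↥W₁ + finrank k ↥W₂)) ∧
    ((d = 2 ∧ v₂ ∈ W₁ ∧ v₁ ∈ W₂) →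
      finrank k (LefPen.Form r k d) + 1 =
        finrank k ↥(LefPen.tangentForms k d W₁ v₁ W₂ v₂) + (finrank k ↥W₁ + finrank k ↥W₂)) := by
  obtain ⟨T, hT⟩ : ∃ T : LefPen.Form r k d →ₗ[k] (k × Module.Dual k U₁) × (k × Module.Dual k U₂),
      T = (compT d v₁ ι₁).prod (compT d v₂ ι₂) := ⟨_, rfl⟩
  have hker : LinearMap.ker T = LefPen.tangentForms k d W₁ v₁ W₂ v₂ := by
    rw [hT, LinearMap.ker_prod, ker_compT d W₁ v₁ h₁ c₁ h11 ι₁ ha₁ hb₁,
      ker_compT d W₂ v₂ h₂ c₂ h22 ι₂ ha₂ hb₂]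
    rfl
  have hrk := LinearMap.finrank_range_add_finrank_ker T
  rw [hker] at hrk
  have hTgt : finrank k ((k × Module.Dual k U₁) × (k × Module.Dual k U₂)) =
      finrank k W₁ + finrank k W₂ := by
    simp only [Module.finrank_prod, Module.finrank_self, Subspace.dual_finrank_eq]
    omega
  obtain ⟨κ, hκ⟩ : ∃ κ : k, κ = ((d - 1 : ℕ) : k) * 0 ^ (d - 1 - 1) := ⟨_, rfl⟩
  have key : ∀ t : (k × Module.Dual k U₁) × (k × Module.Dual k U₂),
      ∃ (G : LefPen.Form r k d) (b₁ b₂ : Fin (r + 1) → k),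
        (∀ u, b₁ ⬝ᵥ ι₁ u = t.1.2 u) ∧
        (∀ u, b₂ ⬝ᵥ ι₂ u = t.2.2 u - κ * (b₁ ⬝ᵥ v₂) * (c₁ ⬝ᵥ ι₂ u)) ∧
        T G = t + ((0, (κ * (b₂ ⬝ᵥ v₁)) • res ι₁ c₂), (0, 0)) := by
    intro t
    obtain ⟨b₁, hb₁v, hb₁r⟩ := pick ι₁ hι₁ t.1.2 t.1.1 c₁ v₁ h11 (fun u => (ha₁ u).2)
    obtain ⟨b₂, hb₂v, hb₂r⟩ := pick ι₂ hι₂ (t.2.2 - (κ * (b₁ ⬝ᵥ v₂)) • res ι₂ c₁) t.2.1 c₂ v₂ h22
      (fun u => (ha₂ u).2)
    refine ⟨mkF (by omega) c₁ b₁ + mkF (by omega) c₂ b₂, b₁, b₂, ?_, ?_, ?_⟩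
    · intro u
      rw [← hb₁r]
      rfl
    · intro u
      have := LinearMap.congr_fun hb₂r u
      simp only [res_apply, LinearMap.sub_apply, LinearMap.smul_apply, smul_eq_mul] at this
      rw [this]
    · rw [map_add, hT, lprod_apply, lprod_apply]
      rw [compT_same hd v₁ c₁ b₁ ι₁ h11 (fun u => (ha₁ u).2),
        compT_cross hd v₂ c₁ b₁ ι₂ h12,
        compT_cross hd v₁ c₂ b₂ ι₁ h21,
        compT_same hd v₂ c₂ b₂ ι₂ h22 (fun u => (ha₂ u).2), hb₁v, hb₂v, hb₁r, hb₂r, ← hκ]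
      refine Prod.ext (Prod.ext ?_ ?_) (Prod.ext ?_ ?_)
      · simp
      · simp
      · simp
      · simp
  constructor
  · intro hgen
    have hsurj : Function.Surjective T := by
      intro t
      obtain ⟨G, b₁, b₂, -, -, hG⟩ := key t
      refine ⟨G, ?_⟩
      rw [hG]
      have hz : (κ * (b₂ ⬝ᵥ v₁)) • res ι₁ c₂ = 0 := by
        rcases hgen with h3 | hW
        · have : κ = 0 := by
            rw [hκ, zero_pow (by omega : d - 1 - 1 ≠ 0), mul_zero]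
          rw [this, zero_mul, zero_smul]
        · have : res ι₁ c₂ = 0 := LinearMap.ext fun u => by
            rw [res_apply]
            exact hW _ (ha₁ u).1
          rw [this, smul_zero]
      rw [hz]
      simp
    have hrange : LinearMap.range T = ⊤ := LinearMap.range_eq_top.2 hsurj
    rw [hrange, finrank_top, hTgt] at hrk
    omega
  · rintro ⟨rfl, hv₂W₁, hv₁W₂⟩
    have hκ1 : κ = 1 := by
      rw [hκ]
      simp
    obtain ⟨v₂', hv₂'⟩ := hb₁ v₂ hv₂W₁ h12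
    obtain ⟨v₁', hv₁'⟩ := hb₂ v₁ hv₁W₂ h21
    obtain ⟨ψ, hψ⟩ : ∃ ψ : (k × Module.Dual k U₁) × (k × Module.Dual k U₂) →ₗ[k] k,
        ∀ t, ψ t = t.1.2 v₂' - t.2.2 v₁' :=
      ⟨{ toFun := fun t => t.1.2 v₂' - t.2.2 v₁'
         map_add' := fun s t => by simp; ring
         map_smul' := fun a t => by simp; ring }, fun t => rfl⟩
    have hrange : LinearMap.range T = LinearMap.ker ψ := by
      apply le_antisymm
      · rintro _ ⟨G, rfl⟩
        rw [LinearMap.mem_ker, hψ, hT, lprod_apply]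
        rw [compT_snd, compT_snd, hv₂', hv₁', dd_symm G.2 v₁ v₂, sub_self]
      · intro t ht
        rw [LinearMap.mem_ker, hψ] at ht
        obtain ⟨G, b₁, b₂, hb1, hb2, hG⟩ := key t
        refine ⟨G, ?_⟩
        rw [hG]
        have hz : b₂ ⬝ᵥ v₁ = 0 := by
          rw [← hv₁', hb2 v₁', hv₁', h11, ← hv₂', hb1 v₂', hκ1]
          linear_combination -ht
        rw [hz]
        simp
    have hψsurj : LinearMap.range ψ = ⊤ := by
      apply LinearMap.range_eq_top.2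
      intro a
      refine ⟨((0, a • res ι₁ c₂), (0, 0)), ?_⟩
      rw [hψ]
      simp [hv₂', h22]
    have hψrk := LinearMap.finrank_range_add_finrank_ker ψ
    rw [hψsurj, finrank_top, Module.finrank_self, hTgt, ← hrange] at hψrk
    omega

theorem side (W : Submodule k (Fin (r + 1) → k)) (v : Fin (r + 1) → k) (hv : v ∈ W)
    (c : Fin (r + 1) → k) (hcv : c ⬝ᵥ v = 1) :
    Function.Injective (W.subtype ∘ₗ (LinearMap.ker (dotL c ∘ₗ W.subtype)).subtype) ∧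
    (∀ u, (W.subtype ∘ₗ (LinearMap.ker (dotL c ∘ₗ W.subtype)).subtype) u ∈ W ∧
      c ⬝ᵥ (W.subtype ∘ₗ (LinearMap.ker (dotL c ∘ₗ W.subtype)).subtype) u = 0) ∧
    (∀ w ∈ W, c ⬝ᵥ w = 0 →
      ∃ u, (W.subtype ∘ₗ (LinearMap.ker (dotL c ∘ₗ W.subtype)).subtype) u = w) ∧
    finrank k ↥(LinearMap.ker (dotL c ∘ₗ W.subtype)) + 1 = finrank k W := by
  refine ⟨?_, ?_, ?_, ?_⟩
  · rw [LinearMap.coe_comp]
    exact (Submodule.injective_subtype _).comp (Submodule.injective_subtype _)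
  · intro u
    refine ⟨u.1.2, ?_⟩
    have := u.2
    rw [LinearMap.mem_ker] at this
    exact this
  · intro w hw hcw
    exact ⟨⟨⟨w, hw⟩, by rw [LinearMap.mem_ker]; exact hcw⟩, rfl⟩
  · have hrk := LinearMap.finrank_range_add_finrank_ker (dotL c ∘ₗ W.subtype)
    have hsurj : LinearMap.range (dotL c ∘ₗ W.subtype) = ⊤ := by
      apply LinearMap.range_eq_top.2
      intro a
      refine ⟨a • ⟨v, hv⟩, ?_⟩
      simp [hcv]
    rw [hsurj, finrank_top, Module.finrank_self] at hrk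
    omega

theorem coreInst (d : ℕ) (hd : 2 ≤ d) (W₁ W₂ : Submodule k (Fin (r + 1) → k))
    (v₁ v₂ : Fin (r + 1) → k)
    (h₁ : v₁ ∈ W₁) (h₂ : v₂ ∈ W₂) (c₁ c₂ : Fin (r + 1) → k)
    (h11 : c₁ ⬝ᵥ v₁ = 1) (h12 : c₁ ⬝ᵥ v₂ = 0) (h21 : c₂ ⬝ᵥ v₁ = 0) (h22 : c₂ ⬝ᵥ v₂ = 1) :
    ((3 ≤ d ∨ ∀ w ∈ W₁, c₂ ⬝ᵥ w = 0) →
      finrank k (LefPen.Form r k d) =
        finrank k ↥(LefPen.tangentForms k d W₁ v₁ W₂ v₂) + (finrank k ↥W₁ + finrank k ↥W₂)) ∧
    ((d = 2 ∧ v₂ ∈ W₁ ∧ v₁ ∈ W₂) →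
      finrank k (LefPen.Form r k d) + 1 =
        finrank k ↥(LefPen.tangentForms k d W₁ v₁ W₂ v₂) + (finrank k ↥W₁ + finrank k ↥W₂)) := by
  obtain ⟨s1, s2, s3, s4⟩ := side W₁ v₁ h₁ c₁ h11
  obtain ⟨t1, t2, t3, t4⟩ := side W₂ v₂ h₂ c₂ h22
  exact core (U₁ := ↥(LinearMap.ker (dotL c₁ ∘ₗ W₁.subtype)))
    (U₂ := ↥(LinearMap.ker (dotL c₂ ∘ₗ W₂.subtype)))
    d hd W₁ W₂ v₁ v₂ h₁ h₂ c₁ c₂ h11 h12 h21 h22 _ s1 s2 s3 s4 _ t1 t2 t3 t4

theorem tangentForms_comm (d : ℕ) (W₁ W₂ : Submodule k (Fin (r + 1) → k))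
    (v₁ v₂ : Fin (r + 1) → k) :
    LefPen.tangentForms k d W₁ v₁ W₂ v₂ = LefPen.tangentForms k d W₂ v₂ W₁ v₁ := by
  unfold LefPen.tangentForms
  exact inf_comm _ _

theorem thm_S4024 (k : Type u) [Field k] (r d : ℕ) (hd : 2 ≤ d)
    (W₁ W₂ : Submodule k (Fin (r + 1) → k)) (v₁ v₂ : Fin (r + 1) → k) (h₁ : v₁ ∈ W₁) (h₂ : v₂ ∈ W₂)
    (hv : LinearIndependent k ![v₁, v₂]) :
    ((3 ≤ d ∨ ¬ (v₂ ∈ W₁ ∧ v₁ ∈ W₂)) →
      Module.finrank k (LefPen.Form r k d) =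
        Module.finrank k ↥(LefPen.tangentForms k d W₁ v₁ W₂ v₂) + (Module.finrank k ↥W₁ + Module.finrank k ↥W₂)) ∧
    ((d = 2 ∧ v₂ ∈ W₁ ∧ v₁ ∈ W₂) →
      Module.finrank k (LefPen.Form r k d) + 1 =
        Module.finrank k ↥(LefPen.tangentForms k d W₁ v₁ W₂ v₂) + (Module.finrank k ↥W₁ + Module.finrank k ↥W₂)) := by
  obtain ⟨hn1, hn2⟩ := notMem_span_of_li hv
  obtain ⟨c₁, h11, hc₁⟩ := sep (Submodule.span k {v₂}) v₁ hn1
  obtain ⟨c₂, h22, hc₂⟩ := sep (Submodule.span k {v₁}) v₂ hn2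
  have h12 : c₁ ⬝ᵥ v₂ = 0 := hc₁ v₂ (Submodule.mem_span_singleton_self v₂)
  have h21 : c₂ ⬝ᵥ v₁ = 0 := hc₂ v₁ (Submodule.mem_span_singleton_self v₁)
  constructor
  · intro hgen
    by_cases h3 : 3 ≤ d
    · exact (coreInst d hd W₁ W₂ v₁ v₂ h₁ h₂ c₁ c₂ h11 h12 h21 h22).1 (Or.inl h3)
    · have hnot : ¬ (v₂ ∈ W₁ ∧ v₁ ∈ W₂) := hgen.resolve_left h3
      by_cases hv₂ : v₂ ∈ W₁
      · have hv₁ : v₁ ∉ W₂ := fun h => hnot ⟨hv₂, h⟩
        obtain ⟨c₁', h11', hc₁'⟩ := sep W₂ v₁ hv₁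
        have := (coreInst d hd W₂ W₁ v₂ v₁ h₂ h₁ c₂ c₁' h22 h21 (hc₁' v₂ h₂) h11').1
          (Or.inr hc₁')
        rw [tangentForms_comm d W₁ W₂ v₁ v₂, this]
        ring
      · obtain ⟨c₂', h22', hc₂'⟩ := sep W₁ v₂ hv₂
        exact (coreInst d hd W₁ W₂ v₁ v₂ h₁ h₂ c₁ c₂' h11 h12 (hc₂' v₁ h₁) h22').1 (Or.inr hc₂')
  · exact (coreInst d hd W₁ W₂ v₁ v₂ h₁ h₂ c₁ c₂ h11 h12 h21 h22).2

end Groth.Agent.Lib.Helper97.LefPenTang
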