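import Mathlib

set_option autoImplicit false

namespace Groth.Agent.Lib.Helper97.Minors

open MvPolynomial Matrix

universe u

variable {A : Type u} [CommRing A] {N s : ℕ}

/-- the rows `r j` (column `j` of the big matrix `[m; a]`). -/
noncomputable def rowv (m : Fin s → (Fin (N + 1) → A)) (j : Fin (N + 1)) :
    Fin (s + 1) → MvPolynomial (Fin (N + 1)) A :=
  Fin.snoc (α := fun _ => MvPolynomial (Fin (N + 1)) A) (fun i' : Fin s => C (m i' j)) (X j)

noncomputable def minor (m : Fin s → (Fin (N + 1) → A)) (c : Fin (s + 1) → Fin (N + 1)) :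
    MvPolynomial (Fin (N + 1)) A :=
  (Matrix.of fun (i : Fin (s + 1)) (j : Fin (s + 1)) =>
    (Fin.snoc (α := fun _ => MvPolynomial (Fin (N + 1)) A)
      (fun i' : Fin s => MvPolynomial.C (m i' (c j))) (MvPolynomial.X (c j)) i)).det

theorem minor_eq (m : Fin s → (Fin (N + 1) → A)) (c : Fin (s + 1) → Fin (N + 1)) :
    minor m c = Matrix.detRowAlternating (fun j => rowv m (c j)) := by
  unfold minor
  rw [← Matrix.det_transpose]
  rfl

theorem det_snoc_single (B : Fin s → Fin (s + 1) → MvPolynomial (Fin (N + 1)) A) :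
    Matrix.detRowAlternating (Fin.snoc (α := fun _ => Fin (s + 1) → MvPolynomial (Fin (N + 1)) A) B
      (Pi.single (Fin.last s) 1)) =
    Matrix.det (Matrix.of fun l i => B l (Fin.castSucc i)) := by
  show Matrix.det (Matrix.of (Fin.snoc (α := fun _ => Fin (s + 1) → MvPolynomial (Fin (N + 1)) A) B
      (Pi.single (Fin.last s) 1))) = _
  rw [Matrix.det_succ_row _ (Fin.last s), Finset.sum_eq_single (Fin.last s)]
  · simp only [Matrix.of_apply, Fin.snoc_last, Pi.single_eq_same, mul_one, Fin.succAbove_last]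
    rw [Even.neg_one_pow ⟨(Fin.last s : ℕ), rfl⟩, one_mul]
    congr 1
    ext l i
    simp [Matrix.submatrix_apply]
  · intro b _ hb
    simp [Matrix.of_apply, Fin.snoc_last, hb]
  · intro h
    exact absurd (Finset.mem_univ _) h

theorem key (m : Fin s → (Fin (N + 1) → A)) (c : Fin s → Fin (N + 1)) (lam : Fin (N + 1) → A)
    (hlam : ∀ i, ∑ j, m i j * lam j = 0) :
    MvPolynomial.C (Matrix.det (Matrix.of fun l i => m i (c l))) *
        (∑ j, MvPolynomial.C (lam j) * X j) =
      ∑ j, MvPolynomial.C (lam j) * minor m (Fin.snoc c j) := by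
  have h1 : ∀ j, minor m (Fin.snoc c j) =
      Matrix.detRowAlternating (Function.update
        (Fin.snoc (α := fun _ => Fin (s + 1) → MvPolynomial (Fin (N + 1)) A)
          (fun l => rowv m (c l)) 0) (Fin.last s) (rowv m j)) := by
    intro j
    rw [minor_eq, Fin.update_snoc_last]
    congr 1
    have := Fin.comp_snoc (rowv m) c j
    exact this
  have h2 : ∑ j, (MvPolynomial.C (lam j) : MvPolynomial (Fin (N + 1)) A) • rowv m j =
      (∑ j, MvPolynomial.C (lam j) * X j) •
        (Pi.single (Fin.last s) 1 : Fin (s + 1) → MvPolynomial (Fin (N + 1)) A) := by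
    ext i : 1
    rw [Finset.sum_apply]
    refine Fin.lastCases ?_ (fun i' => ?_) i
    · simp [rowv, Fin.snoc_last]
    · simp only [rowv, Pi.smul_apply, Fin.snoc_castSucc, smul_eq_mul]
      rw [Pi.single_eq_of_ne (Fin.castSucc_lt_last i').ne, mul_zero]
      simp only [← map_mul, ← map_sum]
      rw [show ∑ j, lam j * m i' j = 0 by
        rw [← hlam i']; exact Finset.sum_congr rfl fun j _ => mul_comm _ _]
      simp
  simp only [h1]
  simp only [← smul_eq_mul (a := MvPolynomial.C (lam _)), ← AlternatingMap.map_update_smul,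
    ← AlternatingMap.map_update_sum]
  rw [h2, AlternatingMap.map_update_smul, Fin.update_snoc_last, det_snoc_single, smul_eq_mul,
    mul_comm]
  congr 1
  rw [RingHom.map_det]
  congr 1
  ext l i
  simp [rowv, Fin.snoc_castSucc]

theorem partition (m : Fin s → Fin (N + 1) → A) (P : Fin (N + 1) → Fin s → A)
    (hP : ∀ i l, ∑ j, m i j * P j l = if i = l then 1 else 0) :
    ∑ c : Fin s → Fin (N + 1), (∏ l, P (c l) l) * Matrix.det (Matrix.of fun l i => m i (c l)) =
      1 := by
  have h1 : (1 : A) = Matrix.detRowAlternating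
      (fun l : Fin s => ∑ j, P j l • (fun i : Fin s => m i j)) := by
    have : (fun l : Fin s => ∑ j, P j l • (fun i : Fin s => m i j)) =
        (1 : Matrix (Fin s) (Fin s) A) := by
      ext l i
      rw [Finset.sum_apply]
      simp only [Pi.smul_apply, smul_eq_mul]
      rw [show ∑ j, P j l * m i j = ∑ j, m i j * P j l from
        Finset.sum_congr rfl fun j _ => mul_comm _ _, hP i l, Matrix.one_apply]
      by_cases h : i = l
      · simp [h]
      · simp [h, Ne.symm h]
    rw [this]
    exact (Matrix.det_one).symm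
  rw [h1]
  have h2 := MultilinearMap.map_sum
    (f := (Matrix.detRowAlternating : (Fin s → A) [⋀^Fin s]→ₗ[A] A).toMultilinearMap)
    (fun (l : Fin s) (j : Fin (N + 1)) => P j l • (fun i : Fin s => m i j))
  rw [AlternatingMap.coe_multilinearMap] at h2
  rw [h2]
  refine Finset.sum_congr rfl fun c _ => ?_
  have h3 := MultilinearMap.map_smul_univ
    (Matrix.detRowAlternating : (Fin s → A) [⋀^Fin s]→ₗ[A] A).toMultilinearMap
    (fun l => P (c l) l) (fun l => (fun i : Fin s => m i (c l)))
  rw [AlternatingMap.coe_multilinearMap] at h3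
  rw [h3, smul_eq_mul]
  rfl

theorem exists_P (m : Fin s → (Fin (N + 1) → A)) (hli : LinearIndependent A m)
    (hproj : Module.Projective A ((Fin (N + 1) → A) ⧸ Submodule.span A (Set.range m))) :
    ∃ P : Fin (N + 1) → Fin s → A, ∀ i l, ∑ j, m i j * P j l = if i = l then 1 else 0 := by
  obtain ⟨g, hg⟩ := Module.projective_lifting_property
    (Submodule.span A (Set.range m)).mkQ LinearMap.id (Submodule.mkQ_surjective _)
  have hmem : ∀ x : Fin (N + 1) → A,
      ((LinearMap.id : (Fin (N + 1) → A) →ₗ[A] (Fin (N + 1) → A)) -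
          g ∘ₗ (Submodule.span A (Set.range m)).mkQ) x ∈
        Submodule.span A (Set.range m) := by
    intro x
    apply (Submodule.Quotient.mk_eq_zero (Submodule.span A (Set.range m))).mp
    show (Submodule.span A (Set.range m)).mkQ _ = 0
    have := LinearMap.congr_fun hg ((Submodule.span A (Set.range m)).mkQ x)
    simp only [LinearMap.comp_apply, LinearMap.id_apply] at this
    simp only [LinearMap.sub_apply, LinearMap.id_apply, LinearMap.comp_apply, map_sub, this,
      sub_self]
  obtain ⟨Φ, hΦ⟩ : ∃ Φ : (Fin (N + 1) → A) →ₗ[A] (Fin s →₀ A), ∀ i, Φ (m i) = Finsupp.single i 1 := by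
    refine ⟨hli.repr ∘ₗ
      ((LinearMap.id : (Fin (N + 1) → A) →ₗ[A] (Fin (N + 1) → A)) -
        g ∘ₗ (Submodule.span A (Set.range m)).mkQ).codRestrict _ hmem, fun i => ?_⟩
    rw [LinearMap.comp_apply]
    apply hli.repr_eq_single i
    simp only [LinearMap.codRestrict_apply, LinearMap.sub_apply, LinearMap.id_apply,
      LinearMap.comp_apply]
    have : (Submodule.span A (Set.range m)).mkQ (m i) = 0 := by
      rw [← LinearMap.mem_ker, Submodule.ker_mkQ]
      exact Submodule.subset_span ⟨i, rfl⟩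
    rw [this, map_zero, sub_zero]
  refine ⟨fun j l => Φ (fun j' => if j = j' then 1 else 0) l, fun i l => ?_⟩
  have h := LinearMap.pi_apply_eq_sum_univ ((Finsupp.lapply l : (Fin s →₀ A) →ₗ[A] A) ∘ₗ Φ) (m i)
  simp only [LinearMap.comp_apply, Finsupp.lapply_apply, smul_eq_mul] at h
  rw [← h, hΦ i, Finsupp.single_apply]

theorem sub_mem_of_section {n₁ : ℕ}
    (ψ : MvPolynomial (Fin n₁) A →ₐ[A] MvPolynomial (Fin n₁) A)
    (f : MvPolynomial (Fin n₁) A) :
    f - ψ f ∈ Ideal.span (Set.range fun j : Fin n₁ => (X j - ψ (X j) : MvPolynomial (Fin n₁) A)) := by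
  induction f using MvPolynomial.induction_on with
  | C a =>
    have : ψ (C a) = C a := ψ.commutes a
    rw [this, sub_self]
    exact Ideal.zero_mem _
  | add p q hp hq =>
    rw [map_add, add_sub_add_comm]
    exact Ideal.add_mem _ hp hq
  | mul_X p j hp =>
    have : p * X j - ψ (p * X j) = (p - ψ p) * X j + ψ p * (X j - ψ (X j)) := by
      rw [map_mul]; ring
    rw [this]
    exact Ideal.add_mem _ (Ideal.mul_mem_right _ _ hp)
      (Ideal.mul_mem_left _ _ (Ideal.subset_span ⟨j, rfl⟩))

theorem minor_mem_ker (m : Fin s → (Fin (N + 1) → A)) (c : Fin (s + 1) → Fin (N + 1)) :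
    (MvPolynomial.aeval (R := A) (S₁ := MvPolynomial (Fin s) A)
        (fun j : Fin (N + 1) => ∑ i : Fin s, MvPolynomial.C (m i j) * MvPolynomial.X i))
      (minor m c) = 0 := by
  unfold minor
  rw [AlgHom.map_det]
  have hM : (MvPolynomial.aeval (R := A) (S₁ := MvPolynomial (Fin s) A)
        (fun j : Fin (N + 1) => ∑ i : Fin s, MvPolynomial.C (m i j) * MvPolynomial.X i)).mapMatrix
      (Matrix.of fun (i : Fin (s + 1)) (j : Fin (s + 1)) =>
        (Fin.snoc (α := fun _ => MvPolynomial (Fin (N + 1)) A)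
          (fun i' : Fin s => MvPolynomial.C (m i' (c j))) (MvPolynomial.X (c j)) i)) =
      Function.update (Fin.snoc (α := fun _ => Fin (s + 1) → MvPolynomial (Fin s) A)
        (fun i' : Fin s => fun j => (MvPolynomial.C (m i' (c j)) : MvPolynomial (Fin s) A)) 0)
        (Fin.last s) (∑ i : Fin s, (X i : MvPolynomial (Fin s) A) •
          (fun j => (MvPolynomial.C (m i (c j)) : MvPolynomial (Fin s) A))) := by
    rw [Fin.update_snoc_last]
    ext i j
    refine Fin.lastCases ?_ (fun i' => ?_) i
    · simp [Fin.snoc_last, Finset.sum_apply, mul_comm]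
    · simp [Fin.snoc_castSucc]
  rw [hM]
  show Matrix.detRowAlternating _ = 0
  rw [AlternatingMap.map_update_sum]
  refine Finset.sum_eq_zero fun i _ => ?_
  rw [AlternatingMap.map_update_smul, Fin.update_snoc_last]
  rw [AlternatingMap.map_eq_zero_of_eq _ _ (i := Fin.castSucc i) (j := Fin.last s) ?_
    (Fin.castSucc_lt_last i).ne, smul_zero]
  simp [Fin.snoc_last, Fin.snoc_castSucc]

theorem thm_S16254
    (A : Type u) [CommRing A] (N s : ℕ) (m : Fin s → (Fin (N + 1) → A))
    (hli : LinearIndependent A m)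
    (hproj : Module.Projective A ((Fin (N + 1) → A) ⧸ Submodule.span A (Set.range m))) :
    RingHom.ker (MvPolynomial.aeval (R := A) (S₁ := MvPolynomial (Fin s) A)
        (fun j : Fin (N + 1) => ∑ i : Fin s, MvPolynomial.C (m i j) * MvPolynomial.X i)) =
      Ideal.span (Set.range fun c : Fin (s + 1) → Fin (N + 1) =>
        (Matrix.of fun (i : Fin (s + 1)) (j : Fin (s + 1)) =>
          (Fin.snoc (α := fun _ => MvPolynomial (Fin (N + 1)) A)
            (fun i' : Fin s => MvPolynomial.C (m i' (c j))) (MvPolynomial.X (c j)) i)).det) := by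
  show _ = Ideal.span (Set.range fun c : Fin (s + 1) → Fin (N + 1) => minor m c)
  obtain ⟨P, hP⟩ := exists_P m hli hproj
  obtain ⟨φ, hφ⟩ : ∃ φ : MvPolynomial (Fin (N + 1)) A →ₐ[A] MvPolynomial (Fin s) A,
      φ = MvPolynomial.aeval (R := A) (S₁ := MvPolynomial (Fin s) A)
        (fun j : Fin (N + 1) => ∑ i : Fin s, MvPolynomial.C (m i j) * MvPolynomial.X i) := ⟨_, rfl⟩
  rw [← hφ]
  obtain ⟨σ, hσ⟩ : ∃ σ : MvPolynomial (Fin s) A →ₐ[A] MvPolynomial (Fin (N + 1)) A,
      σ = MvPolynomial.aeval (R := A) (S₁ := MvPolynomial (Fin (N + 1)) A)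
        (fun l : Fin s => ∑ j : Fin (N + 1), MvPolynomial.C (P j l) * MvPolynomial.X j) := ⟨_, rfl⟩
  apply le_antisymm
  · intro f hf
    rw [RingHom.mem_ker] at hf
    have hsub := sub_mem_of_section (σ.comp φ) f
    rw [AlgHom.comp_apply, hf, map_zero, sub_zero] at hsub
    refine (Ideal.span_le.mpr ?_) hsub
    rintro _ ⟨j, rfl⟩
    -- the generator is a linear form with coefficients in the kernel of `m`
    obtain ⟨lam, hlam⟩ : ∃ lam : Fin (N + 1) → A,
        lam = fun j' => (if j = j' then 1 else 0) - ∑ i, P j' i * m i j := ⟨_, rfl⟩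
    have hL : (X j - (σ.comp φ) (X j) : MvPolynomial (Fin (N + 1)) A) =
        ∑ j', MvPolynomial.C (lam j') * X j' := by
      rw [AlgHom.comp_apply, hφ, aeval_X, map_sum, hσ]
      simp only [map_mul, aeval_C, aeval_X, algebraMap_eq, hlam, map_sub, map_sum, sub_mul,
        Finset.sum_sub_distrib, Finset.mul_sum, Finset.sum_mul]
      congr 1
      · simp
      · rw [Finset.sum_comm]
        refine Finset.sum_congr rfl fun j' _ => Finset.sum_congr rfl fun i _ => ?_
        ring
    have hker : ∀ i, ∑ j', m i j' * lam j' = 0 := by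
      intro i
      simp only [hlam, mul_sub, Finset.sum_sub_distrib, Finset.mul_sum]
      rw [Finset.sum_comm]
      have : ∀ i', ∑ j', m i j' * (P j' i' * m i' j) = (if i = i' then 1 else 0) * m i' j := by
        intro i'
        rw [← hP i i', Finset.sum_mul]
        exact Finset.sum_congr rfl fun j' _ => by ring
      simp only [this]
      simp
    show (X j - (σ.comp φ) (X j) : MvPolynomial (Fin (N + 1)) A) ∈ _
    rw [hL]
    have hone : (∑ j', MvPolynomial.C (lam j') * X j' : MvPolynomial (Fin (N + 1)) A) =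
        ∑ c : Fin s → Fin (N + 1), MvPolynomial.C (∏ l, P (c l) l) *
          (MvPolynomial.C (Matrix.det (Matrix.of fun l i => m i (c l))) *
            ∑ j', MvPolynomial.C (lam j') * X j') := by
      simp only [← mul_assoc, ← Finset.sum_mul, ← map_mul, ← map_sum]
      rw [partition m P hP, map_one, one_mul]
    rw [hone]
    refine Ideal.sum_mem _ fun c _ => Ideal.mul_mem_left _ _ ?_
    rw [key m c lam hker]
    exact Ideal.sum_mem _ fun j' _ => Ideal.mul_mem_left _ _ (Ideal.subset_span ⟨_, rfl⟩)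
  · rw [Ideal.span_le]
    rintro _ ⟨c, rfl⟩
    rw [SetLike.mem_coe, RingHom.mem_ker, hφ]
    exact minor_mem_ker m c

end Groth.Agent.Lib.Helper97.Minors
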