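import Mathlib
import Groth.Prelude.Def_GrMod3
import Groth.Agent.Lib.Helper97.PG3
import Groth.Agent.Lib.Proj.Helper66_GrModSections

/-!
# Sections of `M(n)~` are eventually generated over degree one (helper97, S5751)
-/

set_option autoImplicit false
set_option linter.unusedSectionVars false
set_option linter.style.haveILetI false
universe u

namespace Groth.Agent.Lib.Helper97.PG5

open CategoryTheory AlgebraicGeometry Opposite TopologicalSpace DirectSum
open Groth.Agent.Lib.Helper97.PG1 Groth.Agent.Lib.Helper97.PG3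

variable {A σ : Type u} [CommRing A] [SetLike σ A] [AddSubgroupClass σ A] (𝒜 : ℕ → σ) [GradedRing 𝒜]
variable {M τ : Type u} [AddCommGroup M] [Module A M] [SetLike τ M] [AddSubgroupClass τ M]
  (ℳ : ℕ → τ) [SetLike.GradedSMul 𝒜 ℳ] [DirectSum.Decomposition ℳ]

/-- if the irrelevant ideal is generated in degree one, `𝒜 (e + j) = 𝒜 e * 𝒜 j` -/
theorem piece_add_mem_closure {T : Type*} [Fintype T] (h : T → A) (he1 : ∀ t, h t ∈ 𝒜 1)
    (hspan : (HomogeneousIdeal.irrelevant 𝒜).toIdeal ≤ Ideal.span (Set.range h)) :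
    ∀ e j : ℕ, ∀ c ∈ 𝒜 (e + j),
      c ∈ AddSubmonoid.closure {z : A | ∃ x ∈ 𝒜 e, ∃ y ∈ 𝒜 j, z = x * y} := by
  classical
  intro e
  induction e with
  | zero =>
    intro j c hc
    refine AddSubmonoid.subset_closure ⟨1, SetLike.GradedOne.one_mem, c, by simpa using hc,
      (one_mul c).symm⟩
  | succ e ih =>
    intro j c hc
    have hpos : 0 < e + 1 + j := by omega
    have hcirr : c ∈ (HomogeneousIdeal.irrelevant 𝒜).toIdeal :=
      HomogeneousIdeal.mem_irrelevant_of_mem 𝒜 hpos hc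
    obtain ⟨cf, hcf, hsum⟩ := Groth.Agent.Lib.Proj.GrGlue.exists_homogeneous_coeff 𝒜 hc h
      (fun _ => 1) he1 (hspan hcirr)
    rw [hsum]
    refine sum_mem fun t _ => ?_
    rcases hcf t with ⟨hle, hct⟩ | hct
    · have e1 : e + 1 + j - 1 = e + j := by omega
      rw [e1] at hct
      have h2 := ih j (cf t) hct
      have key : ∀ b ∈ AddSubmonoid.closure {z : A | ∃ x ∈ 𝒜 e, ∃ y ∈ 𝒜 j, z = x * y},
          b * h t ∈ AddSubmonoid.closure {z : A | ∃ x ∈ 𝒜 (e + 1), ∃ y ∈ 𝒜 j, z = x * y} := by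
        intro b hb
        induction hb using AddSubmonoid.closure_induction with
        | mem z hz =>
          obtain ⟨x, hx, y, hy, rfl⟩ := hz
          exact AddSubmonoid.subset_closure
            ⟨x * h t, SetLike.mul_mem_graded hx (he1 t), y, hy, by ring⟩
        | zero => rw [zero_mul]; exact zero_mem _
        | add a b _ _ ha hb => rw [add_mul]; exact add_mem ha hb
      exact key _ h2
    · rw [hct, zero_mul]
      exact zero_mem _

variable [IsNoetherianRing A]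

/-- under (TF) and generation in degree one, `ℳ (e + k) = 𝒜 e • ℳ k` for `k` large -/
theorem piece_mem_closure_smul
    (hgen : (HomogeneousIdeal.irrelevant 𝒜).toIdeal = Ideal.span (𝒜 1 : Set A))
    (hTF : ∃ k : ℕ, (Submodule.span A (⋃ i ∈ Set.Ici k, (ℳ i : Set M))).FG) :
    ∃ K0 : ℕ, ∀ k, K0 ≤ k → ∀ e : ℕ, ∀ m ∈ ℳ (e + k),
      m ∈ AddSubgroup.closure {z : M | ∃ a ∈ 𝒜 e, ∃ m' ∈ ℳ k, z = a • m'} := by
  classical
  -- finitely many degree one generators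
  have hfg1 : (Ideal.span (𝒜 1 : Set A)).FG := by
    rw [← hgen]; exact IsNoetherian.noetherian _
  obtain ⟨s1, hs1sub, hs1⟩ := (Submodule.fg_span_iff_fg_span_finset_subset _).mp hfg1
  have hspan : (HomogeneousIdeal.irrelevant 𝒜).toIdeal ≤
      Ideal.span (Set.range (fun g : (s1 : Set A) => (g : A))) := by
    have : Set.range (fun g : (s1 : Set A) => (g : A)) = (s1 : Set A) := Subtype.range_coe
    rw [this, hgen]
    exact le_of_eq hs1
  have he1 : ∀ g : (s1 : Set A), (g : A) ∈ 𝒜 1 := fun g => hs1sub g.2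
  have hG1 := piece_add_mem_closure 𝒜 (fun g : (s1 : Set A) => (g : A)) he1 hspan
  -- homogeneous generators of the (TF) module
  obtain ⟨k0, hfg⟩ := hTF
  obtain ⟨G, hGsub, hG⟩ := (Submodule.fg_span_iff_fg_span_finset_subset _).mp hfg
  have hdeg : ∀ g : (G : Set M), ∃ i : ℕ, k0 ≤ i ∧ (g : M) ∈ ℳ i := by
    intro g
    have := hGsub g.2
    simp only [Set.mem_iUnion] at this
    obtain ⟨i, hi, hg⟩ := this
    exact ⟨i, hi, hg⟩
  choose dg hdg0 hdg using hdeg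
  refine ⟨max (Finset.univ.sup dg) k0, fun k hk e m hm => ?_⟩
  have hDk : ∀ g, dg g ≤ k := fun g =>
    le_trans (Finset.le_sup (Finset.mem_univ g)) (le_trans (le_max_left _ _) hk)
  have hk0 : k0 ≤ e + k := le_trans (le_trans (le_max_right _ _) hk) (Nat.le_add_left _ _)
  have hmP : m ∈ Submodule.span A ((G : Set M)) := by
    rw [← hG]
    exact Submodule.subset_span (Set.mem_iUnion₂.mpr ⟨e + k, hk0, hm⟩)
  have hrange : Set.range (fun g : (G : Set M) => (g : M)) = (G : Set M) := Subtype.range_coe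
  rw [← hrange] at hmP
  obtain ⟨c, hc⟩ := (Submodule.mem_span_range_iff_exists_fun A).mp hmP
  rw [← decompose_of_mem_same ℳ hm, ← hc, decompose_sum, DFinsupp.finsetSum_apply,
    AddSubmonoidClass.coe_finsetSum]
  refine sum_mem fun g _ => ?_
  rw [proj_smul_of_mem_le 𝒜 ℳ (hdg g) (c g) (le_trans (hDk g) (Nat.le_add_left _ _))]
  have hb : (decompose 𝒜 (c g) (e + k - dg g) : A) ∈ 𝒜 (e + (k - dg g)) := by
    have e1 : e + k - dg g = e + (k - dg g) := by have := hDk g; omega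
    rw [← e1]
    exact Subtype.prop _
  have h2 := hG1 e (k - dg g) _ hb
  have key : ∀ b ∈ AddSubmonoid.closure {z : A | ∃ x ∈ 𝒜 e, ∃ y ∈ 𝒜 (k - dg g), z = x * y},
      b • (g : M) ∈ AddSubgroup.closure {z : M | ∃ a ∈ 𝒜 e, ∃ m' ∈ ℳ k, z = a • m'} := by
    intro b hb
    induction hb using AddSubmonoid.closure_induction with
    | mem z hz =>
      obtain ⟨x, hx, y, hy, rfl⟩ := hz
      refine AddSubgroup.subset_closure ⟨x, hx, y • (g : M), ?_, by rw [mul_smul]⟩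
      have h3 := SetLike.GradedSMul.smul_mem (A := 𝒜) (B := ℳ) hy (hdg g)
      have e2 : k - dg g + dg g = k := Nat.sub_add_cancel (hDk g)
      rw [vadd_eq_add, e2] at h3
      exact h3
    | zero => rw [zero_smul]; exact zero_mem _
    | add a b _ _ ha hb => rw [add_smul]; exact add_mem ha hb
  exact key _ h2

/-- the section `m / 1` of `M(k + e)~` (index written as in `smulSect`) -/
def sectOf (k e : ℕ) (m : ℳ (e + k)) :
    GrMod.sect 𝒜 ℳ ((k : ℤ) + (e : ℕ)) (op (⊤ : Opens (ProjectiveSpectrum.top 𝒜))) :=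
  ⟨fun x => ⟨LocalizedModule.mk (m : M) 1,
    Submodule.subset_span ⟨e + k, 0, m, ⟨1, SetLike.GradedOne.one_mem⟩, GrMod.one_nin x.1,
      by push_cast; ring, rfl⟩⟩,
   fun x => ⟨⊤, x.2, 𝟙 _, e + k, 0, m, ⟨1, SetLike.GradedOne.one_mem⟩, fun y => GrMod.one_nin y.1,
    Or.inl (by push_cast; ring), fun _ => rfl⟩⟩

theorem sectOf_add (k e : ℕ) (m m' : ℳ (e + k)) :
    sectOf 𝒜 ℳ k e (m + m') = sectOf 𝒜 ℳ k e m + sectOf 𝒜 ℳ k e m' := by
  refine Subtype.ext (funext fun x => Subtype.ext ?_)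
  change LocalizedModule.mk ((m : M) + m') 1 =
    LocalizedModule.mk (m : M) 1 + LocalizedModule.mk (m' : M) 1
  exact (LocalizedModule.mkLinearMap _ M).map_add (m : M) m'

theorem sectOf_zero (k e : ℕ) : sectOf 𝒜 ℳ k e 0 = 0 := by
  refine Subtype.ext (funext fun x => Subtype.ext ?_)
  change LocalizedModule.mk ((0 : ℳ (e + k)) : M) 1 = (0 : GrMod.LocMod 𝒜 (M := M) x.1)
  rw [ZeroMemClass.coe_zero, LocalizedModule.zero_mk]

/-- **S5751** -/
theorem main
    (hgen : (HomogeneousIdeal.irrelevant 𝒜).toIdeal = Ideal.span (𝒜 1 : Set A))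
    (hTF : ∃ k : ℕ, (Submodule.span A (⋃ i ∈ Set.Ici k, (ℳ i : Set M))).FG) :
    ∃ k : ℕ, ∀ e : ℕ,
      (⨆ a : 𝒜 e, (GrMod.smulSect 𝒜 ℳ a (k : ℤ)
        (op (⊤ : Opens (ProjectiveSpectrum.top 𝒜)))).range) = ⊤ := by
  classical
  obtain ⟨K0, hK0⟩ := piece_mem_closure_smul 𝒜 ℳ hgen hTF
  obtain ⟨k0, hfg⟩ := hTF
  obtain ⟨N, hN⟩ := core 𝒜 ℳ (Submodule.span A (⋃ i ∈ Set.Ici k0, (ℳ i : Set M))) hfg
    (isHom_span 𝒜 ℳ _ (by
      intro z hz
      simp only [Set.mem_iUnion] at hz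
      obtain ⟨i, _, hz⟩ := hz
      exact ⟨i, hz⟩)) k0
    (fun i hi m hm => Submodule.subset_span (Set.mem_iUnion₂.mpr ⟨i, hi, hm⟩))
  refine ⟨max N K0, fun e => ?_⟩
  set k := max N K0 with hk
  rw [eq_top_iff]
  rintro s -
  -- `s` is `m / 1`
  obtain ⟨m, hm, hv⟩ := (hN (e + k) (le_trans (le_max_left _ _) (Nat.le_add_left _ _))).2
    (fun x => (((s.1 ⟨x, trivial⟩ : GrMod.tildeAt 𝒜 ℳ ((k : ℤ) + (e : ℕ)) x)) :
      GrMod.LocMod 𝒜 (M := M) x))
    (fun d f hd hf => by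
      obtain ⟨k', i, mi, hi, hval⟩ := Groth.Agent.Lib.Proj.GrModSections.exists_frac 𝒜 ℳ
        ((k : ℤ) + (e : ℕ)) hd hf (GrMod.res 𝒜 ℳ ((k : ℤ) + (e : ℕ)) (homOfLE le_top).op s)
      exact ⟨k', i, mi, mi.2, by rw [hi]; push_cast; ring, fun x hx => hval ⟨x, hx⟩⟩)
  have hs : s = sectOf 𝒜 ℳ k e ⟨m, hm⟩ := by
    refine Subtype.ext (funext fun x => Subtype.ext ?_)
    exact hv x.1
  rw [hs]
  -- the subgroup of `M` of elements whose section lies in the span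
  set W := (⨆ a : 𝒜 e, (GrMod.smulSect 𝒜 ℳ a (k : ℤ)
        (op (⊤ : Opens (ProjectiveSpectrum.top 𝒜)))).range) with hW
  let Φ : ℳ (e + k) →+ GrMod.sect 𝒜 ℳ ((k : ℤ) + (e : ℕ))
      (op (⊤ : Opens (ProjectiveSpectrum.top 𝒜))) :=
    { toFun := sectOf 𝒜 ℳ k e
      map_zero' := sectOf_zero 𝒜 ℳ k e
      map_add' := sectOf_add 𝒜 ℳ k e }
  have hcl : AddSubgroup.closure {z : M | ∃ a ∈ 𝒜 e, ∃ m' ∈ ℳ k, z = a • m'} ≤
      (W.comap Φ).map (AddSubgroupClass.subtype (ℳ (e + k))) := by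
    rw [AddSubgroup.closure_le]
    rintro _ ⟨a, ha, m', hm', rfl⟩
    have hmem : a • m' ∈ ℳ (e + k) := SetLike.GradedSMul.smul_mem ha hm'
    refine ⟨⟨a • m', hmem⟩, ?_, rfl⟩
    change Φ ⟨a • m', hmem⟩ ∈ W
    have h1 : Φ ⟨a • m', hmem⟩ = GrMod.smulSect 𝒜 ℳ (⟨a, ha⟩ : 𝒜 e) (k : ℤ)
        (op (⊤ : Opens (ProjectiveSpectrum.top 𝒜))) (GrMod.globalOf 𝒜 ℳ ⟨m', hm'⟩) := by
      refine Subtype.ext (funext fun x => Subtype.ext ?_)
      rw [GrMod.smulSect_apply_coe]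
      change LocalizedModule.mk (a • m') 1 =
        (Localization.mk a (1 : x.1.asHomogeneousIdeal.toIdeal.primeCompl)) •
          (LocalizedModule.mk m' 1 : GrMod.LocMod 𝒜 (M := M) x.1)
      rw [LocalizedModule.mk_smul_mk, one_mul]
    rw [h1, hW]
    exact AddSubgroup.mem_iSup_of_mem (⟨a, ha⟩ : 𝒜 e) ⟨_, rfl⟩
  obtain ⟨mt, hmtW, hmt⟩ := hcl (hK0 k (le_max_right _ _) e m hm)
  have : mt = ⟨m, hm⟩ := Subtype.ext hmt
  rw [← this]
  exact hmtW

end Groth.Agent.Lib.Helper97.PG5
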