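import Mathlib
import Groth.Prelude.Def_GrLC
import Groth.Prelude.Def_CAlgX
import Groth.Agent.Lib.Helper97.AInvB
import Groth.Agent.Lib.Helper97.GrHtOne
import Groth.Agent.Lib.Helper87.StdGrA
import Groth.Agent.S5802

/-!
# A positively graded ring whose irrelevant ideal is generated by a quasi-regular sequence of
degree one elements is a polynomial ring over `R_0` (helper97)
-/

set_option autoImplicit false
set_option linter.unusedSectionVars false
set_option linter.unusedVariables false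
set_option linter.style.haveILetI false
universe u

namespace Groth.Agent.Lib.Helper97.PolyC

open GrLC DirectSum MvPolynomial

variable {R : Type u} [CommRing R] [IsNoetherianRing R] {𝒜 : ℤ → AddSubgroup R} [GradedRing 𝒜]
variable {d : ℕ} (f : Fin d → R) (hf1 : ∀ j, f j ∈ 𝒜 1)

include hf1 in
theorem prod_mem (s : Fin d →₀ ℕ) :
    (s.prod fun i k => f i ^ k) ∈ 𝒜 ((Finsupp.weight (1 : Fin d → ℕ) s : ℕ) : ℤ) := by
  have h := SetLike.prod_pow_mem_graded 𝒜 (n := fun k => s k) (i := fun _ => (1 : ℤ)) (g := f)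
    (F := s.support) (fun k _ => hf1 k)
  have e : (∑ k ∈ s.support, s k • (1 : ℤ)) = ((Finsupp.weight (1 : Fin d → ℕ) s : ℕ) : ℤ) := by
    simp [Finsupp.weight_apply, Finsupp.sum]
  rw [e] at h
  exact h

include hf1 in
theorem aeval_mem (n : ℕ) (p : MvPolynomial (Fin d) (GrLC.deg0 𝒜)) (hp : p.IsHomogeneous n) :
    MvPolynomial.aeval f p ∈ 𝒜 (n : ℤ) := by
  rw [← MvPolynomial.support_sum_monomial_coeff p, map_sum]
  refine sum_mem fun s hs => ?_
  rw [MvPolynomial.aeval_monomial]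
  have hs' : MvPolynomial.coeff s p ≠ 0 := MvPolynomial.mem_support_iff.1 hs
  have hw : Finsupp.weight (1 : Fin d → ℕ) s = n := hp hs'
  have h1 := prod_mem f hf1 s
  rw [hw] at h1
  have h2 := SetLike.GradedMul.mul_mem (A := 𝒜) (MvPolynomial.coeff s p).2 h1
  rw [zero_add] at h2
  exact h2

variable (hpos : ∀ n : ℤ, n < 0 → 𝒜 n = ⊥)
  (hstd : Ideal.span (⋃ n ∈ Set.Ioi (0 : ℤ), (𝒜 n : Set R)) =
    Ideal.span ((𝒜 1 : AddSubgroup R) : Set R))
  (hspan : Ideal.span (Set.range f) = Ideal.span (⋃ n ∈ Set.Ioi (0 : ℤ), (𝒜 n : Set R)))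

include hf1 hpos hstd hspan in
theorem aeval_surjective :
    Function.Surjective (MvPolynomial.aeval f : MvPolynomial (Fin d) (GrLC.deg0 𝒜) →ₐ[_] R) := by
  classical
  set φ : MvPolynomial (Fin d) (GrLC.deg0 𝒜) →ₐ[GrLC.deg0 𝒜] R := MvPolynomial.aeval f with hφ
  have hspan' : Ideal.span (Set.range f) = Groth.Agent.Lib.Helper87.StdGrA.irr 𝒜 :=
    hspan.trans hstd
  have hrange : ∀ n : ℕ, ∀ y ∈ 𝒜 (n : ℤ), y ∈ φ.range := by
    intro n
    induction n with
    | zero =>
      intro y hy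
      have hy0 : y ∈ 𝒜 0 := hy
      refine ⟨MvPolynomial.C ⟨y, hy0⟩, ?_⟩
      change MvPolynomial.aeval f (MvPolynomial.C (⟨y, hy0⟩ : GrLC.deg0 𝒜)) = y
      rw [MvPolynomial.aeval_C]
      rfl
    | succ n ih =>
      intro y hy
      have hy' : y ∈ 𝒜 ((n : ℤ) + 1) := by
        rw [Nat.cast_succ] at hy
        exact hy
      have hyirr : y ∈ Groth.Agent.Lib.Helper87.StdGrA.irr 𝒜 := by
        unfold Groth.Agent.Lib.Helper87.StdGrA.irr
        rw [← hstd]
        apply Ideal.subset_span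
        simp only [Set.mem_iUnion, Set.mem_Ioi, SetLike.mem_coe, exists_prop]
        exact ⟨(n : ℤ) + 1, by positivity, hy'⟩
      obtain ⟨c, hc, hyc⟩ :=
        Groth.Agent.Lib.Helper87.StdGrA.mem_of_mem_succ f hf1 hspan' hy' hyirr
      rw [hyc]
      refine Subalgebra.sum_mem _ fun j _ => Subalgebra.mul_mem _ (ih _ (hc j)) ?_
      exact ⟨MvPolynomial.X j, MvPolynomial.aeval_X _ _⟩
  intro y
  have hy : y ∈ φ.range := by
    rw [← DirectSum.sum_support_decompose 𝒜 y]
    refine Subalgebra.sum_mem _ fun i _ => ?_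
    rcases lt_or_ge i 0 with h | h
    · have h1 : ((decompose 𝒜 y i : 𝒜 i) : R) = 0 :=
        AInvB.eq_zero_of_neg hpos h (decompose 𝒜 y i).2
      rw [h1]
      exact Subalgebra.zero_mem _
    · obtain ⟨n, rfl⟩ := Int.eq_ofNat_of_zero_le h
      exact hrange n _ (SetLike.coe_mem _)
  exact hy

include hf1 hpos hspan in
theorem aeval_injective (hqr : CAlgX.IsQuasiRegular f) :
    Function.Injective (MvPolynomial.aeval f : MvPolynomial (Fin d) (GrLC.deg0 𝒜) →ₐ[_] R) := by
  classical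
  set φ : MvPolynomial (Fin d) (GrLC.deg0 𝒜) →ₐ[GrLC.deg0 𝒜] R := MvPolynomial.aeval f with hφ
  -- homogeneous polynomials in the kernel vanish
  have hhom : ∀ (n : ℕ) (p : MvPolynomial (Fin d) (GrLC.deg0 𝒜)), p.IsHomogeneous n →
      φ p = 0 → p = 0 := by
    intro n p hp hp0
    set P : MvPolynomial (Fin d) R := MvPolynomial.map (algebraMap (GrLC.deg0 𝒜) R) p with hP
    have hPhom : P.IsHomogeneous n := hp.map _
    have hev : MvPolynomial.eval f P = 0 := by
      rw [hP, ← MvPolynomial.eval₂_eq_eval_map]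
      exact hp0
    have hcoef := hqr n P hPhom (by rw [hev]; exact zero_mem _)
    ext s
    rw [MvPolynomial.coeff_zero]
    have h1 := hcoef s
    rw [hP, MvPolynomial.coeff_map, hspan] at h1
    have h2 := GrHtOne.decompose_zero_of_mem_span_posSet hpos h1
    have h3 : (algebraMap (GrLC.deg0 𝒜) R) (MvPolynomial.coeff s p) ∈ 𝒜 0 :=
      (MvPolynomial.coeff s p).2
    rw [DirectSum.decompose_of_mem_same 𝒜 h3] at h2
    exact h2
  rw [injective_iff_map_eq_zero]
  intro p hp
  rw [← MvPolynomial.sum_homogeneousComponent p]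
  refine Finset.sum_eq_zero fun n _ => ?_
  apply hhom n _ (MvPolynomial.homogeneousComponent_isHomogeneous n p)
  -- extract the degree n component of φ p = 0
  have hmem : ∀ k : ℕ, φ (MvPolynomial.homogeneousComponent k p) ∈ 𝒜 (k : ℤ) := fun k =>
    aeval_mem f hf1 k _ (MvPolynomial.homogeneousComponent_isHomogeneous k p)
  have hsum : φ p = ∑ k ∈ Finset.range (p.totalDegree + 1),
      φ (MvPolynomial.homogeneousComponent k p) := by
    conv_lhs => rw [← MvPolynomial.sum_homogeneousComponent p]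
    rw [map_sum]
  have hdec : ((decompose 𝒜 (φ p) (n : ℤ) : 𝒜 (n : ℤ)) : R) =
      ∑ k ∈ Finset.range (p.totalDegree + 1),
        ((decompose 𝒜 (φ (MvPolynomial.homogeneousComponent k p)) (n : ℤ) : 𝒜 (n : ℤ)) : R) := by
    rw [hsum, DirectSum.decompose_sum, DFinsupp.finset_sum_apply, AddSubgroup.val_finset_sum]
  rw [hp, DirectSum.decompose_zero] at hdec
  by_cases hn : n ∈ Finset.range (p.totalDegree + 1)
  · rw [Finset.sum_eq_single_of_mem n hn] at hdec
    · rw [DirectSum.decompose_of_mem_same 𝒜 (hmem n)] at hdec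
      exact hdec.symm
    · intro k _ hkn
      rw [DirectSum.decompose_of_mem_ne 𝒜 (hmem k) (by exact_mod_cast hkn)]
  · have h0 : MvPolynomial.homogeneousComponent n p = 0 := by
      apply MvPolynomial.homogeneousComponent_eq_zero
      rw [Finset.mem_range] at hn
      omega
    rw [h0, map_zero]

include hf1 hpos hstd hspan in
theorem exists_algEquiv (hqr : CAlgX.IsQuasiRegular f) :
    ∃ e : MvPolynomial (Fin d) (GrLC.deg0 𝒜) ≃ₐ[GrLC.deg0 𝒜] R,
      ∀ t : Fin d, e (MvPolynomial.X t) ∈ 𝒜 1 := by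
  refine ⟨AlgEquiv.ofBijective (MvPolynomial.aeval f)
    ⟨aeval_injective f hf1 hpos hspan hqr, aeval_surjective f hf1 hpos hstd hspan⟩, fun t => ?_⟩
  change MvPolynomial.aeval f (MvPolynomial.X t) ∈ 𝒜 1
  rw [MvPolynomial.aeval_X]
  exact hf1 t

end Groth.Agent.Lib.Helper97.PolyC
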