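import Mathlib
import Groth.Prelude.Def_GrLC
import Groth.Agent.Lib.Helper97.PolyA
import Groth.Agent.Lib.Helper97.PolyC
import Groth.Agent.Lib.Helper97.FiltReg
import Groth.Agent.S14424
import Groth.Agent.S5802

/-!
# `a(R) = -dim R` forces a standard graded CM ring over an Artinian local `R_0` with infinite
residue field to be a polynomial ring (helper97)
-/

set_option autoImplicit false
set_option linter.unusedSectionVars false
set_option linter.unusedVariables false
set_option linter.style.haveILetI false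
universe u

namespace Groth.Agent.Lib.Helper97.PolyB

open GrLC DirectSum IsLocalRing Groth.Agent.Lib.Helper77.GLC RingTheory.Sequence

section quot

variable {R : Type u} [CommRing R] [LocCoh.IsCohenMacaulayRing R] {𝒜 : ℤ → AddSubgroup R}
  [GradedRing 𝒜] (hpos : ∀ n : ℤ, n < 0 → 𝒜 n = ⊥) (m : HomogeneousIdeal 𝒜)
  (hm : GrLC.IsStarLocal 𝒜 m) (d : ℕ) (hd : ringKrullDim R = d) (I : GrLC.StarInjRes 𝒜 𝒜)

include hpos hm hd in
/-- consequences for the quotient by a weakly regular list of linear forms -/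
theorem quot_conseq (l : List R) (hl1 : ∀ x ∈ l, x ∈ 𝒜 1) (hreg : IsWeaklyRegular R l)
    (hlen : l.length ≤ d) :
    (l.length < d →
      GrLC.gam m.toIdeal (R ⧸ (Ideal.ofList l • ⊤ : Submodule R R)) = ⊥) ∧
    (l.length = d → GrLC.endDeg (I.Hgr m d) =
        (((-(d : ℤ) : ℤ) : WithTop ℤ) : WithBot (WithTop ℤ)) →
      ∀ g : ℤ, 0 < g → ∀ r ∈ 𝒜 g,
        (Ideal.ofList l • ⊤ : Submodule R R).mkQ r ∈
          GrLC.gam m.toIdeal (R ⧸ (Ideal.ofList l • ⊤ : Submodule R R)) →
        r ∈ (Ideal.ofList l • ⊤ : Submodule R R)) := by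
  classical
  set P : Submodule R R := Ideal.ofList l • ⊤ with hPdef
  have hPeq : P = Ideal.ofList l := by
    rw [hPdef, smul_eq_mul, Ideal.mul_top]
  have hP : P.IsHomogeneous 𝒜 := by
    rw [hPeq]
    exact Ideal.homogeneous_span 𝒜 _ (fun x hx => ⟨1, hl1 x hx⟩)
  letI := Groth.Agent.Lib.Helper66.GradedQuot.quotDecomposition 𝒜 P hP
  letI := Groth.Agent.Lib.Helper66.GradedQuot.quotGradedSMul 𝒜 𝒜 P
  obtain ⟨EQ⟩ := exists_res (𝒜 := 𝒜) (R ⧸ P) (Groth.Agent.Lib.Helper66.GradedQuot.qpiece 𝒜 P)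
  have hlm : ∀ x ∈ l, x ∈ m.toIdeal := fun x hx =>
    GrHtOne.span_posSet_le hpos m hm (Ideal.subset_span (AInvB.mem_posSet one_pos (hl1 x hx)))
  have hA := AInvD.HV_of_lt R 𝒜 hpos m hm d hd I
  have hmain := PolyA.main_list hpos m R 𝒜 (R ⧸ P)
    (Groth.Agent.Lib.Helper66.GradedQuot.qpiece 𝒜 P) I EQ l hl1 hlm hreg P.mkQ
    (Groth.Agent.Lib.Helper66.GradedQuot.mkQ_grHom 𝒜 P) P.mkQ_surjective
    (by rw [Submodule.ker_mkQ]) (d - l.length) (by intro i hi; exact hA i (by omega))
  constructor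
  · intro hlt
    exact PolyA.gam_eq_bot_of_HV EQ m (fun g => hmain.1 0 (by omega) g)
  · intro heq ha g hg r hr hmem
    have h2 := hmain.2
    rw [heq, Nat.sub_self, zero_add, ha] at h2
    have h3 : endDeg (EQ.Hgr m 0) ≤ (((0 : ℤ) : WithTop ℤ) : WithBot (WithTop ℤ)) := by
      rw [h2]
      exact_mod_cast (by omega : -(d : ℤ) + ((d : ℕ) : ℤ) ≤ 0)
    have h4 := (endDeg_le_iff _ 0).1 h3 g hg
    have h5 := (Hgr_eq_bot_iff EQ m 0 g).1 h4
    have h6 := (HV_zero_iff EQ m.toIdeal g).1 h5 (P.mkQ r)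
      (Groth.Agent.Lib.Helper66.GradedQuot.mk_mem_qpiece 𝒜 P hr) hmem
    exact (Submodule.Quotient.mk_eq_zero P).1 h6

include hpos hm hd in
theorem le_radical_of_regular (l : List R) (hl1 : ∀ x ∈ l, x ∈ 𝒜 1) (hreg : IsWeaklyRegular R l)
    (hlen : l.length = d) : m.toIdeal ≤ (Ideal.ofList l).radical := by
  rw [Ideal.radical_eq_sInf]
  apply le_sInf
  rintro P ⟨hJP, hPprime⟩
  have hPc_prime : (P.homogeneousCore 𝒜).toIdeal.IsPrime := hPprime.homogeneousCore
  have hPc_le : (P.homogeneousCore 𝒜).toIdeal ≤ P := Ideal.toIdeal_homogeneousCore_le 𝒜 P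
  have hJhom : (Ideal.ofList l).IsHomogeneous 𝒜 :=
    Ideal.homogeneous_span 𝒜 _ (fun x hx => ⟨1, hl1 x hx⟩)
  have hJPc : Ideal.ofList l ≤ (P.homogeneousCore 𝒜).toIdeal := by
    have h1 := Ideal.homogeneousCore_mono 𝒜 hJP
    have h2 := hJhom.toIdeal_homogeneousCore_eq_self
    rw [← h2]
    exact h1
  have hPc_ne : P.homogeneousCore 𝒜 ≠ ⊤ := by
    intro h
    apply hPc_prime.ne_top
    rw [h, HomogeneousIdeal.toIdeal_top]
  have hPc_m : (P.homogeneousCore 𝒜).toIdeal ≤ m.toIdeal :=
    GrHtOne.le_of_ne_top m hm _ hPc_ne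
  have hdep : LocCoh.idealDepth (P.homogeneousCore 𝒜).toIdeal R =
      (P.homogeneousCore 𝒜).toIdeal.height :=
    (Groth.Agent.S14424.result R).1 inferInstance _ hPc_prime.ne_top
  have hge : (d : ℕ∞) ≤ LocCoh.idealDepth (P.homogeneousCore 𝒜).toIdeal R := by
    unfold LocCoh.idealDepth
    rw [if_neg (by rw [smul_eq_mul, Ideal.mul_top]; exact hPc_prime.ne_top), ← hlen]
    exact le_iSup₂ (f := fun (rs : List R)
      (_ : IsWeaklyRegular R rs ∧ ∀ r ∈ rs, r ∈ (P.homogeneousCore 𝒜).toIdeal) =>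
        (rs.length : ℕ∞)) l ⟨hreg, fun r hr => hJPc (Ideal.subset_span hr)⟩
  have hht : m.toIdeal.height = d := GrHtOne.height_eq hpos m hm d hd
  have heq : (P.homogeneousCore 𝒜).toIdeal = m.toIdeal := by
    by_contra hne
    have hlt : (P.homogeneousCore 𝒜).toIdeal < m.toIdeal := lt_of_le_of_ne hPc_m hne
    have h1 := Ideal.height_strict_mono_of_isPrime hlt
    rw [hht, ← hdep] at h1
    exact absurd hge (not_le.2 h1)
  rw [← heq]
  exact hPc_le

end quot

theorem main (R : Type u) [CommRing R]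
    [LocCoh.IsCohenMacaulayRing R] (𝒜 : ℤ → AddSubgroup R) [GradedRing 𝒜]
    (hpos : ∀ n : ℤ, n < 0 → 𝒜 n = ⊥)
    (hstd : Ideal.span (⋃ n ∈ Set.Ioi (0 : ℤ), (𝒜 n : Set R)) =
      Ideal.span ((𝒜 1 : AddSubgroup R) : Set R))
    [IsArtinianRing (GrLC.deg0 𝒜)] (m : HomogeneousIdeal 𝒜) (hm : GrLC.IsStarLocal 𝒜 m)
    (hinf : Infinite (R ⧸ m.toIdeal)) (d : ℕ) (hd : ringKrullDim R = d)
    (I : GrLC.StarInjRes 𝒜 𝒜)
    (ha : GrLC.endDeg (I.Hgr m d) = (((-(d : ℤ) : ℤ) : WithTop ℤ) : WithBot (WithTop ℤ))) :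
    ∃ e : MvPolynomial (Fin d) (GrLC.deg0 𝒜) ≃ₐ[GrLC.deg0 𝒜] R,
      ∀ t : Fin d, e (MvPolynomial.X t) ∈ 𝒜 1 := by
  classical
  haveI : IsLocalRing (GrLC.deg0 𝒜) := PolyA.isLocalRing_deg0 hpos m hm
  have hinf' := PolyA.infinite_residue hpos m hm hinf
  obtain ⟨a, ha'⟩ : ∃ a : HomogeneousIdeal 𝒜,
      a.toIdeal = Ideal.span (⋃ n ∈ Set.Ioi (0 : ℤ), (𝒜 n : Set R)) :=
    ⟨⟨_, GrHtOne.span_posSet_hom⟩, rfl⟩
  have hale : a.toIdeal ≤ m.toIdeal := by
    rw [ha']
    exact GrHtOne.span_posSet_le hpos m hm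
  have hmrad : m.toIdeal ≤ a.toIdeal.radical := by
    intro x hx
    have hx0 : (decompose 𝒜 x 0 : R) ∈ m.toIdeal := m.isHomogeneous 0 hx
    have h1 : x - (decompose 𝒜 x 0 : R) ∈ a.toIdeal := by
      rw [ha']
      exact AInvB.sub_decompose_zero_mem hpos x
    have hnil : IsNilpotent (decompose 𝒜 x 0 : R) :=
      RegLower.nilpotent_of_mem m hm hx0 (SetLike.coe_mem _)
    have h2 : (decompose 𝒜 x 0 : R) ∈ a.toIdeal.radical := by
      obtain ⟨n, hn⟩ := hnil
      exact ⟨n, by rw [hn]; exact zero_mem _⟩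
    have h3 := a.toIdeal.radical.add_mem h2 (Ideal.le_radical h1)
    rwa [add_sub_cancel] at h3
  have h1a : ∀ x : R, x ∈ 𝒜 1 → x ∈ a.toIdeal := fun x hx => by
    rw [ha']
    exact Ideal.subset_span (AInvB.mem_posSet one_pos hx)
  -- filter-regular generators of the irrelevant ideal
  have hA1 : a.toIdeal = Ideal.span ((a : Set R) ∩ (𝒜 1 : AddSubgroup R)) := by
    apply le_antisymm
    · rw [ha', hstd, Ideal.span_le]
      intro x hx
      exact Ideal.subset_span ⟨h1a x hx, hx⟩
    · rw [Ideal.span_le]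
      intro x hx
      exact hx.1
  have hred : IdealRed.IsReduction a.toIdeal a.toIdeal :=
    ⟨le_rfl, 0, by rw [pow_zero, zero_add, pow_one, Ideal.one_eq_top, Ideal.mul_top]⟩
  obtain ⟨t, f, -, hf, hspan, hfr⟩ :=
    FiltReg.main' 𝒜 hpos a ha' (ha'.trans hstd) hinf' a hA1 hred
  set L : List R := List.ofFn f with hLdef
  have hLlen : L.length = t := List.length_ofFn
  have hL1 : ∀ x ∈ L, x ∈ 𝒜 1 := by
    intro x hx
    obtain ⟨i, rfl⟩ := (List.mem_ofFn' f x).1 hx
    exact (hf i).2
  have htake1 : ∀ i, ∀ x ∈ L.take i, x ∈ 𝒜 1 := fun i x hx => hL1 x (List.mem_of_mem_take hx)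
  have hget : ∀ (j : ℕ) (hj : j < L.length) (hjt : j < t), L[j] = f ⟨j, hjt⟩ := by
    intro j hj hjt
    simp only [hLdef, List.getElem_ofFn]
  -- the torsion-freeness transfer
  have hM : ∀ (l : List R), GrLC.gam m.toIdeal (R ⧸ (Ideal.ofList l • ⊤ : Submodule R R)) = ⊥ →
      ∀ q : R ⧸ (Ideal.ofList l • ⊤ : Submodule R R), (∀ r ∈ a.toIdeal, r • q = 0) → q = 0 := by
    intro l hl q hq
    have h1 : q ∈ GrLC.gam a.toIdeal (R ⧸ (Ideal.ofList l • ⊤ : Submodule R R)) :=
      ⟨1, fun r hr => hq r (by rwa [pow_one] at hr)⟩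
    have h2 := RegLower.gam_le_of_le_radical hmrad _ h1
    rw [hl] at h2
    exact (Submodule.mem_bot R).1 h2
  -- weak regularity of initial segments
  have hWR : ∀ i, i ≤ t → i ≤ d → IsWeaklyRegular R (L.take i) := by
    intro i
    induction i with
    | zero =>
      intro _ _
      rw [List.take_zero]
      exact IsWeaklyRegular.nil R R
    | succ i ih =>
      intro hit hid
      have hiL : i < L.length := by rw [hLlen]; omega
      have ih' := ih (by omega) (by omega)
      rw [List.take_succ_eq_append_getElem hiL, isWeaklyRegular_append_iff,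
        isWeaklyRegular_singleton_iff]
      refine ⟨ih', ?_⟩
      have hlen : (L.take i).length = i := by
        rw [List.length_take, hLlen]
        omega
      have hgam := (quot_conseq hpos m hm d hd I (L.take i) (htake1 i) ih'
        (by rw [hlen]; omega)).1 (by rw [hlen]; omega)
      have hLi : L[i] = f ⟨i, by omega⟩ := hget i hiL (by omega)
      have hJeq : (Ideal.ofList (L.take i) • ⊤ : Submodule R R) =
          Ideal.span (f '' {j | j < (⟨i, by omega⟩ : Fin t)}) := by
        rw [smul_eq_mul, Ideal.mul_top]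
        unfold Ideal.ofList
        congr 1
        ext x
        simp only [Set.mem_setOf_eq, Set.mem_image]
        constructor
        · intro hx
          obtain ⟨j, hj, rfl⟩ := List.mem_take_iff_getElem.1 hx
          have hjt : j < t := by
            rw [hLlen] at hj
            omega
          refine ⟨⟨j, hjt⟩, ?_, ?_⟩
          · rw [Fin.lt_def]
            change j < i
            omega
          · exact (hget j _ hjt).symm
        · rintro ⟨j, hj, rfl⟩
          rw [Fin.lt_def] at hj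
          change (j : ℕ) < i at hj
          refine List.mem_take_iff_getElem.2 ⟨j, ?_, ?_⟩
          · rw [hLlen]
            omega
          · exact hget j _ j.2
      apply PolyA.regular_of_filter a.toIdeal L[i] ?_ (hM _ hgam)
      intro P hP hPa
      rw [hLi]
      refine hfr ⟨i, by omega⟩ P ?_ hPa
      rw [← LinearEquiv.AssociatedPrimes.eq (Submodule.quotEquivOfEq _ _ hJeq)]
      exact hP
  have hone := PolyA.one_notMem hpos m hm
  have hofL : Ideal.ofList L = a.toIdeal := by
    rw [← hspan]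
    unfold Ideal.ofList
    congr 1
    ext x
    simp only [Set.mem_setOf_eq, Set.mem_range]
    rw [hLdef, List.mem_ofFn']
    rfl
  rcases lt_or_ge t d with htd | hdt
  · -- impossible: too few generators
    exfalso
    have hWRt := hWR t le_rfl htd.le
    have htake : L.take t = L := List.take_of_length_le (by rw [hLlen])
    rw [htake] at hWRt
    have hgam := (quot_conseq hpos m hm d hd I L hL1 hWRt (by rw [hLlen]; omega)).1
      (by rw [hLlen]; omega)
    have h0 := hM L hgam ((Ideal.ofList L • ⊤ : Submodule R R).mkQ 1) (by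
      intro r hr
      rw [← map_smul, Submodule.mkQ_apply, Submodule.Quotient.mk_eq_zero, smul_eq_mul,
        Ideal.mul_top, smul_eq_mul, mul_one, hofL]
      exact hr)
    rw [Submodule.mkQ_apply, Submodule.Quotient.mk_eq_zero, smul_eq_mul, Ideal.mul_top,
      hofL] at h0
    exact hone (hale h0)
  · -- the first d elements generate the irrelevant ideal
    set l : List R := L.take d with hldef
    have hlen : l.length = d := by
      rw [hldef, List.length_take, hLlen]
      omega
    have hl1 : ∀ x ∈ l, x ∈ 𝒜 1 := htake1 d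
    have hWRd : IsWeaklyRegular R l := hWR d hdt le_rfl
    have hPeq : (Ideal.ofList l • ⊤ : Submodule R R) = Ideal.ofList l := by
      rw [smul_eq_mul, Ideal.mul_top]
    have hrad := le_radical_of_regular hpos m hm d hd l hl1 hWRd hlen
    obtain ⟨N, hN⟩ := Ideal.exists_pow_le_of_le_radical_of_fg hrad
      ((isNoetherianRing_iff_ideal_fg R).1 inferInstance _)
    have hcon := (quot_conseq hpos m hm d hd I l hl1 hWRd hlen.le).2 hlen ha
    have hale' : a.toIdeal ≤ Ideal.ofList l := by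
      rw [ha', Ideal.span_le]
      intro x hx
      obtain ⟨g, hg, hxg⟩ := AInvB.exists_of_mem_posSet hx
      have h1 := hcon g hg x hxg ⟨N, fun c hc => by
        rw [← map_smul, Submodule.mkQ_apply, Submodule.Quotient.mk_eq_zero, hPeq, smul_eq_mul]
        exact (Ideal.ofList l).mul_mem_right x (hN hc)⟩
      rw [hPeq] at h1
      exact h1
    have hle' : Ideal.ofList l ≤ a.toIdeal := by
      unfold Ideal.ofList
      rw [Ideal.span_le]
      intro x hx
      exact h1a x (hl1 x hx)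
    have hJ : Ideal.ofList l = a.toIdeal := le_antisymm hle' hale'
    -- the function version
    let f' : Fin d → R := fun j => l.get (Fin.cast hlen.symm j)
    have hofFn : List.ofFn f' = l := by
      apply List.ext_getElem
      · rw [List.length_ofFn, hlen]
      · intro n h1 h2
        rw [List.getElem_ofFn]
        rfl
    have hf'1 : ∀ j, f' j ∈ 𝒜 1 := fun j => hl1 _ (List.get_mem l _)
    have hrange : Set.range f' = {x | x ∈ l} := by
      ext x
      constructor
      · rintro ⟨j, rfl⟩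
        exact List.get_mem l _
      · intro hx
        obtain ⟨n, rfl⟩ := List.get_of_mem hx
        exact ⟨Fin.cast hlen n, rfl⟩
    have hspan' : Ideal.span (Set.range f') =
        Ideal.span (⋃ n ∈ Set.Ioi (0 : ℤ), (𝒜 n : Set R)) := by
      rw [hrange, ← ha', ← hJ]
    have hqr : CAlgX.IsQuasiRegular f' :=
      Groth.Agent.S5802.result R d f' (by rw [hofFn]; exact hWRd)
    exact PolyC.exists_algEquiv f' hf'1 hpos hstd hspan' hqr

end Groth.Agent.Lib.Helper97.PolyB
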