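import Mathlib

/-!
# Semilocal Prüfer domains of finite Krull dimension have finite spectrum (helper97; S14738, S14739)
-/

set_option autoImplicit false
set_option linter.unusedSectionVars false
set_option linter.style.haveILetI false

namespace Groth.Agent.Lib.Helper97.PruferSpec

open TensorProduct

variable {R : Type*} [CommRing R] [IsDomain R]

/-- Primes under a prime `m` with `R_m` a valuation ring are totally ordered. -/
lemma prime_le_total (m : Ideal R) [m.IsPrime] (hV : ValuationRing (Localization.AtPrime m))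
    (p q : Ideal R) [p.IsPrime] [q.IsPrime] (hp : p ≤ m) (hq : q ≤ m) : p ≤ q ∨ q ≤ p := by
  by_contra hcon
  push Not at hcon
  obtain ⟨h1, h2⟩ := hcon
  obtain ⟨a, hap, haq⟩ := Set.not_subset.mp h1
  obtain ⟨b, hbq, hbp⟩ := Set.not_subset.mp h2
  have hinj : Function.Injective (algebraMap R (Localization.AtPrime m)) :=
    IsLocalization.injective _ m.primeCompl_le_nonZeroDivisors
  -- general claim
  have key : ∀ (P : Ideal R) [P.IsPrime], P ≤ m → ∀ x y : R, x ∈ P →
      algebraMap R (Localization.AtPrime m) x ∣ algebraMap R (Localization.AtPrime m) y → y ∈ P := by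
    intro P _ hP x y hx ⟨z, hz⟩
    obtain ⟨⟨c, s⟩, hcs⟩ := IsLocalization.surj m.primeCompl z
    simp only at hcs
    have : algebraMap R (Localization.AtPrime m) (y * s) =
        algebraMap R (Localization.AtPrime m) (x * c) := by
      rw [map_mul, map_mul, hz, mul_assoc, hcs]
    have h3 := hinj this
    have h4 : y * s ∈ P := by rw [h3]; exact P.mul_mem_right _ hx
    rcases Ideal.IsPrime.mem_or_mem inferInstance h4 with h | h
    · exact h
    · exact absurd (hP h) s.2
  rcases ValuationRing.dvd_total (algebraMap R (Localization.AtPrime m) a)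
      (algebraMap R (Localization.AtPrime m) b) with h | h
  · exact hbp (key p hp a b hap h)
  · exact haq (key q hq b a hbq h)

/-- A semilocal Prüfer domain of finite Krull dimension has finitely many primes. -/
theorem finite_primeSpectrum
    (hR : ∀ (p : Ideal R) [p.IsPrime], ValuationRing (Localization.AtPrime p))
    (hfin : Finite (MaximalSpectrum R)) (hdim : ringKrullDim R < ⊤) :
    Finite (PrimeSpectrum R) := by
  classical
  obtain ⟨d, hd⟩ : ∃ d : ℕ, ringKrullDim R ≤ (d : WithBot ℕ∞) := by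
    generalize ringKrullDim R = D at hdim
    induction D using WithBot.recBotCoe with
    | bot => exact ⟨0, bot_le⟩
    | coe x =>
      induction x using ENat.recTopCoe with
      | top => exact absurd hdim (lt_irrefl _)
      | coe n => exact ⟨n, le_rfl⟩
  have hht : ∀ p : PrimeSpectrum R, p.asIdeal.height ≤ (d : ℕ∞) := by
    intro p
    have h1 := (Ideal.height_le_ringKrullDim_of_isPrime (I := p.asIdeal)).trans hd
    exact_mod_cast h1
  have hex : ∀ p : PrimeSpectrum R, ∃ m : MaximalSpectrum R, p.asIdeal ≤ m.asIdeal := by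
    intro p
    obtain ⟨m, hm, hpm⟩ := Ideal.exists_le_maximal p.asIdeal p.2.ne_top
    exact ⟨⟨m, hm⟩, hpm⟩
  choose μ hμ using hex
  have hlt : ∀ p : PrimeSpectrum R, p.asIdeal.height.toNat < d + 1 := by
    intro p
    have := ENat.toNat_le_toNat (hht p) (ENat.coe_ne_top d)
    simp only [ENat.toNat_coe] at this
    omega
  refine Finite.of_injective
    (fun p : PrimeSpectrum R => (μ p, (⟨p.asIdeal.height.toNat, hlt p⟩ : Fin (d + 1)))) ?_
  intro p q hpq
  simp only [Prod.mk.injEq, Fin.mk.injEq] at hpq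
  obtain ⟨hm, hh⟩ := hpq
  have hp' := hμ p
  have hq' := hμ q
  rw [hm] at hp'
  haveI := (μ q).2
  haveI : (μ q).asIdeal.IsPrime := (μ q).2.isPrime
  haveI := p.2
  haveI := q.2
  have hfh : ∀ P : PrimeSpectrum R, P.asIdeal.FiniteHeight := by
    intro P
    rw [Ideal.finiteHeight_iff]
    right
    exact ne_top_of_le_ne_top (ENat.coe_ne_top d) (hht P)
  have hne : ∀ P : PrimeSpectrum R, P.asIdeal.height ≠ ⊤ :=
    fun P => ne_top_of_le_ne_top (ENat.coe_ne_top d) (hht P)
  have hheq : p.asIdeal.height = q.asIdeal.height := by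
    rw [← ENat.coe_toNat (hne p), ← ENat.coe_toNat (hne q), hh]
  haveI := hfh p
  haveI := hfh q
  apply PrimeSpectrum.ext
  rcases prime_le_total (μ q).asIdeal (hR _) p.asIdeal q.asIdeal hp' hq' with h | h
  · exact Ideal.eq_of_le_of_height_le (I := p.asIdeal) (h := h) (h_height := hheq.ge)
  · exact (Ideal.eq_of_le_of_height_le (I := q.asIdeal) (h := h) (h_height := hheq.le)).symm

/-- With finite spectrum: an element cutting out exactly the maximal ideal `m`. -/
theorem exists_mem_iff_eq [Finite (PrimeSpectrum R)] (m : Ideal R) [hm : m.IsMaximal] :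
    ∃ a : R, ∀ (p : Ideal R), p.IsPrime → (a ∈ p ↔ p = m) := by
  classical
  haveI : Fintype (PrimeSpectrum R) := Fintype.ofFinite _
  let m' : PrimeSpectrum R := ⟨m, hm.isPrime⟩
  let T : Finset (PrimeSpectrum R) := Finset.univ.filter fun p => p.asIdeal ≠ m
  have hnot : ¬ ((m : Set R) ⊆ ⋃ i ∈ (↑T : Set (PrimeSpectrum R)), (i.asIdeal : Set R)) := by
    intro hsub
    obtain ⟨i, hiT, hi⟩ := (Ideal.subset_union_prime (s := T) (f := fun p => p.asIdeal) m' m'
      (fun i _ _ _ => i.2)).mp hsub
    have : m = i.asIdeal := hm.eq_of_le i.2.ne_top hi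
    exact (Finset.mem_filter.mp hiT).2 this.symm
  obtain ⟨a, ham, haT⟩ := Set.not_subset.mp hnot
  refine ⟨a, fun p hp => ⟨fun hap => ?_, fun h => h ▸ ham⟩⟩
  by_contra hne
  apply haT
  simp only [Set.mem_iUnion]
  exact ⟨⟨p, hp⟩, Finset.mem_coe.mpr (Finset.mem_filter.mpr ⟨Finset.mem_univ _, hne⟩), hap⟩

/-- With finite spectrum: the local ring at `m` is a principal localization. -/
theorem exists_away_isLocalization [Finite (PrimeSpectrum R)] (m : Ideal R) [hm : m.IsMaximal] :
    ∃ b : R, b ∉ m ∧ IsLocalization.AtPrime (Localization.Away b) m := by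
  classical
  haveI : Fintype (PrimeSpectrum R) := Fintype.ofFinite _
  haveI : m.IsPrime := hm.isPrime
  let T : Finset (PrimeSpectrum R) := Finset.univ.filter fun p => ¬ p.asIdeal ≤ m
  have hex : ∀ p : PrimeSpectrum R, ∃ x : R, (¬ p.asIdeal ≤ m → x ∈ p.asIdeal) ∧ x ∉ m := by
    intro p
    by_cases hp : p.asIdeal ≤ m
    · exact ⟨1, fun h => absurd hp h, fun h => hm.ne_top ((Ideal.eq_top_iff_one _).mpr h)⟩
    · obtain ⟨x, hx, hxm⟩ := Set.not_subset.mp hp
      exact ⟨x, fun _ => hx, hxm⟩
  choose β hβ1 hβ2 using hex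
  let b : R := ∏ p ∈ T, β p
  have hbm : b ∉ m := by
    intro hb
    obtain ⟨p, _, hp⟩ := (Ideal.IsPrime.prod_mem_iff).mp hb
    exact hβ2 p hp
  have hbT : ∀ p : PrimeSpectrum R, ¬ p.asIdeal ≤ m → b ∈ p.asIdeal := by
    intro p hp
    have hpT : p ∈ T := Finset.mem_filter.mpr ⟨Finset.mem_univ _, hp⟩
    exact Ideal.mem_of_dvd _ (Finset.dvd_prod_of_mem β hpT) (hβ1 p hp)
  refine ⟨b, hbm, ?_⟩
  have hpow : ∀ c ∈ Submonoid.powers b, c ∈ m.primeCompl := by
    rintro c ⟨n, rfl⟩
    exact fun h => hbm (Ideal.IsPrime.mem_of_pow_mem inferInstance n h)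
  change IsLocalization m.primeCompl (Localization.Away b)
  rw [isLocalization_iff]
  refine ⟨?_, ?_, ?_⟩
  · rintro ⟨s, hs⟩
    by_contra hnu
    obtain ⟨Q, hQ, hsQ⟩ := exists_max_ideal_of_mem_nonunits hnu
    haveI := hQ.isPrime
    let P : PrimeSpectrum R := ⟨Q.comap (algebraMap R (Localization.Away b)), inferInstance⟩
    have hsP : s ∈ P.asIdeal := hsQ
    have hbP : b ∉ P.asIdeal := by
      intro hb
      have hu : IsUnit (algebraMap R (Localization.Away b) b) :=
        IsLocalization.map_units _ (⟨b, Submonoid.mem_powers b⟩ : Submonoid.powers b)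
      exact hQ.ne_top (Ideal.eq_top_of_isUnit_mem _ hb hu)
    have hPm : P.asIdeal ≤ m := by
      by_contra h
      exact hbP (hbT P h)
    exact hs (hPm hsP)
  · intro z
    obtain ⟨⟨r, c⟩, hrc⟩ := IsLocalization.surj (Submonoid.powers b) z
    exact ⟨⟨r, ⟨c.1, hpow c.1 c.2⟩⟩, hrc⟩
  · intro x y hxy
    obtain ⟨c, hc⟩ := (IsLocalization.eq_iff_exists (Submonoid.powers b) _).mp hxy
    exact ⟨⟨c.1, hpow c.1 c.2⟩, hc⟩

/-- Finite type algebras over a ring with finite spectrum have Noetherian spectrum. -/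
theorem noetherianSpace_of_finite_primeSpectrum [Finite (PrimeSpectrum R)]
    (S : Type*) [CommRing S] [Algebra R S] [Algebra.FiniteType R S] :
    TopologicalSpace.NoetherianSpace (PrimeSpectrum S) := by
  have hfib : ∀ p : PrimeSpectrum R, TopologicalSpace.NoetherianSpace
      (PrimeSpectrum.comap (algebraMap R S) ⁻¹' {p}) := by
    intro p
    haveI : Algebra.FiniteType p.asIdeal.ResidueField (p.asIdeal.Fiber S) :=
      inferInstanceAs (Algebra.FiniteType p.asIdeal.ResidueField (p.asIdeal.ResidueField ⊗[R] S))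
    haveI : IsNoetherianRing (p.asIdeal.Fiber S) :=
      Algebra.FiniteType.isNoetherianRing p.asIdeal.ResidueField _
    exact (TopologicalSpace.noetherianSpace_iff_of_homeomorph
      (PrimeSpectrum.preimageHomeomorphFiber R S p)).mpr inferInstance
  have hU := TopologicalSpace.NoetherianSpace.iUnion
    (fun p : PrimeSpectrum R => PrimeSpectrum.comap (algebraMap R S) ⁻¹' {p})
  have huniv : (⋃ p : PrimeSpectrum R, PrimeSpectrum.comap (algebraMap R S) ⁻¹' {p}) =
      Set.univ := by
    ext q
    simp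
  rw [huniv] at hU
  exact TopologicalSpace.noetherian_univ_iff.mp hU

end Groth.Agent.Lib.Helper97.PruferSpec
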