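import Mathlib
import Groth.Agent.Lib.Helper25.QuasiHomeo

/-!
# Quasi-homeomorphisms and (locally) constructible / locally closed sets (helper97; S4897)
EGA IV 10.2.7-type statement.  Uses helper25's `QuasiHomeo` library.
-/

set_option autoImplicit false

namespace Groth.Agent.Lib.Helper97.QHomeo

open Groth.Agent.Lib.Helper25 Topology

universe u

variable {X Y : Type u} [TopologicalSpace X] [TopologicalSpace Y]

lemma isQC_of_isConstructible {s : Set X} (hs : IsConstructible s) : IsQC s := by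
  induction hs using IsConstructible.empty_union_induction with
  | open_retrocompact U hUopen hUcomp => exact hUopen.isLocallyClosed.isQC'
  | union s hs t ht hs' ht' => exact hs'.union ht'
  | compl s hs hs' => exact hs'.compl

lemma isLQC_of_isLocallyConstructible {s : Set X} (hs : IsLocallyConstructible s) : IsLQC s := by
  intro x
  obtain ⟨U, hxU, hU, hc⟩ := hs x
  refine ⟨U, hU, mem_of_mem_nhds hxU, ?_⟩
  obtain ⟨S, hS, hSs⟩ := IsQC.exists_preimage_val (isQC_of_isConstructible hc)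
  have : U ∩ s = U ∩ S := by
    ext y
    constructor
    · rintro ⟨hyU, hys⟩
      refine ⟨hyU, ?_⟩
      have : (⟨y, hyU⟩ : ↥U) ∈ Subtype.val ⁻¹' S := by
        rw [hSs]; exact hys
      exact this
    · rintro ⟨hyU, hyS⟩
      refine ⟨hyU, ?_⟩
      have : (⟨y, hyU⟩ : ↥U) ∈ (Subtype.val ⁻¹' s : Set ↥U) := by
        rw [← hSs]; exact hyS
      exact this
  change IsQC (U ∩ s)
  rw [this]
  exact IsQC.inter hU.isLocallyClosed.isQC' hS

section QH

variable {f : X → Y}

lemma isRetrocompact_preimage_iff (hf : Continuous f) (h : IsQH f) {U : Set Y} (hU : IsOpen U) :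
    IsRetrocompact (f ⁻¹' U) ↔ IsRetrocompact U := by
  constructor
  · intro hr V hVc hVo
    have h1 : IsCompact (f ⁻¹' V) := (h.isCompact_preimage_iff_of_isOpen hf hVo).mpr hVc
    have h2 := hr h1 (hVo.preimage hf)
    rw [← Set.preimage_inter] at h2
    exact (h.isCompact_preimage_iff_of_isOpen hf (hU.inter hVo)).mp h2
  · intro hr V' hVc hVo
    obtain ⟨V, hV, rfl⟩ := h.2 V' hVo
    have h1 : IsCompact V := (h.isCompact_preimage_iff_of_isOpen hf hV).mp hVc
    have h2 := hr h1 hV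
    rw [← Set.preimage_inter]
    exact (h.isCompact_preimage_iff_of_isOpen hf (hU.inter hV)).mpr h2

lemma isConstructible_preimage (hf : Continuous f) (h : IsQH f) {Z : Set Y}
    (hZ : IsConstructible Z) : IsConstructible (f ⁻¹' Z) :=
  hZ.preimage hf fun _ hs hr => (isRetrocompact_preimage_iff hf h hs).mpr hr

lemma exists_isConstructible_preimage_eq (hf : Continuous f) (h : IsQH f) {W : Set X}
    (hW : IsConstructible W) : ∃ Z : Set Y, IsConstructible Z ∧ f ⁻¹' Z = W := by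
  induction hW using IsConstructible.empty_union_induction with
  | open_retrocompact U hUopen hUcomp =>
    obtain ⟨U', hU', rfl⟩ := h.2 U hUopen
    exact ⟨U', ((isRetrocompact_preimage_iff hf h hU').mp hUcomp).isConstructible hU', rfl⟩
  | union s hs t ht hs' ht' =>
    obtain ⟨Z₁, hZ₁, rfl⟩ := hs'
    obtain ⟨Z₂, hZ₂, rfl⟩ := ht'
    exact ⟨Z₁ ∪ Z₂, hZ₁.union hZ₂, Set.preimage_union⟩
  | compl s hs hs' =>
    obtain ⟨Z, hZ, rfl⟩ := hs'
    exact ⟨Zᶜ, hZ.compl, Set.preimage_compl⟩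

lemma isQH_restrictPreimage_of_isOpen (h : IsQH f) {U : Set Y} (hU : IsOpen U) :
    IsQH (U.restrictPreimage f) :=
  h.restrictPreimage hU.isLocallyClosed.isQC'.isLQC

lemma isLocallyConstructible_preimage (hf : Continuous f) (h : IsQH f) {Z : Set Y}
    (hZ : IsLocallyConstructible Z) : IsLocallyConstructible (f ⁻¹' Z) := by
  intro x
  obtain ⟨U, hxU, hU, hc⟩ := hZ (f x)
  refine ⟨f ⁻¹' U, hf.continuousAt.preimage_mem_nhds hxU, hU.preimage hf, ?_⟩
  have := isConstructible_preimage (f := U.restrictPreimage f) hf.restrictPreimage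
    (isQH_restrictPreimage_of_isOpen h hU) hc
  exact this

lemma exists_isLocallyConstructible_preimage_eq (hf : Continuous f) (h : IsQH f) {W : Set X}
    (hW : IsLocallyConstructible W) : ∃ Z : Set Y, IsLocallyConstructible Z ∧ f ⁻¹' Z = W := by
  classical
  have hloc : ∀ x : X, ∃ U : Set Y, IsOpen U ∧ f x ∈ U ∧ ∃ Q : Set Y, IsQC Q ∧ Q ⊆ U ∧
      IsConstructible (Subtype.val ⁻¹' Q : Set ↥U) ∧ f ⁻¹' Q = f ⁻¹' U ∩ W := by
    intro x
    obtain ⟨V, hxV, hV, hc⟩ := hW x
    obtain ⟨U, hU, rfl⟩ := h.2 V hV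
    obtain ⟨Z, hZ, hZW⟩ := exists_isConstructible_preimage_eq (f := U.restrictPreimage f)
      hf.restrictPreimage (isQH_restrictPreimage_of_isOpen h hU) hc
    obtain ⟨S, hS, hSZ⟩ := IsQC.exists_preimage_val (isQC_of_isConstructible hZ)
    refine ⟨U, hU, (mem_of_mem_nhds hxV : x ∈ f ⁻¹' U), U ∩ S, IsQC.inter hU.isLocallyClosed.isQC' hS,
      Set.inter_subset_left, ?_, ?_⟩
    · have : (Subtype.val ⁻¹' (U ∩ S) : Set ↥U) = Z := by
        rw [← hSZ]
        ext ⟨y, hy⟩
        simp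
      rw [this]
      exact hZ
    · ext y
      constructor
      · rintro ⟨hyU, hyS⟩
        refine ⟨hyU, ?_⟩
        have h1 : (⟨f y, hyU⟩ : ↥U) ∈ Subtype.val ⁻¹' S := hyS
        rw [hSZ] at h1
        have h2 : (⟨y, hyU⟩ : ↥(f ⁻¹' U)) ∈ (U.restrictPreimage f) ⁻¹' Z := h1
        rw [hZW] at h2
        exact h2
      · rintro ⟨hyU, hyW⟩
        refine ⟨hyU, ?_⟩
        have h2 : (⟨y, hyU⟩ : ↥(f ⁻¹' U)) ∈ (Subtype.val ⁻¹' W : Set ↥(f ⁻¹' U)) := hyW
        rw [← hZW] at h2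
        have h1 : (⟨f y, hyU⟩ : ↥U) ∈ Z := h2
        rw [← hSZ] at h1
        exact h1
  choose U hU hxU Q hQ hQU hQc hQW using hloc
  -- the `U x` cover `Y`
  have hcover : (⋃ x, U x) = Set.univ := by
    apply h.1 _ _ (isOpen_iUnion hU) isOpen_univ
    rw [Set.preimage_univ, Set.preimage_iUnion]
    exact Set.eq_univ_of_forall fun x => Set.mem_iUnion.mpr ⟨x, hxU x⟩
  have hcover' : ∀ y : Y, ∃ x : X, y ∈ U x := fun y => by
    have : y ∈ ⋃ x, U x := hcover ▸ Set.mem_univ y
    exact Set.mem_iUnion.mp this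
  -- compatibility on overlaps
  have hcompat : ∀ x y : X, U x ∩ Q y = U y ∩ Q x := by
    intro x y
    apply h.preimage_injective_of_isLQC
      (IsQC.inter (hU x).isLocallyClosed.isQC' (hQ y)).isLQC
      (IsQC.inter (hU y).isLocallyClosed.isQC' (hQ x)).isLQC
    rw [Set.preimage_inter, Set.preimage_inter, hQW, hQW]
    ext z
    simp only [Set.mem_inter_iff, Set.mem_preimage]
    tauto
  have hUZ : ∀ x : X, U x ∩ ⋃ y, Q y = Q x := by
    intro x
    rw [Set.inter_iUnion]
    ext p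
    simp only [Set.mem_iUnion]
    constructor
    · rintro ⟨y, hp⟩
      rw [hcompat x y] at hp
      exact hp.2
    · intro hp
      exact ⟨x, hQU x hp, hp⟩
  refine ⟨⋃ y, Q y, ?_, ?_⟩
  · intro p
    obtain ⟨x, hx⟩ := hcover' p
    refine ⟨U x, (hU x).mem_nhds hx, hU x, ?_⟩
    have : (Subtype.val ⁻¹' (⋃ y, Q y) : Set ↥(U x)) = Subtype.val ⁻¹' (Q x) := by
      ext ⟨y, hy⟩
      have := hUZ x
      constructor
      · intro hy'
        have : y ∈ U x ∩ ⋃ y, Q y := ⟨hy, hy'⟩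
        rw [hUZ x] at this
        exact this
      · intro hy'
        have : y ∈ U x ∩ ⋃ y, Q y := by rw [hUZ x]; exact hy'
        exact this.2
    rw [this]
    exact hQc x
  · rw [Set.preimage_iUnion]
    ext z
    simp only [Set.mem_iUnion]
    constructor
    · rintro ⟨y, hz⟩
      have : z ∈ f ⁻¹' Q y := hz
      rw [hQW] at this
      exact this.2
    · intro hz
      refine ⟨z, ?_⟩
      have : z ∈ f ⁻¹' U z ∩ W := ⟨hxU z, hz⟩
      rw [← hQW] at this
      exact this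

end QH

theorem main (f : X → Y) (hf : Continuous f)
    (hq : Function.Bijective (fun U : TopologicalSpace.Opens Y =>
      (⟨f ⁻¹' (U : Set Y), U.isOpen.preimage hf⟩ : TopologicalSpace.Opens X))) :
    Function.Bijective (fun Z : {Z : Set Y // IsLocallyClosed Z} =>
        (⟨f ⁻¹' Z.1, Z.2.preimage hf⟩ : {Z : Set X // IsLocallyClosed Z})) ∧
      Set.BijOn (fun Z : Set Y => f ⁻¹' Z) {Z | Topology.IsConstructible Z}
        {Z | Topology.IsConstructible Z} ∧
      Set.BijOn (fun Z : Set Y => f ⁻¹' Z) {Z | Topology.IsLocallyConstructible Z}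
        {Z | Topology.IsLocallyConstructible Z} := by
  have h : IsQH f := isQH_of_bijective_opens f hf hq
  refine ⟨⟨?_, ?_⟩, ⟨?_, ?_, ?_⟩, ⟨?_, ?_, ?_⟩⟩
  · rintro ⟨Z, hZ⟩ ⟨Z', hZ'⟩ heq
    have heq' : f ⁻¹' Z = f ⁻¹' Z' := congrArg Subtype.val heq
    exact Subtype.ext (h.preimage_injective_of_isLQC hZ.isQC'.isLQC hZ'.isQC'.isLQC heq')
  · rintro ⟨W, V, C, hV, hC, rfl⟩
    obtain ⟨U, hU, rfl⟩ := h.2 V hV
    obtain ⟨U', hU', hU'C⟩ := h.2 Cᶜ hC.isOpen_compl
    refine ⟨⟨U ∩ U'ᶜ, U, U'ᶜ, hU, hU'.isClosed_compl, rfl⟩, Subtype.ext ?_⟩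
    show f ⁻¹' (U ∩ U'ᶜ) = f ⁻¹' U ∩ C
    rw [Set.preimage_inter, Set.preimage_compl, hU'C, compl_compl]
  · intro Z hZ
    exact isConstructible_preimage hf h hZ
  · intro Z hZ Z' hZ' heq
    exact h.preimage_injective_of_isLQC (isQC_of_isConstructible hZ).isLQC
      (isQC_of_isConstructible hZ').isLQC heq
  · intro W hW
    obtain ⟨Z, hZ, hZW⟩ := exists_isConstructible_preimage_eq hf h hW
    exact ⟨Z, hZ, hZW⟩
  · intro Z hZ
    exact isLocallyConstructible_preimage hf h hZ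
  · intro Z hZ Z' hZ' heq
    exact h.preimage_injective_of_isLQC (isLQC_of_isLocallyConstructible hZ)
      (isLQC_of_isLocallyConstructible hZ') heq
  · intro W hW
    obtain ⟨Z, hZ, hZW⟩ := exists_isLocallyConstructible_preimage_eq hf h hW
    exact ⟨Z, hZ, hZW⟩

end Groth.Agent.Lib.Helper97.QHomeo
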