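import Groth.Prelude.Def_W4c6intromoduliQuartic
import Mathlib.Tactic.LinearCombination
import Mathlib.Tactic.Ring
import Mathlib.Tactic.NormNum
import Mathlib.Tactic.FinCases
import Mathlib.Algebra.BigOperators.Fin

/-! Closed forms for the coefficients, invariants and discriminant of a split binary quartic. -/

set_option autoImplicit false

namespace Groth.Agent.Lib.Helper97

open W4c6intromoduli Polynomial

universe u

variable {R : Type u} [CommRing R]

/-- `d i j = la j * mu i - la i * mu j`. -/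
def dd (la mu : Fin 4 → R) (i j : Fin 4) : R := la j * mu i - la i * mu j

/-- `A = d01 d23`. -/
def qA (la mu : Fin 4 → R) : R := dd la mu 0 1 * dd la mu 2 3

/-- `B = - d02 d13`. -/
def qB (la mu : Fin 4 → R) : R := -(dd la mu 0 2 * dd la mu 1 3)

/-- `C = d03 d12`. -/
def qC (la mu : Fin 4 → R) : R := dd la mu 0 3 * dd la mu 1 2

theorem qA_add_qB_add_qC (la mu : Fin 4 → R) : qA la mu + qB la mu + qC la mu = 0 := by
  simp only [qA, qB, qC, dd]; ring

theorem rootPoly_eq (la mu : Fin 4 → R) :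
    rootPoly la mu =
      C (mu 0 * mu 1 * mu 2 * mu 3) +
      C (-(la 0 * mu 1 * mu 2 * mu 3 + mu 0 * la 1 * mu 2 * mu 3 + mu 0 * mu 1 * la 2 * mu 3 +
          mu 0 * mu 1 * mu 2 * la 3)) * X +
      C (la 0 * la 1 * mu 2 * mu 3 + la 0 * mu 1 * la 2 * mu 3 + la 0 * mu 1 * mu 2 * la 3 +
          mu 0 * la 1 * la 2 * mu 3 + mu 0 * la 1 * mu 2 * la 3 + mu 0 * mu 1 * la 2 * la 3) * X ^ 2 +
      C (-(la 0 * la 1 * la 2 * mu 3 + la 0 * la 1 * mu 2 * la 3 + la 0 * mu 1 * la 2 * la 3 +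
          mu 0 * la 1 * la 2 * la 3)) * X ^ 3 +
      C (la 0 * la 1 * la 2 * la 3) * X ^ 4 := by
  unfold rootPoly
  rw [Fin.prod_univ_four]
  simp only [map_add, map_mul, map_neg]
  ring

theorem coeff_quartic (a0 a1 a2 a3 a4 : R) :
    (C a0 + C a1 * X + C a2 * X ^ 2 + C a3 * X ^ 3 + C a4 * X ^ 4 : R[X]).coeff 0 = a0 ∧
    (C a0 + C a1 * X + C a2 * X ^ 2 + C a3 * X ^ 3 + C a4 * X ^ 4 : R[X]).coeff 1 = a1 ∧
    (C a0 + C a1 * X + C a2 * X ^ 2 + C a3 * X ^ 3 + C a4 * X ^ 4 : R[X]).coeff 2 = a2 ∧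
    (C a0 + C a1 * X + C a2 * X ^ 2 + C a3 * X ^ 3 + C a4 * X ^ 4 : R[X]).coeff 3 = a3 ∧
    (C a0 + C a1 * X + C a2 * X ^ 2 + C a3 * X ^ 3 + C a4 * X ^ 4 : R[X]).coeff 4 = a4 := by
  refine ⟨?_, ?_, ?_, ?_, ?_⟩ <;>
    simp [coeff_X, coeff_C, coeff_X_pow]

theorem coef_zero (la mu : Fin 4 → R) : coef la mu 0 = mu 0 * mu 1 * mu 2 * mu 3 := by
  unfold coef
  rw [rootPoly_eq]
  exact (coeff_quartic _ _ _ _ _).1

theorem coef_one (la mu : Fin 4 → R) : coef la mu 1 =
    -(la 0 * mu 1 * mu 2 * mu 3 + mu 0 * la 1 * mu 2 * mu 3 + mu 0 * mu 1 * la 2 * mu 3 +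
          mu 0 * mu 1 * mu 2 * la 3) := by
  unfold coef
  rw [rootPoly_eq]
  exact (coeff_quartic _ _ _ _ _).2.1

theorem coef_two (la mu : Fin 4 → R) : coef la mu 2 =
    la 0 * la 1 * mu 2 * mu 3 + la 0 * mu 1 * la 2 * mu 3 + la 0 * mu 1 * mu 2 * la 3 +
          mu 0 * la 1 * la 2 * mu 3 + mu 0 * la 1 * mu 2 * la 3 + mu 0 * mu 1 * la 2 * la 3 := by
  unfold coef
  rw [rootPoly_eq]
  exact (coeff_quartic _ _ _ _ _).2.2.1

theorem coef_three (la mu : Fin 4 → R) : coef la mu 3 =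
    -(la 0 * la 1 * la 2 * mu 3 + la 0 * la 1 * mu 2 * la 3 + la 0 * mu 1 * la 2 * la 3 +
          mu 0 * la 1 * la 2 * la 3) := by
  unfold coef
  rw [rootPoly_eq]
  exact (coeff_quartic _ _ _ _ _).2.2.2.1

theorem coef_four (la mu : Fin 4 → R) : coef la mu 4 = la 0 * la 1 * la 2 * la 3 := by
  unfold coef
  rw [rootPoly_eq]
  exact (coeff_quartic _ _ _ _ _).2.2.2.2

theorem invI_eq (la mu : Fin 4 → R) :
    invI (coef la mu) = qA la mu ^ 2 + qA la mu * qB la mu + qB la mu ^ 2 := by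
  unfold invI
  rw [coef_zero, coef_one, coef_two, coef_three, coef_four]
  simp only [qA, qB, dd]
  ring

theorem invJ_eq (la mu : Fin 4 → R) :
    invJ (coef la mu) =
      -((qA la mu - qB la mu) * (qA la mu + 2 * qB la mu) * (2 * qA la mu + qB la mu)) := by
  unfold invJ
  rw [coef_zero, coef_one, coef_two, coef_three, coef_four]
  simp only [qA, qB, dd]
  ring

theorem disc_eq (la mu : Fin 4 → R) :
    disc la mu = (qA la mu * qB la mu * (qA la mu + qB la mu)) ^ 2 := by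
  have hC : qA la mu + qB la mu = -qC la mu := by
    linear_combination qA_add_qB_add_qC la mu
  rw [hC]
  unfold disc
  have hset : (Finset.univ.filter (fun p : Fin 4 × Fin 4 => p.1 < p.2)) =
      {((0 : Fin 4), (1 : Fin 4)), (0, 2), (0, 3), (1, 2), (1, 3), (2, 3)} := by
    decide
  rw [hset]
  simp only [qA, qB, qC, dd]
  rw [Finset.prod_insert (by decide), Finset.prod_insert (by decide), Finset.prod_insert (by decide),
    Finset.prod_insert (by decide), Finset.prod_insert (by decide), Finset.prod_singleton]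
  ring

end Groth.Agent.Lib.Helper97
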