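import Mathlib

/-!
# Finitely generated rational cones in `ℝ^N`: conic Carathéodory and closedness (helper97; for S19372)
-/

set_option autoImplicit false
set_option linter.unusedSectionVars false
set_option linter.style.haveILetI false
set_option linter.unusedSimpArgs false

namespace Groth.Agent.Lib.Helper97.RFanLib

variable {N : ℕ}

/-- The real vector of an integer vector. -/
def rv (g : Fin N → ℤ) : Fin N → ℝ := fun j => (g j : ℝ)

/-- The cone of nonnegative real combinations of a finite set of integer vectors. -/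
def coneOf (G : Finset (Fin N → ℤ)) : Set (Fin N → ℝ) :=
  {x | ∃ c : (Fin N → ℤ) → ℝ, (∀ g, 0 ≤ c g) ∧ x = Finset.sum G fun g => c g • fun j => (g j : ℝ)}

lemma mem_coneOf_iff (G : Finset (Fin N → ℤ)) (x : Fin N → ℝ) :
    x ∈ coneOf G ↔ ∃ c : (Fin N → ℤ) → ℝ, (∀ g, 0 ≤ c g) ∧ x = ∑ g ∈ G, c g • rv g := Iff.rfl

lemma coneOf_mono {T G : Finset (Fin N → ℤ)} (h : T ⊆ G) : coneOf T ⊆ coneOf G := by
  classical
  rintro x ⟨c, hc, rfl⟩
  refine ⟨fun g => if g ∈ T then c g else 0, fun g => by by_cases h : g ∈ T <;> simp [h, hc g], ?_⟩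
  rw [← Finset.sum_subset h]
  · refine Finset.sum_congr rfl fun g hg => ?_
    simp [hg]
  · intro g _ hgT
    simp [hgT]

lemma coneOf_smul (G : Finset (Fin N → ℤ)) {x : Fin N → ℝ} (hx : x ∈ coneOf G) {t : ℝ}
    (ht : 0 ≤ t) : t • x ∈ coneOf G := by
  obtain ⟨c, hc, rfl⟩ := hx
  refine ⟨fun g => t * c g, fun g => mul_nonneg ht (hc g), ?_⟩
  rw [Finset.smul_sum]
  refine Finset.sum_congr rfl fun g _ => ?_
  rw [smul_smul]

/-- **Conic Carathéodory.** -/
theorem caratheodory (G : Finset (Fin N → ℤ)) (x : Fin N → ℝ) (hx : x ∈ coneOf G) :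
    ∃ T ⊆ G, LinearIndepOn ℝ rv (T : Set (Fin N → ℤ)) ∧
      ∃ c : (Fin N → ℤ) → ℝ, (∀ g ∈ T, 0 < c g) ∧ x = ∑ g ∈ T, c g • rv g := by
  classical
  induction G using Finset.strongInduction with
  | H G ih =>
    obtain ⟨c, hc, hx'⟩ := hx
    by_cases hzero : ∃ g₀ ∈ G, c g₀ = 0
    · obtain ⟨g₀, hg₀, hcg₀⟩ := hzero
      have hmem : x ∈ coneOf (G.erase g₀) := by
        refine ⟨c, hc, ?_⟩
        rw [hx', ← Finset.add_sum_erase G _ hg₀, hcg₀, zero_smul, zero_add]
      obtain ⟨T, hT, hli, c', hc', hx''⟩ := ih (G.erase g₀) (Finset.erase_ssubset hg₀) hmem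
      exact ⟨T, hT.trans (Finset.erase_subset _ _), hli, c', hc', hx''⟩
    · push Not at hzero
      have hpos : ∀ g ∈ G, 0 < c g := fun g hg => lt_of_le_of_ne (hc g) (Ne.symm (hzero g hg))
      by_cases hli : LinearIndepOn ℝ rv (G : Set (Fin N → ℤ))
      · exact ⟨G, Finset.Subset.refl _, hli, c, hpos, hx'⟩
      · rw [linearIndepOn_finset_iff] at hli
        push Not at hli
        obtain ⟨lam, hlam0, g₁, hg₁, hg₁ne⟩ := hli
        -- WLOG some coefficient is positive
        obtain ⟨lam, hlam0, g₁, hg₁, hg₁pos⟩ : ∃ lam : (Fin N → ℤ) → ℝ,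
            ∑ g ∈ G, lam g • rv g = 0 ∧ ∃ g₁ ∈ G, 0 < lam g₁ := by
          rcases lt_or_gt_of_ne hg₁ne with hneg | hpos'
          · refine ⟨fun g => -lam g, ?_, g₁, hg₁, by simpa using hneg⟩
            simp only [neg_smul, Finset.sum_neg_distrib, hlam0, neg_zero]
          · exact ⟨lam, hlam0, g₁, hg₁, hpos'⟩
        -- minimise the ratio
        have hne : (G.filter fun g => 0 < lam g).Nonempty :=
          ⟨g₁, Finset.mem_filter.mpr ⟨hg₁, hg₁pos⟩⟩
        obtain ⟨g₂, hg₂, hmin⟩ := Finset.exists_min_image _ (fun g => c g / lam g) hne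
        obtain ⟨hg₂G, hg₂pos⟩ := Finset.mem_filter.mp hg₂
        set t := c g₂ / lam g₂ with ht
        have ht0 : 0 < t := div_pos (hpos g₂ hg₂G) hg₂pos
        have hc'nn : ∀ g ∈ G, 0 ≤ c g - t * lam g := by
          intro g hg
          by_cases hl : 0 < lam g
          · have := hmin g (Finset.mem_filter.mpr ⟨hg, hl⟩)
            have h2 : t * lam g ≤ c g := by
              rw [← le_div_iff₀ hl]; exact this
            linarith
          · have h2 : t * lam g ≤ 0 := mul_nonpos_of_nonneg_of_nonpos ht0.le (not_lt.mp hl)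
            have := (hpos g hg).le
            linarith
        have hmem : x ∈ coneOf (G.erase g₂) := by
          refine ⟨fun g => if g ∈ G then c g - t * lam g else 0, fun g => ?_, ?_⟩
          · by_cases hg : g ∈ G
            · simp only [hg, if_true]; exact hc'nn g hg
            · simp [hg]
          · have hz : c g₂ - t * lam g₂ = 0 := by
              rw [ht, div_mul_cancel₀ _ hg₂pos.ne', sub_self]
            have hsum : x = ∑ g ∈ G, (c g - t * lam g) • rv g := by
              simp only [sub_smul, Finset.sum_sub_distrib, mul_smul]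
              rw [← Finset.smul_sum, hlam0, smul_zero, sub_zero]
              exact hx'
            rw [hsum, ← Finset.add_sum_erase G _ hg₂G, hz, zero_smul, zero_add]
            refine Finset.sum_congr rfl fun g hg => ?_
            have hgG : g ∈ G := Finset.mem_of_mem_erase hg
            simp only [hgG, if_true]
            rfl
        obtain ⟨T, hT, hli', c', hc', hx''⟩ := ih (G.erase g₂) (Finset.erase_ssubset hg₂G) hmem
        exact ⟨T, hT.trans (Finset.erase_subset _ _), hli', c', hc', hx''⟩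

/-- A simplicial cone is closed. -/
lemma isClosed_coneOf_of_li (T : Finset (Fin N → ℤ))
    (hli : LinearIndepOn ℝ rv (T : Set (Fin N → ℤ))) : IsClosed (coneOf T) := by
  classical
  have hli' : LinearIndependent ℝ (fun g : T => rv g.1) := hli
  let L : (T → ℝ) →ₗ[ℝ] (Fin N → ℝ) := Fintype.linearCombination ℝ (fun g : T => rv g.1)
  have hLinj : Function.Injective L :=
    linearIndependent_iff_injective_fintypeLinearCombination.mp hli'
  have hemb : Topology.IsClosedEmbedding L :=
    LinearMap.isClosedEmbedding_of_injective (LinearMap.ker_eq_bot.mpr hLinj)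
  have hclosed : IsClosed {c : T → ℝ | ∀ g, 0 ≤ c g} := by
    have : {c : T → ℝ | ∀ g, 0 ≤ c g} = ⋂ g, {c | 0 ≤ c g} := by
      ext c; simp
    rw [this]
    exact isClosed_iInter fun g => isClosed_le continuous_const (continuous_apply g)
  have himg := hemb.isClosedMap _ hclosed
  convert himg using 1
  ext x
  simp only [Set.mem_image, Set.mem_setOf_eq]
  constructor
  · rintro ⟨c, hc, rfl⟩
    refine ⟨fun g => c g.1, fun g => hc g.1, ?_⟩
    have h1 : L (fun g => c g.1) = ∑ g : T, c g.1 • rv g.1 := rfl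
    rw [h1]
    exact Finset.sum_coe_sort T (fun g => c g • rv g)
  · rintro ⟨c, hc, rfl⟩
    refine ⟨fun g => if h : g ∈ T then c ⟨g, h⟩ else 0, fun g => ?_, ?_⟩
    · by_cases h : g ∈ T
      · simp only [h, dif_pos]; exact hc _
      · simp [h]
    · have h1 : L c = ∑ g : T, c g • rv g.1 := rfl
      have h2 : ∑ g ∈ T, (if h : g ∈ T then c ⟨g, h⟩ else 0) • rv g =
          ∑ g : T, (if h : g.1 ∈ T then c ⟨g.1, h⟩ else 0) • rv g.1 :=
        (Finset.sum_coe_sort T (fun g => (if h : g ∈ T then c ⟨g, h⟩ else 0) • rv g)).symm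
      change L c = ∑ g ∈ T, (if h : g ∈ T then c ⟨g, h⟩ else 0) • rv g
      rw [h1, h2]
      refine Finset.sum_congr rfl fun g _ => ?_
      have hg : g.1 ∈ T := g.2
      simp only [hg, dif_pos]

/-- A finitely generated rational cone is closed. -/
theorem isClosed_coneOf (G : Finset (Fin N → ℤ)) : IsClosed (coneOf G) := by
  classical
  have : coneOf G = ⋃ T ∈ G.powerset.filter
      (fun T : Finset (Fin N → ℤ) => LinearIndepOn ℝ rv (T : Set (Fin N → ℤ))), coneOf T := by
    apply Set.eq_of_subset_of_subset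
    · intro x hx
      obtain ⟨T, hT, hli, c, hc, hx'⟩ := caratheodory G x hx
      simp only [Set.mem_iUnion, exists_prop]
      refine ⟨T, Finset.mem_filter.mpr ⟨Finset.mem_powerset.mpr hT, hli⟩, ?_⟩
      refine ⟨fun g => if g ∈ T then c g else 0, fun g => ?_, ?_⟩
      · by_cases h : g ∈ T
        · simp only [h, if_true]; exact (hc g h).le
        · simp [h]
      · rw [hx']
        refine Finset.sum_congr rfl fun g hg => ?_
        simp only [hg, if_true]
        rfl
    · intro x hx
      simp only [Set.mem_iUnion, exists_prop] at hx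
      obtain ⟨T, hT, hx⟩ := hx
      exact coneOf_mono (Finset.mem_powerset.mp (Finset.mem_filter.mp hT).1) hx
  rw [this]
  exact (Finset.finite_toSet _).isClosed_biUnion fun T hT =>
    isClosed_coneOf_of_li T (Finset.mem_filter.mp hT).2

end Groth.Agent.Lib.Helper97.RFanLib
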