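import Mathlib
import Groth.Prelude.Def_W4c6instabfans3Fan
import Groth.Prelude.Def_W4c6instabfans3FanCvx
import Groth.Agent.Lib.Helper97.FanLib8
import Groth.Agent.Lib.Helper97.RFanLib1

/-!
# The formal fan `R(K)` of a family of rational cones: realization as rays (helper97; S19372), part A
-/

set_option autoImplicit false
set_option linter.unusedSectionVars false
set_option linter.style.haveILetI false
set_option linter.unusedSimpArgs false

namespace Groth.Agent.Lib.Helper97.RFanLib

open CategoryTheory Opposite Instab Instab.Fan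
open Groth.Agent.Lib.Helper97.FanLib

variable {N : ℕ}

section Lin

variable {k : ℕ}

lemma realMapL_int (f : (Fin k → ℤ) →ₗ[ℤ] (Fin N → ℤ)) (w : Fin k → ℤ) :
    realMapL f (fun i => (w i : ℝ)) = rv (f w) := by
  funext j
  simp only [realMapL, rv]
  rw [lin_apply_eq_sum f w j]
  push_cast
  refine Finset.sum_congr rfl fun i _ => ?_
  ring

lemma continuous_realMapL (f : (Fin k → ℤ) →ₗ[ℤ] (Fin N → ℤ)) : Continuous (realMapL f) := by
  unfold realMapL
  exact continuous_pi fun j => continuous_finset_sum _ fun i _ =>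
    continuous_const.mul (continuous_apply i)

lemma realMapL_ne_zero (f : (Fin k → ℤ) →ₗ[ℤ] (Fin N → ℤ)) (hf : Function.Injective f)
    (v : Fin k → ℝ) (hv : ∀ i, 0 ≤ v i) (hv0 : v ≠ 0) : realMapL f v ≠ 0 := by
  obtain ⟨m, a, z, hz, hY, hind, hsp⟩ := RatCone.exists_nat_matrix v hv
  intro h0
  apply hv0
  have hvz : v = realMapL (matLin a) z := by
    funext i
    rw [realMapL_matLin]
    exact hY i
  have h1 : realMapL (f.comp (matLin a)) z = 0 := by
    rw [realMapL_comp, ← hvz, h0]
  have h2 : ∀ (l : Fin m) (j : Fin N), (f.comp (matLin a)) (Pi.single l 1) j = 0 := by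
    intro l j
    have h := congr_fun h1 j
    exact congr_fun (hind (fun l => (f.comp (matLin a)) (Pi.single l 1) j) h) l
  have h3 : ∀ l : Fin m, matLin a (Pi.single l 1) = 0 := by
    intro l
    apply hf
    rw [map_zero]
    funext j
    exact h2 l j
  funext i
  rw [hY i]
  refine Finset.sum_eq_zero fun l _ => ?_
  have := congr_fun (h3 l) i
  rw [matLin_single, Pi.zero_apply] at this
  have h4 : a i l = 0 := by exact_mod_cast this
  simp [h4]

end Lin

/-- Common refinement for two injective integer maps into a lattice. -/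
theorem exists_common_refinement' {k k' : ICone} (φ : (Fin k.dim → ℤ) →ₗ[ℤ] (Fin N → ℤ))
    (ψ : (Fin k'.dim → ℤ) →ₗ[ℤ] (Fin N → ℤ)) (hφ : Function.Injective φ)
    (hψ : Function.Injective ψ) (y : Orth k) (y' : Orth k')
    (h : realMapL φ y.1 = realMapL ψ y'.1) :
    ∃ (M : ICone) (α : M ⟶ k) (β : M ⟶ k') (z : Orth M),
      φ.comp α.toLin = ψ.comp β.toLin ∧ α.realMap z.1 = y.1 ∧ β.realMap z.1 = y'.1 := by
  obtain ⟨m, a, z, hz, hY, hind, hsp⟩ :=
    RatCone.exists_nat_matrix (Sum.elim y.1 y'.1) (by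
      rintro (i | i)
      · exact y.2.1 i
      · exact y'.2.1 i)
  have hm : m ≠ 0 := by
    rintro rfl
    apply y.2.2
    funext i
    have := hY (Sum.inl i)
    simpa using this
  let αL : (Fin m → ℤ) →ₗ[ℤ] (Fin k.dim → ℤ) := matLin fun i l => a (Sum.inl i) l
  let βL : (Fin m → ℤ) →ₗ[ℤ] (Fin k'.dim → ℤ) := matLin fun i l => a (Sum.inr i) l
  have hαz : realMapL αL z = y.1 := by
    funext i
    rw [realMapL_matLin]
    exact (hY (Sum.inl i)).symm
  have hβz : realMapL βL z = y'.1 := by
    funext i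
    rw [realMapL_matLin]
    exact (hY (Sum.inr i)).symm
  have hcompat : φ.comp αL = ψ.comp βL := by
    have key : ∀ (j : Fin N) (l : Fin m),
        (φ.comp αL) (Pi.single l 1) j = (ψ.comp βL) (Pi.single l 1) j := by
      intro j
      have h0 := hind (fun l => (φ.comp αL) (Pi.single l 1) j -
        (ψ.comp βL) (Pi.single l 1) j) ?_
      · intro l
        have := congr_fun h0 l
        simpa [sub_eq_zero] using this
      · have h1 : realMapL (φ.comp αL) z j = realMapL (ψ.comp βL) z j := by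
          rw [realMapL_comp, realMapL_comp, hαz, hβz]
          exact congr_fun h j
        simp only [realMapL] at h1
        push_cast
        simp only [sub_mul, Finset.sum_sub_distrib]
        rw [sub_eq_zero]
        exact h1
    apply LinearMap.ext
    intro w
    funext j
    rw [lin_apply_eq_sum (φ.comp αL) w j, lin_apply_eq_sum (ψ.comp βL) w j]
    refine Finset.sum_congr rfl fun l _ => ?_
    rw [key j l]
  have hker : ∀ w : Fin m → ℤ, αL w = 0 → βL w = 0 → w = 0 := by
    intro w hα hβ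
    apply hsp
    rintro (i | i)
    · exact congr_fun hα i
    · exact congr_fun hβ i
  have hαinj : Function.Injective αL := by
    rw [injective_iff_map_eq_zero]
    intro w hw
    apply hker w hw
    apply hψ
    rw [map_zero]
    have := LinearMap.congr_fun hcompat w
    simp only [LinearMap.comp_apply] at this
    rw [← this, hw, map_zero]
  have hβinj : Function.Injective βL := by
    rw [injective_iff_map_eq_zero]
    intro w hw
    refine hker w ?_ hw
    apply hφ
    rw [map_zero]
    have := LinearMap.congr_fun hcompat w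
    simp only [LinearMap.comp_apply] at this
    rw [this, hw, map_zero]
  let M : ICone := ⟨⟨m, Nat.pos_of_ne_zero hm⟩⟩
  let α : M ⟶ k := ⟨αL, hαinj, fun w hw i => matLin_nonneg _ w hw i⟩
  let β : M ⟶ k' := ⟨βL, hβinj, fun w hw i => matLin_nonneg _ w hw i⟩
  have hz0 : z ≠ 0 := by
    intro h0
    have := hz ⟨0, Nat.pos_of_ne_zero hm⟩
    rw [h0] at this
    simp at this
  exact ⟨M, α, β, ⟨z, fun l => (hz l).le, hz0⟩, hcompat, hαz, hβz⟩

section Rays

/-- The relation defining rays. -/
def rayRel (N : ℕ) (v w : {v : Fin N → ℝ // v ≠ 0}) : Prop := ∃ c : ℝ, 0 < c ∧ w.1 = c • v.1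

/-- The ray of a nonzero vector. -/
def raysMk (w : {v : Fin N → ℝ // v ≠ 0}) : Fan.Rays N := Quot.mk _ w

lemma rayRel_equivalence : Equivalence (rayRel N) where
  refl v := ⟨1, one_pos, (one_smul _ _).symm⟩
  symm := by
    rintro v w ⟨c, hc, h⟩
    exact ⟨c⁻¹, inv_pos.mpr hc, by rw [h, smul_smul, inv_mul_cancel₀ hc.ne', one_smul]⟩
  trans := by
    rintro u v w ⟨c, hc, h⟩ ⟨c', hc', h'⟩
    exact ⟨c' * c, mul_pos hc' hc, by rw [h', h, smul_smul]⟩

lemma raysMk_eq_iff (v w : {v : Fin N → ℝ // v ≠ 0}) :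
    raysMk v = raysMk w ↔ ∃ c : ℝ, 0 < c ∧ w.1 = c • v.1 := by
  constructor
  · intro h
    have h' : Relation.EqvGen (rayRel N) v w := Quot.eq.mp h
    exact (rayRel_equivalence.eqvGen_iff).mp h'
  · intro h
    exact Quot.sound h

lemma isClosed_rays_iff (S : Set (Fan.Rays N)) :
    IsClosed S ↔ IsClosed (raysMk ⁻¹' S) :=
  (show Topology.IsQuotientMap (raysMk (N := N)) from isQuotientMap_quot_mk).isClosed_preimage.symm

lemma continuous_raysMk : Continuous (raysMk (N := N)) := continuous_quot_mk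

end Rays

section GMap

variable {ι : Type} (K : ι → Set (Fin N → ℝ))

lemma rfan_map_val {k n : ICone} (φ : k ⟶ n) (ξ : (RFan K).obj (op n)) :
    ((RFan K).map φ.op ξ).1 = ξ.1.comp φ.toLin := rfl

/-- The ray map on the disjoint union of orthants. -/
noncomputable def gPt (p : Fan.Pt (RFan K)) : Fan.Rays N :=
  raysMk ⟨realMapL p.1.2.1 p.2.1, realMapL_ne_zero _ p.1.2.2.1 _ p.2.2.1 p.2.2.2⟩

/-- The ray map `P (R(K)) → Rays N`. -/
noncomputable def gMap : Fan.P (RFan K) → Fan.Rays N :=
  Quot.lift (gPt K) (by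
    rintro _ _ ⟨φ, ξ, v, w, c, hc, h⟩
    apply Quot.sound
    refine ⟨c, hc, ?_⟩
    change realMapL ξ.1 w.1 = c • realMapL (ξ.1.comp φ.toLin) v.1
    rw [h, realMapL_smul, realMapL_comp]
    rfl)

lemma gMap_mk {n : ICone} (φ : (RFan K).obj (op n)) (v : Orth n) :
    gMap K (Fan.P.mk φ v) =
      raysMk ⟨realMapL φ.1 v.1, realMapL_ne_zero _ φ.2.1 _ v.2.1 v.2.2⟩ := rfl

lemma continuous_gMap : Continuous (gMap K) := by
  apply continuous_quot_lift
  refine continuous_sigma fun e => ?_
  refine continuous_raysMk.comp ?_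
  exact ((continuous_realMapL e.2.1).comp (orth_isEmbedding e.1).continuous).subtype_mk _

lemma gMap_injective : Function.Injective (gMap K) := by
  intro x x' hxx'
  obtain ⟨n, φ, v, rfl⟩ := P_exists_rep x
  obtain ⟨n', φ', v', rfl⟩ := P_exists_rep x'
  rw [gMap_mk, gMap_mk, raysMk_eq_iff] at hxx'
  obtain ⟨c, hc, hcv⟩ := hxx'
  change realMapL φ'.1 v'.1 = c • realMapL φ.1 v.1 at hcv
  have hyne : c • v.1 ≠ 0 := smul_ne_zero hc.ne' v.2.2
  let y : Orth n := ⟨c • v.1, fun i => by
    simp only [Pi.smul_apply, smul_eq_mul]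
    exact mul_nonneg hc.le (v.2.1 i), hyne⟩
  have hy : realMapL φ.1 y.1 = realMapL φ'.1 v'.1 := by
    rw [hcv]
    exact realMapL_smul _ _ _
  obtain ⟨M, α, β, z, hcompat, hα, hβ⟩ :=
    exists_common_refinement' φ.1 φ'.1 φ.2.1 φ'.2.1 y v' hy
  have e : (RFan K).map α.op φ = (RFan K).map β.op φ' := Subtype.ext hcompat
  have h1 : v.1 = c⁻¹ • α.realMap z.1 := by
    rw [hα]
    change v.1 = c⁻¹ • (c • v.1)
    rw [smul_smul, inv_mul_cancel₀ hc.ne', one_smul]
  have h2 : v'.1 = (1 : ℝ) • β.realMap z.1 := by rw [hβ, one_smul]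
  rw [← mk_map_eq α φ z v c⁻¹ (inv_pos.mpr hc) h1, ← mk_map_eq β φ' z v' 1 one_pos h2, e]

end GMap

end Groth.Agent.Lib.Helper97.RFanLib
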