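import Mathlib
import Groth.Prelude.Def_W4c6instabfans3Fan
import Groth.Prelude.Def_W4c6instabfans3FanCvx
import Groth.Agent.Lib.Helper97.RFanLib2

/-!
# The formal fan `R(K)` of a family of rational cones: realization as rays (helper97; S19372), part B
-/

set_option autoImplicit false
set_option linter.unusedSectionVars false
set_option linter.style.haveILetI false
set_option linter.unusedSimpArgs false

namespace Groth.Agent.Lib.Helper97.RFanLib

open CategoryTheory Opposite Instab Instab.Fan
open Groth.Agent.Lib.Helper97.FanLib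

variable {N : ℕ}

section Simp

/-- The integer linear map `e_i ↦ g_i` of a finite set of integer vectors. -/
noncomputable def simpLin (T : Finset (Fin N → ℤ)) : (Fin T.card → ℤ) →ₗ[ℤ] (Fin N → ℤ) :=
  Fintype.linearCombination ℤ (fun i : Fin T.card => (T.equivFin.symm i).1)

lemma simpLin_single (T : Finset (Fin N → ℤ)) (i : Fin T.card) :
    simpLin T (Pi.single i 1) = (T.equivFin.symm i).1 := by
  classical
  rw [simpLin, Fintype.linearCombination_apply_single, one_smul]

lemma realMapL_simpLin (T : Finset (Fin N → ℤ)) (u : Fin T.card → ℝ) :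
    realMapL (simpLin T) u = ∑ i, u i • rv (T.equivFin.symm i).1 := by
  funext j
  simp only [realMapL, simpLin_single, Finset.sum_apply, Pi.smul_apply, smul_eq_mul, rv]
  exact Finset.sum_congr rfl fun i _ => mul_comm _ _

lemma sum_equivFin (T : Finset (Fin N → ℤ)) (f : (Fin N → ℤ) → (Fin N → ℝ)) :
    ∑ i : Fin T.card, f (T.equivFin.symm i).1 = ∑ g ∈ T, f g := by
  rw [← Finset.sum_coe_sort T f]
  exact Equiv.sum_comp T.equivFin.symm (fun g : T => f g.1)

lemma simpLin_injective (T : Finset (Fin N → ℤ))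
    (hli : LinearIndepOn ℝ rv (T : Set (Fin N → ℤ))) : Function.Injective (simpLin T) := by
  rw [injective_iff_map_eq_zero]
  intro w hw
  have hli' : LinearIndependent ℝ (fun g : T => rv g.1) := hli
  have hli'' : LinearIndependent ℝ (fun i : Fin T.card => rv (T.equivFin.symm i).1) :=
    hli'.comp _ T.equivFin.symm.injective
  rw [Fintype.linearIndependent_iff] at hli''
  have h1 : ∑ i, ((w i : ℤ) : ℝ) • rv (T.equivFin.symm i).1 = 0 := by
    have := realMapL_int (simpLin T) w
    rw [hw, realMapL_simpLin] at this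
    rw [this]
    funext j
    simp [rv]
  funext i
  have := hli'' _ h1 i
  exact_mod_cast this

lemma realMapL_simpLin_mem (T : Finset (Fin N → ℤ)) (u : Fin T.card → ℝ) (hu : ∀ i, 0 ≤ u i) :
    realMapL (simpLin T) u ∈ coneOf T := by
  classical
  refine ⟨fun g => if h : g ∈ T then u (T.equivFin ⟨g, h⟩) else 0, fun g => ?_, ?_⟩
  · by_cases h : g ∈ T
    · simp only [h, dif_pos]; exact hu _
    · simp [h]
  · rw [realMapL_simpLin]
    change _ = ∑ g ∈ T, (if h : g ∈ T then u (T.equivFin ⟨g, h⟩) else 0) • rv g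
    rw [← sum_equivFin T (fun g => (if h : g ∈ T then u (T.equivFin ⟨g, h⟩) else 0) • rv g)]
    refine Finset.sum_congr rfl fun i _ => ?_
    have hi : (T.equivFin.symm i).1 ∈ T := (T.equivFin.symm i).2
    simp only [hi, dif_pos, Subtype.coe_eta, Equiv.apply_symm_apply]

lemma eq_realMapL_simpLin (T : Finset (Fin N → ℤ)) (c : (Fin N → ℤ) → ℝ) :
    ∑ g ∈ T, c g • rv g = realMapL (simpLin T) (fun i => c (T.equivFin.symm i).1) := by
  rw [realMapL_simpLin]
  exact (sum_equivFin T (fun g => c g • rv g)).symm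

end Simp

section Par

/-- Positive proportionality of nonzero vectors as a closed condition. -/
lemma par_iff' {n : ℕ} (a u : Fin n → ℝ) (ha0 : a ≠ 0) (hu0 : u ≠ 0) :
    (Par a u ∧ 0 ≤ ∑ j, a j * u j) ↔ ∃ c : ℝ, 0 < c ∧ a = c • u := by
  constructor
  · rintro ⟨h, hpos⟩
    obtain ⟨j, hj⟩ := Function.ne_iff.mp hu0
    have hj' : u j ≠ 0 := hj
    have hc : a = (a j / u j) • u := by
      funext i
      simp only [Pi.smul_apply, smul_eq_mul]
      have := h i j
      field_simp
      linarith
    have hc0 : a j / u j ≠ 0 := by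
      intro h0
      apply ha0
      rw [hc, h0, zero_smul]
    have hsq : 0 < ∑ i, u i * u i := by
      have h1 : 0 < u j * u j := mul_self_pos.mpr hj'
      exact lt_of_lt_of_le h1 (Finset.single_le_sum (f := fun i => u i * u i)
        (fun i _ => mul_self_nonneg (u i)) (Finset.mem_univ j))
    have hsum : ∑ i, a i * u i = (a j / u j) * ∑ i, u i * u i := by
      rw [Finset.mul_sum]
      refine Finset.sum_congr rfl fun i _ => ?_
      have := congr_fun hc i
      simp only [Pi.smul_apply, smul_eq_mul] at this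
      rw [this]
      ring
    rw [hsum] at hpos
    have hcnn : 0 ≤ a j / u j := by
      by_contra hneg
      rw [not_le] at hneg
      have := mul_neg_of_neg_of_pos hneg hsq
      linarith
    exact ⟨_, lt_of_le_of_ne hcnn (Ne.symm hc0), hc⟩
  · rintro ⟨c, hc, rfl⟩
    refine ⟨fun i j => ?_, ?_⟩
    · simp only [Pi.smul_apply, smul_eq_mul]; ring
    · refine Finset.sum_nonneg fun j _ => ?_
      simp only [Pi.smul_apply, smul_eq_mul]
      have : c * u j * u j = c * (u j * u j) := by ring
      rw [this]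
      exact mul_nonneg hc.le (mul_self_nonneg _)

/-- The cone in `ℝ^N ∖ 0` over the image of a closed scale-invariant set is closed. -/
lemma isClosed_cone_image' {m : ICone} (f : (Fin m.dim → ℤ) →ₗ[ℤ] (Fin N → ℤ))
    (hf : Function.Injective f) (C : Set (Orth m)) (hC : IsClosed C)
    (hscale : ∀ v ∈ C, ∀ (c : ℝ) (w : Orth m), 0 < c → w.1 = c • v.1 → w ∈ C) :
    IsClosed {w : {w : Fin N → ℝ // w ≠ 0} | ∃ y ∈ C, ∃ c : ℝ, 0 < c ∧
      w.1 = c • realMapL f y.1} := by
  let T : Set ((Fin N → ℝ) × stdSimplex ℝ (Fin m.dim)) :=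
    ({p | simplexToOrth m p.2 ∈ C} ∩ {p | Par p.1 (realMapL f p.2.1)}) ∩
      {p | 0 ≤ ∑ j, p.1 j * realMapL f p.2.1 j}
  have hcont : Continuous (fun p : (Fin N → ℝ) × stdSimplex ℝ (Fin m.dim) =>
      realMapL f p.2.1) :=
    (continuous_realMapL f).comp (continuous_subtype_val.comp continuous_snd)
  have hT : IsClosed T := by
    refine IsClosed.inter (IsClosed.inter ?_ ?_) ?_
    · exact hC.preimage ((continuous_simplexToOrth m).comp continuous_snd)
    · exact isClosed_par _ _ continuous_fst hcont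
    · refine isClosed_le continuous_const (continuous_finset_sum _ fun j _ => ?_)
      exact ((continuous_apply j).comp continuous_fst).mul ((continuous_apply j).comp hcont)
  have hQ : IsClosed (Prod.fst '' T) := isClosedMap_fst_of_compactSpace _ hT
  convert hQ.preimage (continuous_subtype_val (p := fun w : Fin N → ℝ => w ≠ 0)) using 1
  ext w
  simp only [Set.mem_setOf_eq, Set.mem_preimage, Set.mem_image]
  constructor
  · rintro ⟨y, hy, c, hc, hw⟩
    have hSpos := sum_pos_of_orth y
    refine ⟨(w.1, ⟨_, normalize_mem y⟩), ⟨⟨?_, ?_⟩, ?_⟩, rfl⟩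
    · exact hscale y hy (∑ i, y.1 i)⁻¹ _ (inv_pos.mpr hSpos) rfl
    · change Par w.1 (realMapL f ((∑ i, y.1 i)⁻¹ • y.1))
      rw [realMapL_smul, hw]
      intro i j
      simp only [Pi.smul_apply, smul_eq_mul]; ring
    · change 0 ≤ ∑ j, w.1 j * realMapL f ((∑ i, y.1 i)⁻¹ • y.1) j
      rw [realMapL_smul, hw]
      refine Finset.sum_nonneg fun j _ => ?_
      simp only [Pi.smul_apply, smul_eq_mul]
      have : c * realMapL f y.1 j * ((∑ i, y.1 i)⁻¹ * realMapL f y.1 j) =
          (c * (∑ i, y.1 i)⁻¹) * (realMapL f y.1 j * realMapL f y.1 j) := by ring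
      rw [this]
      exact mul_nonneg (mul_nonneg hc.le (inv_nonneg.mpr hSpos.le)) (mul_self_nonneg _)
  · rintro ⟨⟨a, z⟩, ⟨⟨h1, h2⟩, h3⟩, heq⟩
    change a = w.1 at heq
    subst heq
    have hne : realMapL f (simplexToOrth m z).1 ≠ 0 :=
      realMapL_ne_zero f hf _ (simplexToOrth m z).2.1 (simplexToOrth m z).2.2
    obtain ⟨c, hc, hv⟩ := (par_iff' _ _ w.2 hne).mp ⟨h2, h3⟩
    exact ⟨simplexToOrth m z, h1, c, hc, hv⟩

end Par

end Groth.Agent.Lib.Helper97.RFanLib
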