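import Mathlib
import Groth.Prelude.Def_W4c6instabfans3Fan
import Groth.Prelude.Def_W4c6instabfans3FanCvx
import Groth.Agent.Lib.Helper97.RFanLib3

/-!
# The formal fan `R(K)` of a family of rational cones: realization as rays (helper97; S19372), part C
-/

set_option autoImplicit false
set_option linter.unusedSectionVars false
set_option linter.style.haveILetI false
set_option linter.unusedSimpArgs false

namespace Groth.Agent.Lib.Helper97.RFanLib

open CategoryTheory Opposite Instab Instab.Fan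
open Groth.Agent.Lib.Helper97.FanLib

variable {N : ℕ}

section MkCone

variable {ι : Type} (K : ι → Set (Fin N → ℝ))

lemma rv_simpLin_mem (T : Finset (Fin N → ℤ)) (w : Fin T.card → ℤ) (hw : ∀ i, 0 ≤ w i) :
    rv (simpLin T w) ∈ coneOf T := by
  rw [← realMapL_int]
  exact realMapL_simpLin_mem T _ (fun i => by exact_mod_cast hw i)

/-- The cone of `R(K)` attached to a linearly independent set of integer vectors. -/
noncomputable def mkCone (a : ι) (T : Finset (Fin N → ℤ)) (hT : coneOf T ⊆ K a)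
    (hli : LinearIndepOn ℝ rv (T : Set (Fin N → ℤ))) (hne : T.Nonempty) :
    Σ n : ICone, (RFan K).obj (op n) :=
  ⟨⟨⟨T.card, Finset.card_pos.mpr hne⟩⟩, ⟨simpLin T, simpLin_injective T hli, a,
    fun w hw => hT (rv_simpLin_mem T w hw)⟩⟩

end MkCone

section Main

variable {ι : Type} [Finite ι] (K : ι → Set (Fin N → ℝ))
  (m : ι → ℕ) (gen : ∀ a, Fin (m a) → Finset (Fin N → ℤ))
  (hgen : ∀ a, K a = ⋃ l, coneOf (gen a l))

include hgen

lemma isClosed_K (a : ι) : IsClosed (K a) := by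
  rw [hgen a]
  exact isClosed_iUnion_of_finite fun l => isClosed_coneOf _

lemma K_smul (a : ι) {x : Fin N → ℝ} (hx : x ∈ K a) {t : ℝ} (ht : 0 ≤ t) : t • x ∈ K a := by
  rw [hgen a] at hx ⊢
  obtain ⟨l, hl⟩ := Set.mem_iUnion.mp hx
  exact Set.mem_iUnion.mpr ⟨l, coneOf_smul _ hl ht⟩

lemma toVec_mem {n : ICone} (φ : (RFan K).obj (op n)) (v : Orth n) :
    ∃ a, realMapL φ.1 v.1 ∈ K a := by
  obtain ⟨a, ha⟩ := φ.2.2
  refine ⟨a, ?_⟩
  have hclosed : IsClosed {v : Orth n | realMapL φ.1 v.1 ∈ K a} :=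
    (isClosed_K K m gen hgen a).preimage
      ((continuous_realMapL φ.1).comp (orth_isEmbedding n).continuous)
  refine forall_mem_of_closed_of_integral _ hclosed ?_ ?_ v
  · intro v hv c w hc hw
    change realMapL φ.1 w.1 ∈ K a
    rw [hw, realMapL_smul]
    exact K_smul K m gen hgen a hv hc.le
  · intro Nn r hr
    change realMapL φ.1 r.1 ∈ K a
    have : r.1 = fun i => (((Nn i : ℕ) : ℤ) : ℝ) := by
      funext i
      rw [hr i]
      push_cast
      rfl
    rw [this, realMapL_int]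
    exact ha _ (fun i => Int.natCast_nonneg _)

lemma exists_cone_of_mem (a : ι) (w : Fin N → ℝ) (hw0 : w ≠ 0) (hw : w ∈ K a) :
    ∃ (l : Fin (m a)) (T : Finset (Fin N → ℤ)) (_ : T ⊆ gen a l)
      (_ : LinearIndepOn ℝ rv (T : Set (Fin N → ℤ))) (_ : T.Nonempty)
      (u : Fin T.card → ℝ), (∀ i, 0 < u i) ∧ realMapL (simpLin T) u = w := by
  rw [hgen a] at hw
  obtain ⟨l, hl⟩ := Set.mem_iUnion.mp hw
  obtain ⟨T, hT, hli, c, hc, hw'⟩ := caratheodory (gen a l) w hl
  have hne : T.Nonempty := by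
    rw [Finset.nonempty_iff_ne_empty]
    rintro rfl
    apply hw0
    rw [hw', Finset.sum_empty]
  refine ⟨l, T, hT, hli, hne, fun i => c (T.equivFin.symm i).1, fun i => hc _ (T.equivFin.symm i).2, ?_⟩
  rw [hw']
  exact (eq_realMapL_simpLin T c).symm

/-- Index type of the finite cover by simplicial cones. -/
abbrev JIdx : Type :=
  {j : (Σ a : ι, Σ l : Fin (m a), {T : Finset (Fin N → ℤ) // T ∈ (gen a l).powerset}) //
    LinearIndepOn ℝ rv (j.2.2.1 : Set (Fin N → ℤ)) ∧ j.2.2.1.Nonempty}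

/-- The cone attached to an index. -/
noncomputable def coneJ (j : JIdx m gen) : Σ n : ICone, (RFan K).obj (op n) :=
  mkCone K j.1.1 j.1.2.2.1
    ((coneOf_mono (Finset.mem_powerset.mp j.1.2.2.2)).trans (by
      rw [hgen j.1.1]
      exact Set.subset_iUnion (fun l => coneOf (gen j.1.1 l)) j.1.2.1))
    j.2.1 j.2.2

lemma exists_cell (x : Fan.P (RFan K)) :
    ∃ (j : JIdx m gen) (u : Orth (coneJ K m gen hgen j).1),
      Fan.P.mk (coneJ K m gen hgen j).2 u = x := by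
  obtain ⟨n, φ, v, rfl⟩ := P_exists_rep x
  obtain ⟨a, ha⟩ := toVec_mem K m gen hgen φ v
  have hne0 : realMapL φ.1 v.1 ≠ 0 := realMapL_ne_zero _ φ.2.1 _ v.2.1 v.2.2
  obtain ⟨l, T, hTsub, hli, hne, u, hu, huw⟩ :=
    exists_cone_of_mem K m gen hgen a _ hne0 ha
  let j : JIdx m gen := ⟨⟨a, l, ⟨T, Finset.mem_powerset.mpr hTsub⟩⟩, hli, hne⟩
  have hu0 : u ≠ 0 := by
    intro h0
    have := hu ⟨0, Finset.card_pos.mpr hne⟩
    rw [h0] at this
    simp at this
  let u' : Orth (coneJ K m gen hgen j).1 := ⟨u, fun i => (hu i).le, hu0⟩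
  refine ⟨j, u', ?_⟩
  apply gMap_injective K
  rw [gMap_mk, gMap_mk, raysMk_eq_iff]
  exact ⟨1, one_pos, by rw [one_smul]; exact huw.symm⟩

lemma isClosedMap_gMap : IsClosedMap (gMap K) := by
  intro C hC
  rw [isClosed_rays_iff]
  have hset : raysMk ⁻¹' (gMap K '' C) = ⋃ j : JIdx m gen,
      {w : {w : Fin N → ℝ // w ≠ 0} | ∃ y ∈ (Fan.P.mk (coneJ K m gen hgen j).2 ⁻¹' C),
        ∃ c : ℝ, 0 < c ∧ w.1 = c • realMapL (coneJ K m gen hgen j).2.1 y.1} := by
    ext w
    simp only [Set.mem_preimage, Set.mem_image, Set.mem_iUnion, Set.mem_setOf_eq]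
    constructor
    · rintro ⟨x, hxC, hx⟩
      obtain ⟨j, u, rfl⟩ := exists_cell K m gen hgen x
      rw [gMap_mk, raysMk_eq_iff] at hx
      exact ⟨j, u, hxC, hx⟩
    · rintro ⟨j, y, hy, c, hc, hw⟩
      refine ⟨_, hy, ?_⟩
      rw [gMap_mk, raysMk_eq_iff]
      exact ⟨c, hc, hw⟩
  rw [hset]
  haveI : Finite (JIdx m gen) := inferInstance
  refine isClosed_iUnion_of_finite fun j =>
    isClosed_cone_image' _ (coneJ K m gen hgen j).2.2.1 _ (hC.preimage (continuous_mk _)) ?_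
  intro v hv c w hc hw
  change Fan.P.mk _ w ∈ C
  rw [← mk_smul_eq _ v w c hc hw]
  exact hv

end Main

/-- **S19372.** -/
theorem rfan_main {ι : Type} [Finite ι] (K : ι → Set (Fin N → ℝ))
    (hK : ∀ a, ∃ (m : ℕ) (gen : Fin m → Finset (Fin N → ℤ)),
      K a = Set.iUnion fun l => {x | ∃ c : (Fin N → ℤ) → ℝ, (∀ g, 0 ≤ c g) ∧
        x = Finset.sum (gen l) fun g => c g • fun j => (g j : ℝ)}) :
    ∃ g : Fan.P (RFan K) → Fan.Rays N,
      (∀ (n : ICone) (φ : (RFan K).obj (op n)) (v : Fan.Orth n) (h : RFan.toVec K n φ v.1 ≠ 0),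
        g (Fan.P.mk φ v) = Quot.mk _ ⟨RFan.toVec K n φ v.1, h⟩) ∧
      Topology.IsEmbedding g ∧
      Set.range g = {r | ∃ w : {w : Fin N → ℝ // w ≠ 0}, r = Quot.mk _ w ∧ w.1 ∈ Set.iUnion K} := by
  choose m gen hgen using hK
  have hgen' : ∀ a, K a = ⋃ l, coneOf (gen a l) := hgen
  refine ⟨gMap K, fun n φ v h => rfl, ?_, ?_⟩
  · exact (Topology.IsClosedEmbedding.of_continuous_injective_isClosedMap (continuous_gMap K)
      (gMap_injective K) (isClosedMap_gMap K m gen hgen')).isEmbedding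
  · ext r
    constructor
    · rintro ⟨x, rfl⟩
      obtain ⟨n, φ, v, rfl⟩ := P_exists_rep x
      obtain ⟨a, ha⟩ := toVec_mem K m gen hgen' φ v
      exact ⟨⟨realMapL φ.1 v.1, realMapL_ne_zero _ φ.2.1 _ v.2.1 v.2.2⟩, rfl,
        Set.mem_iUnion.mpr ⟨a, ha⟩⟩
    · rintro ⟨w, rfl, hw⟩
      obtain ⟨a, ha⟩ := Set.mem_iUnion.mp hw
      obtain ⟨l, T, hTsub, hli, hne, u, hu, huw⟩ :=
        exists_cone_of_mem K m gen hgen' a w.1 w.2 ha
      have hu0 : u ≠ 0 := by
        intro h0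
        have := hu ⟨0, Finset.card_pos.mpr hne⟩
        rw [h0] at this
        simp at this
      have hTK : coneOf T ⊆ K a := (coneOf_mono hTsub).trans (by
        rw [hgen' a]
        exact Set.subset_iUnion (fun l => coneOf (gen a l)) l)
      let u' : Orth (mkCone K a T hTK hli hne).1 := ⟨u, fun i => (hu i).le, hu0⟩
      refine ⟨Fan.P.mk (mkCone K a T hTK hli hne).2 u', ?_⟩
      rw [gMap_mk]
      change raysMk _ = raysMk w
      rw [raysMk_eq_iff]
      exact ⟨1, one_pos, by rw [one_smul]; exact huw.symm⟩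

end Groth.Agent.Lib.Helper97.RFanLib
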