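import Mathlib

set_option autoImplicit false
set_option linter.unusedSectionVars false
set_option linter.unusedSimpArgs false
set_option linter.unusedVariables false

/-! Rational maximizers of `ℓ·y / √(y·By)` on the orthant (helper97). -/

namespace Groth.Agent.Lib.Helper97.RatMax

open Matrix

local notation "Mr(" M ")" => Matrix.map M (fun r : ℚ => (r : ℝ))
local notation "vr(" v ")" => (fun i => ((v i : ℚ) : ℝ))

/-- generalized inverse over a field -/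
theorem exists_ginv {K : Type*} [Field K] {n : ℕ} (T : Matrix (Fin n) (Fin n) K) :
    ∃ G : Matrix (Fin n) (Fin n) K, T * G * T = T := by
  obtain ⟨f, hf⟩ : ∃ f, f = Matrix.toLin' T := ⟨_, rfl⟩
  obtain ⟨s, hs⟩ := f.rangeRestrict.exists_rightInverse_of_surjective
    (LinearMap.range_rangeRestrict f)
  obtain ⟨π, hπ⟩ := (LinearMap.range f).subtype.exists_leftInverse_of_injective
    (Submodule.ker_subtype _)
  refine ⟨LinearMap.toMatrix' (s ∘ₗ π), ?_⟩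
  have key : f ∘ₗ (s ∘ₗ π) ∘ₗ f = f := by
    refine LinearMap.ext fun v => ?_
    have h1 : π (f v) = f.rangeRestrict v := LinearMap.congr_fun hπ (f.rangeRestrict v)
    have h2 : f.rangeRestrict (s (f.rangeRestrict v)) = f.rangeRestrict v :=
      LinearMap.congr_fun hs (f.rangeRestrict v)
    have h3 : f (s (f.rangeRestrict v)) = f v := congrArg Subtype.val h2
    simp only [LinearMap.comp_apply, h1, h3]
  have h2 := congrArg LinearMap.toMatrix' key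
  subst hf
  rw [LinearMap.toMatrix'_comp, LinearMap.toMatrix'_comp, LinearMap.toMatrix'_toLin'] at h2
  rw [Matrix.mul_assoc]; exact h2

theorem cast_mulVec {n : ℕ} (M : Matrix (Fin n) (Fin n) ℚ) (v : Fin n → ℚ) :
    vr(M *ᵥ v) = Mr(M) *ᵥ vr(v) := by
  funext i
  simp [mulVec, dotProduct]

theorem exists_rat_sol {n : ℕ} (T : Matrix (Fin n) (Fin n) ℚ) (t : Fin n → ℚ) (z : Fin n → ℝ)
    (hz : Mr(T) *ᵥ z = vr(t))
    (U : Set (Fin n → ℝ)) (hU : IsOpen U) (hzU : z ∈ U) :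
    ∃ x : Fin n → ℚ, T *ᵥ x = t ∧ vr(x) ∈ U := by
  obtain ⟨G, hG⟩ := exists_ginv T
  have hGr : Mr(T) * Mr(G) * Mr(T) = Mr(T) := by
    have := congrArg (fun M => M.map (Rat.castHom ℝ)) hG
    simp only [Matrix.map_mul] at this
    exact this
  have hx0 : T *ᵥ (G *ᵥ t) = t := by
    have h1 : vr(T *ᵥ (G *ᵥ t)) = vr(t) := by
      rw [cast_mulVec, cast_mulVec, ← hz, Matrix.mulVec_mulVec, Matrix.mulVec_mulVec, hGr]
    funext i
    exact Rat.cast_injective (α := ℝ) (congrFun h1 i)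
  have hTP : T * (1 - G * T) = 0 := by
    rw [mul_sub, mul_one, ← Matrix.mul_assoc, hG, sub_self]
  have hPr : Mr(1 - G * T) = 1 - Mr(G) * Mr(T) := by
    have : (Rat.castHom ℝ).mapMatrix (1 - G * T) =
        1 - (Rat.castHom ℝ).mapMatrix G * (Rat.castHom ℝ).mapMatrix T := by
      rw [map_sub, map_one, map_mul]
    exact this
  have hφ : Continuous fun u : Fin n → ℝ => vr(G *ᵥ t) + Mr(1 - G * T) *ᵥ u :=
    continuous_const.add (Continuous.matrix_mulVec continuous_const continuous_id)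
  have hφz : vr(G *ᵥ t) + Mr(1 - G * T) *ᵥ (z - vr(G *ᵥ t)) = z := by
    have h1 : Mr(T) *ᵥ (z - vr(G *ᵥ t)) = 0 := by
      rw [Matrix.mulVec_sub, ← cast_mulVec, hx0, hz, sub_self]
    rw [hPr, Matrix.sub_mulVec, Matrix.one_mulVec, ← Matrix.mulVec_mulVec, h1, Matrix.mulVec_zero]
    abel
  have hdense : DenseRange (fun u : Fin n → ℚ => (vr(u) : Fin n → ℝ)) :=
    DenseRange.piMap (fun _ => Rat.denseRange_cast (𝕜 := ℝ))
  obtain ⟨u', hu'⟩ := hdense.exists_mem_open (hU.preimage hφ)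
    ⟨z - vr(G *ᵥ t), by simp only [Set.mem_preimage]; rw [hφz]; exact hzU⟩
  refine ⟨G *ᵥ t + (1 - G * T) *ᵥ u', ?_, ?_⟩
  · rw [Matrix.mulVec_add, hx0, Matrix.mulVec_mulVec, hTP, Matrix.zero_mulVec, add_zero]
  · have : vr((G *ᵥ t + (1 - G * T) *ᵥ u' : Fin n → ℚ)) =
        vr(G *ᵥ t) + Mr(1 - G * T) *ᵥ vr(u') := by
      rw [← cast_mulVec]
      funext i
      simp
    rw [this]
    exact hu'

theorem arith {A C δ : ℝ} (hδ : 0 < δ) (h : ∀ ε : ℝ, |ε| ≤ δ → ε * A ≤ ε ^ 2 * C) : A = 0 := by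
  by_contra hA
  have hA' : 0 < |A| := abs_pos.mpr hA
  have hC : 0 < 2 * (|C| + 1) := by positivity
  obtain ⟨η, hη⟩ : ∃ η, η = min δ (|A| / (2 * (|C| + 1))) := ⟨_, rfl⟩
  have hη0 : 0 < η := by rw [hη]; exact lt_min hδ (div_pos hA' hC)
  have hηδ : η ≤ δ := by rw [hη]; exact min_le_left _ _
  have hηA : η * (2 * (|C| + 1)) ≤ |A| := by
    have : η ≤ |A| / (2 * (|C| + 1)) := by rw [hη]; exact min_le_right _ _
    exact (le_div_iff₀ hC).mp this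
  have h1 := h η (by rw [abs_of_pos hη0]; exact hηδ)
  have h2 := h (-η) (by rw [abs_neg, abs_of_pos hη0]; exact hηδ)
  have h3 : η * |A| ≤ η ^ 2 * C := by
    rcases abs_cases A with ⟨hAe, _⟩ | ⟨hAe, _⟩
    · rw [hAe]; exact h1
    · rw [hAe]
      have : (-η) ^ 2 = η ^ 2 := by ring
      rw [this] at h2; linarith
  have h4 : |A| ≤ η * C := by
    have : η * |A| ≤ η * (η * C) := by rw [← mul_assoc, ← sq]; exact h3
    exact le_of_mul_le_mul_left this hη0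
  have h5 : η * C ≤ η * |C| := mul_le_mul_of_nonneg_left (le_abs_self C) hη0.le
  have h6 : η * (2 * (|C| + 1)) = 2 * (η * |C|) + 2 * η := by ring
  linarith [mul_nonneg hη0.le (abs_nonneg C)]

section Main
variable {n : ℕ} (ℓ : Fin n → ℚ) (B : Matrix (Fin n) (Fin n) ℚ)

/-- the objective -/
noncomputable def obj (y : Fin n → ℝ) : ℝ :=
  vr(ℓ) ⬝ᵥ y / Real.sqrt (y ⬝ᵥ Mr(B) *ᵥ y)

theorem obj_smul {s : ℝ} (hs : 0 < s) (y : Fin n → ℝ) : obj ℓ B (s • y) = obj ℓ B y := by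
  unfold obj
  rw [dotProduct_smul, mulVec_smul, dotProduct_smul, smul_dotProduct]
  simp only [smul_eq_mul]
  rw [← mul_assoc, Real.sqrt_mul (mul_self_nonneg s), Real.sqrt_mul_self hs.le,
    mul_div_mul_left _ _ hs.ne']

theorem exists_max (hpos : ∀ y : Fin n → ℝ, (∀ i, 0 ≤ y i) → y ≠ 0 → 0 < y ⬝ᵥ Mr(B) *ᵥ y)
    (hne : Nonempty (Fin n)) :
    ∃ y : Fin n → ℝ, (∀ i, 0 ≤ y i) ∧ y ≠ 0 ∧
      ∀ z : Fin n → ℝ, (∀ i, 0 ≤ z i) → z ≠ 0 → obj ℓ B z ≤ obj ℓ B y := by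
  obtain ⟨i0⟩ := hne
  have hK : IsCompact (stdSimplex ℝ (Fin n)) := isCompact_stdSimplex (𝕜 := ℝ) (ι := Fin n)
  have hKne : (stdSimplex ℝ (Fin n)).Nonempty := ⟨_, single_mem_stdSimplex ℝ i0⟩
  have hmem : ∀ y ∈ stdSimplex ℝ (Fin n), (∀ i, 0 ≤ y i) ∧ y ≠ 0 := by
    intro y hy
    refine ⟨hy.1, ?_⟩
    rintro rfl
    have := hy.2
    simp at this
  have hcont : ContinuousOn (fun y : Fin n → ℝ => vr(ℓ) ⬝ᵥ y / Real.sqrt (y ⬝ᵥ Mr(B) *ᵥ y))
      (stdSimplex ℝ (Fin n)) := by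
    apply ContinuousOn.div
    · exact (continuous_const.dotProduct continuous_id).continuousOn
    · exact (Real.continuous_sqrt.comp (continuous_id.dotProduct
        (Continuous.matrix_mulVec continuous_const continuous_id))).continuousOn
    · intro y hy
      exact (Real.sqrt_pos.mpr (hpos y (hmem y hy).1 (hmem y hy).2)).ne'
  obtain ⟨y, hyK, hymax⟩ := hK.exists_isMaxOn hKne hcont
  refine ⟨y, (hmem y hyK).1, (hmem y hyK).2, ?_⟩
  intro z hz hz0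
  have hσ : 0 < ∑ i, z i := by
    obtain ⟨i, hi⟩ := Function.ne_iff.mp hz0
    exact Finset.sum_pos' (fun i _ => hz i)
      ⟨i, Finset.mem_univ _, lt_of_le_of_ne (hz i) (Ne.symm hi)⟩
  have hzK : (∑ i, z i)⁻¹ • z ∈ stdSimplex ℝ (Fin n) := by
    refine ⟨fun i => ?_, ?_⟩
    · simp only [Pi.smul_apply, smul_eq_mul]
      exact mul_nonneg (inv_nonneg.mpr hσ.le) (hz i)
    · simp only [Pi.smul_apply, smul_eq_mul, ← Finset.mul_sum]
      exact inv_mul_cancel₀ hσ.ne'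
  have := hymax hzK
  rw [← obj_smul ℓ B (inv_pos.mpr hσ) z]
  exact this

theorem first_order (y : Fin n → ℝ) (hy : ∀ i, 0 ≤ y i)
    (hpos : ∀ y : Fin n → ℝ, (∀ i, 0 ≤ y i) → y ≠ 0 → 0 < y ⬝ᵥ Mr(B) *ᵥ y)
    (ha : 0 < vr(ℓ) ⬝ᵥ y)
    (hmax : ∀ z : Fin n → ℝ, (∀ i, 0 ≤ z i) → z ≠ 0 → obj ℓ B z ≤ obj ℓ B y)
    (i : Fin n) (hi : 0 < y i) :
    2 * (y ⬝ᵥ Mr(B) *ᵥ y) * (ℓ i : ℝ) =
      (vr(ℓ) ⬝ᵥ y) * ((Mr(B) *ᵥ y) i + (y ᵥ* Mr(B)) i) := by
  have hyne : y ≠ 0 := by rintro rfl; simp at hi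
  have hQ0 := hpos y hy hyne
  unfold obj at hmax
  obtain ⟨a, ha_def⟩ : ∃ a, a = vr(ℓ) ⬝ᵥ y := ⟨_, rfl⟩
  obtain ⟨Q, hQ_def⟩ : ∃ Q, Q = y ⬝ᵥ Mr(B) *ᵥ y := ⟨_, rfl⟩
  obtain ⟨b, hb_def⟩ : ∃ b, b = (Mr(B) *ᵥ y) i + (y ᵥ* Mr(B)) i := ⟨_, rfl⟩
  obtain ⟨li, hli_def⟩ : ∃ li : ℝ, li = (ℓ i : ℝ) := ⟨_, rfl⟩
  obtain ⟨bii, hbii_def⟩ : ∃ bii : ℝ, bii = (B i i : ℝ) := ⟨_, rfl⟩
  rw [← ha_def] at ha hmax ⊢
  rw [← hQ_def] at hQ0 hmax ⊢
  rw [← hb_def, ← hli_def]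
  have hLε : ∀ ε : ℝ, vr(ℓ) ⬝ᵥ (y + ε • Pi.single i 1) = a + ε * li := by
    intro ε
    rw [dotProduct_add, dotProduct_smul, dotProduct_single_one, ← ha_def, hli_def]
    simp [smul_eq_mul]
  have hqε : ∀ ε : ℝ, (y + ε • Pi.single i 1) ⬝ᵥ Mr(B) *ᵥ (y + ε • Pi.single i 1) =
      Q + ε * b + ε ^ 2 * bii := by
    intro ε
    have e1 : (Pi.single i 1 : Fin n → ℝ) ⬝ᵥ Mr(B) *ᵥ y = (Mr(B) *ᵥ y) i := by
      rw [single_one_dotProduct]
    have e2 : y ⬝ᵥ Mr(B) *ᵥ (Pi.single i 1 : Fin n → ℝ) = (y ᵥ* Mr(B)) i := by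
      rw [Matrix.dotProduct_mulVec, dotProduct_single_one]
    have e3 : (Pi.single i 1 : Fin n → ℝ) ⬝ᵥ Mr(B) *ᵥ (Pi.single i 1 : Fin n → ℝ) = bii := by
      rw [single_one_dotProduct, hbii_def]
      simp [mulVec, dotProduct, Pi.single_apply]
    simp only [mulVec_add, mulVec_smul, dotProduct_add, add_dotProduct, smul_dotProduct,
      dotProduct_smul, smul_eq_mul, e1, e2, e3]
    rw [hQ_def, hb_def]; ring
  have key : ∀ ε : ℝ, |ε| ≤ y i → 0 < a + ε * li →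
      (a + ε * li) ^ 2 * Q ≤ a ^ 2 * (Q + ε * b + ε ^ 2 * bii) := by
    intro ε hε hpos'
    have hyε : ∀ j, 0 ≤ (y + ε • Pi.single i 1 : Fin n → ℝ) j := by
      intro j
      simp only [Pi.add_apply, Pi.smul_apply, smul_eq_mul, Pi.single_apply]
      split_ifs with hji
      · subst hji
        have := neg_abs_le ε
        linarith [hε]
      · simp [hy j]
    have hyεne : y + ε • Pi.single i 1 ≠ 0 := by
      intro h0
      have := hLε ε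
      rw [h0] at this
      simp only [dotProduct_zero] at this
      linarith
    have hqpos := hpos _ hyε hyεne
    have hm := hmax _ hyε hyεne
    rw [hLε, hqε] at hm
    rw [hqε] at hqpos
    rw [div_le_div_iff₀ (Real.sqrt_pos.mpr hqpos) (Real.sqrt_pos.mpr hQ0)] at hm
    have hsq := mul_self_le_mul_self (mul_nonneg hpos'.le (Real.sqrt_nonneg _)) hm
    have e1 : Real.sqrt Q * Real.sqrt Q = Q := Real.mul_self_sqrt hQ0.le
    have e2 := Real.mul_self_sqrt hqpos.le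
    have h7 : ((a + ε * li) * Real.sqrt Q) * ((a + ε * li) * Real.sqrt Q) =
        (a + ε * li) ^ 2 * Q := by
      rw [mul_mul_mul_comm, e1]; ring
    have h8 : (a * Real.sqrt (Q + ε * b + ε ^ 2 * bii)) *
        (a * Real.sqrt (Q + ε * b + ε ^ 2 * bii)) = a ^ 2 * (Q + ε * b + ε ^ 2 * bii) := by
      rw [mul_mul_mul_comm, e2]; ring
    rw [h7, h8] at hsq
    exact hsq
  have hδ : 0 < min (y i) (a / (2 * (|li| + 1))) := lt_min hi (div_pos ha (by positivity))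
  have hA := arith (A := 2 * a * li * Q - a ^ 2 * b) (C := a ^ 2 * bii - li ^ 2 * Q) hδ (by
    intro ε hε
    have h1 : |ε| ≤ y i := hε.trans (min_le_left _ _)
    have h2 : |ε| * (2 * (|li| + 1)) ≤ a :=
      (le_div_iff₀ (by positivity)).mp (hε.trans (min_le_right _ _))
    have h2' : 2 * (|ε| * |li|) + 2 * |ε| ≤ a := by
      have : |ε| * (2 * (|li| + 1)) = 2 * (|ε| * |li|) + 2 * |ε| := by ring
      linarith
    have h3 : 0 < a + ε * li := by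
      have : -(|ε| * |li|) ≤ ε * li := by rw [← abs_mul]; exact neg_abs_le _
      linarith [abs_nonneg ε]
    have := key ε h1 h3
    have e : ε * (2 * a * li * Q - a ^ 2 * b) - ε ^ 2 * (a ^ 2 * bii - li ^ 2 * Q) =
        (a + ε * li) ^ 2 * Q - a ^ 2 * (Q + ε * b + ε ^ 2 * bii) := by ring
    linarith)
  have h9 : a * (2 * Q * li - a * b) = 0 := by linear_combination hA
  rcases mul_eq_zero.mp h9 with h | h
  · exact absurd h ha.ne'
  · linarith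

/-- symmetrized action -/
noncomputable def bs (z : Fin n → ℝ) (i : Fin n) : ℝ :=
  ∑ j, ((B i j : ℝ) + (B j i : ℝ)) * z j

theorem bs_eq (z : Fin n → ℝ) (i : Fin n) :
    bs B z i = (Mr(B) *ᵥ z) i + (z ᵥ* Mr(B)) i := by
  simp only [bs, mulVec, vecMul, dotProduct, Matrix.map_apply, ← Finset.sum_add_distrib]
  refine Finset.sum_congr rfl fun j _ => ?_
  ring

theorem two_q (z : Fin n → ℝ) : ∑ i, z i * bs B z i = 2 * (z ⬝ᵥ Mr(B) *ᵥ z) := by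
  have h1 : ∑ i, z i * (z ᵥ* Mr(B)) i = z ⬝ᵥ Mr(B) *ᵥ z := by
    rw [Matrix.dotProduct_mulVec, dotProduct]
    exact Finset.sum_congr rfl fun i _ => mul_comm _ _
  have h2 : ∑ i, z i * (Mr(B) *ᵥ z) i = z ⬝ᵥ Mr(B) *ᵥ z := rfl
  simp only [bs_eq, mul_add, Finset.sum_add_distrib, h1, h2]
  ring

theorem bs_symm (z z' : Fin n → ℝ) : ∑ i, z i * bs B z' i = ∑ i, z' i * bs B z i := by
  simp only [bs, Finset.mul_sum]
  rw [Finset.sum_comm]
  refine Finset.sum_congr rfl fun i _ => Finset.sum_congr rfl fun j _ => ?_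
  ring

/-- solutions of the first-order system on the face `S`. -/
def Sol (S : Finset (Fin n)) (z : Fin n → ℝ) : Prop :=
  (∀ i ∈ S, bs B z i = 2 * (ℓ i : ℝ)) ∧ (∀ i, i ∉ S → z i = 0)

theorem sol_sum (S : Finset (Fin n)) {z z' : Fin n → ℝ} (hz : Sol ℓ B S z) (hz' : Sol ℓ B S z') :
    ∑ i, z i * bs B z' i = 2 * (vr(ℓ) ⬝ᵥ z) := by
  rw [dotProduct, Finset.mul_sum]
  refine Finset.sum_congr rfl fun i _ => ?_
  by_cases hi : i ∈ S
  · rw [hz'.1 i hi]; ring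
  · rw [hz.2 i hi]; ring

theorem sol_pair (S : Finset (Fin n)) {z z' : Fin n → ℝ} (hz : Sol ℓ B S z) (hz' : Sol ℓ B S z') :
    vr(ℓ) ⬝ᵥ z = vr(ℓ) ⬝ᵥ z' := by
  have h1 := sol_sum ℓ B S hz hz'
  have h2 := sol_sum ℓ B S hz' hz
  have h3 := bs_symm B z z'
  linarith

theorem sol_q (S : Finset (Fin n)) {z : Fin n → ℝ} (hz : Sol ℓ B S z) :
    z ⬝ᵥ Mr(B) *ᵥ z = vr(ℓ) ⬝ᵥ z := by
  have h1 := sol_sum ℓ B S hz hz
  have h2 := two_q B z
  linarith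

/-- the rational matrix of the system. -/
def Tm (S : Finset (Fin n)) : Matrix (Fin n) (Fin n) ℚ :=
  fun i j => if i ∈ S then B i j + B j i else if i = j then 1 else 0

def tv (S : Finset (Fin n)) : Fin n → ℚ := fun i => if i ∈ S then 2 * ℓ i else 0

theorem sol_iff (S : Finset (Fin n)) (z : Fin n → ℝ) :
    Mr(Tm B S) *ᵥ z = vr(tv ℓ S) ↔ Sol ℓ B S z := by
  have hrow1 : ∀ i ∈ S, (Mr(Tm B S) *ᵥ z) i = bs B z i := by
    intro i hi
    simp [mulVec, dotProduct, Tm, hi, bs]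
  have hrow2 : ∀ i, i ∉ S → (Mr(Tm B S) *ᵥ z) i = z i := by
    intro i hi
    have : ∀ j, (((if i = j then (1:ℚ) else 0 : ℚ)) : ℝ) * z j = if i = j then z j else 0 := by
      intro j; split_ifs <;> simp
    simp only [mulVec, dotProduct, Matrix.map_apply, Tm, hi, if_false]
    rw [Finset.sum_congr rfl (fun j _ => this j), Finset.sum_ite_eq]
    simp
  constructor
  · intro h
    refine ⟨fun i hi => ?_, fun i hi => ?_⟩
    · rw [← hrow1 i hi, h]; simp [tv, hi]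
    · rw [← hrow2 i hi, h]; simp [tv, hi]
  · intro h
    funext i
    by_cases hi : i ∈ S
    · rw [hrow1 i hi, h.1 i hi]; simp [tv, hi]
    · rw [hrow2 i hi, h.2 i hi]; simp [tv, hi]

theorem main (hpos : ∀ y : Fin n → ℝ, (∀ i, 0 ≤ y i) → y ≠ 0 → 0 < y ⬝ᵥ Mr(B) *ᵥ y)
    (hℓ : ∃ y : Fin n → ℝ, (∀ i, 0 ≤ y i) ∧ 0 < vr(ℓ) ⬝ᵥ y) :
    ∃ x : Fin n → ℚ, (∀ i, 0 ≤ x i) ∧ x ≠ 0 ∧
      ∀ y : Fin n → ℝ, (∀ i, 0 ≤ y i) → y ≠ 0 → obj ℓ B y ≤ obj ℓ B vr(x) := by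
  classical
  obtain ⟨y0, hy0, hLy0⟩ := hℓ
  have hy0ne : y0 ≠ 0 := by rintro rfl; simp at hLy0
  have hne : Nonempty (Fin n) := by
    obtain ⟨i, _⟩ := Function.ne_iff.mp hy0ne; exact ⟨i⟩
  obtain ⟨y, hy, hyne, hmax⟩ := exists_max ℓ B hpos hne
  have hQ : 0 < y ⬝ᵥ Mr(B) *ᵥ y := hpos y hy hyne
  have ha : 0 < vr(ℓ) ⬝ᵥ y := by
    have h1 := hmax y0 hy0 hy0ne
    have h2 : 0 < obj ℓ B y0 := div_pos hLy0 (Real.sqrt_pos.mpr (hpos y0 hy0 hy0ne))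
    have h3 : 0 < obj ℓ B y := lt_of_lt_of_le h2 h1
    unfold obj at h3
    by_contra hcon
    push Not at hcon
    exact absurd h3 (not_lt.mpr (div_nonpos_of_nonpos_of_nonneg hcon (Real.sqrt_nonneg _)))
  obtain ⟨a, ha_def⟩ : ∃ a, a = vr(ℓ) ⬝ᵥ y := ⟨_, rfl⟩
  obtain ⟨Q, hQ_def⟩ : ∃ Q, Q = y ⬝ᵥ Mr(B) *ᵥ y := ⟨_, rfl⟩
  obtain ⟨S, hS⟩ : ∃ S : Finset (Fin n), ∀ i, i ∈ S ↔ 0 < y i :=
    ⟨Finset.univ.filter (fun i => 0 < y i), fun i => by simp⟩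
  have hfo : ∀ i ∈ S, 2 * Q * (ℓ i : ℝ) = a * bs B y i := by
    intro i hi
    rw [bs_eq, hQ_def, ha_def]
    exact first_order ℓ B y hy hpos ha hmax i ((hS i).mp hi)
  rw [← ha_def] at ha
  rw [← hQ_def] at hQ
  have hy'sol : Sol ℓ B S ((a / Q) • y) := by
    constructor
    · intro i hi
      have h1 : bs B ((a / Q) • y) i = (a / Q) * bs B y i := by
        simp only [bs, Pi.smul_apply, smul_eq_mul, Finset.mul_sum]
        refine Finset.sum_congr rfl fun j _ => ?_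
        ring
      rw [h1, div_mul_eq_mul_div, div_eq_iff hQ.ne', ← hfo i hi]
      ring
    · intro i hi
      have : y i = 0 := le_antisymm (not_lt.mp ((hS i).not.mp hi)) (hy i)
      simp [this]
  have hy'pos : ∀ i ∈ S, 0 < ((a / Q) • y) i := by
    intro i hi
    simp only [Pi.smul_apply, smul_eq_mul]
    exact mul_pos (div_pos ha hQ) ((hS i).mp hi)
  have hTz : Mr(Tm B S) *ᵥ ((a / Q) • y) = vr(tv ℓ S) := (sol_iff ℓ B S _).mpr hy'sol
  have hUopen : IsOpen {z : Fin n → ℝ | ∀ i ∈ S, 0 < z i} := by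
    have : {z : Fin n → ℝ | ∀ i ∈ S, 0 < z i} = ⋂ i ∈ S, {z : Fin n → ℝ | 0 < z i} := by
      ext z; simp
    rw [this]
    exact isOpen_biInter_finset fun i _ => isOpen_lt continuous_const (continuous_apply i)
  obtain ⟨x, hTx, hxU⟩ := exists_rat_sol (Tm B S) (tv ℓ S) _ hTz _ hUopen hy'pos
  have hxsol : Sol ℓ B S vr(x) := (sol_iff ℓ B S _).mp (by rw [← cast_mulVec, hTx])
  have hx0 : ∀ i, 0 ≤ x i := by
    intro i
    by_cases hi : i ∈ S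
    · have h : (0:ℝ) < ((x i : ℚ) : ℝ) := hxU i hi
      exact_mod_cast h.le
    · have h : ((x i : ℚ) : ℝ) = 0 := hxsol.2 i hi
      have h2 : x i = 0 := by exact_mod_cast h
      rw [h2]
  obtain ⟨i1, hi1⟩ : ∃ i, i ∈ S := by
    obtain ⟨i, hi⟩ := Function.ne_iff.mp hyne
    exact ⟨i, (hS i).mpr (lt_of_le_of_ne (hy i) (Ne.symm hi))⟩
  have hxne : x ≠ 0 := by
    intro h
    have := hxU i1 hi1
    simp [h] at this
  refine ⟨x, hx0, hxne, ?_⟩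
  have hLx : vr(ℓ) ⬝ᵥ vr(x) = vr(ℓ) ⬝ᵥ ((a / Q) • y) := sol_pair ℓ B S hxsol hy'sol
  have hqx : vr(x) ⬝ᵥ Mr(B) *ᵥ vr(x) = vr(ℓ) ⬝ᵥ vr(x) := sol_q ℓ B S hxsol
  have hqy' : ((a / Q) • y) ⬝ᵥ Mr(B) *ᵥ ((a / Q) • y) = vr(ℓ) ⬝ᵥ ((a / Q) • y) :=
    sol_q ℓ B S hy'sol
  have hobj : obj ℓ B vr(x) = obj ℓ B y := by
    rw [← obj_smul ℓ B (div_pos ha hQ) y]
    unfold obj
    rw [hqx, hqy', hLx]
  intro z hz hzne
  rw [hobj]; exact hmax z hz hzne

end Main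

end Groth.Agent.Lib.Helper97.RatMax
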