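import Mathlib
import Groth.Prelude.Def_GrLC
import Groth.Prelude.Def_GrSyz
import Groth.Prelude.Def_Rees
import Groth.Prelude.Def_ReesMod
import Groth.Agent.Lib.Helper77.GLC0
import Groth.Agent.Lib.Helper97.AInvB

/-!
# The Rees algebra as a standard graded ring (helper97)
-/

set_option autoImplicit false
set_option linter.unusedSectionVars false
set_option linter.unusedVariables false
set_option linter.style.haveILetI false
universe u

namespace Groth.Agent.Lib.Helper97.ReesA

open GrLC DirectSum Polynomial Groth.Agent.Lib.Helper77.GLC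

variable {A : Type u} [CommRing A] (I : Ideal A)

/-- the grading of the Rees algebra by additive subgroups -/
noncomputable abbrev rg : ℤ → AddSubgroup ↥(reesAlgebra I) := flat (Rees.degZ (reesAlgebra I))

theorem mem_rg_iff (n : ℤ) (f : ↥(reesAlgebra I)) :
    f ∈ rg I n ↔ ∀ m : ℕ, (m : ℤ) ≠ n → (f : A[X]).coeff m = 0 := Iff.rfl

theorem rg_neg : ∀ n : ℤ, n < 0 → rg I n = ⊥ := by
  intro n hn
  rw [eq_bot_iff]
  intro f hf
  rw [AddSubgroup.mem_bot]
  apply Subtype.ext
  apply Polynomial.ext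
  intro m
  rw [(mem_rg_iff I n f).1 hf m (by omega)]
  simp

/-- the monomial `c Xᵏ` as an element of the Rees algebra -/
noncomputable def mono (k : ℕ) (c : A) (hc : c ∈ I ^ k) : ↥(reesAlgebra I) :=
  ⟨monomial k c, reesAlgebra.monomial_mem.2 hc⟩

theorem mono_mem (k : ℕ) (c : A) (hc : c ∈ I ^ k) : mono I k c hc ∈ rg I k := by
  refine (mem_rg_iff I k _).2 fun m hm => ?_
  change (monomial k c).coeff m = 0
  rw [coeff_monomial]
  exact if_neg fun h => hm (by rw [h])

theorem eq_mono {k : ℕ} {f : ↥(reesAlgebra I)} (hf : f ∈ rg I k) :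
    f = mono I k ((f : A[X]).coeff k) (f.2 k) := by
  apply Subtype.ext
  apply Polynomial.ext
  intro m
  change (f : A[X]).coeff m = (monomial k ((f : A[X]).coeff k)).coeff m
  rw [coeff_monomial]
  split_ifs with h
  · rw [h]
  · exact (mem_rg_iff I k f).1 hf m (fun h' => h (by exact_mod_cast h'.symm))

theorem mono_succ_mem_span (k : ℕ) (c : A) (hc : c ∈ I ^ (k + 1)) :
    mono I (k + 1) c hc ∈ Ideal.span ((rg I 1 : AddSubgroup ↥(reesAlgebra I)) :
      Set ↥(reesAlgebra I)) := by
  have hpow : I ^ (k + 1) = I ^ k * I := pow_succ I k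
  have key : ∀ (c : A) (hc' : c ∈ I ^ k * I), mono I (k + 1) c (hpow ▸ hc') ∈
      Ideal.span ((rg I 1 : AddSubgroup ↥(reesAlgebra I)) : Set ↥(reesAlgebra I)) := by
    intro c hc'
    refine Submodule.mul_induction_on' (C := fun c hc' => mono I (k + 1) c (hpow ▸ hc') ∈
      Ideal.span ((rg I 1 : AddSubgroup ↥(reesAlgebra I)) : Set ↥(reesAlgebra I))) ?_ ?_ hc'
    · intro b hb e he
      have he1 : e ∈ I ^ 1 := by rwa [pow_one]
      have h1 : mono I (k + 1) (b * e) (hpow ▸ Submodule.mul_mem_mul hb he) =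
          mono I k b hb * mono I 1 e he1 := by
        apply Subtype.ext
        change monomial (k + 1) (b * e) = monomial k b * monomial 1 e
        rw [monomial_mul_monomial]
      rw [h1]
      exact Ideal.mul_mem_left _ _ (Ideal.subset_span (mono_mem I 1 e he1))
    · intro x hx y hy hx' hy'
      have h1 : mono I (k + 1) (x + y) (hpow ▸ add_mem hx hy) =
          mono I (k + 1) x (hpow ▸ hx) + mono I (k + 1) y (hpow ▸ hy) := by
        apply Subtype.ext
        change monomial (k + 1) (x + y) = monomial (k + 1) x + monomial (k + 1) y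
        rw [map_add]
      rw [h1]
      exact add_mem hx' hy'
  exact key c (hpow ▸ hc)

theorem rg_std : Ideal.span (⋃ n ∈ Set.Ioi (0 : ℤ), (rg I n : Set ↥(reesAlgebra I))) =
    Ideal.span ((rg I 1 : AddSubgroup ↥(reesAlgebra I)) : Set ↥(reesAlgebra I)) := by
  apply le_antisymm
  · rw [Ideal.span_le]
    intro f hf
    simp only [Set.mem_iUnion] at hf
    obtain ⟨n, hn, hfn⟩ := hf
    have hn0 : 0 < n := hn
    obtain ⟨k, rfl⟩ : ∃ k : ℕ, n = ((k + 1 : ℕ) : ℤ) := ⟨(n - 1).toNat, by push_cast; omega⟩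
    have hfn' : f ∈ rg I ((k + 1 : ℕ) : ℤ) := hfn
    rw [eq_mono I hfn']
    exact mono_succ_mem_span I k _ _
  · apply Ideal.span_mono
    intro x hx
    simp only [Set.mem_iUnion]
    exact ⟨1, Set.mem_Ioi.2 one_pos, hx⟩

/-- the coefficient ring maps onto the degree-zero subring -/
noncomputable def φ0 : A →+* deg0 (rg I) :=
  (algebraMap A ↥(reesAlgebra I)).codRestrict (deg0 (rg I)) (fun c => by
    change algebraMap A ↥(reesAlgebra I) c ∈ rg I 0
    refine (mem_rg_iff I 0 _).2 fun m hm => ?_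
    change (C c : A[X]).coeff m = 0
    rw [coeff_C]
    exact if_neg fun h => hm (by rw [h]; rfl))

theorem φ0_coe (c : A) : ((φ0 I c : deg0 (rg I)) : ↥(reesAlgebra I)) =
    algebraMap A ↥(reesAlgebra I) c := rfl

theorem φ0_surjective : Function.Surjective (φ0 I) := by
  rintro ⟨f, hf⟩
  have hf' : f ∈ rg I ((0 : ℕ) : ℤ) := hf
  refine ⟨(f : A[X]).coeff 0, Subtype.ext ?_⟩
  rw [φ0_coe]
  apply Subtype.ext
  change (C ((f : A[X]).coeff 0) : A[X]) = (f : A[X])
  have h1 := congrArg (fun g : ↥(reesAlgebra I) => (g : A[X])) (eq_mono I hf')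
  change (f : A[X]) = monomial 0 ((f : A[X]).coeff 0) at h1
  rw [h1, monomial_zero_left]
  simp

end Groth.Agent.Lib.Helper97.ReesA
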