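import Mathlib
import Groth.Prelude.Def_GrLC
import Groth.Prelude.Def_GrSyz
import Groth.Prelude.Def_Rees
import Groth.Prelude.Def_ReesMod
import Groth.Agent.Lib.Helper97.ReesA
import Groth.Agent.Lib.Helper66.Graded
import Groth.Agent.Lib.Helper66.GradedQuot
import Groth.Agent.Lib.Helper66.GradedSub
import Groth.Agent.Lib.Helper66.GradedShift

/-!
# The Rees module: its positive part, the shift-down map and the associated graded module
(helper97)
-/

set_option autoImplicit false
set_option linter.unusedSectionVars false
set_option linter.unusedVariables false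
set_option linter.style.haveILetI false
universe u

namespace Groth.Agent.Lib.Helper97.ReesB

open GrLC DirectSum Polynomial Groth.Agent.Lib.Helper77.GLC ReesA

variable {A : Type u} [CommRing A] {I : Ideal A} {M : Type u} [AddCommGroup M] [Module A M]
  (F : I.Filtration M)

/-- the grading of the Rees module, by additive subgroups -/
noncomputable abbrev ml : ℤ → AddSubgroup ↥F.submodule := flat (Rees.mdegZ F)

theorem mem_ml_iff (n : ℤ) (x : ↥F.submodule) :
    x ∈ ml F n ↔ ∀ m : ℕ, (m : ℤ) ≠ n → (x : PolynomialModule A M).coeff m = 0 := Iff.rfl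

theorem coeff_decompose (x : ↥F.submodule) (g : ℤ) (m : ℕ) :
    (((decompose (ml F) x g : ml F g) : ↥F.submodule) : PolynomialModule A M).coeff m =
      if (m : ℤ) = g then (x : PolynomialModule A M).coeff m else 0 := by
  classical
  induction x using DirectSum.Decomposition.inductionOn (ml F) with
  | zero => simp
  | @homogeneous k x =>
    obtain ⟨x, hx⟩ := x
    by_cases hkg : k = g
    · subst hkg
      rw [decompose_of_mem_same _ hx]
      split_ifs with h
      · rfl
      · exact (mem_ml_iff F k x).1 hx m h
    · rw [decompose_of_mem_ne _ hx hkg]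
      split_ifs with h
      · have : (m : ℤ) ≠ k := fun h' => hkg (h'.symm.trans h)
        rw [(mem_ml_iff F k x).1 hx m this]
        simp
      · simp
  | add x y hx hy =>
    simp only [decompose_add, DirectSum.add_apply, AddSubgroup.coe_add, Submodule.coe_add,
      PolynomialModule.coeff_add, Finsupp.add_apply, hx, hy]
    split_ifs <;> simp

/-- the positive part `L_+` of the Rees module -/
noncomputable def Pplus : Submodule ↥(reesAlgebra I) ↥F.submodule where
  carrier := {x | (x : PolynomialModule A M).coeff 0 = 0}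
  add_mem' := by
    intro x y hx hy
    change ((x + y : ↥F.submodule) : PolynomialModule A M).coeff 0 = 0
    rw [Submodule.coe_add, PolynomialModule.coeff_add, Finsupp.add_apply]
    rw [show (x : PolynomialModule A M).coeff 0 = 0 from hx,
      show (y : PolynomialModule A M).coeff 0 = 0 from hy, add_zero]
  zero_mem' := by
    change ((0 : ↥F.submodule) : PolynomialModule A M).coeff 0 = 0
    simp
  smul_mem' := by
    intro r x hx
    change ((r • x : ↥F.submodule) : PolynomialModule A M).coeff 0 = 0
    rw [Submodule.coe_smul, Subalgebra.smul_def, PolynomialModule.smul_apply,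
      Finset.Nat.antidiagonal_zero, Finset.sum_singleton]
    rw [show (x : PolynomialModule A M).coeff 0 = 0 from hx, smul_zero]

theorem mem_Pplus_iff (x : ↥F.submodule) :
    x ∈ Pplus F ↔ (x : PolynomialModule A M).coeff 0 = 0 := Iff.rfl

theorem Pplus_hom : (Pplus F).IsHomogeneous (ml F) := by
  intro g x hx
  rw [mem_Pplus_iff] at hx ⊢
  rw [coeff_decompose, hx]
  simp

theorem mem_Pplus_of_deg_ne {n : ℤ} (hn : n ≠ 0) {x : ↥F.submodule} (hx : x ∈ ml F n) :
    x ∈ Pplus F :=
  (mem_ml_iff F n x).1 hx 0 (by exact_mod_cast hn.symm)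

theorem smul_mem_Pplus_of_coeff_zero {r : ↥(reesAlgebra I)} (hr : (r : A[X]).coeff 0 = 0)
    (x : ↥F.submodule) : r • x ∈ Pplus F := by
  rw [mem_Pplus_iff, Submodule.coe_smul, Subalgebra.smul_def, PolynomialModule.smul_apply,
    Finset.Nat.antidiagonal_zero, Finset.sum_singleton, hr, zero_smul]

theorem irr_smul_mem_Pplus {r : ↥(reesAlgebra I)}
    (hr : r ∈ Ideal.span (AInvB.posSet (rg I))) (x : ↥F.submodule) : r • x ∈ Pplus F := by
  have hle : Ideal.span (AInvB.posSet (rg I)) ≤ (Pplus F).colon ⊤ := by
    rw [Ideal.span_le]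
    intro s hs
    obtain ⟨n, hn, hsn⟩ := AInvB.exists_of_mem_posSet hs
    rw [SetLike.mem_coe, Submodule.mem_colon]
    intro y _
    exact smul_mem_Pplus_of_coeff_zero F ((mem_rg_iff I n s).1 hsn 0 (by
      have : (0 : ℤ) ≠ n := by omega
      exact_mod_cast this)) y
  exact (Submodule.mem_colon.1 (hle hr)) x trivial

/-- shifting the coefficients down by one -/
noncomputable def sd (v : PolynomialModule A M) : PolynomialModule A M :=
  PolynomialModule.ofCoeff A (Finsupp.comapDomain Nat.succ v.coeff Nat.succ_injective.injOn)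

theorem sd_coeff (v : PolynomialModule A M) (n : ℕ) : (sd v).coeff n = v.coeff (n + 1) := by
  rw [sd, PolynomialModule.coeff_ofCoeff, Finsupp.comapDomain_apply]

theorem sd_mem {v : PolynomialModule A M} (hv : v ∈ F.submodule) : sd v ∈ F.submodule := by
  intro i
  rw [sd_coeff]
  exact F.mono i (hv (i + 1))

/-- the shift-down map `L_+ → L` (an isomorphism `L_+(1) ≅ I L`) -/
noncomputable def σ : ↥(Pplus F) →ₗ[↥(reesAlgebra I)] ↥F.submodule where
  toFun x := ⟨sd ((x : ↥F.submodule) : PolynomialModule A M), sd_mem F (x : ↥F.submodule).2⟩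
  map_add' x y := by
    apply Subtype.ext
    apply PolynomialModule.ext
    apply Finsupp.ext
    intro n
    simp only [Submodule.coe_add, PolynomialModule.coeff_add, Finsupp.add_apply, sd_coeff]
  map_smul' r x := by
    apply Subtype.ext
    apply PolynomialModule.ext
    apply Finsupp.ext
    intro n
    have hx0 : (((x : ↥F.submodule)) : PolynomialModule A M).coeff 0 = 0 := x.2
    simp only [RingHom.id_apply, Submodule.coe_smul, Subalgebra.smul_def, sd_coeff,
      PolynomialModule.smul_apply]
    rw [Finset.Nat.sum_antidiagonal_succ', hx0, smul_zero, zero_add]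

theorem σ_coeff (x : ↥(Pplus F)) (n : ℕ) :
    ((σ F x : ↥F.submodule) : PolynomialModule A M).coeff n =
      ((x : ↥F.submodule) : PolynomialModule A M).coeff (n + 1) := sd_coeff _ n

theorem σ_injective : Function.Injective (σ F) := by
  intro x x' hxx
  apply Subtype.ext
  apply Subtype.ext
  apply PolynomialModule.ext
  apply Finsupp.ext
  intro n
  cases n with
  | zero =>
    rw [show ((x : ↥F.submodule) : PolynomialModule A M).coeff 0 = 0 from x.2,
      show ((x' : ↥F.submodule) : PolynomialModule A M).coeff 0 = 0 from x'.2]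
  | succ n =>
    rw [← σ_coeff, ← σ_coeff, hxx]

theorem σ_gr (g : ℤ) (x : ↥(Pplus F)) (hx : (x : ↥F.submodule) ∈ ml F (1 + g)) :
    σ F x ∈ ml F g := by
  rw [mem_ml_iff] at hx ⊢
  intro m hm
  rw [σ_coeff]
  exact hx (m + 1) (by push_cast; omega)

/-- elements of `I` multiply the Rees module into the range of the shift-down map -/
theorem algebraMap_smul_mem_range {a : A} (ha : a ∈ I) (y : ↥F.submodule) :
    (algebraMap A ↥(reesAlgebra I) a) • y ∈ LinearMap.range (σ F) := by
  have ha1 : a ∈ I ^ 1 := by rwa [pow_one]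
  have hz : mono I 1 a ha1 • y ∈ Pplus F :=
    smul_mem_Pplus_of_coeff_zero F (by
      change (monomial 1 a : A[X]).coeff 0 = 0
      rw [coeff_monomial]
      simp) y
  refine ⟨⟨mono I 1 a ha1 • y, hz⟩, ?_⟩
  apply Subtype.ext
  apply PolynomialModule.ext
  apply Finsupp.ext
  intro n
  rw [σ_coeff]
  change ((monomial 1 a : A[X]) • (y : PolynomialModule A M)).coeff (n + 1) =
    ((C a : A[X]) • (y : PolynomialModule A M)).coeff n
  rw [PolynomialModule.monomial_smul_apply, ← monomial_zero_left,
    PolynomialModule.monomial_smul_apply]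
  simp

theorem J_smul_mem_range {r : ↥(reesAlgebra I)}
    (hr : r ∈ Ideal.map (algebraMap A ↥(reesAlgebra I)) I) (y : ↥F.submodule) :
    r • y ∈ LinearMap.range (σ F) := by
  have hle : Ideal.map (algebraMap A ↥(reesAlgebra I)) I ≤ (LinearMap.range (σ F)).colon ⊤ := by
    rw [Ideal.map, Ideal.span_le]
    rintro _ ⟨a, ha, rfl⟩
    rw [SetLike.mem_coe, Submodule.mem_colon]
    intro y _
    exact algebraMap_smul_mem_range F ha y
  exact (Submodule.mem_colon.1 (hle hr)) y trivial

end Groth.Agent.Lib.Helper97.ReesB
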