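import Mathlib
import Groth.Prelude.Def_GrLC
import Groth.Agent.Lib.Helper97.SGInd
import Groth.Agent.Lib.Helper77.GLC19
import Groth.Agent.Lib.Helper97.SGPoly
import Groth.Agent.Lib.Helper97.DownSet
import Groth.Agent.Lib.Helper97.RegLower
import Groth.Agent.Lib.Helper97.AInvB

/-!
# The Serre–Grothendieck formula for graded local cohomology (helper97)

`H_M(n) - P_M(n) = Σ_i (-1)^i ℓ(H^i_m(M)_n)` for a finitely generated graded module over a
standard graded Noetherian ring with Artinian degree-zero part.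
-/

set_option autoImplicit false
set_option linter.unusedSectionVars false
set_option linter.unusedVariables false
set_option linter.style.haveILetI false
universe u

namespace Groth.Agent.Lib.Helper97.SG

open GrLC DirectSum Groth.Agent.Lib.Helper77.GLC SGPoly

section claim

variable {R : Type u} [CommRing R] [IsNoetherianRing R] {𝒜 : ℤ → AddSubgroup R} [GradedRing 𝒜]
variable {M : Type u} [AddCommGroup M] [Module R M] {ℳ : ℤ → AddSubgroup M} [Decomposition ℳ]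
  [SetLike.GradedSMul 𝒜 ℳ]

theorem claim_base' (hpos : ∀ n : ℤ, n < 0 → 𝒜 n = ⊥)
    (a : HomogeneousIdeal 𝒜) (harad : a.toIdeal ≤ (Ideal.span (AInvB.posSet 𝒜)).radical) (d : ℕ)
    [Module.Finite R M] (hkill : ∀ r ∈ Ideal.span (AInvB.posSet 𝒜), ∀ m : M, r • m = 0)
    (h1len : Module.length (deg0 𝒜) M ≠ ⊤)
    (EM : StarInjRes 𝒜 ℳ) : Claim EM a.toIdeal d := by
  obtain ⟨N, hN⟩ := Ideal.exists_pow_le_of_le_radical_of_fg harad (IsNoetherian.noetherian _)
  have htor : ∀ m : M, ∃ n : ℕ, ∀ r ∈ a.toIdeal ^ n, r • m = 0 :=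
    fun m => ⟨N, fun r hr => hkill r (hN hr) m⟩
  have hgam : ∀ m : M, m ∈ gam a.toIdeal M := htor
  have hhigh : ∀ i g, hl EM a.toIdeal (i + 1) g = 0 := fun i g =>
    hl_eq_zero_of_HV (HV_of_torsion EM a htor (i + 1) (Nat.succ_pos i) g)
  have hfinM : Module.Finite (deg0 𝒜) M := finite_deg0 hpos hkill
  have hfin : ∀ g, hfl 𝒜 ℳ g ≠ ⊤ := by
    intro g
    have h1 : Module.length (deg0 𝒜) M ≠ ⊤ := h1len
    exact ne_top_of_le_ne_top h1
      (Module.length_le_of_injective (comp 𝒜 ℳ g).subtype (Submodule.subtype_injective _))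
  have h0 : ∀ g, hl EM a.toIdeal 0 g = hfl 𝒜 ℳ g := by
    intro g
    let ψ0 : ↥(comp 𝒜 ℳ g) →ₗ[deg0 𝒜] ↥(Zs EM a.toIdeal 0 g) :=
      (EM.ε.restrictScalars (deg0 𝒜)).restrict (p := comp 𝒜 ℳ g) (q := Zs EM a.toIdeal 0 g)
        (fun m hm => ⟨⟨map_mem_gam EM.ε (hgam m), EM.ε_grHom g m hm⟩, d_comp_ε EM m⟩)
    let ψ : ↥(comp 𝒜 ℳ g) →ₗ[deg0 𝒜] Hs EM a.toIdeal 0 g :=
      ((Bs EM a.toIdeal 0 g).comap (Zs EM a.toIdeal 0 g).subtype).mkQ ∘ₗ ψ0
    have hinj : Function.Injective ψ := by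
      rw [← LinearMap.ker_eq_bot, eq_bot_iff]
      intro x hx
      rw [LinearMap.mem_ker] at hx
      have h1 : ψ0 x ∈ (Bs EM a.toIdeal 0 g).comap (Zs EM a.toIdeal 0 g).subtype :=
        (Submodule.Quotient.mk_eq_zero _).1 hx
      have h2 : EM.ε x.1 = 0 := h1
      rw [Submodule.mem_bot]
      apply Subtype.ext
      exact EM.ε_injective (h2.trans (map_zero _).symm)
    have hsurj : Function.Surjective ψ := by
      intro y
      obtain ⟨z, hz, hd, rfl⟩ := cls_surj y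
      have h2 : z ∈ LinearMap.range EM.ε := by rw [← EM.exact_zero]; exact hd
      obtain ⟨m, rfl⟩ := h2
      have hm : m ∈ ℳ g :=
        Helper66.GradedSub.mem_of_map_mem ℳ (EM.X 0).gr EM.ε EM.ε_grHom EM.ε_injective hz.2
      exact ⟨⟨m, hm⟩, rfl⟩
    exact ((LinearEquiv.ofBijective ψ ⟨hinj, hsurj⟩).length_eq).symm
  refine ⟨?_, hfin, ⟨0, fun g => ?_⟩⟩
  · intro i g
    cases i with
    | zero => rw [h0]; exact hfin g
    | succ i => rw [hhigh]; exact ENat.zero_ne_top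
  · unfold Fd chi
    rw [Finset.sum_eq_single 0]
    · rw [h0, pow_zero, one_mul, sub_self]
    · intro i _ hi
      obtain ⟨j, rfl⟩ := Nat.exists_eq_succ_of_ne_zero hi
      rw [hhigh]
      simp
    · intro h
      exact absurd (Finset.mem_range.2 (Nat.succ_pos d)) h

end claim

section step

variable {R : Type u} [CommRing R] [IsNoetherianRing R] {𝒜 : ℤ → AddSubgroup R} [GradedRing 𝒜]
variable {K : Type u} [AddCommGroup K] [Module R K] {𝒦 : ℤ → AddSubgroup K} [Decomposition 𝒦]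
  [SetLike.GradedSMul 𝒜 𝒦]
variable {M : Type u} [AddCommGroup M] [Module R M] {ℳ : ℤ → AddSubgroup M} [Decomposition ℳ]
  [SetLike.GradedSMul 𝒜 ℳ]
variable {MK : Type u} [AddCommGroup MK] [Module R MK] {𝒬' : ℤ → AddSubgroup MK}
  [Decomposition 𝒬'] [SetLike.GradedSMul 𝒜 𝒬']
variable {Q : Type u} [AddCommGroup Q] [Module R Q] {𝒬 : ℤ → AddSubgroup Q} [Decomposition 𝒬]
  [SetLike.GradedSMul 𝒜 𝒬]

theorem claim_step' (a : HomogeneousIdeal 𝒜) (d : ℕ)
    {i1 : K →ₗ[R] M} {p1 : M →ₗ[R] MK} (hS1 : GSES 𝒦 ℳ 𝒬' i1 p1)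
    {xb : (Helper66.GradedShift.shiftGMod 𝒜 𝒬' (-1)).carrier →ₗ[R] M} {π : M →ₗ[R] Q}
    (hS2 : GSES (Helper66.GradedShift.shiftGMod 𝒜 𝒬' (-1)).gr ℳ 𝒬 xb π)
    (EK : StarInjRes 𝒜 𝒦) (EM : StarInjRes 𝒜 ℳ) (EMK : StarInjRes 𝒜 𝒬') (EQ : StarInjRes 𝒜 𝒬)
    (cK : Claim EK a.toIdeal d) (cQ : Claim EQ a.toIdeal d)
    (hKtop : ∀ g, hl EK a.toIdeal (d + 1) g = 0) (hMKtop : ∀ g, hl EMK a.toIdeal (d + 1) g = 0)
    (hvan : ∃ r : ℤ, ∀ (i : ℕ) (g : ℤ), r ≤ g → HV EM a.toIdeal i g)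
    (hbelow : ∃ n₀ : ℤ, ∀ n : ℤ, n < n₀ → ℳ n = ⊥) : Claim EM a.toIdeal d := by
  have hsh : ∀ i g, hl (shiftRes EMK (-1)) a.toIdeal i g = hl EMK a.toIdeal i (-1 + g) :=
    fun i g => hl_shiftRes EMK (-1) a.toIdeal i g
  have hcancel : ∀ g : ℤ, -1 + (g + 1) = g := fun g => by ring
  obtain ⟨r, hr⟩ := hvan
  -- finiteness of the cohomology of `M`
  have finM : ∀ i g, hl EM a.toIdeal i g ≠ ⊤ := by
    intro i
    have key : ∀ k : ℕ, ∀ g : ℤ, r ≤ g + k → hl EM a.toIdeal i g ≠ ⊤ := by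
      intro k
      induction k with
      | zero =>
        intro g hg
        rw [hl_eq_zero_of_HV (hr i g (by simpa using hg))]
        exact ENat.zero_ne_top
      | succ k ih =>
        intro g hg
        have h1 : hl EM a.toIdeal i (g + 1) ≠ ⊤ := ih (g + 1) (by push_cast at hg ⊢; omega)
        have hA := hl_mid_le hS1 EK EM EMK a.toIdeal g i
        have hB : hl EMK a.toIdeal i g ≠ ⊤ := by
          cases i with
          | zero =>
            have h2 := hl_left_zero_le hS2 (shiftRes EMK (-1)) EM EQ a.toIdeal (g + 1)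
            rw [hsh, hcancel] at h2
            exact ne_top_of_le_ne_top h1 h2
          | succ j =>
            have h2 := hl_left_succ_le hS2 (shiftRes EMK (-1)) EM EQ a.toIdeal (g + 1) j
            rw [hsh, hcancel] at h2
            exact ne_top_of_le_ne_top (WithTop.add_ne_top.2 ⟨cQ.fin j (g + 1), h1⟩) h2
        exact ne_top_of_le_ne_top (WithTop.add_ne_top.2 ⟨cK.fin i g, hB⟩) hA
    intro g
    refine key (r - g).toNat g ?_
    have := Int.self_le_toNat (r - g)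
    omega
  have finMK : ∀ i g, hl EMK a.toIdeal i g ≠ ⊤ := fun i g =>
    ne_top_of_le_ne_top (WithTop.add_ne_top.2 ⟨finM i g, cK.fin (i + 1) g⟩)
      (hl_right_le hS1 EK EM EMK a.toIdeal g i)
  -- finiteness of the Hilbert function
  obtain ⟨n₀, hn₀⟩ := hbelow
  have hH1 : ∀ g, hfl 𝒜 ℳ g = hfl 𝒜 𝒦 g + hfl 𝒜 𝒬' g := hfl_gses hS1
  have hH2 : ∀ g, hfl 𝒜 ℳ g = hfl 𝒜 𝒬' (-1 + g) + hfl 𝒜 𝒬 g := fun g => by
    rw [hfl_gses hS2 g, hfl_shift]
  have hfM : ∀ g, hfl 𝒜 ℳ g ≠ ⊤ := by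
    have key : ∀ k : ℕ, ∀ g : ℤ, g < n₀ + k → hfl 𝒜 ℳ g ≠ ⊤ := by
      intro k
      induction k with
      | zero =>
        intro g hg
        rw [hfl_eq_zero_of_bot (hn₀ g (by simpa using hg))]
        exact ENat.zero_ne_top
      | succ k ih =>
        intro g hg
        have h1 := ih (-1 + g) (by push_cast at hg ⊢; omega)
        rw [hH2 g]
        refine WithTop.add_ne_top.2 ⟨?_, cQ.hfin g⟩
        have h2 : hfl 𝒜 𝒬' (-1 + g) ≤ hfl 𝒜 ℳ (-1 + g) := by
          rw [hH1 (-1 + g)]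
          exact le_add_self
        exact ne_top_of_le_ne_top h1 h2
    intro g
    refine key (g - n₀ + 1).toNat g ?_
    have := Int.self_le_toNat (g - n₀ + 1)
    omega
  have hfMK : ∀ g, hfl 𝒜 𝒬' g ≠ ⊤ := fun g =>
    ne_top_of_le_ne_top (hfM g) (by rw [hH1 g]; exact le_add_self)
  -- the difference equation
  obtain ⟨tK, hK⟩ := cK.pl
  obtain ⟨tQ, hQ⟩ := cQ.pl
  have hchi1 : ∀ g, chi EM a.toIdeal d g = chi EK a.toIdeal d g + chi EMK a.toIdeal d g :=
    fun g => chi_add hS1 EK EM EMK a.toIdeal g d (fun i => cK.fin i g) (fun i => finMK i g)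
      (hKtop g)
  have hchi2 : ∀ g, chi EM a.toIdeal d g =
      chi EMK a.toIdeal d (-1 + g) + chi EQ a.toIdeal d g := by
    intro g
    have h := chi_add hS2 (shiftRes EMK (-1)) EM EQ a.toIdeal g d
      (fun i => by rw [hsh]; exact finMK i _) (fun i => cQ.fin i g)
      (by rw [hsh]; exact hMKtop _)
    rw [h]
    congr 1
    unfold chi
    simp only [hsh]
  have hHq1 : ∀ g, ((hfl 𝒜 ℳ g).toNat : ℚ) =
      ((hfl 𝒜 𝒦 g).toNat : ℚ) + ((hfl 𝒜 𝒬' g).toNat : ℚ) := fun g => by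
    rw [hH1 g, ENat.toNat_add (cK.hfin g) (hfMK g)]
    push_cast
    rfl
  have hHq2 : ∀ g, ((hfl 𝒜 ℳ g).toNat : ℚ) =
      ((hfl 𝒜 𝒬' (-1 + g)).toNat : ℚ) + ((hfl 𝒜 𝒬 g).toNat : ℚ) := fun g => by
    rw [hH2 g, ENat.toNat_add (hfMK _) (cQ.hfin g)]
    push_cast
    rfl
  refine ⟨finM, hfM, ⟨max tK tQ + 1, ?_⟩⟩
  apply PL.of_delta (G := fun g => Fd EQ a.toIdeal d g - Fd EK a.toIdeal d (g - 1))
  · exact (hQ.mono (le_max_right _ _)).sub ((hK.mono (le_max_left _ _)).shift)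
  · intro g
    have e1 : (-1 + g : ℤ) = g - 1 := by ring
    simp only [Fd]
    rw [hHq2 g, hchi2 g, hHq1 (g - 1), hchi1 (g - 1), e1]
    ring

end step

section gen

variable {R : Type u} [CommRing R] [IsNoetherianRing R] {𝒜 : ℤ → AddSubgroup R} [GradedRing 𝒜]

/-- **vanishing above the arithmetic rank** (for degree-one elements) -/
theorem ar_vanish (hpos : ∀ n : ℤ, n < 0 → 𝒜 n = ⊥) (a : HomogeneousIdeal 𝒜)
    (ha : ∀ n : ℤ, 0 < n → ∀ r ∈ 𝒜 n, r ∈ a.toIdeal) (xs : List R) :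
    ∀ (𝔠 : Ideal R) (_ : ∀ x ∈ xs, x ∈ 𝒜 1) (_ : a.toIdeal ≤ 𝔠 ⊔ Ideal.ofList xs)
      (M : Type u) [AddCommGroup M] [Module R M] (ℳ : ℤ → AddSubgroup M) [Decomposition ℳ]
      [SetLike.GradedSMul 𝒜 ℳ] [Module.Finite R M] (_ : ∀ r ∈ 𝔠, ∀ m : M, r • m = 0)
      (EM : StarInjRes 𝒜 ℳ), ∀ i, xs.length < i → ∀ g, HV EM a.toIdeal i g := by
  classical
  induction xs with
  | nil =>
    intro 𝔠 _ hle M _ _ ℳ _ _ _ hc EM i hi g
    rw [Ideal.ofList_nil, sup_bot_eq] at hle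
    refine HV_of_torsion EM a (fun m => ⟨1, fun r hr => ?_⟩) i (by simpa using hi) g
    rw [pow_one] at hr
    exact hc r (hle hr) m
  | cons x xs ih =>
    intro 𝔠 hxs hle M _ _ ℳ _ _ _ hc EM i hi g
    have hle' : a.toIdeal ≤ (𝔠 ⊔ Ideal.span {x}) ⊔ Ideal.ofList xs := by
      rw [Ideal.ofList_cons, ← sup_assoc] at hle
      exact hle
    have hx : x ∈ 𝒜 1 := hxs x (List.mem_cons_self ..)
    have hxs' : ∀ y ∈ xs, y ∈ 𝒜 1 := fun y hy => hxs y (List.mem_cons_of_mem _ hy)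
    have hmem : ∀ r ∈ 𝔠 ⊔ Ideal.span {x}, ∃ c ∈ 𝔠, ∃ t : R, r = c + t * x := by
      intro r hr
      obtain ⟨c, hc', y, hy, rfl⟩ := Submodule.mem_sup.1 hr
      obtain ⟨t, rfl⟩ := Ideal.mem_span_singleton'.1 hy
      exact ⟨c, hc', t, rfl⟩
    haveI : IsNoetherian R M := isNoetherian_of_isNoetherianRing_of_finite R M
    set K : Submodule R M := LinearMap.ker (x • (LinearMap.id : M →ₗ[R] M)) with hKdef
    have hKhom : K.IsHomogeneous ℳ := ker_smul_isHomogeneous hx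
    let _ : Decomposition (Helper66.GradedSub.spiece ℳ K) :=
      Helper66.GradedSub.subDecomposition ℳ K hKhom
    let _ : SetLike.GradedSMul 𝒜 (Helper66.GradedSub.spiece ℳ K) :=
      Helper66.GradedSub.subGradedSMul 𝒜 ℳ K
    let _ : Decomposition (Helper66.GradedQuot.qpiece ℳ K) :=
      Helper66.GradedQuot.quotDecomposition ℳ K hKhom
    let _ : SetLike.GradedSMul 𝒜 (Helper66.GradedQuot.qpiece ℳ K) :=
      Helper66.GradedQuot.quotGradedSMul 𝒜 ℳ K
    have hS1 : GSES (Helper66.GradedSub.spiece ℳ K) ℳ (Helper66.GradedQuot.qpiece ℳ K)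
        K.subtype K.mkQ :=
      { f_gr := fun _ _ hx => hx
        p_gr := Helper66.GradedQuot.mkQ_grHom ℳ K
        f_inj := Subtype.val_injective
        p_surj := K.mkQ_surjective
        exact := by rw [Submodule.ker_mkQ, Submodule.range_subtype] }
    set Q : Submodule R M := LinearMap.range (x • (LinearMap.id : M →ₗ[R] M)) with hQdef
    have hQhom : Q.IsHomogeneous ℳ := range_smul_isHomogeneous' hx
    let _ : Decomposition (Helper66.GradedQuot.qpiece ℳ Q) :=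
      Helper66.GradedQuot.quotDecomposition ℳ Q hQhom
    let _ : SetLike.GradedSMul 𝒜 (Helper66.GradedQuot.qpiece ℳ Q) :=
      Helper66.GradedQuot.quotGradedSMul 𝒜 ℳ Q
    let xb : (Helper66.GradedShift.shiftGMod 𝒜 (Helper66.GradedQuot.qpiece ℳ K) (-1)).carrier
        →ₗ[R] M := K.liftQ (x • (LinearMap.id : M →ₗ[R] M)) le_rfl
    have hxb : ∀ m : M, xb (K.mkQ m) = x • m := fun m => rfl
    have hS2 : GSES (Helper66.GradedShift.shiftGMod 𝒜 (Helper66.GradedQuot.qpiece ℳ K) (-1)).gr ℳ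
        (Helper66.GradedQuot.qpiece ℳ Q) xb Q.mkQ :=
      { f_gr := by
          rintro g _ ⟨m, (hm : m ∈ ℳ (-1 + g)), rfl⟩
          change xb (K.mkQ m) ∈ ℳ g
          rw [hxb]
          have := SetLike.GradedSMul.smul_mem (A := 𝒜) (B := ℳ) hx hm
          rw [vadd_eq_add, add_neg_cancel_left] at this
          exact this
        p_gr := Helper66.GradedQuot.mkQ_grHom ℳ Q
        f_inj := by
          rw [← LinearMap.ker_eq_bot]
          exact Submodule.ker_liftQ_eq_bot _ _ _ le_rfl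
        p_surj := Q.mkQ_surjective
        exact := by
          rw [Submodule.ker_mkQ]
          exact (Submodule.range_liftQ K (x • (LinearMap.id : M →ₗ[R] M)) le_rfl).symm }
    haveI : Module.Finite R K := Module.IsNoetherian.finite R K
    obtain ⟨EK⟩ := exists_res (𝒜 := 𝒜) K (Helper66.GradedSub.spiece ℳ K)
    obtain ⟨EMK⟩ := exists_res (𝒜 := 𝒜) (M ⧸ K) (Helper66.GradedQuot.qpiece ℳ K)
    obtain ⟨EQ⟩ := exists_res (𝒜 := 𝒜) (M ⧸ Q) (Helper66.GradedQuot.qpiece ℳ Q)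
    have hcK : ∀ r ∈ 𝔠 ⊔ Ideal.span {x}, ∀ k : K, r • k = 0 := by
      intro r hr k
      obtain ⟨c, hc', t, rfl⟩ := hmem r hr
      apply Subtype.ext
      have hk : x • (k.1 : M) = 0 := LinearMap.mem_ker.1 k.2
      change (c + t * x) • (k.1 : M) = 0
      rw [add_smul, hc c hc', mul_smul, hk, smul_zero, add_zero]
    have hcC : ∀ r ∈ 𝔠 ⊔ Ideal.span {x}, ∀ k : M ⧸ Q, r • k = 0 := by
      intro r hr k
      obtain ⟨c, hc', t, rfl⟩ := hmem r hr
      obtain ⟨m, rfl⟩ := Submodule.mkQ_surjective _ k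
      rw [← map_smul, add_smul, hc c hc', zero_add, ← LinearMap.mem_ker, Submodule.ker_mkQ]
      exact ⟨t • m, by
        change x • (t • m) = (t * x) • m
        rw [smul_smul, mul_comm]⟩
    have vK := ih (𝔠 ⊔ Ideal.span {x}) hxs' hle' K (Helper66.GradedSub.spiece ℳ K) hcK EK
    have vQ := ih (𝔠 ⊔ Ideal.span {x}) hxs' hle' (M ⧸ Q) (Helper66.GradedQuot.qpiece ℳ Q) hcC EQ
    have hsh : ∀ i g, hl (shiftRes EMK (-1)) a.toIdeal i g = hl EMK a.toIdeal i (-1 + g) :=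
      fun i g => hl_shiftRes EMK (-1) a.toIdeal i g
    rw [List.length_cons] at hi
    obtain ⟨j, rfl⟩ : ∃ j, i = j + 1 := ⟨i - 1, by omega⟩
    have hstep : ∀ g, hl EM a.toIdeal (j + 1) g ≤ hl EM a.toIdeal (j + 1) (g + 1) := by
      intro g
      have hA := hl_mid_le hS1 EK EM EMK a.toIdeal g (j + 1)
      rw [hl_eq_zero_of_HV (vK (j + 1) (by omega) g), zero_add] at hA
      have hB := hl_left_succ_le hS2 (shiftRes EMK (-1)) EM EQ a.toIdeal (g + 1) j
      rw [hsh, hl_eq_zero_of_HV (vQ j (by omega) (g + 1)), zero_add,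
        show (-1 : ℤ) + (g + 1) = g by ring] at hB
      exact hA.trans hB
    obtain ⟨r, hr⟩ := exists_HV_above hpos a ha (x :: xs) 𝔠
      (fun y hy => ⟨ha 1 one_pos y (hxs y hy), 1, one_pos, hxs y hy⟩) hle M ℳ hc EM
    have key : ∀ k : ℕ, ∀ g : ℤ, r ≤ g + k → hl EM a.toIdeal (j + 1) g = 0 := by
      intro k
      induction k with
      | zero =>
        intro g hg
        exact hl_eq_zero_of_HV (hr _ g (by simpa using hg))
      | succ k ihk =>
        intro g hg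
        have h1 := hstep g
        rw [ihk (g + 1) (by push_cast at hg ⊢; omega)] at h1
        exact nonpos_iff_eq_zero.1 h1
    exact HV_of_hl_eq_zero (key (r - g).toNat g (by have := Int.self_le_toNat (r - g); omega))

/-- the inductive claim over a ring whose degree-zero part need not be Artinian: for modules killed
by an ideal `J` such that finitely generated modules killed by `J` and `R_+` have finite length -/
theorem claim_ind' (hpos : ∀ n : ℤ, n < 0 → 𝒜 n = ⊥)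
    (a : HomogeneousIdeal 𝒜) (harad : a.toIdeal ≤ (Ideal.span (AInvB.posSet 𝒜)).radical) (d : ℕ)
    (htop : ∀ (M : Type u) [AddCommGroup M] [Module R M] (ℳ : ℤ → AddSubgroup M)
      [Decomposition ℳ] [SetLike.GradedSMul 𝒜 ℳ] [Module.Finite R M] (EM : StarInjRes 𝒜 ℳ)
      (g : ℤ), HV EM a.toIdeal (d + 1) g)
    (hvan : ∀ (M : Type u) [AddCommGroup M] [Module R M] (ℳ : ℤ → AddSubgroup M)
      [Decomposition ℳ] [SetLike.GradedSMul 𝒜 ℳ] [Module.Finite R M] (EM : StarInjRes 𝒜 ℳ),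
      ∃ r : ℤ, ∀ (i : ℕ) (g : ℤ), r ≤ g → HV EM a.toIdeal i g)
    (J : Ideal R)
    (hJ : ∀ (M : Type u) [AddCommGroup M] [Module R M] [Module.Finite R M],
      (∀ r ∈ J, ∀ m : M, r • m = 0) →
      (∀ r ∈ Ideal.span (AInvB.posSet 𝒜), ∀ m : M, r • m = 0) →
      Module.length (deg0 𝒜) M ≠ ⊤)
    (xs : List R) :
    ∀ (𝔠 : Ideal R) (_ : J ≤ 𝔠) (_ : ∀ x ∈ xs, x ∈ 𝒜 1)
      (_ : Ideal.span (AInvB.posSet 𝒜) ≤ 𝔠 ⊔ Ideal.ofList xs)
      (M : Type u) [AddCommGroup M] [Module R M] (ℳ : ℤ → AddSubgroup M) [Decomposition ℳ]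
      [SetLike.GradedSMul 𝒜 ℳ] [Module.Finite R M] (_ : ∀ r ∈ 𝔠, ∀ m : M, r • m = 0)
      (EM : StarInjRes 𝒜 ℳ), Claim EM a.toIdeal d := by
  classical
  induction xs with
  | nil =>
    intro 𝔠 hJc _ hle M _ _ ℳ _ _ _ hc EM
    rw [Ideal.ofList_nil, sup_bot_eq] at hle
    exact claim_base' hpos a harad d (fun r hr m => hc r (hle hr) m)
      (hJ M (fun r hr m => hc r (hJc hr) m) (fun r hr m => hc r (hle hr) m)) EM
  | cons x xs ih =>
    intro 𝔠 hJc hxs hle M _ _ ℳ _ _ _ hc EM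
    have hle' : Ideal.span (AInvB.posSet 𝒜) ≤ (𝔠 ⊔ Ideal.span {x}) ⊔ Ideal.ofList xs := by
      rw [Ideal.ofList_cons, ← sup_assoc] at hle
      exact hle
    have hx : x ∈ 𝒜 1 := hxs x (List.mem_cons_self ..)
    have hxs' : ∀ y ∈ xs, y ∈ 𝒜 1 := fun y hy => hxs y (List.mem_cons_of_mem _ hy)
    have hmem : ∀ r ∈ 𝔠 ⊔ Ideal.span {x}, ∃ c ∈ 𝔠, ∃ t : R, r = c + t * x := by
      intro r hr
      obtain ⟨c, hc', y, hy, rfl⟩ := Submodule.mem_sup.1 hr
      obtain ⟨t, rfl⟩ := Ideal.mem_span_singleton'.1 hy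
      exact ⟨c, hc', t, rfl⟩
    haveI : IsNoetherian R M := isNoetherian_of_isNoetherianRing_of_finite R M
    set K : Submodule R M := LinearMap.ker (x • (LinearMap.id : M →ₗ[R] M)) with hKdef
    have hKhom : K.IsHomogeneous ℳ := ker_smul_isHomogeneous hx
    let _ : Decomposition (Helper66.GradedSub.spiece ℳ K) :=
      Helper66.GradedSub.subDecomposition ℳ K hKhom
    let _ : SetLike.GradedSMul 𝒜 (Helper66.GradedSub.spiece ℳ K) :=
      Helper66.GradedSub.subGradedSMul 𝒜 ℳ K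
    let _ : Decomposition (Helper66.GradedQuot.qpiece ℳ K) :=
      Helper66.GradedQuot.quotDecomposition ℳ K hKhom
    let _ : SetLike.GradedSMul 𝒜 (Helper66.GradedQuot.qpiece ℳ K) :=
      Helper66.GradedQuot.quotGradedSMul 𝒜 ℳ K
    have hS1 : GSES (Helper66.GradedSub.spiece ℳ K) ℳ (Helper66.GradedQuot.qpiece ℳ K)
        K.subtype K.mkQ :=
      { f_gr := fun _ _ hx => hx
        p_gr := Helper66.GradedQuot.mkQ_grHom ℳ K
        f_inj := Subtype.val_injective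
        p_surj := K.mkQ_surjective
        exact := by rw [Submodule.ker_mkQ, Submodule.range_subtype] }
    set Q : Submodule R M := LinearMap.range (x • (LinearMap.id : M →ₗ[R] M)) with hQdef
    have hQhom : Q.IsHomogeneous ℳ := range_smul_isHomogeneous' hx
    let _ : Decomposition (Helper66.GradedQuot.qpiece ℳ Q) :=
      Helper66.GradedQuot.quotDecomposition ℳ Q hQhom
    let _ : SetLike.GradedSMul 𝒜 (Helper66.GradedQuot.qpiece ℳ Q) :=
      Helper66.GradedQuot.quotGradedSMul 𝒜 ℳ Q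
    let xb : (Helper66.GradedShift.shiftGMod 𝒜 (Helper66.GradedQuot.qpiece ℳ K) (-1)).carrier
        →ₗ[R] M := K.liftQ (x • (LinearMap.id : M →ₗ[R] M)) le_rfl
    have hxb : ∀ m : M, xb (K.mkQ m) = x • m := fun m => rfl
    have hS2 : GSES (Helper66.GradedShift.shiftGMod 𝒜 (Helper66.GradedQuot.qpiece ℳ K) (-1)).gr ℳ
        (Helper66.GradedQuot.qpiece ℳ Q) xb Q.mkQ :=
      { f_gr := by
          rintro g _ ⟨m, (hm : m ∈ ℳ (-1 + g)), rfl⟩
          change xb (K.mkQ m) ∈ ℳ g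
          rw [hxb]
          have := SetLike.GradedSMul.smul_mem (A := 𝒜) (B := ℳ) hx hm
          rw [vadd_eq_add, add_neg_cancel_left] at this
          exact this
        p_gr := Helper66.GradedQuot.mkQ_grHom ℳ Q
        f_inj := by
          rw [← LinearMap.ker_eq_bot]
          exact Submodule.ker_liftQ_eq_bot _ _ _ le_rfl
        p_surj := Q.mkQ_surjective
        exact := by
          rw [Submodule.ker_mkQ]
          exact (Submodule.range_liftQ K (x • (LinearMap.id : M →ₗ[R] M)) le_rfl).symm }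
    haveI : Module.Finite R K := Module.IsNoetherian.finite R K
    obtain ⟨EK⟩ := exists_res (𝒜 := 𝒜) K (Helper66.GradedSub.spiece ℳ K)
    obtain ⟨EMK⟩ := exists_res (𝒜 := 𝒜) (M ⧸ K) (Helper66.GradedQuot.qpiece ℳ K)
    obtain ⟨EQ⟩ := exists_res (𝒜 := 𝒜) (M ⧸ Q) (Helper66.GradedQuot.qpiece ℳ Q)
    have hcK : ∀ r ∈ 𝔠 ⊔ Ideal.span {x}, ∀ k : K, r • k = 0 := by
      intro r hr k
      obtain ⟨c, hc', t, rfl⟩ := hmem r hr
      apply Subtype.ext
      have hk : x • (k.1 : M) = 0 := LinearMap.mem_ker.1 k.2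
      change (c + t * x) • (k.1 : M) = 0
      rw [add_smul, hc c hc', mul_smul, hk, smul_zero, add_zero]
    have hcC : ∀ r ∈ 𝔠 ⊔ Ideal.span {x}, ∀ k : M ⧸ Q, r • k = 0 := by
      intro r hr k
      obtain ⟨c, hc', t, rfl⟩ := hmem r hr
      obtain ⟨m, rfl⟩ := Submodule.mkQ_surjective _ k
      rw [← map_smul, add_smul, hc c hc', zero_add, ← LinearMap.mem_ker, Submodule.ker_mkQ]
      exact ⟨t • m, by
        change x • (t • m) = (t * x) • m
        rw [smul_smul, mul_comm]⟩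
    have cK := ih (𝔠 ⊔ Ideal.span {x}) (hJc.trans le_sup_left) hxs' hle' K
      (Helper66.GradedSub.spiece ℳ K) hcK EK
    have cQ := ih (𝔠 ⊔ Ideal.span {x}) (hJc.trans le_sup_left) hxs' hle' (M ⧸ Q)
      (Helper66.GradedQuot.qpiece ℳ Q) hcC EQ
    exact claim_step' a d hS1 hS2 EK EM EMK EQ cK cQ
      (fun g => hl_eq_zero_of_HV (htop K (Helper66.GradedSub.spiece ℳ K) EK g))
      (fun g => hl_eq_zero_of_HV (htop (M ⧸ K) (Helper66.GradedQuot.qpiece ℳ K) EMK g))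
      (hvan M ℳ EM) (exists_piece_eq_bot_below (ℳ := ℳ) hpos)

end gen

end Groth.Agent.Lib.Helper97.SG
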