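import Mathlib
import Groth.Prelude.Def_GrLC
import Groth.Agent.Lib.Helper97.SGGen

/-!
# Euler characteristics of local cohomology along `0 → L_+ → L → L_0 → 0` and
`0 → L_+(1) → L → G → 0` (helper97)
-/

set_option autoImplicit false
set_option linter.unusedSectionVars false
set_option linter.unusedVariables false
set_option linter.style.haveILetI false
universe u

namespace Groth.Agent.Lib.Helper97.SG

open GrLC DirectSum Groth.Agent.Lib.Helper77.GLC SGPoly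

section plus

variable {R : Type u} [CommRing R] [IsNoetherianRing R] {𝒜 : ℤ → AddSubgroup R} [GradedRing 𝒜]
variable {P : Type u} [AddCommGroup P] [Module R P] {𝒩 : ℤ → AddSubgroup P} [Decomposition 𝒩]
  [SetLike.GradedSMul 𝒜 𝒩]
variable {L : Type u} [AddCommGroup L] [Module R L] {ℒ : ℤ → AddSubgroup L} [Decomposition ℒ]
  [SetLike.GradedSMul 𝒜 ℒ]
variable {M0 : Type u} [AddCommGroup M0] [Module R M0] {ℳ0 : ℤ → AddSubgroup M0}
  [Decomposition ℳ0] [SetLike.GradedSMul 𝒜 ℳ0]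
variable {G : Type u} [AddCommGroup G] [Module R G] {𝒢 : ℤ → AddSubgroup G} [Decomposition 𝒢]
  [SetLike.GradedSMul 𝒜 𝒢]

theorem plus_seq (a : HomogeneousIdeal 𝒜) (d : ℕ)
    {i1 : P →ₗ[R] L} {p1 : L →ₗ[R] M0} (hS1 : GSES 𝒩 ℒ ℳ0 i1 p1)
    {σ : (Helper66.GradedShift.shiftGMod 𝒜 𝒩 1).carrier →ₗ[R] L} {π : L →ₗ[R] G}
    (hS2 : GSES (Helper66.GradedShift.shiftGMod 𝒜 𝒩 1).gr ℒ 𝒢 σ π)
    (h0 : ∀ n : ℤ, n ≠ 0 → ℳ0 n = ⊥) (h0t : ∀ r ∈ a.toIdeal, ∀ x : M0, r • x = 0)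
    (EP : StarInjRes 𝒜 𝒩) (EL : StarInjRes 𝒜 ℒ) (E0 : StarInjRes 𝒜 ℳ0) (EG : StarInjRes 𝒜 𝒢)
    (h5 : ∀ i g, hl EG a.toIdeal i g ≠ ⊤) (h6 : ∀ g, hl EP a.toIdeal (d + 1) g = 0)
    (h7 : ∃ r : ℤ, ∀ (i : ℕ) (g : ℤ), r ≤ g → HV EL a.toIdeal i g) :
    ∀ n : ℤ, 0 ≤ n → (∀ i, hl EL a.toIdeal i n ≠ ⊤) ∧
      chi EL a.toIdeal d n = chi EL a.toIdeal d (n + 1) + chi EG a.toIdeal d n := by
  -- step A: the cohomology of `L_0` lives in degree zero
  have hA : ∀ i (n : ℤ), n ≠ 0 → hl E0 a.toIdeal i n = 0 := by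
    intro i n hn
    apply hl_eq_zero_of_HV
    cases i with
    | zero =>
      rw [HV_zero_iff]
      intro x hx _
      rw [h0 n hn] at hx
      exact (AddSubgroup.mem_bot).1 hx
    | succ i =>
      refine HV_of_torsion E0 a (fun m => ⟨1, fun r hr => ?_⟩) (i + 1) (Nat.succ_pos i) n
      rw [pow_one] at hr
      exact h0t r hr m
  -- step B
  have hB : ∀ i (n : ℤ), n ≠ 0 → hl EP a.toIdeal i n = hl EL a.toIdeal i n := by
    intro i n hn
    apply le_antisymm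
    · cases i with
      | zero => exact hl_left_zero_le hS1 EP EL E0 a.toIdeal n
      | succ j =>
        have h := hl_left_succ_le hS1 EP EL E0 a.toIdeal n j
        rwa [hA j n hn, zero_add] at h
    · have h := hl_mid_le hS1 EP EL E0 a.toIdeal n i
      rwa [hA i n hn, add_zero] at h
  have hsh : ∀ i (n : ℤ), 0 ≤ n → hl (shiftRes EP 1) a.toIdeal i n = hl EL a.toIdeal i (n + 1) := by
    intro i n hn
    rw [hl_shiftRes EP 1 a.toIdeal i n, hB i (1 + n) (by omega), add_comm]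
  obtain ⟨r, hr⟩ := h7
  have hfin : ∀ k : ℕ, ∀ n : ℤ, 0 ≤ n → r ≤ n + k → ∀ i, hl EL a.toIdeal i n ≠ ⊤ := by
    intro k
    induction k with
    | zero =>
      intro n _ hn i
      rw [hl_eq_zero_of_HV (hr i n (by simpa using hn))]
      exact ENat.zero_ne_top
    | succ k ih =>
      intro n hn0 hn i
      have h1 := ih (n + 1) (by omega) (by push_cast at hn ⊢; omega) i
      have h2 := hl_mid_le hS2 (shiftRes EP 1) EL EG a.toIdeal n i
      rw [hsh i n hn0] at h2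
      exact ne_top_of_le_ne_top (WithTop.add_ne_top.2 ⟨h1, h5 i n⟩) h2
  intro n hn
  have hfn : ∀ m : ℤ, 0 ≤ m → ∀ i, hl EL a.toIdeal i m ≠ ⊤ := fun m hm =>
    hfin (r - m).toNat m hm (by have := Int.self_le_toNat (r - m); omega)
  refine ⟨hfn n hn, ?_⟩
  have h := chi_add hS2 (shiftRes EP 1) EL EG a.toIdeal n d
    (fun i => by rw [hsh i n hn]; exact hfn (n + 1) (by omega) i) (fun i => h5 i n)
    (by rw [hl_shiftRes]; exact h6 _)
  rw [h]
  congr 1
  unfold chi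
  apply Finset.sum_congr rfl
  intro i _
  rw [hsh i n hn]

end plus

end Groth.Agent.Lib.Helper97.SG
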