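import Mathlib
import Groth.Prelude.Def_GrLC
import Groth.Agent.Lib.Helper97.SGPlus
import Groth.Agent.Lib.Helper97.GrHtOne

/-!
# Generic form of the Hilbert–Samuel / local cohomology comparison for Rees-like modules
(helper97)
-/

set_option autoImplicit false
set_option linter.unusedSectionVars false
set_option linter.unusedVariables false
set_option linter.style.haveILetI false
universe u

namespace Groth.Agent.Lib.Helper97.SG

open GrLC DirectSum Groth.Agent.Lib.Helper77.GLC SGPoly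

section reesgen

variable {R : Type u} [CommRing R] [IsNoetherianRing R] {𝒜 : ℤ → AddSubgroup R} [GradedRing 𝒜]
variable {L : Type u} [AddCommGroup L] [Module R L] [Module.Finite R L] {ℒ : ℤ → AddSubgroup L}
  [Decomposition ℒ] [SetLike.GradedSMul 𝒜 ℒ]

/-- the degree `n` piece of `L / range σ` as a module over the degree-zero subring -/
noncomputable def Gcomp (Q : Submodule R L) (n : ℤ) : Submodule (deg0 𝒜) (L ⧸ Q) :=
  (comp 𝒜 ℒ n).map (Q.mkQ.restrictScalars (deg0 𝒜))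

theorem rees_gen (hpos : ∀ n : ℤ, n < 0 → 𝒜 n = ⊥)
    (hstd : Ideal.span (⋃ n ∈ Set.Ioi (0 : ℤ), (𝒜 n : Set R)) =
      Ideal.span ((𝒜 1 : AddSubgroup R) : Set R))
    (a : HomogeneousIdeal 𝒜) (haeq : a.toIdeal = Ideal.span (AInvB.posSet 𝒜))
    (J : Ideal R)
    (hJ : ∀ (N : Type u) [AddCommGroup N] [Module R N] [Module.Finite R N],
      (∀ r ∈ J, ∀ m : N, r • m = 0) →
      (∀ r ∈ Ideal.span (AInvB.posSet 𝒜), ∀ m : N, r • m = 0) →
      Module.length (deg0 𝒜) N ≠ ⊤)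
    (P : Submodule R L) (hPhom : P.IsHomogeneous ℒ)
    (h1 : ∀ n : ℤ, n ≠ 0 → ∀ x ∈ ℒ n, x ∈ P)
    (h2 : ∀ r ∈ Ideal.span (AInvB.posSet 𝒜), ∀ x : L, r • x ∈ P)
    (σ : P →ₗ[R] L) (h3 : Function.Injective σ)
    (h4 : ∀ (g : ℤ) (x : P), (x : L) ∈ ℒ (1 + g) → σ x ∈ ℒ g)
    (h5 : ∀ r ∈ J, ∀ y : L, r • y ∈ LinearMap.range σ)
    (EL : StarInjRes 𝒜 ℒ) :
    ∃ (d t : ℕ) (p : ℤ → ℚ), PL t p ∧
      (∀ i, d < i → ∀ g, HV EL a.toIdeal i g) ∧
      (∃ r : ℤ, ∀ (i : ℕ) (g : ℤ), r ≤ g → HV EL a.toIdeal i g) ∧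
      ∀ n : ℤ, 0 ≤ n → (∀ i, hl EL a.toIdeal i n ≠ ⊤) ∧
        Module.length (deg0 𝒜) ↥(Gcomp (𝒜 := 𝒜) (ℒ := ℒ) (LinearMap.range σ) n) ≠ ⊤ ∧
        chi EL a.toIdeal d n = chi EL a.toIdeal d (n + 1) +
          ((Module.length (deg0 𝒜)
            ↥(Gcomp (𝒜 := 𝒜) (ℒ := ℒ) (LinearMap.range σ) n)).toNat : ℚ) - p n := by
  classical
  haveI : IsNoetherian R L := isNoetherian_of_isNoetherianRing_of_finite R L
  -- generators of degree one
  have hfg : (Ideal.span ((𝒜 1 : AddSubgroup R) : Set R)).FG := IsNoetherian.noetherian _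
  obtain ⟨s, hs, hspan⟩ :=
    (Submodule.fg_span_iff_fg_span_finset_subset ((𝒜 1 : AddSubgroup R) : Set R)).1 hfg
  have hxs1 : ∀ x ∈ s.toList, x ∈ 𝒜 1 := fun x hx => hs (Finset.mem_toList.1 hx)
  have hofl : Ideal.ofList s.toList = Ideal.span (AInvB.posSet 𝒜) := by
    have h1 : Ideal.ofList s.toList = Ideal.span (s : Set R) := by
      unfold Ideal.ofList
      congr 1
      ext x
      simp
    rw [h1]
    have h2 : Ideal.span (AInvB.posSet 𝒜) = Ideal.span ((𝒜 1 : AddSubgroup R) : Set R) := hstd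
    rw [h2]
    exact hspan.symm
  have haA : ∀ n : ℤ, 0 < n → ∀ r ∈ 𝒜 n, r ∈ a.toIdeal := fun n hn r hr => by
    rw [haeq]
    exact Ideal.subset_span (AInvB.mem_posSet hn hr)
  set d := s.toList.length with hd
  have htopall : ∀ (N : Type u) [AddCommGroup N] [Module R N] (𝒩 : ℤ → AddSubgroup N)
      [Decomposition 𝒩] [SetLike.GradedSMul 𝒜 𝒩] [Module.Finite R N] (EN : StarInjRes 𝒜 𝒩)
      (i : ℕ), d < i → ∀ g : ℤ, HV EN a.toIdeal i g := by
    intro N _ _ 𝒩 _ _ _ EN i hi g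
    exact ar_vanish hpos a haA s.toList ⊥ hxs1 (by rw [bot_sup_eq, hofl, haeq]) N 𝒩
      (fun r hr m => by rw [(Submodule.mem_bot R).1 hr, zero_smul]) EN i hi g
  have hvan : ∀ (N : Type u) [AddCommGroup N] [Module R N] (𝒩 : ℤ → AddSubgroup N)
      [Decomposition 𝒩] [SetLike.GradedSMul 𝒜 𝒩] [Module.Finite R N] (EN : StarInjRes 𝒜 𝒩),
      ∃ r : ℤ, ∀ (i : ℕ) (g : ℤ), r ≤ g → HV EN a.toIdeal i g := by
    intro N _ _ 𝒩 _ _ _ EN
    exact exists_HV_above hpos a haA s.toList ⊥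
      (fun x hx => ⟨haA 1 one_pos x (hxs1 x hx), 1, one_pos, hxs1 x hx⟩)
      (by rw [bot_sup_eq, hofl, haeq]) N 𝒩
      (fun r hr m => by rw [(Submodule.mem_bot R).1 hr, zero_smul]) EN
  -- the graded modules
  let _ : Decomposition (Helper66.GradedSub.spiece ℒ P) :=
    Helper66.GradedSub.subDecomposition ℒ P hPhom
  let _ : SetLike.GradedSMul 𝒜 (Helper66.GradedSub.spiece ℒ P) :=
    Helper66.GradedSub.subGradedSMul 𝒜 ℒ P
  let _ : Decomposition (Helper66.GradedQuot.qpiece ℒ P) :=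
    Helper66.GradedQuot.quotDecomposition ℒ P hPhom
  let _ : SetLike.GradedSMul 𝒜 (Helper66.GradedQuot.qpiece ℒ P) :=
    Helper66.GradedQuot.quotGradedSMul 𝒜 ℒ P
  have hS1 : GSES (Helper66.GradedSub.spiece ℒ P) ℒ (Helper66.GradedQuot.qpiece ℒ P)
      P.subtype P.mkQ :=
    { f_gr := fun _ _ hx => hx
      p_gr := Helper66.GradedQuot.mkQ_grHom ℒ P
      f_inj := Subtype.val_injective
      p_surj := P.mkQ_surjective
      exact := by rw [Submodule.ker_mkQ, Submodule.range_subtype] }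
  let σ' : (Helper66.GradedShift.shiftGMod 𝒜 (Helper66.GradedSub.spiece ℒ P) 1).carrier →ₗ[R] L :=
    σ
  have hσgr : IsGrHom (Helper66.GradedShift.shiftGMod 𝒜 (Helper66.GradedSub.spiece ℒ P) 1).gr ℒ
      σ' := by
    intro g x hx
    exact h4 g x hx
  set Q : Submodule R L := LinearMap.range σ with hQdef
  have hQhom : Q.IsHomogeneous ℒ :=
    Helper66.Graded.range_isHomogeneous
      (Helper66.GradedShift.shiftGMod 𝒜 (Helper66.GradedSub.spiece ℒ P) 1).gr ℒ σ' hσgr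
  let _ : Decomposition (Helper66.GradedQuot.qpiece ℒ Q) :=
    Helper66.GradedQuot.quotDecomposition ℒ Q hQhom
  let _ : SetLike.GradedSMul 𝒜 (Helper66.GradedQuot.qpiece ℒ Q) :=
    Helper66.GradedQuot.quotGradedSMul 𝒜 ℒ Q
  have hS2 : GSES (Helper66.GradedShift.shiftGMod 𝒜 (Helper66.GradedSub.spiece ℒ P) 1).gr ℒ
      (Helper66.GradedQuot.qpiece ℒ Q) σ' Q.mkQ :=
    { f_gr := hσgr
      p_gr := Helper66.GradedQuot.mkQ_grHom ℒ Q
      f_inj := h3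
      p_surj := Q.mkQ_surjective
      exact := (Submodule.ker_mkQ Q).trans rfl }
  haveI : Module.Finite R P := Module.IsNoetherian.finite R P
  obtain ⟨EP⟩ := exists_res (𝒜 := 𝒜) P (Helper66.GradedSub.spiece ℒ P)
  obtain ⟨E0⟩ := exists_res (𝒜 := 𝒜) (L ⧸ P) (Helper66.GradedQuot.qpiece ℒ P)
  obtain ⟨EG⟩ := exists_res (𝒜 := 𝒜) (L ⧸ Q) (Helper66.GradedQuot.qpiece ℒ Q)
  -- the claim for `G`
  have hkillG : ∀ r ∈ J, ∀ y : L ⧸ Q, r • y = 0 := by
    intro r hr y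
    obtain ⟨y, rfl⟩ := Q.mkQ_surjective y
    rw [← map_smul, Submodule.mkQ_apply, Submodule.Quotient.mk_eq_zero]
    exact h5 r hr y
  have harad : a.toIdeal ≤ (Ideal.span (AInvB.posSet 𝒜)).radical := by
    rw [haeq]
    exact Ideal.le_radical
  have cG : Claim EG a.toIdeal d :=
    claim_ind' hpos a harad d
      (fun N _ _ 𝒩 _ _ _ EN g => htopall N 𝒩 EN (d + 1) (Nat.lt_succ_self d) g)
      hvan J hJ s.toList J le_rfl hxs1 (by rw [hofl]; exact le_sup_right)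
      (L ⧸ Q) (Helper66.GradedQuot.qpiece ℒ Q) hkillG EG
  obtain ⟨t, ht⟩ := cG.pl
  -- `L / L_+` is concentrated in degree zero
  have h0 : ∀ n : ℤ, n ≠ 0 → Helper66.GradedQuot.qpiece ℒ P n = ⊥ := by
    intro n hn
    rw [eq_bot_iff]
    rintro _ ⟨x, hx, rfl⟩
    rw [AddSubgroup.mem_bot]
    exact (Submodule.Quotient.mk_eq_zero P).2 (h1 n hn x hx)
  have h0t : ∀ r ∈ a.toIdeal, ∀ x : L ⧸ P, r • x = 0 := by
    intro r hr x
    obtain ⟨x, rfl⟩ := P.mkQ_surjective x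
    rw [← map_smul, Submodule.mkQ_apply, Submodule.Quotient.mk_eq_zero]
    exact h2 r (haeq ▸ hr) x
  have hplus := plus_seq a d hS1 hS2 h0 h0t EP EL E0 EG cG.fin
    (fun g => hl_eq_zero_of_HV (htopall P (Helper66.GradedSub.spiece ℒ P) EP (d + 1)
      (Nat.lt_succ_self d) g)) (hvan L ℒ EL)
  have hcompeq : ∀ n : ℤ, comp 𝒜 (Helper66.GradedQuot.qpiece ℒ Q) n =
      Gcomp (𝒜 := 𝒜) (ℒ := ℒ) Q n := by
    intro n
    ext y
    constructor
    · rintro ⟨x, hx, rfl⟩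
      exact ⟨x, hx, rfl⟩
    · rintro ⟨x, hx, rfl⟩
      exact ⟨x, hx, rfl⟩
  have hlen : ∀ n : ℤ, hfl 𝒜 (Helper66.GradedQuot.qpiece ℒ Q) n =
      Module.length (deg0 𝒜) ↥(Gcomp (𝒜 := 𝒜) (ℒ := ℒ) Q n) := by
    intro n
    unfold hfl
    rw [hcompeq n]
  refine ⟨d, t, Fd EG a.toIdeal d, ht, fun i hi g => htopall L ℒ EL i hi g, hvan L ℒ EL, ?_⟩
  intro n hn
  obtain ⟨hf, hc⟩ := hplus n hn
  refine ⟨hf, ?_, ?_⟩
  · rw [← hlen]
    exact cG.hfin n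
  · rw [hc, ← hlen]
    unfold Fd
    ring

/-- the length of the degree `n` piece of `L / Q` through a presentation of `ℒ n` over a ring
mapping onto the degree-zero subring -/
theorem length_Gcomp {A : Type u} [CommRing A] (φ : A →+* deg0 𝒜) (hφ : Function.Surjective φ)
    {N : Type u} [AddCommGroup N] [Module A N] (N' : Submodule A N) (Q : Submodule R L) (n : ℤ)
    (ψ₀ : N →+ L) (hsm : ∀ (c : A) (m : N), ψ₀ (c • m) = ((φ c : deg0 𝒜) : R) • ψ₀ m)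
    (hmem : ∀ m, ψ₀ m ∈ ℒ n) (hsurj : ∀ x ∈ ℒ n, ∃ m, ψ₀ m = x)
    (hker : ∀ m, ψ₀ m ∈ Q ↔ m ∈ N') :
    Module.length (deg0 𝒜) ↥(Gcomp (𝒜 := 𝒜) (ℒ := ℒ) Q n) = Module.length A (N ⧸ N') := by
  letI : Algebra A (deg0 𝒜) := φ.toAlgebra
  letI : Module A ↥(Gcomp (𝒜 := 𝒜) (ℒ := ℒ) Q n) := Module.compHom _ φ
  haveI : IsScalarTower A (deg0 𝒜) ↥(Gcomp (𝒜 := 𝒜) (ℒ := ℒ) Q n) :=
    ⟨fun c z x => by
      change (φ c * z) • x = φ c • (z • x)
      rw [mul_smul]⟩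
  have h1 : Module.length A ↥(Gcomp (𝒜 := 𝒜) (ℒ := ℒ) Q n) =
      Module.length (deg0 𝒜) ↥(Gcomp (𝒜 := 𝒜) (ℒ := ℒ) Q n) :=
    Module.length_eq_of_surjective hφ
  let ψ : N →ₗ[A] ↥(Gcomp (𝒜 := 𝒜) (ℒ := ℒ) Q n) :=
    { toFun := fun m => ⟨Q.mkQ (ψ₀ m), ⟨ψ₀ m, hmem m, rfl⟩⟩
      map_add' := fun m m' => Subtype.ext (by
        change Q.mkQ (ψ₀ (m + m')) = Q.mkQ (ψ₀ m) + Q.mkQ (ψ₀ m')
        rw [map_add, map_add])
      map_smul' := fun c m => Subtype.ext (by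
        change Q.mkQ (ψ₀ (c • m)) = ((φ c : deg0 𝒜) : R) • Q.mkQ (ψ₀ m)
        rw [hsm, map_smul]) }
  have hψsurj : Function.Surjective ψ := by
    rintro ⟨y, x, hx, rfl⟩
    obtain ⟨m, rfl⟩ := hsurj x hx
    exact ⟨m, rfl⟩
  have hψker : LinearMap.ker ψ = N' := by
    ext m
    rw [LinearMap.mem_ker, ← hker m]
    constructor
    · intro h
      have h2 : Q.mkQ (ψ₀ m) = 0 := congrArg Subtype.val h
      exact (Submodule.Quotient.mk_eq_zero Q).1 h2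
    · intro h
      apply Subtype.ext
      exact (Submodule.Quotient.mk_eq_zero Q).2 h
  have e := ψ.quotKerEquivOfSurjective hψsurj
  rw [← h1, ← e.length_eq, hψker]

end reesgen

end Groth.Agent.Lib.Helper97.SG
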