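import Mathlib
import Groth.Prelude.Def_GrLC
import Groth.Prelude.Def_GrSyz
import Groth.Prelude.Def_Rees
import Groth.Prelude.Def_ReesMod
import Groth.Agent.Lib.Helper97.ReesB
import Groth.Agent.Lib.Helper97.SGRees
import Groth.Agent.Lib.Helper77.GLC1

/-!
# The Hilbert–Samuel function and the local cohomology of the Rees module (helper97)
-/

set_option autoImplicit false
set_option linter.unusedSectionVars false
set_option linter.unusedVariables false
set_option linter.style.haveILetI false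
universe u

namespace Groth.Agent.Lib.Helper97.ReesC

open GrLC DirectSum Polynomial Groth.Agent.Lib.Helper77.GLC SG SGPoly ReesA ReesB IsLocalRing

section pure

variable {A : Type u} [CommRing A] {M : Type u} [AddCommGroup M] [Module A M]

theorem len_step {N N' : Submodule A M} (h : N' ≤ N) :
    Module.length A (M ⧸ N') =
      Module.length A (↥N ⧸ N'.comap N.subtype) + Module.length A (M ⧸ N) := by
  let f : (↥N ⧸ N'.comap N.subtype) →ₗ[A] M ⧸ N' := Submodule.mapQ _ _ N.subtype le_rfl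
  let g : (M ⧸ N') →ₗ[A] M ⧸ N := Submodule.mapQ _ _ LinearMap.id (by simpa using h)
  refine Module.length_eq_add_of_exact f g ?_ ?_ ?_
  · rw [← LinearMap.ker_eq_bot, eq_bot_iff]
    intro x hx
    obtain ⟨x, rfl⟩ := Submodule.mkQ_surjective _ x
    rw [LinearMap.mem_ker] at hx
    have hx' : (Submodule.Quotient.mk (x : M) : M ⧸ N') = 0 := hx
    rw [Submodule.Quotient.mk_eq_zero] at hx'
    rw [Submodule.mem_bot, Submodule.mkQ_apply, Submodule.Quotient.mk_eq_zero]
    exact hx'
  · intro y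
    obtain ⟨y, rfl⟩ := Submodule.mkQ_surjective _ y
    exact ⟨N'.mkQ y, rfl⟩
  · intro y
    obtain ⟨y, rfl⟩ := Submodule.mkQ_surjective _ y
    constructor
    · intro hy
      have hy' : (Submodule.Quotient.mk y : M ⧸ N) = 0 := hy
      have : y ∈ N := (Submodule.Quotient.mk_eq_zero N).1 hy'
      exact ⟨(N'.comap N.subtype).mkQ ⟨y, this⟩, rfl⟩
    · rintro ⟨x, hx⟩
      obtain ⟨x, rfl⟩ := Submodule.mkQ_surjective _ x
      rw [← hx]
      exact (Submodule.Quotient.mk_eq_zero N).2 x.2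

end pure

section rees

variable {A : Type u} [CommRing A] (I : Ideal A) (M : Type u) [AddCommGroup M] [Module A M]

theorem finite_rees [IsNoetherianRing A] [Module.Finite A M] :
    Module.Finite ↥(reesAlgebra I) ↥(Rees.powFilt I M).submodule := by
  haveI : IsNoetherian A M := isNoetherian_of_isNoetherianRing_of_finite A M
  have hst : (Rees.powFilt I M).Stable := Ideal.stableFiltration_stable I ⊤
  have hfg := (Ideal.Filtration.submodule_fg_iff_stable (F := Rees.powFilt I M)
    (fun i => IsNoetherian.noetherian _)).2 hst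
  exact Module.Finite.iff_fg.2 hfg

theorem hJ_rees [IsNoetherianRing A] [IsLocalRing A] (hI : I.radical = maximalIdeal A) :
    ∀ (N : Type u) [AddCommGroup N] [Module ↥(reesAlgebra I) N]
      [Module.Finite ↥(reesAlgebra I) N],
      (∀ r ∈ Ideal.map (algebraMap A ↥(reesAlgebra I)) I, ∀ m : N, r • m = 0) →
      (∀ r ∈ Ideal.span (AInvB.posSet (rg I)), ∀ m : N, r • m = 0) →
      Module.length (deg0 (rg I)) N ≠ ⊤ := by
  intro N _ _ _ hJk hpk
  haveI hfin0 : Module.Finite (deg0 (rg I)) N := SG.finite_deg0 (rg_neg I) hpk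
  letI : Algebra A (deg0 (rg I)) := (φ0 I).toAlgebra
  letI : Module A N := Module.compHom N (algebraMap A ↥(reesAlgebra I))
  haveI : IsScalarTower A (deg0 (rg I)) N := ⟨fun c z x => by
    change ((φ0 I c * z : deg0 (rg I)) : ↥(reesAlgebra I)) • x =
      (algebraMap A ↥(reesAlgebra I) c) • ((z : ↥(reesAlgebra I)) • x)
    rw [Subring.coe_mul, φ0_coe, mul_smul]⟩
  have h1 : Module.length A N = Module.length (deg0 (rg I)) N :=
    Module.length_eq_of_surjective (φ0_surjective I)
  haveI : Module.Finite A (deg0 (rg I)) :=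
    Module.Finite.of_surjective (Algebra.linearMap A (deg0 (rg I))) (φ0_surjective I)
  haveI : Module.Finite A N := Module.Finite.trans (deg0 (rg I)) N
  have htors : Module.IsTorsionBySet A N (I : Set A) := by
    intro x a
    change algebraMap A ↥(reesAlgebra I) (a : A) • x = 0
    exact hJk _ (Ideal.mem_map_of_mem _ a.2) x
  have hmin : maximalIdeal A ∈ I.minimalPrimes := by
    refine ⟨⟨inferInstance, ?_⟩, ?_⟩
    · rw [← hI]
      exact Ideal.le_radical
    · rintro q ⟨hq, hIq⟩ _
      rw [← hI]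
      exact hq.radical_le_iff.2 hIq
  haveI : IsArtinianRing (A ⧸ I) :=
    IsLocalRing.quotient_artinian_of_mem_minimalPrimes_of_isLocalRing I hmin
  letI : Module (A ⧸ I) N := htors.module
  haveI : IsScalarTower A (A ⧸ I) N := htors.isScalarTower
  haveI : Module.Finite (A ⧸ I) N := Module.Finite.of_restrictScalars_finite A (A ⧸ I) N
  haveI : IsArtinian (A ⧸ I) N := inferInstance
  haveI : IsArtinian A N :=
    isArtinian_of_surjective_algebraMap (R := A ⧸ I) (M := N) Ideal.Quotient.mk_surjective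
  haveI : IsNoetherian A N := isNoetherian_of_isNoetherianRing_of_finite A N
  rw [← h1]
  exact Module.length_ne_top

variable {I M}
variable (F : I.Filtration M)

/-- `m Xⁿ` as an element of the Rees module -/
noncomputable def sg (n : ℕ) : ↥(F.N n) →+ ↥F.submodule where
  toFun m := ⟨PolynomialModule.single A n (m : M), fun i => by
    rw [PolynomialModule.coeff_single, Finsupp.single_apply]
    split_ifs with h
    · subst h; exact m.2
    · exact zero_mem _⟩
  map_zero' := Subtype.ext (by simp)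
  map_add' a b := Subtype.ext (by simp)

theorem sg_coeff (n : ℕ) (m : ↥(F.N n)) (k : ℕ) :
    ((sg F n m : ↥F.submodule) : PolynomialModule A M).coeff k = if n = k then (m : M) else 0 := by
  change (PolynomialModule.single A n (m : M)).coeff k = _
  rw [PolynomialModule.coeff_single, Finsupp.single_apply]

theorem len_G [IsNoetherianRing A] [Module.Finite ↥(reesAlgebra I) ↥F.submodule] (n : ℕ) :
    Module.length (deg0 (rg I)) ↥(Gcomp (𝒜 := rg I) (ℒ := ml F) (LinearMap.range (σ F)) (n : ℤ)) =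
      Module.length A (↥(F.N n) ⧸ (F.N (n + 1)).comap (F.N n).subtype) := by
  refine length_Gcomp (R := ↥(reesAlgebra I)) (𝒜 := rg I) (L := ↥F.submodule) (ℒ := ml F)
    (A := A) (N := ↥(F.N n)) (φ0 I) (φ0_surjective I) ((F.N (n + 1)).comap (F.N n).subtype)
    (LinearMap.range (σ F)) (n : ℤ) (sg F n) ?_ ?_ ?_ ?_
  · intro c m
    apply Subtype.ext
    rw [φ0_coe]
    change PolynomialModule.single A n ((c • m : ↥(F.N n)) : M) =
      (C c : A[X]) • PolynomialModule.single A n (m : M)
    rw [← monomial_zero_left, PolynomialModule.monomial_smul_single, zero_add]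
    rfl
  · intro m
    rw [mem_ml_iff]
    intro k hk
    rw [sg_coeff, if_neg]
    intro h
    exact hk (by rw [h])
  · intro x hx
    refine ⟨⟨((x : ↥F.submodule) : PolynomialModule A M).coeff n, x.2 n⟩, ?_⟩
    apply Subtype.ext
    apply PolynomialModule.ext
    apply Finsupp.ext
    intro k
    rw [sg_coeff]
    split_ifs with h
    · subst h; rfl
    · exact ((mem_ml_iff F n x).1 hx k (fun h' => h (by exact_mod_cast h'.symm))).symm
  · intro m
    constructor
    · rintro ⟨z, hz⟩
      have h1 := congrArg (fun y : ↥F.submodule => (y : PolynomialModule A M).coeff n) hz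
      simp only [σ_coeff, sg_coeff, if_true] at h1
      change (m : M) ∈ F.N (n + 1)
      rw [← h1]
      exact (z : ↥F.submodule).2 (n + 1)
    · intro hm
      have hm' : (m : M) ∈ F.N (n + 1) := hm
      refine ⟨⟨sg F (n + 1) ⟨(m : M), hm'⟩, ?_⟩, ?_⟩
      · rw [mem_Pplus_iff, sg_coeff, if_neg (Nat.succ_ne_zero n)]
      · apply Subtype.ext
        apply PolynomialModule.ext
        apply Finsupp.ext
        intro k
        rw [σ_coeff, sg_coeff, sg_coeff]
        simp

end rees

section main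

theorem irr_toIdeal_eq {A : Type u} [CommRing A] (I : Ideal A) :
    (flatIdeal _ (GrSyz.irrel (Rees.degZ (reesAlgebra I)))).toIdeal =
      Ideal.span (AInvB.posSet (rg I)) := by
  change Ideal.span _ = Ideal.span _
  congr 1
  ext x
  simp only [AInvB.posSet, Set.mem_iUnion, Set.mem_setOf_eq]
  constructor
  · rintro ⟨n, hn, hx⟩
    exact ⟨n, hn, hx⟩
  · rintro ⟨n, hn, hx⟩
    exact ⟨n, hn, hx⟩

theorem main (A : Type u) [CommRing A] [IsNoetherianRing A] [IsLocalRing A] (I : Ideal A)
    (hI : I.radical = IsLocalRing.maximalIdeal A)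
    (M : Type u) [AddCommGroup M] [Module A M] [Module.Finite A M] (P : Polynomial ℚ)
    (hP : ∃ N : ℕ, ∀ n : ℕ, N ≤ n →
      P.eval (n : ℚ) = ((Module.length A (M ⧸ (I ^ n • (⊤ : Submodule A M)))).toNat : ℚ))
    (E : GrLC.StarInjRes (Rees.degZ (reesAlgebra I)) (Rees.mdegZ (Rees.powFilt I M))) (n : ℕ) :
    (∀ i : ℕ, IsFiniteLength (GrLC.deg0 (Rees.degZ (reesAlgebra I)))
      (E.Hcomp (GrSyz.irrel (Rees.degZ (reesAlgebra I))) i (n : ℤ))) ∧
      Set.Finite {i : ℕ | E.Hcomp (GrSyz.irrel (Rees.degZ (reesAlgebra I))) i (n : ℤ) ≠ ⊥} ∧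
      P.eval (n : ℚ) - ((Module.length A (M ⧸ (I ^ n • (⊤ : Submodule A M)))).toNat : ℚ) =
        finsum (fun i : ℕ => (-1 : ℚ) ^ i *
          ((Module.length (GrLC.deg0 (Rees.degZ (reesAlgebra I)))
            (E.Hcomp (GrSyz.irrel (Rees.degZ (reesAlgebra I))) i (n : ℤ))).toNat : ℚ)) := by
  classical
  let F : I.Filtration M := Rees.powFilt I M
  let EL : StarInjRes (rg I) (ml F) := flatRes (Rees.degZ (reesAlgebra I)) E
  let a : HomogeneousIdeal (rg I) := flatIdeal _ (GrSyz.irrel (Rees.degZ (reesAlgebra I)))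
  have haeq : a.toIdeal = Ideal.span (AInvB.posSet (rg I)) := irr_toIdeal_eq I
  haveI hfinL : Module.Finite ↥(reesAlgebra I) ↥F.submodule := finite_rees I M
  obtain ⟨d, t, p, hp, hvtop, ⟨r, hr⟩, hmain⟩ :=
    rees_gen (R := ↥(reesAlgebra I)) (𝒜 := rg I) (L := ↥F.submodule) (ℒ := ml F)
      (rg_neg I) (rg_std I) a haeq (Ideal.map (algebraMap A ↥(reesAlgebra I)) I)
      (hJ_rees I hI) (Pplus F) (Pplus_hom F)
      (fun n hn x hx => mem_Pplus_of_deg_ne F hn hx)
      (fun r hr x => irr_smul_mem_Pplus F hr x) (σ F) (σ_injective F) (σ_gr F)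
      (fun r hr y => J_smul_mem_range F hr y) EL
  -- lengths of the pieces of `E`
  have hlen : ∀ (i : ℕ) (g : ℤ), Module.length (GrLC.deg0 (Rees.degZ (reesAlgebra I)))
      (E.Hcomp (GrSyz.irrel (Rees.degZ (reesAlgebra I))) i g) = hl EL a.toIdeal i g := by
    intro i g
    have h1 : Module.length (GrLC.deg0 (Rees.degZ (reesAlgebra I)))
        (E.Hcomp (GrSyz.irrel (Rees.degZ (reesAlgebra I))) i g) =
        Module.length (deg0 (rg I)) (EL.Hcomp a i g) := rfl
    rw [h1]
    exact length_Hcomp EL a i g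
  have hHV : ∀ (i : ℕ) (g : ℤ), HV EL a.toIdeal i g →
      E.Hcomp (GrSyz.irrel (Rees.degZ (reesAlgebra I))) i g = ⊥ := by
    intro i g h
    rw [Hcomp_eq_bot_iff]
    exact (HV_flatRes_iff E _ i g).1 h
  -- the Hilbert–Samuel function
  let HS : ℕ → ℕ∞ := fun k => Module.length A (M ⧸ (I ^ k • (⊤ : Submodule A M)))
  let gl : ℕ → ℕ∞ := fun k => Module.length (deg0 (rg I))
    ↥(Gcomp (𝒜 := rg I) (ℒ := ml F) (LinearMap.range (σ F)) (k : ℤ))
  have hHSstep : ∀ k : ℕ, HS (k + 1) = gl k + HS k := by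
    intro k
    have h1 := len_step (A := A) (M := M) (N := F.N k) (N' := F.N (k + 1)) (F.mono k)
    have h2 := len_G F k
    change Module.length A (M ⧸ F.N (k + 1)) = _ + Module.length A (M ⧸ F.N k)
    rw [h1]
    congr 1
    exact h2.symm
  have hglfin : ∀ k : ℕ, gl k ≠ ⊤ := fun k => (hmain (k : ℤ) (Int.natCast_nonneg k)).2.1
  have hHSfin : ∀ k : ℕ, HS k ≠ ⊤ := by
    intro k
    induction k with
    | zero =>
      have : Subsingleton (M ⧸ (I ^ 0 • (⊤ : Submodule A M))) := by
        rw [pow_zero, Ideal.one_eq_top, Submodule.top_smul]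
        exact Submodule.Quotient.subsingleton_iff.2 rfl
      change Module.length A (M ⧸ (I ^ 0 • (⊤ : Submodule A M))) ≠ ⊤
      rw [Module.length_eq_zero]
      exact ENat.zero_ne_top
    | succ k ih =>
      rw [hHSstep k]
      exact WithTop.add_ne_top.2 ⟨hglfin k, ih⟩
  have hHSq : ∀ k : ℕ, ((HS (k + 1)).toNat : ℚ) = ((gl k).toNat : ℚ) + ((HS k).toNat : ℚ) := by
    intro k
    rw [hHSstep k, ENat.toNat_add (hglfin k) (hHSfin k)]
    push_cast
    rfl
  -- the function `Ψ`
  let Ψ : ℕ → ℚ := fun k => ((HS k).toNat : ℚ) + chi EL a.toIdeal d (k : ℤ)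
  have hΨstep : ∀ k : ℕ, Ψ (k + 1) - Ψ k = p (k : ℤ) := by
    intro k
    have h1 := (hmain (k : ℤ) (Int.natCast_nonneg k)).2.2
    change ((HS (k + 1)).toNat : ℚ) + chi EL a.toIdeal d ((k + 1 : ℕ) : ℤ) -
      (((HS k).toNat : ℚ) + chi EL a.toIdeal d (k : ℤ)) = p (k : ℤ)
    rw [hHSq k, h1]
    push_cast
    change _ + _ + _ - (_ + (_ + ((gl k).toNat : ℚ) - _)) = _
    ring
  obtain ⟨N, hN⟩ := hP
  set N₁ : ℕ := max N r.toNat with hN₁
  have hΨlarge : ∀ k : ℕ, N₁ ≤ k → Ψ k = P.eval (k : ℚ) := by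
    intro k hk
    have hk1 : N ≤ k := le_trans (le_max_left _ _) hk
    have hk2 : r ≤ (k : ℤ) := by
      have := le_trans (le_max_right N r.toNat) hk
      have h3 := Int.self_le_toNat r
      omega
    have hchi : chi EL a.toIdeal d (k : ℤ) = 0 := by
      unfold chi
      apply Finset.sum_eq_zero
      intro i _
      rw [hl_eq_zero_of_HV (hr i (k : ℤ) hk2)]
      simp
    change ((HS k).toNat : ℚ) + chi EL a.toIdeal d (k : ℤ) = _
    rw [hchi, add_zero, hN k hk1]
  -- the difference of `P` is `p`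
  have hq : PL (max (max (P.natDegree + 1) (P.natDegree + 1)) t)
      (fun g : ℤ => (P.eval (g : ℚ) - P.eval (((g - 1 : ℤ)) : ℚ)) - p (g - 1)) := by
    have hP1 : PL (P.natDegree + 1) (fun g : ℤ => P.eval (g : ℚ)) :=
      PL.poly (P.natDegree + 1) P (Nat.lt_succ_self _)
    have hP2 : PL (P.natDegree + 1) (fun g : ℤ => P.eval (((g - 1 : ℤ)) : ℚ)) := hP1.shift
    exact ((hP1.sub hP2).mono (le_trans (le_max_left _ _) (le_max_left _ _))).sub
      (hp.shift.mono (le_max_right _ _))
  have hqzero : ∀ g : ℤ, (N₁ : ℤ) + 1 ≤ g →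
      (P.eval (g : ℚ) - P.eval (((g - 1 : ℤ)) : ℚ)) - p (g - 1) = 0 := by
    intro g hg
    obtain ⟨k, rfl⟩ : ∃ k : ℕ, g = ((k + 1 : ℕ) : ℤ) := ⟨(g - 1).toNat, by push_cast; omega⟩
    have hk : N₁ ≤ k := by push_cast at hg; omega
    have h1 := hΨstep k
    rw [hΨlarge k hk, hΨlarge (k + 1) (by omega)] at h1
    have e1 : (((k + 1 : ℕ) : ℤ) - 1) = (k : ℤ) := by push_cast; ring
    rw [e1]
    have e2 : (((k + 1 : ℕ) : ℤ) : ℚ) = ((k + 1 : ℕ) : ℚ) := by push_cast; ring
    rw [e2]
    have e3 : ((k : ℤ) : ℚ) = (k : ℚ) := by push_cast; ring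
    rw [e3]
    linarith
  have hqall := hq.eq_zero ((N₁ : ℤ) + 1) hqzero
  have hD : ∀ j k : ℕ, N₁ ≤ k + j → Ψ k = P.eval (k : ℚ) := by
    intro j
    induction j with
    | zero =>
      intro k hk
      exact hΨlarge k (by simpa using hk)
    | succ j ih =>
      intro k hk
      have h1 := ih (k + 1) (by omega)
      have h2 := hΨstep k
      have h3 := hqall ((k + 1 : ℕ) : ℤ)
      have e1 : (((k + 1 : ℕ) : ℤ) - 1) = (k : ℤ) := by push_cast; ring
      rw [e1] at h3
      have e2 : (((k + 1 : ℕ) : ℤ) : ℚ) = ((k + 1 : ℕ) : ℚ) := by push_cast; ring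
      rw [e2] at h3
      have e3 : ((k : ℤ) : ℚ) = (k : ℚ) := by push_cast; ring
      rw [e3] at h3
      linarith
  have hΨn : Ψ n = P.eval (n : ℚ) := hD N₁ n (by omega)
  refine ⟨?_, ?_, ?_⟩
  · intro i
    rw [← Module.length_ne_top_iff, hlen]
    exact (hmain (n : ℤ) (Int.natCast_nonneg n)).1 i
  · refine (Finset.range (d + 1)).finite_toSet.subset ?_
    intro i hi
    rw [Finset.mem_coe, Finset.mem_range]
    by_contra hcon
    exact hi (hHV i (n : ℤ) (hvtop i (by omega) (n : ℤ)))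
  · have hsupp : Function.support (fun i : ℕ => (-1 : ℚ) ^ i *
        ((Module.length (GrLC.deg0 (Rees.degZ (reesAlgebra I)))
          (E.Hcomp (GrSyz.irrel (Rees.degZ (reesAlgebra I))) i (n : ℤ))).toNat : ℚ)) ⊆
        ↑(Finset.range (d + 1)) := by
      intro i hi
      rw [Finset.mem_coe, Finset.mem_range]
      by_contra hcon
      apply hi
      change (-1 : ℚ) ^ i * _ = 0
      rw [hlen, hl_eq_zero_of_HV (hvtop i (by omega) (n : ℤ))]
      simp
    rw [finsum_eq_sum_of_support_subset _ hsupp]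
    have hsum : (∑ i ∈ Finset.range (d + 1), (-1 : ℚ) ^ i *
        ((Module.length (GrLC.deg0 (Rees.degZ (reesAlgebra I)))
          (E.Hcomp (GrSyz.irrel (Rees.degZ (reesAlgebra I))) i (n : ℤ))).toNat : ℚ)) =
        chi EL a.toIdeal d (n : ℤ) := by
      unfold chi
      apply Finset.sum_congr rfl
      intro i _
      rw [hlen]
    rw [hsum, ← hΨn]
    change ((HS n).toNat : ℚ) + chi EL a.toIdeal d (n : ℤ) - ((HS n).toNat : ℚ) = _
    ring

end main

end Groth.Agent.Lib.Helper97.ReesC
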