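import Mathlib
import Groth.Prelude.Def_GrLC
import Groth.Agent.Lib.Helper97.SGMain

/-!
# The a-invariant of a CM standard graded ring via the Hilbert function (helper97)
-/

set_option autoImplicit false
set_option linter.unusedSectionVars false
set_option linter.unusedVariables false
set_option linter.style.haveILetI false
universe u

namespace Groth.Agent.Lib.Helper97.SG

open GrLC DirectSum Groth.Agent.Lib.Helper77.GLC SGPoly

theorem ainv (R : Type u) [CommRing R] [LocCoh.IsCohenMacaulayRing R] (𝒜 : ℤ → AddSubgroup R)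
    [GradedRing 𝒜] (hpos : ∀ n : ℤ, n < 0 → 𝒜 n = ⊥)
    (hstd : Ideal.span (⋃ n ∈ Set.Ioi (0 : ℤ), (𝒜 n : Set R)) =
      Ideal.span ((𝒜 1 : AddSubgroup R) : Set R))
    [IsArtinianRing (GrLC.deg0 𝒜)] (m : HomogeneousIdeal 𝒜) (hm : GrLC.IsStarLocal 𝒜 m) (d : ℕ)
    (hd : ringKrullDim R = d) (I : GrLC.StarInjRes 𝒜 𝒜) (P : Polynomial ℚ)
    (hP : ∃ N : ℤ, ∀ n : ℤ, N ≤ n → P.eval (n : ℚ) =
      ((Module.length (GrLC.deg0 𝒜) (GrLC.comp 𝒜 𝒜 n)).toNat : ℚ)) :
    GrLC.endDeg (I.Hgr m d) = ⨆ (n : ℤ) (_ : P.eval (n : ℚ) ≠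
      ((Module.length (GrLC.deg0 𝒜) (GrLC.comp 𝒜 𝒜 n)).toNat : ℚ)),
      ((n : WithTop ℤ) : WithBot (WithTop ℤ)) := by
  obtain ⟨c, -⟩ := main_claim R 𝒜 hpos hstd m hm d hd R 𝒜 I
  have hlow := AInvD.HV_of_lt R 𝒜 hpos m hm d hd I
  have hform : ∀ n : ℤ, ((Module.length (GrLC.deg0 𝒜) (GrLC.comp 𝒜 𝒜 n)).toNat : ℚ) -
      P.eval (n : ℚ) = (-1 : ℚ) ^ d * ((hl I m.toIdeal d n).toNat : ℚ) := by
    intro n
    rw [main R 𝒜 hpos hstd m hm d hd R 𝒜 I P hP n, Finset.sum_eq_single d]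
    · rw [length_Hcomp]
    · intro i hi hid
      have hlt : i < d := lt_of_le_of_ne (Nat.lt_succ_iff.1 (Finset.mem_range.1 hi)) hid
      rw [length_Hcomp, hl_eq_zero_of_HV (hlow i hlt n)]
      simp
    · intro h
      exact absurd (Finset.mem_range.2 (Nat.lt_succ_self d)) h
  have key : ∀ n : ℤ, I.Hgr m d n ≠ ⊥ ↔ P.eval (n : ℚ) ≠
      ((Module.length (GrLC.deg0 𝒜) (GrLC.comp 𝒜 𝒜 n)).toNat : ℚ) := by
    intro n
    rw [not_iff_not, Hgr_eq_bot_iff]
    constructor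
    · intro h
      have h1 := hform n
      rw [hl_eq_zero_of_HV h] at h1
      simp only [ENat.toNat_zero, Nat.cast_zero, mul_zero] at h1
      linarith
    · intro h
      have h1 := hform n
      rw [h, sub_self] at h1
      have h2 : ((hl I m.toIdeal d n).toNat : ℚ) = 0 := by
        rcases mul_eq_zero.1 h1.symm with h3 | h3
        · exact absurd h3 (pow_ne_zero _ (by norm_num))
        · exact h3
      have h3 : (hl I m.toIdeal d n).toNat = 0 := by exact_mod_cast h2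
      rcases (ENat.toNat_eq_zero).1 h3 with h4 | h4
      · exact HV_of_hl_eq_zero h4
      · exact absurd h4 (c.fin d n)
  unfold GrLC.endDeg
  exact iSup_congr fun n => iSup_congr_Prop (key n) (fun _ => rfl)

end Groth.Agent.Lib.Helper97.SG
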