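import Mathlib
import Groth.Agent.Lib.Helper87.GradedHS
import Groth.Agent.Lib.Helper87.SegreC

/-!
# Hilbert polynomial and support dimension of a graded module over a polynomial ring
-/

set_option autoImplicit false
set_option linter.style.haveILetI false
universe u
open MvPolynomial

namespace Groth.Agent.Lib.Helper97.SegreDimA

open Groth.Agent.Lib.Helper87.HilbFnA Groth.Agent.Lib.Helper87.HilbFnB
open Groth.Agent.Lib.Helper87.HilbFnF Groth.Agent.Lib.Helper87.HilbFnG
open Groth.Agent.Lib.Helper87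

attribute [local instance] MvPolynomial.gradedAlgebra

section Poly

theorem leadingCoeff_pos_of_eventually_nonneg (F : Polynomial ℚ) (hF : F ≠ 0) (N : ℕ)
    (h : ∀ n : ℕ, N ≤ n → 0 ≤ F.eval (n : ℚ)) : 0 < F.leadingCoeff := by
  by_contra hle
  push Not at hle
  have hlt : F.leadingCoeff < 0 := lt_of_le_of_ne hle (Polynomial.leadingCoeff_ne_zero.mpr hF)
  by_cases hdeg : 0 < F.degree
  · have ht := Polynomial.tendsto_atBot_of_leadingCoeff_nonpos F hdeg hle
    have ht' := ht.comp (tendsto_natCast_atTop_atTop (R := ℚ))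
    have hev := ht'.eventually (Filter.eventually_lt_atBot (0 : ℚ))
    obtain ⟨n, hn⟩ := (hev.and (Filter.eventually_ge_atTop N)).exists
    exact absurd (h n hn.2) (not_le.mpr hn.1)
  · have hc : F = Polynomial.C (F.coeff 0) := Polynomial.eq_C_of_degree_le_zero (not_lt.mp hdeg)
    have h1 := h N le_rfl
    have h2 : F.leadingCoeff = F.coeff 0 := by
      conv_lhs => rw [hc]
      exact Polynomial.leadingCoeff_C _
    have h3 : F.eval (N : ℚ) = F.coeff 0 := by
      conv_lhs => rw [hc]
      exact Polynomial.eval_C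
    rw [h3] at h1
    rw [h2] at hlt
    exact absurd h1 (not_le.mpr hlt)

theorem natDegree_le_of_eventually_le (F G : Polynomial ℚ) (hF : F ≠ 0) (N : ℕ)
    (h0 : ∀ n : ℕ, N ≤ n → 0 ≤ F.eval (n : ℚ))
    (h : ∀ n : ℕ, N ≤ n → F.eval (n : ℚ) ≤ G.eval (n : ℚ)) : F.natDegree ≤ G.natDegree := by
  by_contra hlt
  push Not at hlt
  have hlc := leadingCoeff_pos_of_eventually_nonneg F hF N h0
  have hdeg : G.degree < F.degree := Polynomial.degree_lt_degree hlt
  have hHdeg : (F - G).degree = F.degree := Polynomial.degree_sub_eq_left_of_degree_lt hdeg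
  have hHlc : (F - G).leadingCoeff = F.leadingCoeff := Polynomial.leadingCoeff_sub_of_degree_lt hdeg
  have hpos : 0 < (F - G).degree := by
    rw [hHdeg]
    exact Polynomial.natDegree_pos_iff_degree_pos.mp (by omega)
  have ht := (Polynomial.tendsto_atTop_of_leadingCoeff_nonneg (F - G) hpos
    (by rw [hHlc]; exact hlc.le)).comp (tendsto_natCast_atTop_atTop (R := ℚ))
  obtain ⟨n, hn⟩ := ((ht.eventually (Filter.eventually_gt_atTop (0 : ℚ))).and
    (Filter.eventually_ge_atTop N)).exists
  have h1 := h n hn.2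
  have h2 : (F - G).eval (n : ℚ) = F.eval (n : ℚ) - G.eval (n : ℚ) := Polynomial.eval_sub _ _ _
  have h3 : 0 < (F - G).eval (n : ℚ) := hn.1
  linarith

theorem shiftSum (F : Polynomial ℚ) {ι : Type*} (s : Finset ι) (c : ι → ℚ) :
    ∃ G : Polynomial ℚ, G.natDegree ≤ F.natDegree ∧
      ∀ x : ℚ, G.eval x = ∑ i ∈ s, F.eval (x + c i) := by
  refine ⟨∑ i ∈ s, F.comp (Polynomial.X + Polynomial.C (c i)), ?_, fun x => ?_⟩
  · refine Polynomial.natDegree_sum_le_of_forall_le _ _ (fun i _ => ?_)
    calc (F.comp (Polynomial.X + Polynomial.C (c i))).natDegree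
        ≤ F.natDegree * (Polynomial.X + Polynomial.C (c i)).natDegree :=
          Polynomial.natDegree_comp_le
      _ ≤ F.natDegree * 1 := Nat.mul_le_mul_left _ (by rw [Polynomial.natDegree_X_add_C])
      _ = F.natDegree := mul_one _
  · rw [Polynomial.eval_finset_sum]
    refine Finset.sum_congr rfl (fun i _ => ?_)
    rw [Polynomial.eval_comp, Polynomial.eval_add, Polynomial.eval_X, Polynomial.eval_C]

end Poly

section PolyMod

variable {k : Type u} [Field k] {a : ℕ} {M : Type u} [AddCommGroup M]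
  [Module (MvPolynomial (Fin a) k) M] [Module k M] [IsScalarTower k (MvPolynomial (Fin a) k) M]
  (ℳ : ℕ → Submodule k M) [DirectSum.Decomposition ℳ]
  [SetLike.GradedSMul (homogeneousSubmodule (Fin a) k) ℳ]

omit [DirectSum.Decomposition ℳ] in
theorem smul_mem' {n j : ℕ} {b : MvPolynomial (Fin a) k} {m : M}
    (hb : b ∈ homogeneousSubmodule (Fin a) k n) (hm : m ∈ ℳ j) : b • m ∈ ℳ (n + j) := by
  have := SetLike.GradedSMul.smul_mem hb hm
  rwa [vadd_eq_add] at this

theorem decompose_smul_of_mem {j : ℕ} {m : M} (hm : m ∈ ℳ j) (c : MvPolynomial (Fin a) k)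
    (n : ℕ) :
    (DirectSum.decompose ℳ (c • m) (n + j) : M) = homogeneousComponent n c • m := by
  classical
  have hsum : c • m = ∑ i ∈ Finset.range (c.totalDegree + 1), homogeneousComponent i c • m := by
    conv_lhs => rw [← sum_homogeneousComponent c, Finset.sum_smul]
  have hmem : ∀ i, homogeneousComponent i c • m ∈ ℳ (i + j) :=
    fun i => smul_mem' ℳ (homogeneousComponent_mem i c) hm
  rw [hsum, DirectSum.decompose_sum, DFinsupp.finsetSum_apply, AddSubmonoidClass.coe_finsetSum]
  by_cases hn : n ∈ Finset.range (c.totalDegree + 1)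
  · rw [Finset.sum_eq_single n]
    · exact DirectSum.decompose_of_mem_same ℳ (hmem n)
    · intro i _ hin
      exact DirectSum.decompose_of_mem_ne ℳ (hmem i) (by omega)
    · intro h; exact absurd hn h
  · rw [Finset.sum_eq_zero]
    · rw [homogeneousComponent_eq_zero _ _ (by simp at hn; omega), zero_smul]
    · intro i hi
      refine DirectSum.decompose_of_mem_ne ℳ (hmem i) ?_
      intro h
      have : i = n := by omega
      exact hn (this ▸ hi)

include ℳ in
theorem annihilator_isHomogeneous :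
    (Module.annihilator (MvPolynomial (Fin a) k) M).IsHomogeneous
      (homogeneousSubmodule (Fin a) k) := by
  classical
  intro n f hf
  have h1 : (DirectSum.decompose (homogeneousSubmodule (Fin a) k) f n : MvPolynomial (Fin a) k) =
      homogeneousComponent n f := decomposition.decompose'_apply f n
  rw [h1, Module.mem_annihilator]
  intro m
  rw [← DirectSum.sum_support_decompose ℳ m, Finset.smul_sum]
  refine Finset.sum_eq_zero (fun j _ => ?_)
  have hmj : (DirectSum.decompose ℳ m j : M) ∈ ℳ j := SetLike.coe_mem _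
  rw [← decompose_smul_of_mem ℳ hmj f n, (Module.mem_annihilator.mp hf) _,
    DirectSum.decompose_zero]
  rfl

theorem exists_homogeneous_generators [Module.Finite (MvPolynomial (Fin a) k) M] :
    ∃ (s : ℕ) (e : Fin s → ℕ) (m : Fin s → M), (∀ i, m i ∈ ℳ (e i)) ∧
      Submodule.span (MvPolynomial (Fin a) k) (Set.range m) = ⊤ := by
  classical
  obtain ⟨S, hS⟩ := (Module.Finite.fg_top : (⊤ : Submodule (MvPolynomial (Fin a) k) M).FG)
  let ι := Σ x : S, ((DirectSum.decompose ℳ (x : M)).support : Finset ℕ)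
  let e' : ι → ℕ := fun p => p.2.1
  let m' : ι → M := fun p => (DirectSum.decompose ℳ (p.1 : M) p.2.1 : M)
  have hm' : ∀ p, m' p ∈ ℳ (e' p) := fun p => SetLike.coe_mem _
  have hspan : Submodule.span (MvPolynomial (Fin a) k) (Set.range m') = ⊤ := by
    rw [eq_top_iff, ← hS, Submodule.span_le]
    intro x hx
    rw [SetLike.mem_coe, ← DirectSum.sum_support_decompose ℳ x]
    refine Submodule.sum_mem _ (fun j hj => ?_)
    exact Submodule.subset_span ⟨⟨⟨x, hx⟩, ⟨j, hj⟩⟩, rfl⟩
  let eq := Fintype.equivFin ι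
  refine ⟨Fintype.card ι, e' ∘ eq.symm, m' ∘ eq.symm, fun i => hm' _, ?_⟩
  rw [Function.Surjective.range_comp eq.symm.surjective]
  exact hspan

variable {s : ℕ} (e : Fin s → ℕ) (m : Fin s → M) (hm : ∀ i, m i ∈ ℳ (e i))
  (hspan : Submodule.span (MvPolynomial (Fin a) k) (Set.range m) = ⊤)

/-- multiplication of a polynomial with a fixed element, `k`-linear -/
noncomputable def mulm (x : M) : MvPolynomial (Fin a) k →ₗ[k] M :=
  (LinearMap.toSpanSingleton (MvPolynomial (Fin a) k) M x).restrictScalars k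

omit [DirectSum.Decomposition ℳ] [SetLike.GradedSMul (homogeneousSubmodule (Fin a) k) ℳ] in
theorem mulm_apply (x : M) (b : MvPolynomial (Fin a) k) : mulm x b = b • x := rfl

include hm hspan in
theorem finrank_le_sum_hfn [∀ j, Module.Finite k (ℳ j)] (n : ℕ) (hn : ∀ i, e i ≤ n) :
    (Module.finrank k (ℳ n) : ℚ) ≤
      ∑ i, hfn (Module.annihilator (MvPolynomial (Fin a) k) M) (n - e i) := by
  classical
  set J := Module.annihilator (MvPolynomial (Fin a) k) M with hJ
  -- the big map
  let Φ : (∀ i : Fin s, gr k (Fin a) (n - e i)) →ₗ[k] M :=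
    ∑ i : Fin s, (mulm (m i)) ∘ₗ (gr k (Fin a) (n - e i)).subtype ∘ₗ
      (LinearMap.proj i : (∀ i : Fin s, gr k (Fin a) (n - e i)) →ₗ[k] gr k (Fin a) (n - e i))
  have hΦ : ∀ v, Φ v = ∑ i, (v i : MvPolynomial (Fin a) k) • m i := by
    intro v
    simp only [Φ, LinearMap.sum_apply, LinearMap.comp_apply, LinearMap.proj_apply,
      Submodule.subtype_apply, mulm_apply]
  have hrange : LinearMap.range Φ = ℳ n := by
    apply le_antisymm
    · rintro _ ⟨v, rfl⟩
      rw [hΦ]
      refine Submodule.sum_mem _ (fun i _ => ?_)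
      have := smul_mem' ℳ (v i).2 (hm i)
      rwa [Nat.sub_add_cancel (hn i)] at this
    · intro x hx
      have hx' : x ∈ Submodule.span (MvPolynomial (Fin a) k) (Set.range m) := by
        rw [hspan]; trivial
      obtain ⟨c, hc⟩ := (Submodule.mem_span_range_iff_exists_fun _).mp hx'
      refine ⟨fun i => ⟨homogeneousComponent (n - e i) (c i), homogeneousComponent_mem _ _⟩, ?_⟩
      rw [hΦ]
      have h1 : (DirectSum.decompose ℳ x n : M) = x := DirectSum.decompose_of_mem_same ℳ hx
      rw [← h1, ← hc, DirectSum.decompose_sum, DFinsupp.finsetSum_apply,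
        AddSubmonoidClass.coe_finsetSum]
      refine Finset.sum_congr rfl (fun i _ => ?_)
      have h2 := decompose_smul_of_mem ℳ (hm i) (c i) (n - e i)
      rw [Nat.sub_add_cancel (hn i)] at h2
      exact h2.symm
  -- the map from the annihilator pieces
  let Ψ : (∀ i : Fin s, pc J (n - e i)) →ₗ[k] (∀ i : Fin s, gr k (Fin a) (n - e i)) :=
    LinearMap.pi (fun i => (Submodule.inclusion (inf_le_right : pc J (n - e i) ≤ gr k (Fin a) (n - e i))) ∘ₗ
      (LinearMap.proj i : (∀ i : Fin s, pc J (n - e i)) →ₗ[k] pc J (n - e i)))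
  have hΨinj : Function.Injective Ψ := by
    intro w w' hww
    funext i
    have := congrFun hww i
    simp only [Ψ, LinearMap.pi_apply, LinearMap.comp_apply, LinearMap.proj_apply] at this
    exact Submodule.inclusion_injective _ this
  have hΨker : ∀ w, Ψ w ∈ LinearMap.ker Φ := by
    intro w
    rw [LinearMap.mem_ker, hΦ]
    refine Finset.sum_eq_zero (fun i _ => ?_)
    have hw : ((Ψ w i : gr k (Fin a) (n - e i)) : MvPolynomial (Fin a) k) = (w i : MvPolynomial (Fin a) k) := rfl
    rw [hw]
    have hwJ : (w i : MvPolynomial (Fin a) k) ∈ J := (w i).2.1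
    exact Module.mem_annihilator.mp hwJ _
  have h1 := LinearMap.finrank_range_add_finrank_ker Φ
  have h2 : Module.finrank k (∀ i : Fin s, pc J (n - e i)) ≤ Module.finrank k (LinearMap.ker Φ) :=
    LinearMap.finrank_le_finrank_of_injective (f := LinearMap.codRestrict (LinearMap.ker Φ) Ψ hΨker)
      (fun w w' hww => hΨinj (by
        have := congrArg Subtype.val hww
        simpa using this))
  rw [Module.finrank_pi_fintype] at h1 h2
  rw [hrange] at h1
  unfold hfn
  rw [Finset.sum_sub_distrib]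
  have h3 : (Module.finrank k (ℳ n) : ℚ) + (Module.finrank k (LinearMap.ker Φ) : ℚ) =
      ∑ i : Fin s, (Module.finrank k (gr k (Fin a) (n - e i)) : ℚ) := by
    exact_mod_cast h1
  have h4 : (∑ i : Fin s, (Module.finrank k (pc J (n - e i)) : ℚ)) ≤
      (Module.finrank k (LinearMap.ker Φ) : ℚ) := by
    exact_mod_cast h2
  linarith

include hm hspan in
theorem hfn_le_sum_finrank [∀ j, Module.Finite k (ℳ j)] (n : ℕ) :
    hfn (Module.annihilator (MvPolynomial (Fin a) k) M) n ≤
      ∑ i, (Module.finrank k (ℳ (n + e i)) : ℚ) := by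
  classical
  set J := Module.annihilator (MvPolynomial (Fin a) k) M with hJ
  let Θ : gr k (Fin a) n →ₗ[k] (∀ i : Fin s, ℳ (n + e i)) :=
    LinearMap.pi (fun i => LinearMap.codRestrict (ℳ (n + e i))
      ((mulm (m i)) ∘ₗ (gr k (Fin a) n).subtype)
      (fun b => by
        rw [LinearMap.comp_apply, Submodule.subtype_apply, mulm_apply]
        exact smul_mem' ℳ b.2 (hm i)))
  have hΘ : ∀ (b : gr k (Fin a) n) i, ((Θ b i : ℳ (n + e i)) : M) = (b : MvPolynomial (Fin a) k) • m i :=
    fun b i => rfl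
  have hker : (LinearMap.ker Θ).map (gr k (Fin a) n).subtype ≤ pc J n := by
    rintro _ ⟨b, hb, rfl⟩
    refine ⟨?_, b.2⟩
    show (b : MvPolynomial (Fin a) k) ∈ J
    rw [hJ, Module.mem_annihilator]
    intro x
    have hx : x ∈ Submodule.span (MvPolynomial (Fin a) k) (Set.range m) := by
      rw [hspan]; trivial
    refine Submodule.span_induction (p := fun y _ => (b : MvPolynomial (Fin a) k) • y = 0)
      ?_ (smul_zero _) (fun y z _ _ hy hz => by rw [smul_add, hy, hz, add_zero])
      (fun c y _ hy => by rw [smul_comm, hy, smul_zero]) hx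
    rintro _ ⟨i, rfl⟩
    have hb' : Θ b = 0 := LinearMap.mem_ker.mp hb
    have := hΘ b i
    rw [hb'] at this
    exact this.symm
  have h1 := LinearMap.finrank_range_add_finrank_ker Θ
  have h2 : Module.finrank k (LinearMap.ker Θ) ≤ Module.finrank k (pc J n) := by
    have e1 := (Submodule.equivMapOfInjective (gr k (Fin a) n).subtype
      (Submodule.injective_subtype _) (LinearMap.ker Θ)).finrank_eq
    rw [e1]
    exact Submodule.finrank_mono hker
  have h3 : Module.finrank k (LinearMap.range Θ) ≤ Module.finrank k (∀ i : Fin s, ℳ (n + e i)) :=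
    Submodule.finrank_le _
  rw [Module.finrank_pi_fintype] at h3
  unfold hfn
  have h1' : (Module.finrank k (LinearMap.range Θ) : ℚ) + (Module.finrank k (LinearMap.ker Θ) : ℚ) =
      (Module.finrank k (gr k (Fin a) n) : ℚ) := by exact_mod_cast h1
  have h2' : (Module.finrank k (LinearMap.ker Θ) : ℚ) ≤ (Module.finrank k (pc J n) : ℚ) := by
    exact_mod_cast h2
  have h3' : (Module.finrank k (LinearMap.range Θ) : ℚ) ≤
      ∑ i : Fin s, (Module.finrank k (ℳ (n + e i)) : ℚ) := by exact_mod_cast h3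
  linarith

theorem main_poly [Module.Finite (MvPolynomial (Fin a) k) M] :
    (∀ n, Module.Finite k (ℳ n)) ∧ ∃ (Q : Polynomial ℚ) (N : ℕ),
      (∀ n, N ≤ n → (Module.finrank k (ℳ n) : ℚ) = Q.eval (n : ℚ)) ∧
      (Q = 0 → Module.Finite k M) ∧
      (Q ≠ 0 → Module.supportDim (MvPolynomial (Fin a) k) M =
        (Q.natDegree : WithBot ℕ∞) + 1) := by
  classical
  haveI : IsNoetherian (MvPolynomial (Fin a) k) M := isNoetherian_of_isNoetherianRing_of_finite _ _
  have hfg : ∀ n, (ℳ n).FG :=
    (GradedHS.stable_family_fg (d := a) ℳ (GradedHS.grading_stable ℳ) (fun n => le_rfl)).1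
  have hfin : ∀ n, Module.Finite k (ℳ n) := fun n => Module.Finite.iff_fg.mpr (hfg n)
  refine ⟨hfin, ?_⟩
  obtain ⟨hHS, -⟩ := GradedHS.isHS_length (A₀ := k) (d := a) ℳ
  obtain ⟨Q, -, N, hQ⟩ := hHS.exists_poly
  have hQ' : ∀ n, N ≤ n → (Module.finrank k (ℳ n) : ℚ) = Q.eval (n : ℚ) := by
    intro n hn
    rw [← hQ n hn]
    haveI := hfin n
    rw [Module.length_eq_finrank]
    simp
  refine ⟨Q, N, hQ', ?_, ?_⟩
  · intro hQ0
    have hbot : ∀ n, N ≤ n → ℳ n = ⊥ := by
      intro n hn
      haveI := hfin n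
      have h := hQ' n hn
      rw [hQ0, Polynomial.eval_zero] at h
      have h' : Module.finrank k (ℳ n) = 0 := by exact_mod_cast h
      exact Submodule.finrank_eq_zero.mp h'
    have htop : (⊤ : Submodule k M) = ⨆ n ∈ Finset.range N, ℳ n := by
      rw [← (DirectSum.Decomposition.isInternal ℳ).submodule_iSup_eq_top]
      apply le_antisymm
      · refine iSup_le (fun n => ?_)
        by_cases hn : n < N
        · exact le_iSup₂_of_le n (Finset.mem_range.mpr hn) le_rfl
        · rw [hbot n (not_lt.mp hn)]; exact bot_le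
      · exact iSup₂_le (fun n _ => le_iSup ℳ n)
    rw [Module.finite_def, htop]
    exact Submodule.fg_biSup _ _ (fun n _ => hfg n)
  · intro hQ0
    haveI := hfin
    set J := Module.annihilator (MvPolynomial (Fin a) k) M with hJ
    have hJh : J.IsHomogeneous (homogeneousSubmodule (Fin a) k) := annihilator_isHomogeneous ℳ
    obtain ⟨PJ, hPJ⟩ := exists_isHP J hJh
    obtain ⟨m₀, hm₀⟩ := hPJ
    obtain ⟨s, e, m, hm, hspan⟩ := exists_homogeneous_generators (a := a) ℳ
    obtain ⟨E, hE⟩ : ∃ E, ∀ i, e i ≤ E :=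
      ⟨Finset.univ.sup e, fun i => Finset.le_sup (Finset.mem_univ i)⟩
    set N1 := N + m₀ + E with hN1
    obtain ⟨G1, hG1d, hG1⟩ := shiftSum PJ (Finset.univ : Finset (Fin s)) (fun i => -(e i : ℚ))
    have hup : ∀ n : ℕ, N1 ≤ n → Q.eval (n : ℚ) ≤ G1.eval (n : ℚ) := by
      intro n hn
      rw [← hQ' n (by omega), hG1]
      refine (finrank_le_sum_hfn ℳ e m hm hspan n
        (fun i => (hE i).trans (by omega))).trans (le_of_eq ?_)
      refine Finset.sum_congr rfl (fun i _ => ?_)
      have hEi := hE i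
      rw [← hm₀ (n - e i) (by omega)]
      congr 1
      rw [Nat.cast_sub (show e i ≤ n by omega)]
      ring
    have hQnn : ∀ n : ℕ, N1 ≤ n → 0 ≤ Q.eval (n : ℚ) := fun n hn => by
      rw [← hQ' n (by omega)]; positivity
    have hPJ0 : PJ ≠ 0 := by
      rintro rfl
      apply hQ0
      apply eq_of_eventually_eval_eq Q 0 N1
      intro n hn
      have h1 := hup n hn
      rw [hG1] at h1
      simp only [Polynomial.eval_zero, Finset.sum_const_zero] at h1
      rw [Polynomial.eval_zero]
      exact le_antisymm h1 (hQnn n hn)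
    have hle1 : Q.natDegree ≤ PJ.natDegree :=
      (natDegree_le_of_eventually_le Q G1 hQ0 N1 hQnn hup).trans hG1d
    obtain ⟨G2, hG2d, hG2⟩ := shiftSum Q (Finset.univ : Finset (Fin s)) (fun i => (e i : ℚ))
    have hPJnn : ∀ n : ℕ, N1 ≤ n → 0 ≤ PJ.eval (n : ℚ) := by
      intro n hn
      rw [hm₀ n (by omega)]
      unfold hfn
      have h1 := finrank_pc_le J n
      have h2 : (Module.finrank k (pc J n) : ℚ) ≤ Module.finrank k (gr k (Fin a) n) := by
        exact_mod_cast h1
      linarith
    have hlow : ∀ n : ℕ, N1 ≤ n → PJ.eval (n : ℚ) ≤ G2.eval (n : ℚ) := by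
      intro n hn
      rw [hm₀ n (by omega), hG2]
      refine (hfn_le_sum_finrank ℳ e m hm hspan n).trans (le_of_eq ?_)
      refine Finset.sum_congr rfl (fun i _ => ?_)
      rw [hQ' (n + e i) (by omega)]
      push_cast
      rfl
    have hle2 : PJ.natDegree ≤ Q.natDegree :=
      (natDegree_le_of_eventually_le PJ G2 hPJ0 N1 hPJnn hlow).trans hG2d
    rw [Module.supportDim_eq_ringKrullDim_quotient_annihilator,
      dim_eq J hJh PJ hPJ0 ⟨m₀, hm₀⟩, le_antisymm hle2 hle1]

end PolyMod

end Groth.Agent.Lib.Helper97.SegreDimA
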