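import Mathlib
import Groth.Agent.Lib.Helper97.SegreDimA

/-!
# Hilbert polynomial and support dimension of a graded module over a standard graded algebra
-/

set_option autoImplicit false
set_option linter.style.haveILetI false
universe u
open MvPolynomial

namespace Groth.Agent.Lib.Helper97.SegreDimB

open Groth.Agent.Lib.Helper87.HilbFnA Groth.Agent.Lib.Helper87
open Groth.Agent.Lib.Helper97.SegreDimA

attribute [local instance] MvPolynomial.gradedAlgebra

section General

theorem finite_compHom {B A : Type*} [CommRing B] [CommRing A] (π : B →+* A)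
    (hπ : Function.Surjective π) (M : Type*) [AddCommGroup M] [Module A M] [Module.Finite A M] :
    @Module.Finite B M _ _ (Module.compHom M π) := by
  letI : Module B M := Module.compHom M π
  letI : Algebra B A := π.toAlgebra
  haveI : IsScalarTower B A M := ⟨fun f a m => by
    show (π f * a) • m = π f • (a • m)
    exact mul_smul _ _ _⟩
  haveI : Module.Finite B A := Module.Finite.of_surjective (Algebra.linearMap B A) hπ
  exact Module.Finite.trans A M

theorem supportDim_compHom {B A : Type*} [CommRing B] [CommRing A] (π : B →+* A)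
    (hπ : Function.Surjective π) (M : Type*) [AddCommGroup M] [Module A M] [Module.Finite A M] :
    @Module.supportDim B _ M _ (Module.compHom M π) = Module.supportDim A M := by
  letI : Module B M := Module.compHom M π
  haveI : Module.Finite B M := finite_compHom π hπ M
  rw [Module.supportDim_eq_ringKrullDim_quotient_annihilator,
    Module.supportDim_eq_ringKrullDim_quotient_annihilator]
  set q : B →+* A ⧸ Module.annihilator A M := (Ideal.Quotient.mk _).comp π with hq
  have hqs : Function.Surjective q := Ideal.Quotient.mk_surjective.comp hπ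
  have hker : RingHom.ker q = Module.annihilator B M := by
    ext f
    rw [RingHom.mem_ker, hq, RingHom.comp_apply, Ideal.Quotient.eq_zero_iff_mem,
      Module.mem_annihilator, Module.mem_annihilator]
    rfl
  exact ringKrullDim_eq_of_ringEquiv
    ((Ideal.quotEquivOfEq hker.symm).trans (RingHom.quotientKerEquivOfSurjective hqs))

end General

section Graded

variable {k : Type u} [Field k] {A : Type u} [CommRing A] [Algebra k A]
  (𝒜 : ℤ → Submodule k A) [GradedAlgebra 𝒜]
  {M : Type u} [AddCommGroup M] [Module A M] [Module k M] [IsScalarTower k A M]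
  (ℳ : ℤ → AddSubgroup M) [DirectSum.Decomposition ℳ] [SetLike.GradedSMul 𝒜 ℳ]

include 𝒜 in
omit [DirectSum.Decomposition ℳ] in
theorem ksmul_mem {n : ℤ} (c : k) {x : M} (hx : x ∈ ℳ n) : c • x ∈ ℳ n := by
  have h1 : algebraMap k A c ∈ 𝒜 0 := SetLike.algebraMap_mem_graded 𝒜 c
  have h2 := SetLike.GradedSMul.smul_mem h1 hx
  rw [vadd_eq_add, zero_add, algebraMap_smul] at h2
  exact h2

/-- pieces as `k`-subspaces -/
def kpiece (n : ℤ) : Submodule k M where
  carrier := ℳ n
  add_mem' := add_mem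
  zero_mem' := zero_mem _
  smul_mem' c _ hx := ksmul_mem 𝒜 ℳ c hx

omit [DirectSum.Decomposition ℳ] in
theorem mem_kpiece {n : ℤ} {x : M} : x ∈ kpiece 𝒜 ℳ n ↔ x ∈ ℳ n := Iff.rfl

omit [SetLike.GradedSMul 𝒜 ℳ] in
/-- projection on a degree, additive -/
noncomputable def projZ (j : ℤ) : M →+ M :=
  (ℳ j).subtype.comp (((DirectSum.component ℤ ℤ (fun i => ℳ i) j).toAddMonoidHom).comp
    (DirectSum.decomposeAddEquiv ℳ).toAddMonoidHom)

omit [SetLike.GradedSMul 𝒜 ℳ] in
theorem projZ_apply (j : ℤ) (y : M) : projZ ℳ j y = (DirectSum.decompose ℳ y j : M) := rfl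

omit [SetLike.GradedSMul 𝒜 ℳ] in
theorem projZ_of_mem {j : ℤ} {y : M} (hy : y ∈ ℳ j) : projZ ℳ j y = y :=
  DirectSum.decompose_of_mem_same ℳ hy

omit [SetLike.GradedSMul 𝒜 ℳ] in
theorem projZ_of_mem_ne {j l : ℤ} {y : M} (hy : y ∈ ℳ l) (h : l ≠ j) : projZ ℳ j y = 0 :=
  DirectSum.decompose_of_mem_ne ℳ hy h

include 𝒜 in
theorem projZ_smul (j : ℤ) (c : k) (y : M) : projZ ℳ j (c • y) = c • projZ ℳ j y := by
  induction y using DirectSum.Decomposition.inductionOn ℳ with
  | zero => rw [smul_zero, map_zero, smul_zero]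
  | homogeneous m =>
    rename_i l
    by_cases h : l = j
    · subst h
      rw [projZ_of_mem ℳ (ksmul_mem 𝒜 ℳ c m.2), projZ_of_mem ℳ m.2]
    · rw [projZ_of_mem_ne ℳ (ksmul_mem 𝒜 ℳ c m.2) h, projZ_of_mem_ne ℳ m.2 h, smul_zero]
  | add m m' hm hm' => rw [smul_add, map_add, map_add, smul_add, hm, hm']

/-- projection on a degree, `k`-linear -/
noncomputable def projZlin (j : ℤ) : M →ₗ[k] M :=
  { projZ ℳ j with map_smul' := fun c y => projZ_smul 𝒜 ℳ j c y }

theorem projZlin_apply (j : ℤ) (y : M) : projZlin 𝒜 ℳ j y = projZ ℳ j y := rfl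

theorem decompose_smul_eq_zero (hpos : ∀ n : ℤ, n < 0 → 𝒜 n = ⊥) {L : ℤ} {y : M}
    (hy : ∀ l, l < L → (DirectSum.decompose ℳ y l : M) = 0) (r : A) {j : ℤ} (hj : j < L) :
    (DirectSum.decompose ℳ (r • y) j : M) = 0 := by
  classical
  rw [← projZ_apply]
  have hr := DirectSum.sum_support_decompose 𝒜 r
  have hyy := DirectSum.sum_support_decompose ℳ y
  rw [← hr, ← hyy, Finset.sum_smul, map_sum]
  refine Finset.sum_eq_zero (fun i _ => ?_)
  rw [Finset.smul_sum, map_sum]
  refine Finset.sum_eq_zero (fun l hl => ?_)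
  by_cases hi : i < 0
  · have h0 : (DirectSum.decompose 𝒜 r i : A) = 0 := by
      have h : (DirectSum.decompose 𝒜 r i : A) ∈ (⊥ : Submodule k A) := by
        rw [← hpos i hi]
        exact SetLike.coe_mem _
      exact (Submodule.mem_bot k).mp h
    rw [h0, zero_smul, map_zero]
  · have hl' : L ≤ l := by
      by_contra hlt
      push Not at hlt
      have h1 := hy l hlt
      rw [DFinsupp.mem_support_toFun] at hl
      exact hl (Subtype.ext h1)
    have hmem : (DirectSum.decompose 𝒜 r i : A) • (DirectSum.decompose ℳ y l : M) ∈ ℳ (i + l) := by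
      have := SetLike.GradedSMul.smul_mem (SetLike.coe_mem (DirectSum.decompose 𝒜 r i))
        (SetLike.coe_mem (DirectSum.decompose ℳ y l))
      rwa [vadd_eq_add] at this
    exact projZ_of_mem_ne ℳ hmem (by omega)

theorem exists_lower_bound (hpos : ∀ n : ℤ, n < 0 → 𝒜 n = ⊥) [Module.Finite A M] :
    ∃ c : ℕ, ∀ j : ℤ, j < -(c : ℤ) → ℳ j = ⊥ := by
  classical
  obtain ⟨S, hS⟩ := (Module.Finite.fg_top : (⊤ : Submodule A M).FG)
  obtain ⟨U, hU⟩ := ((S.biUnion (fun s => (DirectSum.decompose ℳ s).support)).image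
    (fun d : ℤ => -d)).exists_le
  refine ⟨U.toNat, fun j hj => ?_⟩
  have hgen : ∀ s ∈ S, ∀ l, l < -U → (DirectSum.decompose ℳ s l : M) = 0 := by
    intro s hs l hl
    by_contra hne
    have hmem : l ∈ (DirectSum.decompose ℳ s).support := by
      rw [DFinsupp.mem_support_toFun]
      intro h0
      exact hne (by rw [h0]; rfl)
    have := hU (-l) (Finset.mem_image.mpr ⟨l, Finset.mem_biUnion.mpr ⟨s, hs, hmem⟩, rfl⟩)
    omega
  have hjU : j < -U := by
    have := Int.self_le_toNat U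
    omega
  rw [eq_bot_iff]
  intro x hx
  rw [AddSubgroup.mem_bot]
  have hx' : x ∈ Submodule.span A (S : Set M) := by rw [hS]; trivial
  obtain ⟨f, -, hf⟩ := Submodule.mem_span_finset.mp hx'
  have h1 : (DirectSum.decompose ℳ x j : M) = x := DirectSum.decompose_of_mem_same ℳ hx
  rw [← h1, ← projZ_apply, ← hf, map_sum]
  refine Finset.sum_eq_zero (fun s hs => ?_)
  rw [projZ_apply]
  exact decompose_smul_eq_zero 𝒜 ℳ hpos (hgen s hs) (f s) hjU

theorem std_of_span
    (hstd : Ideal.span (⋃ n ∈ Set.Ioi (0 : ℤ), (𝒜 n : Set A)) =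
      Ideal.span ((𝒜 1 : Submodule k A) : Set A)) (n : ℕ) :
    𝒜 ((n + 1 : ℕ) : ℤ) = 𝒜 1 * 𝒜 (n : ℤ) := by
  classical
  apply le_antisymm
  · intro x hx
    have hx1 : x ∈ Ideal.span ((𝒜 1 : Submodule k A) : Set A) := by
      rw [← hstd]
      apply Ideal.subset_span
      simp only [Set.mem_iUnion, Set.mem_Ioi, SetLike.mem_coe]
      exact ⟨((n + 1 : ℕ) : ℤ), by positivity, hx⟩
    rw [Ideal.span, Submodule.mem_span_set'] at hx1
    obtain ⟨N, f, g, hfg⟩ := hx1
    have hdec : (DirectSum.decompose 𝒜 x ((n + 1 : ℕ) : ℤ) : A) = x :=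
      DirectSum.decompose_of_mem_same 𝒜 hx
    rw [← hdec, ← hfg, DirectSum.decompose_sum, DFinsupp.finsetSum_apply,
      AddSubmonoidClass.coe_finsetSum]
    refine Submodule.sum_mem _ fun i _ => ?_
    have hg : (g i : A) ∈ 𝒜 1 := (g i).2
    have hcast : ((n + 1 : ℕ) : ℤ) = (n : ℤ) + 1 := by push_cast; ring
    rw [smul_eq_mul, hcast, DirectSum.coe_decompose_mul_add_of_right_mem 𝒜 hg]
    have hmem : (DirectSum.decompose 𝒜 (f i) (n : ℤ) : A) * (g i : A) ∈ 𝒜 (n : ℤ) * 𝒜 1 :=
      Submodule.mul_mem_mul (SetLike.coe_mem _) hg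
    rwa [Submodule.mul_comm] at hmem
  · rw [Submodule.mul_le]
    intro x hx y hy
    have := SetLike.GradedMul.mul_mem hx hy
    have hcast : ((n + 1 : ℕ) : ℤ) = 1 + (n : ℤ) := by push_cast; ring
    rwa [hcast]

theorem transfer (hpos : ∀ n : ℤ, n < 0 → 𝒜 n = ⊥) (h0 : 𝒜 0 = Submodule.span k {(1 : A)})
    (hstd : ∀ n : ℕ, 𝒜 ((n + 1 : ℕ) : ℤ) = 𝒜 1 * 𝒜 (n : ℤ)) [Module.Finite k (𝒜 1)]
    [Module.Finite A M] (c : ℕ) (hc : ∀ j : ℤ, j < -(c : ℤ) → ℳ j = ⊥) :
    (∀ n : ℕ, Module.Finite k (kpiece 𝒜 ℳ ((n : ℤ) - c))) ∧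
    ∃ (Q : Polynomial ℚ) (N : ℕ),
      (∀ n : ℕ, N ≤ n →
        (Module.finrank k (kpiece 𝒜 ℳ ((n : ℤ) - c)) : ℚ) = Q.eval (n : ℚ)) ∧
      (Q = 0 → IsArtinian A M) ∧
      (Q ≠ 0 → Module.supportDim A M = (Q.natDegree : WithBot ℕ∞) + 1) := by
  classical
  set W : ℕ → Submodule k A := fun n => 𝒜 (n : ℤ) with hW
  have hW0 : W 0 = 1 := by
    simp only [hW, Nat.cast_zero]
    rw [h0, Submodule.one_eq_span]
  have hW1 : W 1 = 𝒜 1 := by simp only [hW, Nat.cast_one]
  have hWs : ∀ n, W (n + 1) = W 1 * W n := by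
    intro n
    rw [hW1]
    exact hstd n
  have hfg : (W 1).FG := by rw [hW1]; exact Module.Finite.iff_fg.mp inferInstance
  obtain ⟨a, b, hb⟩ := Submodule.fg_iff_exists_fin_generating_family.mp hfg
  set π : MvPolynomial (Fin a) k →ₐ[k] A := aeval b with hπ
  have hπgr : ∀ n, (gr k (Fin a) n).map π.toLinearMap = W n :=
    fun n => SegreA.map_gr_eq W hW0 hWs b hb n
  have hπmem : ∀ (n : ℕ) (f : MvPolynomial (Fin a) k),
      f ∈ homogeneousSubmodule (Fin a) k n → π f ∈ 𝒜 (n : ℤ) := by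
    intro n f hf
    have : π f ∈ W n := by rw [← hπgr n]; exact ⟨f, hf, rfl⟩
    exact this
  have hπsurj : Function.Surjective (π : MvPolynomial (Fin a) k →+* A) := by
    intro x
    have hcomp : ∀ j : ℤ, (DirectSum.decompose 𝒜 x j : A) ∈
        (π : MvPolynomial (Fin a) k →+* A).range := by
      intro j
      by_cases hj : j < 0
      · have h : (DirectSum.decompose 𝒜 x j : A) ∈ (⊥ : Submodule k A) := by
          rw [← hpos j hj]
          exact SetLike.coe_mem _
        rw [(Submodule.mem_bot k).mp h]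
        exact Subring.zero_mem _
      · obtain ⟨n, rfl⟩ := Int.eq_ofNat_of_zero_le (not_lt.mp hj)
        have h : (DirectSum.decompose 𝒜 x (n : ℤ) : A) ∈ W n := SetLike.coe_mem _
        rw [← hπgr n] at h
        obtain ⟨f, -, hf⟩ := h
        exact ⟨f, hf⟩
    have hx : x ∈ (π : MvPolynomial (Fin a) k →+* A).range := by
      rw [← DirectSum.sum_support_decompose 𝒜 x]
      exact Subring.sum_mem _ (fun j _ => hcomp j)
    exact hx
  letI instB : Module (MvPolynomial (Fin a) k) M :=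
    Module.compHom M (π : MvPolynomial (Fin a) k →+* A)
  have hsmul : ∀ (f : MvPolynomial (Fin a) k) (x : M), f • x = π f • x := fun f x => rfl
  haveI : IsScalarTower k (MvPolynomial (Fin a) k) M := ⟨fun r f x => by
    rw [hsmul, hsmul, map_smul, smul_assoc]⟩
  haveI : Module.Finite (MvPolynomial (Fin a) k) M :=
    finite_compHom (π : MvPolynomial (Fin a) k →+* A) hπsurj M
  set ℳ' : ℕ → Submodule k M := fun n => kpiece 𝒜 ℳ ((n : ℤ) - c) with hℳ'
  have hint : DirectSum.IsInternal ℳ' := by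
    refine DirectSum.isInternal_submodule_of_iSupIndep_of_iSup_eq_top ?_ ?_
    · rw [iSupIndep_def]
      intro n
      rw [Submodule.disjoint_def]
      intro x hx1 hx2
      have hle : (⨆ (m : ℕ) (_ : m ≠ n), ℳ' m) ≤
          LinearMap.ker (projZlin 𝒜 ℳ ((n : ℤ) - c)) := by
        refine iSup₂_le (fun m hm y hy => ?_)
        rw [LinearMap.mem_ker, projZlin_apply]
        exact projZ_of_mem_ne ℳ ((mem_kpiece 𝒜 ℳ).mp hy) (by omega)
      have h1 := hle hx2
      rw [LinearMap.mem_ker, projZlin_apply, projZ_of_mem ℳ ((mem_kpiece 𝒜 ℳ).mp hx1)] at h1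
      exact h1
    · rw [eq_top_iff]
      intro x _
      rw [← DirectSum.sum_support_decompose ℳ x]
      refine Submodule.sum_mem _ (fun j _ => ?_)
      by_cases hj : j < -(c : ℤ)
      · have h : (DirectSum.decompose ℳ x j : M) ∈ (⊥ : AddSubgroup M) := by
          rw [← hc j hj]
          exact SetLike.coe_mem _
        rw [AddSubgroup.mem_bot] at h
        rw [h]
        exact zero_mem _
      · have hj' : (((j + c).toNat : ℕ) : ℤ) - c = j := by omega
        refine Submodule.mem_iSup_of_mem (j + c).toNat ?_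
        show (DirectSum.decompose ℳ x j : M) ∈ ℳ ((((j + c).toNat : ℕ) : ℤ) - c)
        rw [hj']
        exact SetLike.coe_mem _
  letI : DirectSum.Decomposition ℳ' := hint.chooseDecomposition
  haveI : SetLike.GradedSMul (homogeneousSubmodule (Fin a) k) ℳ' := ⟨fun {i j} {f x} hf hx => by
    show π f • x ∈ ℳ ((((i +ᵥ j : ℕ)) : ℤ) - c)
    have h1 : π f ∈ 𝒜 (i : ℤ) := hπmem i f hf
    have h2 := SetLike.GradedSMul.smul_mem h1 ((mem_kpiece 𝒜 ℳ).mp hx)
    have e : (((i +ᵥ j : ℕ)) : ℤ) - c = (i : ℤ) +ᵥ ((j : ℤ) - c) := by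
      simp only [vadd_eq_add]; push_cast; ring
    rw [e]
    exact h2⟩
  obtain ⟨hfin, Q, N, hQ, hQ0, hQd⟩ := main_poly (a := a) ℳ'
  refine ⟨hfin, Q, N, hQ, ?_, ?_⟩
  · intro h
    haveI := hQ0 h
    exact isArtinian_of_tower k (inferInstance : IsArtinian k M)
  · intro h
    rw [← supportDim_compHom (π : MvPolynomial (Fin a) k →+* A) hπsurj M]
    exact hQd h

end Graded

end Groth.Agent.Lib.Helper97.SegreDimB
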