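import Mathlib
import Groth.Agent.Lib.Helper97.SegreDimB
import Groth.Agent.Lib.Helper99.Segre
import Groth.Agent.S19747

/-!
# Dimension of the Segre product of graded modules over standard graded algebras
-/

set_option autoImplicit false
set_option linter.style.haveILetI false
universe u
open scoped TensorProduct

namespace Groth.Agent.Lib.Helper97.SegreDimC

open Groth.Agent.Lib.Helper87
open Groth.Agent.Lib.Helper97.SegreDimA Groth.Agent.Lib.Helper97.SegreDimB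

section Fin

variable {k : Type u} [Field k] {M N : Type u} [AddCommGroup M] [Module k M]
  [AddCommGroup N] [Module k N]

theorem span_eq_range (U : Submodule k M) (V : Submodule k N) :
    Submodule.span k {x : M ⊗[k] N | ∃ a ∈ U, ∃ b ∈ V, x = a ⊗ₜ[k] b} =
      LinearMap.range (TensorProduct.map U.subtype V.subtype) := by
  rw [TensorProduct.range_map_eq_span_tmul]
  congr 1
  ext x
  constructor
  · rintro ⟨a, ha, b, hb, rfl⟩
    exact ⟨⟨a, ha⟩, ⟨b, hb⟩, rfl⟩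
  · rintro ⟨a, b, rfl⟩
    exact ⟨a.1, a.2, b.1, b.2, rfl⟩

theorem finrank_span (U : Submodule k M) (V : Submodule k N) :
    Module.finrank k (Submodule.span k {x : M ⊗[k] N | ∃ a ∈ U, ∃ b ∈ V, x = a ⊗ₜ[k] b}) =
      Module.finrank k U * Module.finrank k V := by
  rw [span_eq_range]
  have hinj : Function.Injective (TensorProduct.map U.subtype V.subtype) :=
    TensorProduct.map_injective_of_flat_flat _ _ (Submodule.subtype_injective _)
      (Submodule.subtype_injective _)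
  rw [← (LinearEquiv.ofInjective _ hinj).finrank_eq, Module.finrank_tensorProduct]

end Fin

theorem main (k : Type u) [Field k] (R : Type u) [CommRing R] [Algebra k R]
    (𝒜 : ℤ → Submodule k R) [GradedAlgebra 𝒜] (hposR : ∀ n : ℤ, n < 0 → 𝒜 n = ⊥)
    (h0R : 𝒜 0 = Submodule.span k {(1 : R)}) [Algebra.FiniteType k R]
    (S : Type u) [CommRing S] [Algebra k S] (ℬ : ℤ → Submodule k S) [GradedAlgebra ℬ]
    (hposS : ∀ n : ℤ, n < 0 → ℬ n = ⊥) (h0S : ℬ 0 = Submodule.span k {(1 : S)})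
    [Algebra.FiniteType k S]
    (T : Type u) [CommRing T] [Algebra k T] (𝒯 : ℤ → Submodule k T) [GradedAlgebra 𝒯]
    (ψ : T →ₐ[k] TensorProduct k R S) (hT : GrSeg.IsSegreRing 𝒜 ℬ 𝒯 ψ)
    (hstdR : Ideal.span (⋃ n ∈ Set.Ioi (0 : ℤ), (𝒜 n : Set R)) =
      Ideal.span ((𝒜 1 : Submodule k R) : Set R))
    (hstdS : Ideal.span (⋃ n ∈ Set.Ioi (0 : ℤ), (ℬ n : Set S)) =
      Ideal.span ((ℬ 1 : Submodule k S) : Set S))
    (M : Type u) [AddCommGroup M] [Module R M] [Module k M] [IsScalarTower k R M]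
    (ℳ : ℤ → AddSubgroup M) [DirectSum.Decomposition ℳ] [SetLike.GradedSMul 𝒜 ℳ]
    [Module.Finite R M]
    (N : Type u) [AddCommGroup N] [Module S N] [Module k N] [IsScalarTower k S N]
    (𝒩 : ℤ → AddSubgroup N) [DirectSum.Decomposition 𝒩] [SetLike.GradedSMul ℬ 𝒩]
    [Module.Finite S N]
    (P : Type u) [AddCommGroup P] [Module T P] [Module k P] [IsScalarTower k T P]
    (𝒬 : ℤ → AddSubgroup P) [DirectSum.Decomposition 𝒬] (φ : P →ₗ[k] TensorProduct k M N)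
    (hP : GrSeg.IsSegreMod ψ ℳ 𝒩 𝒬 φ) (dM dN : ℕ) (hdM : Module.supportDim R M = dM)
    (hdN : Module.supportDim S N = dN) (hMA : ¬ IsArtinian R M) (hNA : ¬ IsArtinian S N) :
    Module.supportDim T P = ((dM + dN - 1 : ℕ) : WithBot ℕ∞) := by
  classical
  obtain ⟨hfinR, -⟩ := SegreB.exists_std 𝒜 hposR h0R
  obtain ⟨hfinS, -⟩ := SegreB.exists_std ℬ hposS h0S
  have stdR := std_of_span 𝒜 hstdR
  have stdS := std_of_span ℬ hstdS
  have hψ : Function.Injective ψ := hT.1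
  have hdegT : ∀ n : ℤ, (𝒯 n).map ψ.toLinearMap = SegreC.seg 𝒜 ℬ n := fun n => hT.2 n
  have hnegT : ∀ n : ℤ, n < 0 → 𝒯 n = ⊥ :=
    fun n hn => SegreC.T_neg 𝒜 ℬ 𝒯 ψ hψ hdegT (hposR n hn)
  have h0T := SegreC.T_zero 𝒜 ℬ 𝒯 ψ hψ hdegT h0R h0S
  have stdT : ∀ n : ℕ, 𝒯 ((n + 1 : ℕ) : ℤ) = 𝒯 1 * 𝒯 (n : ℤ) := fun n =>
    SegreC.T_mul 𝒜 ℬ 𝒯 ψ hψ hdegT (by push_cast; ring) (stdR n) (stdS n)
  haveI := hfinR 1
  haveI := hfinS 1
  haveI : Module.Finite k (𝒯 1) := SegreC.T_finite 𝒜 ℬ 𝒯 ψ hψ hdegT 1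
  haveI : Module.Finite T P := Groth.Agent.S19747.result k R 𝒜 hposR h0R S ℬ hposS h0S T 𝒯 ψ hT
    M ℳ N 𝒩 P 𝒬 φ hP
  haveI : SetLike.GradedSMul 𝒯 𝒬 := ⟨fun {i j} {t p} ht hp => by
    rw [vadd_eq_add]
    exact Groth.Agent.Lib.Helper99.Segre.smul_mem_piece hT hP
      (fun a ha x hx => by
        have := SetLike.GradedSMul.smul_mem ha hx
        rwa [vadd_eq_add] at this)
      (fun b hb y hy => by
        have := SetLike.GradedSMul.smul_mem hb hy
        rwa [vadd_eq_add] at this) ht hp⟩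
  -- finrank of pieces
  have hfr : ∀ n : ℤ, Module.finrank k (kpiece 𝒯 𝒬 n) =
      Module.finrank k (kpiece 𝒜 ℳ n) * Module.finrank k (kpiece ℬ 𝒩 n) := by
    intro n
    have h1 : (kpiece 𝒯 𝒬 n).map φ =
        Submodule.span k {x : M ⊗[k] N | ∃ a ∈ kpiece 𝒜 ℳ n, ∃ b ∈ kpiece ℬ 𝒩 n,
          x = a ⊗ₜ[k] b} := by
      apply SetLike.coe_injective
      rw [Submodule.map_coe]
      exact hP.image_piece n
    rw [(Submodule.equivMapOfInjective φ hP.injective (kpiece 𝒯 𝒬 n)).finrank_eq, h1,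
      finrank_span]
  -- lower bounds
  obtain ⟨cM, hcM⟩ := exists_lower_bound 𝒜 ℳ hposR
  obtain ⟨cN, hcN⟩ := exists_lower_bound ℬ 𝒩 hposS
  set c := max cM cN with hc
  have hcM' : ∀ j : ℤ, j < -(c : ℤ) → ℳ j = ⊥ := fun j hj => hcM j (by
    have : (cM : ℤ) ≤ c := by exact_mod_cast le_max_left cM cN
    omega)
  have hcN' : ∀ j : ℤ, j < -(c : ℤ) → 𝒩 j = ⊥ := fun j hj => hcN j (by
    have : (cN : ℤ) ≤ c := by exact_mod_cast le_max_right cM cN
    omega)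
  have hcP : ∀ j : ℤ, j < -(c : ℤ) → 𝒬 j = ⊥ := by
    intro j hj
    rw [eq_bot_iff]
    intro p hp
    rw [AddSubgroup.mem_bot]
    have h1 := (Groth.Agent.Lib.Helper99.Segre.mem_piece_iff hP).mp hp
    have h2 : GrSeg.segrePiece k ℳ 𝒩 j = ⊥ := by
      unfold GrSeg.segrePiece
      rw [Submodule.span_eq_bot]
      rintro _ ⟨a, ha, b, _, rfl⟩
      rw [hcM' j hj, AddSubgroup.mem_bot] at ha
      rw [ha, TensorProduct.zero_tmul]
    rw [h2, Submodule.mem_bot] at h1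
    exact hP.injective (by rw [h1, map_zero])
  obtain ⟨-, QM, NM, hQM, hQM0, hQMd⟩ := transfer 𝒜 ℳ hposR h0R stdR c hcM'
  obtain ⟨-, QN, NN, hQN, hQN0, hQNd⟩ := transfer ℬ 𝒩 hposS h0S stdS c hcN'
  obtain ⟨-, QP, NP, hQP, -, hQPd⟩ := transfer 𝒯 𝒬 hnegT h0T stdT c hcP
  have hM0 : QM ≠ 0 := fun h => hMA (hQM0 h)
  have hN0 : QN ≠ 0 := fun h => hNA (hQN0 h)
  have hQPeq : QP = QM * QN := by
    apply HilbFnB.eq_of_eventually_eval_eq QP (QM * QN) (NM + NN + NP)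
    intro m hm
    rw [Polynomial.eval_mul, ← hQP m (by omega), ← hQM m (by omega), ← hQN m (by omega), hfr]
    push_cast
    rfl
  have hP0 : QP ≠ 0 := by rw [hQPeq]; exact mul_ne_zero hM0 hN0
  have h1 := hQMd hM0
  have h2 := hQNd hN0
  rw [hdM] at h1
  rw [hdN] at h2
  have e1 : dM = QM.natDegree + 1 := by exact_mod_cast h1
  have e2 : dN = QN.natDegree + 1 := by exact_mod_cast h2
  rw [hQPd hP0, hQPeq, Polynomial.natDegree_mul hM0 hN0]
  have e3 : dM + dN - 1 = QM.natDegree + QN.natDegree + 1 := by omega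
  rw [e3]
  push_cast
  rfl

end Groth.Agent.Lib.Helper97.SegreDimC
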