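import Mathlib
import Groth.Prelude.Def_W4c2movlemaddchowShuffle

/-!
# Shuffle decompositions (helper97; S15080, S15081, S15082)
-/

set_option autoImplicit false
set_option linter.unusedSectionVars false
set_option linter.style.haveILetI false
set_option linter.unusedSimpArgs false

namespace Groth.Agent.Lib.Helper97.Shuffle

open Equiv W4c2movlemaddchow

section Abstract

variable {a n : ℕ} (ι : Fin a → Fin n)

/-- The rank of `ν (ι i)` among the values `ν (ι i')`. -/
def rankFun (ν : Perm (Fin n)) (i : Fin a) : ℕ :=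
  (Finset.univ.filter fun i' : Fin a => ν (ι i') < ν (ι i)).card

lemma rankFun_lt (ν : Perm (Fin n)) (i : Fin a) : rankFun ι ν i < a := by
  have h : (Finset.univ.filter fun i' : Fin a => ν (ι i') < ν (ι i)) ⊂ Finset.univ := by
    rw [Finset.ssubset_iff_of_subset (Finset.subset_univ _)]
    exact ⟨i, Finset.mem_univ _, by simp⟩
  have := Finset.card_lt_card h
  simpa [rankFun] using this

lemma rankFun_mono (ν : Perm (Fin n)) {i i' : Fin a} (h : ν (ι i) ≤ ν (ι i')) :
    rankFun ι ν i ≤ rankFun ι ν i' := by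
  apply Finset.card_le_card
  intro j hj
  simp only [Finset.mem_filter, Finset.mem_univ, true_and] at hj ⊢
  exact lt_of_lt_of_le hj h

lemma rankFun_strict (ν : Perm (Fin n)) {i i' : Fin a} (h : ν (ι i) < ν (ι i')) :
    rankFun ι ν i < rankFun ι ν i' := by
  apply Finset.card_lt_card
  rw [Finset.ssubset_iff_of_subset]
  · exact ⟨i, by simpa using h, by simp⟩
  · intro j hj
    simp only [Finset.mem_filter, Finset.mem_univ, true_and] at hj ⊢
    exact lt_trans hj h

variable (hι : Function.Injective ι)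
include hι

lemma rankFun_injective (ν : Perm (Fin n)) : Function.Injective (rankFun ι ν) := by
  intro i i' h
  rcases lt_trichotomy (ν (ι i)) (ν (ι i')) with h1 | h1 | h1
  · exact absurd h (rankFun_strict ι ν h1).ne
  · exact hι (ν.injective h1)
  · exact absurd h (rankFun_strict ι ν h1).ne'

/-- The standardization of `ν` on the block `ι`. -/
noncomputable def rankPerm (ν : Perm (Fin n)) : Perm (Fin a) :=
  Equiv.ofBijective (fun i => (⟨rankFun ι ν i, rankFun_lt ι ν i⟩ : Fin a))
    (Finite.injective_iff_bijective.mp (fun i i' h =>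
      rankFun_injective ι hι ν (congrArg Fin.val h)))

lemma rankPerm_val (ν : Perm (Fin n)) (i : Fin a) :
    (rankPerm ι hι ν i : ℕ) = rankFun ι ν i := rfl

lemma rankPerm_lt_iff (ν : Perm (Fin n)) (i i' : Fin a) :
    rankPerm ι hι ν i < rankPerm ι hι ν i' ↔ ν (ι i) < ν (ι i') := by
  constructor
  · intro h
    by_contra hn
    rw [not_lt] at hn
    have := rankFun_mono ι ν hn
    rw [Fin.lt_def, rankPerm_val, rankPerm_val] at h
    omega
  · intro h
    rw [Fin.lt_def, rankPerm_val, rankPerm_val]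
    exact rankFun_strict ι ν h

variable (ext : Perm (Fin a) → Perm (Fin n))
  (hext : ∀ σ i, ext σ (ι i) = ι (σ i))
  (hext' : ∀ σ x, x ∉ Set.range ι → ext σ x = x)

include hext in
lemma ext_inv_apply (σ : Perm (Fin a)) (j : Fin a) : (ext σ)⁻¹ (ι j) = ι (σ⁻¹ j) := by
  rw [Perm.inv_eq_iff_eq, hext]
  simp

include hext' in
lemma ext_inv_apply' (σ : Perm (Fin a)) (x : Fin n) (hx : x ∉ Set.range ι) :
    (ext σ)⁻¹ x = x := by
  rw [Perm.inv_eq_iff_eq, hext' σ x hx]

include hext in
/-- The sorted factor is strictly monotone on the block. -/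
lemma sorted_strictMono (ν : Perm (Fin n)) :
    StrictMono (fun j : Fin a => (ν * (ext (rankPerm ι hι ν))⁻¹) (ι j)) := by
  intro j j' hjj'
  simp only [Perm.mul_apply]
  rw [ext_inv_apply ι hι ext hext, ext_inv_apply ι hι ext hext]
  rw [← rankPerm_lt_iff ι hι ν]
  simpa using hjj'

include hext' in
lemma sorted_apply' (ν : Perm (Fin n)) (x : Fin n) (hx : x ∉ Set.range ι) :
    (ν * (ext (rankPerm ι hι ν))⁻¹) x = ν x := by
  simp only [Perm.mul_apply]
  rw [ext_inv_apply' ι hι ext hext' _ x hx]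

include hext in
/-- Uniqueness of the factorization. -/
lemma rankPerm_eq_of_factor (τ : Perm (Fin n)) (σ : Perm (Fin a))
    (hτ : StrictMono (fun j : Fin a => τ (ι j))) :
    rankPerm ι hι (τ * ext σ) = σ := by
  ext i
  rw [rankPerm_val]
  unfold rankFun
  have h1 : (Finset.univ.filter fun i' : Fin a => (τ * ext σ) (ι i') < (τ * ext σ) (ι i)) =
      Finset.univ.filter fun i' : Fin a => σ i' < σ i := by
    ext i'
    simp only [Finset.mem_filter, Finset.mem_univ, true_and, Perm.mul_apply, hext]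
    exact hτ.lt_iff_lt
  rw [h1]
  have h2 : (Finset.univ.filter fun i' : Fin a => σ i' < σ i).card = (Finset.Iio (σ i)).card := by
    apply Finset.card_bij (fun i' _ => σ i')
    · intro i' hi'
      simpa using hi'
    · intro i₁ _ i₂ _ h
      exact σ.injective h
    · intro j hj
      refine ⟨σ⁻¹ j, ?_, by simp⟩
      simpa using hj
  rw [h2, Fin.card_Iio]

include hext hext' in
/-- Abstract bijection: unique factorization `ν = τ * ext σ`. -/
theorem bijOn_abstract (S : Set (Perm (Fin a))) (T N : Set (Perm (Fin n)))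
    (H1 : ∀ τ ∈ T, Monotone (fun j : Fin a => τ (ι j)))
    (H2 : ∀ τ ∈ T, ∀ σ ∈ S, τ * ext σ ∈ N)
    (H3 : ∀ ν ∈ N, rankPerm ι hι ν ∈ S)
    (H4 : ∀ ν ∈ N, ∀ τ : Perm (Fin n), StrictMono (fun j : Fin a => τ (ι j)) →
      (∀ x, x ∉ Set.range ι → τ x = ν x) → τ ∈ T) :
    Set.BijOn (fun p : Perm (Fin n) × Perm (Fin a) => p.1 * ext p.2) (T ×ˢ S) N := by
  have hstrict : ∀ τ ∈ T, StrictMono (fun j : Fin a => τ (ι j)) := by
    intro τ hτ
    exact (H1 τ hτ).strictMono_of_injective (fun j j' h => hι (τ.injective h))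
  refine ⟨?_, ?_, ?_⟩
  · rintro ⟨τ, σ⟩ ⟨hτ, hσ⟩
    exact H2 τ hτ σ hσ
  · rintro ⟨τ, σ⟩ ⟨hτ, hσ⟩ ⟨τ', σ'⟩ ⟨hτ', hσ'⟩ h
    simp only at h hτ hσ hτ' hσ'
    have e1 := rankPerm_eq_of_factor ι hι ext hext τ σ (hstrict τ hτ)
    have e2 := rankPerm_eq_of_factor ι hι ext hext τ' σ' (hstrict τ' hτ')
    have hσσ' : σ = σ' := by rw [← e1, ← e2, h]
    subst hσσ'
    have hττ' : τ = τ' := mul_right_cancel h
    rw [hττ']
  · intro ν hν
    refine ⟨(ν * (ext (rankPerm ι hι ν))⁻¹, rankPerm ι hι ν), ⟨?_, H3 ν hν⟩, ?_⟩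
    · exact H4 ν hν _ (sorted_strictMono ι hι ext hext ν)
        (fun x hx => sorted_apply' ι hι ext hext' ν x hx)
    · simp

end Abstract

/-! ### The right extension -/

section Right

lemma extRight_castAdd (a t : ℕ) (σ : Perm (Fin a)) (i : Fin a) :
    extRight a t σ (Fin.castAdd t i) = Fin.castAdd t (σ i) := by
  simp [extRight, Equiv.permCongr_apply]

lemma extRight_natAdd (a t : ℕ) (σ : Perm (Fin a)) (l : Fin t) :
    extRight a t σ (Fin.natAdd a l) = Fin.natAdd a l := by
  simp [extRight, Equiv.permCongr_apply]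

lemma natAdd_not_mem_range_castAdd (a t : ℕ) (l : Fin t) :
    Fin.natAdd a l ∉ Set.range (Fin.castAdd t : Fin a → Fin (a + t)) := by
  rintro ⟨i, hi⟩
  have := congrArg Fin.val hi
  simp at this
  omega

lemma extRight_of_not_mem (a t : ℕ) (σ : Perm (Fin a)) (x : Fin (a + t))
    (hx : x ∉ Set.range (Fin.castAdd t : Fin a → Fin (a + t))) : extRight a t σ x = x := by
  induction x using Fin.addCases with
  | left i => exact absurd ⟨i, rfl⟩ hx
  | right l => exact extRight_natAdd a t σ l

lemma sign_extRight (a t : ℕ) (σ : Perm (Fin a)) :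
    Perm.sign (extRight a t σ) = Perm.sign σ := by
  unfold extRight
  rw [Perm.sign_permCongr, Perm.sign_sumCongr]
  simp

theorem bijOn_right (r s t : ℕ) :
    Set.BijOn
      (fun p : Equiv.Perm (Fin (r + s + t)) × Equiv.Perm (Fin (r + s)) =>
        p.1 * extRight (r + s) t p.2)
      ({τ | IsShuffle₂ (r + s) t τ} ×ˢ {σ | IsShuffle₂ r s σ})
      {ν | IsShuffle₃ r s t ν} := by
  have hι : Function.Injective (Fin.castAdd t : Fin (r + s) → Fin (r + s + t)) :=
    Fin.castAdd_injective (r + s) t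
  refine bijOn_abstract (Fin.castAdd t : Fin (r + s) → Fin (r + s + t)) hι
    (extRight (r + s) t) (fun σ i => extRight_castAdd (r + s) t σ i)
    (fun σ x hx => extRight_of_not_mem (r + s) t σ x hx) _ _ _ ?_ ?_ ?_ ?_
  · intro τ hτ
    exact hτ.1
  · intro τ hτ σ hσ
    refine ⟨?_, ?_, ?_⟩
    · intro i i' h
      simp only [Perm.mul_apply, extRight_castAdd]
      exact hτ.1 (hσ.1 h)
    · intro i i' h
      simp only [Perm.mul_apply, extRight_castAdd]
      exact hτ.1 (hσ.2 h)
    · intro l l' h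
      simp only [Perm.mul_apply, extRight_natAdd]
      exact hτ.2 h
  · intro ν hν
    refine ⟨?_, ?_⟩
    · intro i i' h
      show rankPerm _ hι ν _ ≤ rankPerm _ hι ν _
      rw [Fin.le_def, rankPerm_val, rankPerm_val]
      exact rankFun_mono _ ν (hν.1 h)
    · intro i i' h
      show rankPerm _ hι ν _ ≤ rankPerm _ hι ν _
      rw [Fin.le_def, rankPerm_val, rankPerm_val]
      exact rankFun_mono _ ν (hν.2.1 h)
  · intro ν hν τ hτ hout
    refine ⟨hτ.monotone, ?_⟩
    intro l l' h
    show τ _ ≤ τ _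
    rw [hout _ (natAdd_not_mem_range_castAdd (r + s) t l),
      hout _ (natAdd_not_mem_range_castAdd (r + s) t l')]
    exact hν.2.2 h

end Right

/-! ### The left extension -/

section Left

/-- The inclusion of the last `s + t` positions. -/
def iotaL (r s t : ℕ) (j : Fin (s + t)) : Fin (r + s + t) :=
  Fin.cast (Nat.add_assoc r s t).symm (Fin.natAdd r j)

lemma iotaL_val (r s t : ℕ) (j : Fin (s + t)) : (iotaL r s t j : ℕ) = r + j := by
  simp [iotaL]

lemma iotaL_injective (r s t : ℕ) : Function.Injective (iotaL r s t) := by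
  intro j j' h
  have := congrArg Fin.val h
  rw [iotaL_val, iotaL_val] at this
  exact Fin.ext (by omega)

lemma iotaL_castAdd (r s t : ℕ) (j : Fin s) :
    iotaL r s t (Fin.castAdd t j) = Fin.castAdd t (Fin.natAdd r j) := by
  apply Fin.ext
  simp [iotaL]

lemma iotaL_natAdd (r s t : ℕ) (l : Fin t) :
    iotaL r s t (Fin.natAdd s l) = Fin.natAdd (r + s) l := by
  apply Fin.ext
  simp [iotaL]
  omega

lemma cast_castAdd (r s t : ℕ) (i : Fin r) :
    Fin.cast (Nat.add_assoc r s t).symm (Fin.castAdd (s + t) i) =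
      Fin.castAdd t (Fin.castAdd s i) := by
  apply Fin.ext
  simp

lemma castAdd_not_mem_range_iotaL (r s t : ℕ) (i : Fin r) :
    Fin.castAdd t (Fin.castAdd s i) ∉ Set.range (iotaL r s t) := by
  rintro ⟨j, hj⟩
  have := congrArg Fin.val hj
  rw [iotaL_val] at this
  simp at this
  omega

lemma extLeft_apply (r s t : ℕ) (σ : Perm (Fin (s + t))) (x : Fin (r + s + t)) :
    extLeft r s t σ x = Fin.cast (Nat.add_assoc r s t).symm
      (finSumFinEquiv.permCongr ((Equiv.refl (Fin r)).sumCongr σ)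
        (Fin.cast (Nat.add_assoc r s t) x)) := by
  simp [extLeft, Equiv.permCongr_apply]

lemma extLeft_iotaL (r s t : ℕ) (σ : Perm (Fin (s + t))) (j : Fin (s + t)) :
    extLeft r s t σ (iotaL r s t j) = iotaL r s t (σ j) := by
  rw [extLeft_apply]
  simp [iotaL, Equiv.permCongr_apply]

lemma extLeft_of_not_mem (r s t : ℕ) (σ : Perm (Fin (s + t))) (x : Fin (r + s + t))
    (hx : x ∉ Set.range (iotaL r s t)) : extLeft r s t σ x = x := by
  obtain ⟨y, rfl⟩ : ∃ y, x = Fin.cast (Nat.add_assoc r s t).symm y :=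
    ⟨Fin.cast (Nat.add_assoc r s t) x, by simp⟩
  induction y using Fin.addCases with
  | left i =>
    rw [extLeft_apply]
    simp [Equiv.permCongr_apply]
  | right j => exact absurd ⟨j, rfl⟩ hx

lemma sign_extLeft (r s t : ℕ) (σ : Perm (Fin (s + t))) :
    Perm.sign (extLeft r s t σ) = Perm.sign σ := by
  unfold extLeft
  rw [Perm.sign_permCongr, Perm.sign_permCongr]
  have := Perm.sign_sumCongr (Equiv.refl (Fin r)) σ
  simpa using this

lemma permCongr_finCongr_apply (r s t : ℕ) (τ : Perm (Fin (r + s + t))) (y : Fin (r + (s + t))) :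
    (finCongr (Nat.add_assoc r s t)).permCongr τ y =
      Fin.cast (Nat.add_assoc r s t) (τ (Fin.cast (Nat.add_assoc r s t).symm y)) := by
  simp [Equiv.permCongr_apply]

lemma shuffleL_iff (r s t : ℕ) (τ : Perm (Fin (r + s + t))) :
    IsShuffle₂ r (s + t) ((finCongr (Nat.add_assoc r s t)).permCongr τ) ↔
      Monotone (fun i : Fin r => τ (Fin.castAdd t (Fin.castAdd s i))) ∧
        Monotone (fun j : Fin (s + t) => τ (iotaL r s t j)) := by
  unfold IsShuffle₂
  constructor
  · rintro ⟨h1, h2⟩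
    refine ⟨fun i i' h => ?_, fun j j' h => ?_⟩
    · have := h1 h
      simp only [permCongr_finCongr_apply, cast_castAdd] at this
      exact this
    · have := h2 h
      simp only [permCongr_finCongr_apply] at this
      exact this
  · rintro ⟨h1, h2⟩
    refine ⟨fun i i' h => ?_, fun j j' h => ?_⟩
    · simp only [permCongr_finCongr_apply, cast_castAdd]
      exact h1 h
    · simp only [permCongr_finCongr_apply]
      exact h2 h

theorem bijOn_left (r s t : ℕ) :
    Set.BijOn
      (fun p : Equiv.Perm (Fin (r + s + t)) × Equiv.Perm (Fin (s + t)) =>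
        p.1 * extLeft r s t p.2)
      ({τ | IsShuffle₂ r (s + t) ((finCongr (Nat.add_assoc r s t)).permCongr τ)} ×ˢ
        {σ | IsShuffle₂ s t σ})
      {ν | IsShuffle₃ r s t ν} := by
  have hι : Function.Injective (iotaL r s t) := iotaL_injective r s t
  refine bijOn_abstract (iotaL r s t) hι
    (extLeft r s t) (fun σ i => extLeft_iotaL r s t σ i)
    (fun σ x hx => extLeft_of_not_mem r s t σ x hx) _ _ _ ?_ ?_ ?_ ?_
  · intro τ hτ
    exact ((shuffleL_iff r s t τ).mp hτ).2
  · intro τ hτ σ hσ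
    obtain ⟨h1, h2⟩ := (shuffleL_iff r s t τ).mp hτ
    refine ⟨?_, ?_, ?_⟩
    · intro i i' h
      simp only [Perm.mul_apply]
      rw [extLeft_of_not_mem r s t σ _ (castAdd_not_mem_range_iotaL r s t i),
        extLeft_of_not_mem r s t σ _ (castAdd_not_mem_range_iotaL r s t i')]
      exact h1 h
    · intro j j' h
      simp only [Perm.mul_apply, ← iotaL_castAdd, extLeft_iotaL]
      exact h2 (hσ.1 h)
    · intro l l' h
      simp only [Perm.mul_apply, ← iotaL_natAdd, extLeft_iotaL]
      exact h2 (hσ.2 h)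
  · intro ν hν
    refine ⟨?_, ?_⟩
    · intro j j' h
      show rankPerm _ hι ν _ ≤ rankPerm _ hι ν _
      rw [Fin.le_def, rankPerm_val, rankPerm_val]
      apply rankFun_mono
      rw [iotaL_castAdd, iotaL_castAdd]
      exact hν.2.1 h
    · intro l l' h
      show rankPerm _ hι ν _ ≤ rankPerm _ hι ν _
      rw [Fin.le_def, rankPerm_val, rankPerm_val]
      apply rankFun_mono
      rw [iotaL_natAdd, iotaL_natAdd]
      exact hν.2.2 h
  · intro ν hν τ hτ hout
    show IsShuffle₂ r (s + t) _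
    rw [shuffleL_iff]
    refine ⟨?_, hτ.monotone⟩
    intro i i' h
    show τ _ ≤ τ _
    rw [hout _ (castAdd_not_mem_range_iotaL r s t i),
      hout _ (castAdd_not_mem_range_iotaL r s t i')]
    exact hν.1 h

end Left

/-! ### The signed sums -/

section Sums

theorem sum_right (r s t : ℕ) :
    ((∑ ν ∈ Finset.univ.filter (IsShuffle₃ r s t),
        MonoidAlgebra.single ν (((Equiv.Perm.sign ν : ℤˣ) : ℤ)) :
          MonoidAlgebra ℤ (Equiv.Perm (Fin (r + s + t)))) =
      ∑ τ ∈ Finset.univ.filter (IsShuffle₂ (r + s) t),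
        ∑ σ ∈ Finset.univ.filter (IsShuffle₂ r s),
          MonoidAlgebra.single (τ * extRight (r + s) t σ)
            (((Equiv.Perm.sign τ : ℤˣ) : ℤ) * ((Equiv.Perm.sign σ : ℤˣ) : ℤ))) := by
  rw [← Finset.sum_product']
  symm
  have hb := bijOn_right r s t
  apply Finset.sum_nbij (fun p : Equiv.Perm (Fin (r + s + t)) × Equiv.Perm (Fin (r + s)) =>
        p.1 * extRight (r + s) t p.2)
  · rintro ⟨τ, σ⟩ hp
    simp only [Finset.mem_product, Finset.mem_filter, Finset.mem_univ, true_and] at hp ⊢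
    exact hb.mapsTo (show (τ, σ) ∈ _ from ⟨hp.1, hp.2⟩)
  · intro p hp q hq h
    apply hb.injOn _ _ h
    · simp only [Finset.coe_product, Finset.coe_filter, Finset.mem_univ, true_and] at hp
      exact hp
    · simp only [Finset.coe_product, Finset.coe_filter, Finset.mem_univ, true_and] at hq
      exact hq
  · intro ν hν
    simp only [Finset.coe_filter, Finset.mem_univ, true_and] at hν
    obtain ⟨p, hp, hpν⟩ := hb.surjOn hν
    refine ⟨p, ?_, hpν⟩
    simp only [Finset.coe_product, Finset.coe_filter, Finset.mem_univ, true_and]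
    exact hp
  · rintro ⟨τ, σ⟩ _
    simp only [Perm.sign_mul, sign_extRight, Units.val_mul]

theorem sum_left (r s t : ℕ) :
    ((∑ ν ∈ Finset.univ.filter (IsShuffle₃ r s t),
        MonoidAlgebra.single ν (((Equiv.Perm.sign ν : ℤˣ) : ℤ)) :
          MonoidAlgebra ℤ (Equiv.Perm (Fin (r + s + t)))) =
      ∑ τ ∈ Finset.univ.filter (fun τ : Equiv.Perm (Fin (r + s + t)) =>
          IsShuffle₂ r (s + t) ((finCongr (Nat.add_assoc r s t)).permCongr τ)),
        ∑ σ ∈ Finset.univ.filter (IsShuffle₂ s t),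
          MonoidAlgebra.single (τ * extLeft r s t σ)
            (((Equiv.Perm.sign τ : ℤˣ) : ℤ) * ((Equiv.Perm.sign σ : ℤˣ) : ℤ))) := by
  rw [← Finset.sum_product']
  symm
  have hb := bijOn_left r s t
  apply Finset.sum_nbij (fun p : Equiv.Perm (Fin (r + s + t)) × Equiv.Perm (Fin (s + t)) =>
        p.1 * extLeft r s t p.2)
  · rintro ⟨τ, σ⟩ hp
    simp only [Finset.mem_product, Finset.mem_filter, Finset.mem_univ, true_and] at hp ⊢
    have hmem : (τ, σ) ∈ (({τ | IsShuffle₂ r (s + t)
        ((finCongr (Nat.add_assoc r s t)).permCongr τ)} ×ˢ {σ | IsShuffle₂ s t σ}) :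
        Set (Equiv.Perm (Fin (r + s + t)) × Equiv.Perm (Fin (s + t)))) := Set.mk_mem_prod hp.1 hp.2
    have h3 := hb.mapsTo hmem
    rw [Set.mem_setOf_eq] at h3
    exact h3
  · intro p hp q hq h
    have hp' : p ∈ (({τ | IsShuffle₂ r (s + t)
        ((finCongr (Nat.add_assoc r s t)).permCongr τ)} ×ˢ {σ | IsShuffle₂ s t σ}) :
        Set (Equiv.Perm (Fin (r + s + t)) × Equiv.Perm (Fin (s + t)))) := by
      simp only [Finset.coe_product, Finset.coe_filter, Finset.mem_univ, true_and] at hp
      exact hp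
    have hq' : q ∈ (({τ | IsShuffle₂ r (s + t)
        ((finCongr (Nat.add_assoc r s t)).permCongr τ)} ×ˢ {σ | IsShuffle₂ s t σ}) :
        Set (Equiv.Perm (Fin (r + s + t)) × Equiv.Perm (Fin (s + t)))) := by
      simp only [Finset.coe_product, Finset.coe_filter, Finset.mem_univ, true_and] at hq
      exact hq
    exact hb.injOn hp' hq' h
  · intro ν hν
    simp only [Finset.coe_filter, Finset.mem_univ, true_and] at hν
    obtain ⟨p, hp, hpν⟩ := hb.surjOn hν
    refine ⟨p, ?_, hpν⟩
    simp only [Finset.coe_product, Finset.coe_filter, Finset.mem_univ, true_and]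
    exact hp
  · rintro ⟨τ, σ⟩ _
    simp only [Perm.sign_mul, sign_extLeft, Units.val_mul]

end Sums

end Groth.Agent.Lib.Helper97.Shuffle
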